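import Cfsg.Agent.Mrg.Omega.NO3S.EThree.ExactB_m3
import Cfsg.Agent.Mrg.Omega.OM.PG.NoRad_m3
import Mathlib
import Cfsg.Agent.WeakTI.ResNear_m3
import Cfsg.Agent.WeakTI.BenderModel_m3
import Cfsg.Agent.SuzukiRankOne.Assembly
import Cfsg.Agent.ThreePrime.SzRel
import Cfsg.Agent.LieExceptional.CyclicSylow
import Cfsg.Agent.S1163
import Cfsg.Agent.ThreePrime.SzDataExists
import Cfsg.Agent.StrongEmb.CoreCentral_mg_m3
import Cfsg.Agent.S1119
import Cfsg.Agent.Mrg.Omega.NOThreeL.RTools.Two_m3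
import Cfsg.Agent.LieRecognition.OddTransFitting
import Cfsg.Agent.LieRecognition.FT61.Main
import Cfsg.Agent.Mrg.Omega.FrameI
import Cfsg.Agent.Mrg.Omega.All.HOneKer_m3
import Cfsg.Agent.Mrg.Omega.IId.ThmJFull_m3
import Cfsg.Agent.ZN.Map
import Cfsg.Agent.Omega.OM.Swap.Sit_m3
import Cfsg.Agent.Mrg.Omega.NO1.Sym.EndOne_m3
import Cfsg.Agent.Omega.NOThreeL.ATwo.Fam_m3
import Cfsg.Agent.Mrg.Omega.TC.Crit_m3
import Cfsg.Agent.Lib.FastPerm
import Cfsg.Agent.Mrg.Omega.Transv.Basic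
import Cfsg.Agent.Lib.FrattiniPGroup
import Cfsg.Agent.Omega.NatPair.Semi
import Cfsg.Agent.GTwoFour.Tools
import Cfsg.Agent.Mrg.Omega.NO3S.Fit.MTri.Tri_m3
import Cfsg.Agent.Mrg.Omega.NO3S.Fit.PlaneAct_m3
import Cfsg.Agent.Involutions.BaerSuzuki
import Cfsg.Agent.FastGrp
import Cfsg.Agent.Prune
set_option linter.all false

section
prune_inst 0x7ff0bcf9afb8addfdfff7e7faed4dffc39901fffa6dff90bffe0e1ff0bdf03000de1ab8509e010fc0ed6629410b87813f9ffc67fea6bdc7ffffd5ff41ffbee0fe5f7b508519688340fbc0ff703e0778e7f3fffffffffffffffffffffffffffbeffffffffffff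

-- part: Mrg/Omega/NO3S/EThree/Qt
section
prune_inst 0xd43021041522000000180012a0000000380005020040000000a00d0200004020c0038801082025121002080000040060021000100000000000000400000000000080100680480000000086010000000000000000000000000000000000000000000000000
set_option linter.all false
open scoped Cfsg.Agent.FastGrp

section


/-!
# The additive quotient of an abelian subgroup

`Qt N a M π` : `π : G → M` is on the abelian subgroup `N` a homomorphism onto the additive group `M` with kernel `a`;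
`exists_qt`, `Qt.im` (image of a subgroup), `Qt.exists_act` (automorphism of `M` induced by an element of `G`),
`Qt.exists_sum` (an orbit product).
-/

set_option autoImplicit false
set_option linter.unusedSectionVars false

namespace Cfsg.Agent.Omega.NO3S.EThree

open Subgroup
open scoped Pointwise

universe u

variable {G : Type u} [Group G]

theorem mem_cjs {t x : G} {A : Subgroup G} : x ∈ MulAut.conj t • A ↔ t⁻¹ * x * t ∈ A := by
  rw [Subgroup.mem_pointwise_smul_iff_inv_smul_mem, ← map_inv, MulAut.smul_def, MulAut.conj_apply, inv_inv]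

/-- `π` is on `N` a homomorphism onto `M` with kernel `a`. -/
structure Qt (N a : Subgroup G) (M : Type u) [AddCommGroup M] (π : G → M) : Prop where
  mul : ∀ x ∈ N, ∀ y ∈ N, π (x * y) = π x + π y
  ker : ∀ x ∈ N, π x = 0 ↔ x ∈ a
  surj : ∀ m, ∃ x ∈ N, π x = m

theorem exists_qt (N a : Subgroup G) (hab : ∀ x ∈ N, ∀ y ∈ N, x * y = y * x) :
    ∃ (M : Type u) (_ : AddCommGroup M) (π : G → M), Qt N a M π := by
  classical
  let _ : CommGroup N := { (inferInstance : Group N) with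
    mul_comm := fun x y => Subtype.ext (hab x x.2 y y.2) }
  let K : Subgroup N := a.subgroupOf N
  refine ⟨Additive (N ⧸ K), inferInstance, fun g => if h : g ∈ N then
    Additive.ofMul ((⟨g, h⟩ : N) : N ⧸ K) else 0, ?_, ?_, ?_⟩
  · intro x hx y hy
    rw [dif_pos (mul_mem hx hy), dif_pos hx, dif_pos hy]
    rfl
  · intro x hx
    rw [dif_pos hx]
    have h1 : (((⟨x, hx⟩ : N) : N ⧸ K) = 1) ↔ (⟨x, hx⟩ : N) ∈ K := QuotientGroup.eq_one_iff _
    exact h1
  · intro m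
    obtain ⟨x, hx⟩ := QuotientGroup.mk_surjective (s := K) (Additive.toMul m)
    refine ⟨x, x.2, ?_⟩
    rw [dif_pos x.2]
    exact hx

namespace Qt

variable {N a : Subgroup G} {M : Type u} [AddCommGroup M] {π : G → M} (q : Qt N a M π)
include q

theorem one : π 1 = 0 := (q.ker 1 (one_mem _)).2 (one_mem _)

theorem inv {x : G} (hx : x ∈ N) : π x⁻¹ = -π x := by
  have h1 := q.mul x hx x⁻¹ (inv_mem hx)
  rw [mul_inv_cancel, q.one] at h1
  exact (neg_eq_of_add_eq_zero_right h1.symm).symm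

theorem eq_iff {x y : G} (hx : x ∈ N) (hy : y ∈ N) : π x = π y ↔ x⁻¹ * y ∈ a := by
  rw [← q.ker _ (mul_mem (inv_mem hx) hy), q.mul _ (inv_mem hx) _ hy, q.inv hx]
  constructor
  · intro h; rw [h]; abel
  · intro h
    have : π x = π x + (-π x + π y) := by rw [h, add_zero]
    rw [this]; abel

/-- The image of a subgroup. -/
def im (A : Subgroup G) : AddSubgroup M where
  carrier := {m | ∃ x ∈ A, x ∈ N ∧ π x = m}
  zero_mem' := ⟨1, one_mem _, one_mem _, q.one⟩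
  add_mem' := by
    rintro _ _ ⟨x, hx, hxN, rfl⟩ ⟨y, hy, hyN, rfl⟩
    exact ⟨x * y, mul_mem hx hy, mul_mem hxN hyN, q.mul x hxN y hyN⟩
  neg_mem' := by
    rintro _ ⟨x, hx, hxN, rfl⟩
    exact ⟨x⁻¹, inv_mem hx, inv_mem hxN, q.inv hxN⟩

theorem mem_im {A : Subgroup G} {m : M} : m ∈ q.im A ↔ ∃ x ∈ A, x ∈ N ∧ π x = m := Iff.rfl

theorem im_mono {A B : Subgroup G} (h : A ≤ B) : q.im A ≤ q.im B := by
  rintro _ ⟨x, hx, hxN, rfl⟩
  exact ⟨x, h hx, hxN, rfl⟩

theorem π_mem_im {A : Subgroup G} {x : G} (hx : x ∈ A) (hxN : x ∈ N) : π x ∈ q.im A := ⟨x, hx, hxN, rfl⟩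

/-- `im (A B) = im A + im B` for commuting `A`, `B ≤ N` -/
theorem im_sup {A B : Subgroup G} (hA : A ≤ N) (hB : B ≤ N)
    (hc : ∀ g ∈ A ⊔ B, ∃ α ∈ A, ∃ β ∈ B, g = α * β) : q.im (A ⊔ B) = q.im A ⊔ q.im B := by
  apply le_antisymm
  · rintro _ ⟨x, hx, hxN, rfl⟩
    obtain ⟨α, hα, β, hβ, rfl⟩ := hc x hx
    rw [q.mul α (hA hα) β (hB hβ)]
    exact add_mem (AddSubgroup.mem_sup_left (q.π_mem_im hα (hA hα)))
      (AddSubgroup.mem_sup_right (q.π_mem_im hβ (hB hβ)))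
  · exact sup_le (q.im_mono le_sup_left) (q.im_mono le_sup_right)

/-- An element of `G` normalising `N` and `a` acts on `M`. -/
theorem exists_act {t : G} (hN : MulAut.conj t • N = N) (ha : MulAut.conj t • a = a) :
    ∃ φ : M ≃+ M, ∀ x ∈ N, φ (π x) = π (t * x * t⁻¹) := by
  classical
  have hN1 : ∀ x ∈ N, t * x * t⁻¹ ∈ N := fun x hx => by
    rw [← hN]
    exact ⟨x, hx, rfl⟩
  have hN2 : ∀ x ∈ N, t⁻¹ * x * t ∈ N := fun x hx => by
    rw [← hN, mem_cjs] at hx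
    exact hx
  have ha1 : ∀ x ∈ a, t * x * t⁻¹ ∈ a := fun x hx => by
    rw [← ha]
    exact ⟨x, hx, rfl⟩
  have ha2 : ∀ x ∈ a, t⁻¹ * x * t ∈ a := fun x hx => by
    rw [← ha, mem_cjs] at hx
    exact hx
  choose σ hσN hσ using q.surj
  have k1 : ∀ x ∈ N, π (t * σ (π x) * t⁻¹) = π (t * x * t⁻¹) := by
    intro x hx
    rw [q.eq_iff (hN1 _ (hσN _)) (hN1 x hx)]
    have h1 : (σ (π x))⁻¹ * x ∈ a := (q.eq_iff (hσN _) hx).1 (hσ _)
    have := ha1 _ h1
    have e : (t * σ (π x) * t⁻¹)⁻¹ * (t * x * t⁻¹) = t * ((σ (π x))⁻¹ * x) * t⁻¹ := by group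
    rwa [e]
  have k2 : ∀ x ∈ N, π (t⁻¹ * σ (π x) * t) = π (t⁻¹ * x * t) := by
    intro x hx
    rw [q.eq_iff (hN2 _ (hσN _)) (hN2 x hx)]
    have h1 : (σ (π x))⁻¹ * x ∈ a := (q.eq_iff (hσN _) hx).1 (hσ _)
    have := ha2 _ h1
    have e : (t⁻¹ * σ (π x) * t)⁻¹ * (t⁻¹ * x * t) = t⁻¹ * ((σ (π x))⁻¹ * x) * t := by group
    rwa [e]
  let φ : M ≃+ M :=
    { toFun := fun m => π (t * σ m * t⁻¹)
      invFun := fun m => π (t⁻¹ * σ m * t)
      left_inv := by
        intro m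
        change π (t⁻¹ * σ (π (t * σ m * t⁻¹)) * t) = m
        rw [k2 _ (hN1 _ (hσN _))]
        have : t⁻¹ * (t * σ m * t⁻¹) * t = σ m := by group
        rw [this, hσ]
      right_inv := by
        intro m
        change π (t * σ (π (t⁻¹ * σ m * t)) * t⁻¹) = m
        rw [k1 _ (hN2 _ (hσN _))]
        have : t * (t⁻¹ * σ m * t) * t⁻¹ = σ m := by group
        rw [this, hσ]
      map_add' := by
        intro m m'
        have h1 : m + m' = π (σ m * σ m') := by rw [q.mul _ (hσN _) _ (hσN _), hσ, hσ]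
        rw [h1, k1 _ (mul_mem (hσN _) (hσN _)), ← q.mul _ (hN1 _ (hσN _)) _ (hN1 _ (hσN _))]
        congr 1
        group }
  exact ⟨φ, k1⟩

theorem prod_list : ∀ l : List G, (∀ y ∈ l, y ∈ N) → l.prod ∈ N ∧ π l.prod = (l.map π).sum
  | [], _ => ⟨one_mem _, by simpa using q.one⟩
  | y :: l, h => by
    obtain ⟨h1, h2⟩ := prod_list l fun z hz => h z (List.mem_cons_of_mem _ hz)
    have hy : y ∈ N := h y List.mem_cons_self
    rw [List.prod_cons, List.map_cons, List.sum_cons, ← h2]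
    exact ⟨mul_mem hy h1, q.mul y hy _ h1⟩

/-- The product over a finite set. -/
theorem exists_prod (hab : ∀ x ∈ N, ∀ y ∈ N, x * y = y * x) (O : Finset G) (hO : ∀ y ∈ O, y ∈ N) :
    ∃ n ∈ N, π n = ∑ y ∈ O, π y ∧ ∀ t : G, (∀ y ∈ O, t * y * t⁻¹ ∈ O) → t * n * t⁻¹ = n := by
  classical
  have hl : ∀ y ∈ O.toList, y ∈ N := fun y hy => hO y (Finset.mem_toList.1 hy)
  obtain ⟨h1, h2⟩ := q.prod_list O.toList hl
  refine ⟨O.toList.prod, h1, ?_, fun t ht => ?_⟩
  · rw [h2, Finset.sum_map_toList]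
  · have h3 : t * O.toList.prod * t⁻¹ = (O.toList.map (MulAut.conj t)).prod := by
      rw [← MulAut.conj_apply, map_list_prod]
    have hnd : (O.toList.map (MulAut.conj t)).Nodup := (Finset.nodup_toList O).map (MulAut.conj t).injective
    have h4 : (O.toList.map (MulAut.conj t)).toFinset = O := by
      apply Finset.eq_of_subset_of_card_le
      · intro y hy
        rw [List.mem_toFinset, List.mem_map] at hy
        obtain ⟨z, hz, rfl⟩ := hy
        exact ht z (Finset.mem_toList.1 hz)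
      · rw [List.toFinset_card_of_nodup hnd, List.length_map, Finset.length_toList]
    have h5 : (O.toList.map (MulAut.conj t)).Perm O.toList := by
      refine (List.perm_ext_iff_of_nodup hnd (Finset.nodup_toList O)).2 fun y => ?_
      rw [← List.mem_toFinset, h4, Finset.mem_toList]
    rw [h3]
    refine h5.prod_eq' ?_
    refine List.Pairwise.imp_of_mem (R := fun _ _ => True) ?_ (List.pairwise_of_forall fun _ _ => trivial)
    intro x y hx hy _
    have hx' : x ∈ N := hl x (h5.mem_iff.1 hx)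
    have hy' : y ∈ N := hl y (h5.mem_iff.1 hy)
    exact hab x hx' y hy'

/-- The preimage of a subgroup. -/
def pre (C : AddSubgroup M) : Subgroup G where
  carrier := {x | x ∈ N ∧ π x ∈ C}
  one_mem' := ⟨one_mem _, by rw [q.one]; exact zero_mem _⟩
  mul_mem' := fun {x y} hx hy => ⟨mul_mem hx.1 hy.1, by rw [q.mul x hx.1 y hy.1]; exact add_mem hx.2 hy.2⟩
  inv_mem' := fun {x} hx => ⟨inv_mem hx.1, by rw [q.inv hx.1]; exact neg_mem hx.2⟩

theorem mem_pre {C : AddSubgroup M} {x : G} : x ∈ q.pre C ↔ x ∈ N ∧ π x ∈ C := Iff.rfl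

/-- A 2-group fixes a nonzero vector. -/
theorem fixed_vec [Finite G] {T : Subgroup G} (hT : IsPGroup 2 T) (hN : ∀ t ∈ T, ∀ x ∈ N, t * x * t⁻¹ ∈ N)
    (ha : ∀ t ∈ T, ∀ x ∈ a, t * x * t⁻¹ ∈ a) {C : AddSubgroup M}
    (hC : ∀ t ∈ T, ∀ x ∈ N, π x ∈ C → π (t * x * t⁻¹) ∈ C) {y : M} (hy : y ∈ C) (hy0 : y ≠ 0) (hy2 : y + y = 0) :
    ∃ x ∈ N, π x ∈ C ∧ π x ≠ 0 ∧ ∀ t ∈ T, π (t * x * t⁻¹) = π x := by
  classical
  choose σ hσN hσ using q.surj
  have k1 : ∀ t ∈ T, ∀ x ∈ N, π (t * σ (π x) * t⁻¹) = π (t * x * t⁻¹) := by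
    intro t ht x hx
    rw [q.eq_iff (hN t ht _ (hσN _)) (hN t ht x hx)]
    have h1 : (σ (π x))⁻¹ * x ∈ a := (q.eq_iff (hσN _) hx).1 (hσ _)
    have := ha t ht _ h1
    have e : (t * σ (π x) * t⁻¹)⁻¹ * (t * x * t⁻¹) = t * ((σ (π x))⁻¹ * x) * t⁻¹ := by group
    rwa [e]
  have hfin : Finite M := by
    apply Finite.of_surjective (fun x : N => π x)
    intro m
    obtain ⟨x, hx, e⟩ := q.surj m
    exact ⟨⟨x, hx⟩, e⟩
  let act : MulAction T C :=
    { smul := fun t m => ⟨π ((t : G) * σ m * (t : G)⁻¹), hC t t.2 _ (hσN _) (by rw [hσ]; exact m.2)⟩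
      one_smul := by
        intro m
        apply Subtype.ext
        change π (((1 : T) : G) * σ m * ((1 : T) : G)⁻¹) = m
        rw [OneMemClass.coe_one, inv_one, mul_one, one_mul, hσ]
      mul_smul := by
        intro s t m
        apply Subtype.ext
        change π (((s * t : T) : G) * σ m * ((s * t : T) : G)⁻¹) =
          π ((s : G) * σ (π ((t : G) * σ m * (t : G)⁻¹)) * (s : G)⁻¹)
        rw [k1 s s.2 _ (hN t t.2 _ (hσN _))]
        congr 1
        push_cast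
        group }
  have h0 : (0 : C) ∈ MulAction.fixedPoints T C := by
    intro t
    apply Subtype.ext
    change π ((t : G) * σ ((0 : C) : M) * (t : G)⁻¹) = 0
    have : ((0 : C) : M) = π 1 := by rw [q.one]; rfl
    rw [this, k1 t t.2 1 (one_mem _), mul_one, mul_inv_cancel, q.one]
  have h2 : 2 ∣ Nat.card C := by
    have h3 : addOrderOf (⟨y, hy⟩ : C) = 2 := by
      apply addOrderOf_eq_prime
      · apply Subtype.ext
        change ((2 : ℕ) • (⟨y, hy⟩ : C) : C).1 = 0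
        rw [two_nsmul]
        exact hy2
      · intro h
        exact hy0 (congrArg Subtype.val h)
    rw [← h3]
    exact addOrderOf_dvd_natCard _
  obtain ⟨b, hb, hne⟩ := hT.exists_fixed_point_of_prime_dvd_card_of_fixed_point C h2 h0
  refine ⟨σ b, hσN _, by rw [hσ]; exact b.2, fun h => hne (Subtype.ext ?_), fun t ht => ?_⟩
  · rw [hσ] at h
    exact h.symm
  · have := congrArg Subtype.val (hb ⟨t, ht⟩)
    change π (t * σ b * t⁻¹) = b at this
    rw [this, hσ]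

end Qt

end Cfsg.Agent.Omega.NO3S.EThree

end

section


/-!
# The geometry of `N_a / a` in the transvection case

`M = N_a / a`, the points are the images of the `w ~ a`, `T` = the automorphisms induced by `N_w`.

* `TQ.geo` : `PtGeo.Geo`; `TQ.mem_pr` : `π n ∈ pr T (im w)` iff `[n, N_w] = 1`.
-/

set_option autoImplicit false
set_option linter.unusedSectionVars false

namespace Cfsg.Agent.Omega.NO3S.EThree

open Subgroup Cfsg Cfsg.Agent.ZN Cfsg.Agent.Omega.MinPar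
open Cfsg.Agent.Omega.NoFF.Basic (conj_conj mem_conj conj_le_iff conj_le_centralizer comm_symm comm_mono)
open Cfsg.Agent.Omega.NOThreeL.Pair (conj_eq_of_mem)
open Cfsg.Agent.Omega.OM.PG PtGeo
open scoped Pointwise

universe u

variable {G : Type u} [Group G]

/-- The points of `M = N_a / a`. -/
def PPa {Z : Fin 2 → Subgroup G} {a : Subgroup G} {M : Type u} [AddCommGroup M] {π : G → M}
    (q : Qt (NN Z a) a M π) : Set (AddSubgroup M) := {p | ∃ w, Adj Z a w ∧ p = q.im w}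

/-- The automorphisms induced by `N_w`. -/
def Ta {Z : Fin 2 → Subgroup G} {a : Subgroup G} {M : Type u} [AddCommGroup M] {π : G → M}
    (q : Qt (NN Z a) a M π) : AddSubgroup M → Set (M ≃+ M) :=
  fun p => {φ | ∃ w, Adj Z a w ∧ p = q.im w ∧ ∃ t ∈ NN Z w, ∀ x ∈ NN Z a, φ (π x) = π (t * x * t⁻¹)}

namespace TQ0

variable [Finite G] {Z U : Fin 2 → Subgroup G} (P : TQ0 Z U)
include P

theorem qt {a : Subgroup G} (ha : IsPt Z a) : ∃ (M : Type u) (_ : AddCommGroup M) (π : G → M), Qt (NN Z a) a M π :=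
  exists_qt _ _ fun _ hx _ hy => P.abN ha hx hy

variable {a : Subgroup G} {M : Type u} [AddCommGroup M] {π : G → M} (q : Qt (NN Z a) a M π)
include q

theorem pt_disj {w : Subgroup G} (hw : Adj Z a w) {x : G} (hx : x ∈ w) (hxa : x ∈ a) : x = 1 := by
  by_contra h1
  exact P.adj_ne hw (P.ti _ _ hw.pt (P.adj_pt hw) x hxa hx h1)

theorem π_ne {w : Subgroup G} (hw : Adj Z a w) {x : G} (hx : x ∈ w) (hx1 : x ≠ 1) : π x ≠ 0 := by
  rw [Ne, q.ker x (hw.le_NN hx)]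
  exact fun h => hx1 (P.pt_disj q hw hx h)

theorem im_inj {w w' : Subgroup G} (hw : Adj Z a w) (hw' : Adj Z a w') {x : G} (hx : x ∈ w) (hx1 : x ≠ 1)
    (h : π x ∈ q.im w') : w = w' := by
  obtain ⟨y, hy, hyN, e⟩ := q.mem_im.1 h
  have h1 : y⁻¹ * x ∈ a := (q.eq_iff hyN (hw.le_NN hx)).1 e
  have h2 : x ∈ a ⊔ w' := by
    have : x = y * (y⁻¹ * x) := by group
    rw [this]
    exact mul_mem (mem_sup_right hy) (mem_sup_left h1)
  rcases P.fus' hw' (P.adj_pt hw) hx h2 hx1 with e' | e'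
  · exact absurd e'.symm (P.adj_ne hw)
  · exact e'

theorem im_eq {w w' : Subgroup G} (hw : Adj Z a w) (hw' : Adj Z a w') (h : q.im w = q.im w') : w = w' := by
  obtain ⟨x, hx, hx1⟩ := P.exists_ne (P.adj_pt hw)
  exact P.im_inj q hw hw' hx hx1 (h ▸ q.π_mem_im hx (hw.le_NN hx))

theorem act_ex {t : G} (ht : MulAut.conj t • a = a) :
    ∃ φ : M ≃+ M, ∀ x ∈ NN Z a, φ (π x) = π (t * x * t⁻¹) :=
  q.exists_act (by rw [← NN_conj, ht]) ht

theorem mem_Ta {w : Subgroup G} (hw : Adj Z a w) {φ : M ≃+ M} :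
    φ ∈ Ta q (q.im w) ↔ ∃ t ∈ NN Z w, ∀ x ∈ NN Z a, φ (π x) = π (t * x * t⁻¹) := by
  constructor
  · rintro ⟨w', hw', e, t, ht, h⟩
    have := P.im_eq q hw hw' e
    subst this
    exact ⟨t, ht, h⟩
  · rintro ⟨t, ht, h⟩
    exact ⟨w, hw, rfl, t, ht, h⟩

theorem adj_conj_of {w : Subgroup G} (hw : Adj Z a w) {t : G} (ht : MulAut.conj t • a = a) :
    Adj Z a (MulAut.conj t • w) := by
  have := hw.conj t
  rwa [ht] at this

theorem mp_im {w : Subgroup G} (hw : Adj Z a w) {t : G} (ht : MulAut.conj t • a = a) {φ : M ≃+ M}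
    (hφ : ∀ x ∈ NN Z a, φ (π x) = π (t * x * t⁻¹)) : mp φ (q.im w) = q.im (MulAut.conj t • w) := by
  ext m
  rw [mem_mp]
  constructor
  · rintro ⟨_, ⟨x, hx, hxN, rfl⟩, rfl⟩
    refine ⟨t * x * t⁻¹, ?_, ?_, (hφ x hxN).symm⟩
    · rw [mem_conj]
      have : t⁻¹ * (t * x * t⁻¹) * t = x := by group
      rwa [this]
    · have h1 : MulAut.conj t • NN Z a = NN Z a := by rw [← NN_conj, ht]
      rw [← h1, mem_conj]
      have : t⁻¹ * (t * x * t⁻¹) * t = x := by group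
      rwa [this]
  · rintro ⟨y, hy, hyN, rfl⟩
    rw [mem_conj] at hy
    refine ⟨π (t⁻¹ * y * t), q.π_mem_im hy (hw.le_NN hy), ?_⟩
    rw [hφ _ (hw.le_NN hy)]
    congr 1
    group

end TQ0

namespace TQ

variable [Finite G] {Z U : Fin 2 → Subgroup G} (P : TQ Z U)
include P

variable {a : Subgroup G} {M : Type u} [AddCommGroup M] {π : G → M} (q : Qt (NN Z a) a M π)
include q

/-- `π n` is fixed by `N_w` iff `[n, N_w] = 1`. -/
theorem mem_pr {w : Subgroup G} (hw : Adj Z a w) {n : G} (hn : n ∈ NN Z a) :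
    π n ∈ pr (Ta q) (q.im w) ↔ n ∈ centralizer (NN Z w : Set G) := by
  constructor
  · intro h
    refine P.lift hw hn fun t ht => ?_
    obtain ⟨φ, hφ⟩ := P.act_ex q (P.conj_pt hw ht)
    have h1 : φ (π n) = π n := h φ ((P.mem_Ta q hw).2 ⟨t, ht, hφ⟩)
    rw [hφ n hn] at h1
    have htn : t * n * t⁻¹ ∈ NN Z a := by
      rw [← P.conj_NN hw ht, mem_conj]
      have : t⁻¹ * (t * n * t⁻¹) * t = n := by group
      rwa [this]
    rw [q.eq_iff htn hn] at h1
    have h2 : (t * n * t⁻¹)⁻¹ * n = n⁻¹ * (n * t * n⁻¹ * t⁻¹) * n := by group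
    rw [h2] at h1
    have h3 : n * (n⁻¹ * (n * t * n⁻¹ * t⁻¹) * n) * n⁻¹ ∈ a := by
      have : n * (n⁻¹ * (n * t * n⁻¹ * t⁻¹) * n) * n⁻¹ = n⁻¹ * (n * t * n⁻¹ * t⁻¹) * n := by
        rw [← P.aN hw.pt h1 hn, mul_inv_cancel_right]
      rw [this]
      exact h1
    have h4 : n * (n⁻¹ * (n * t * n⁻¹ * t⁻¹) * n) * n⁻¹ = n * t * n⁻¹ * t⁻¹ := by group
    rwa [h4] at h3
  · intro h φ hφ
    obtain ⟨t, ht, h1⟩ := (P.mem_Ta q hw).1 hφ
    rw [h1 n hn]
    have : t * n * t⁻¹ = n := by rw [mem_centralizer_iff.1 h t ht, mul_inv_cancel_right]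
    rw [this]

theorem le_pr {w w' : Subgroup G} (hw : Adj Z a w) (hw' : Adj Z a w') :
    q.im w' ≤ pr (Ta q) (q.im w) ↔ w' ≤ centralizer (NN Z w : Set G) := by
  constructor
  · intro h x hx
    exact (P.mem_pr q hw (hw'.le_NN hx)).1 (h (q.π_mem_im hx (hw'.le_NN hx)))
  · rintro h _ ⟨x, hx, hxN, rfl⟩
    exact (P.mem_pr q hw hxN).2 (h hx)

/-- The geometry. -/
theorem geo : Geo (PPa q) (Ta q) where
  ne := by
    rintro _ ⟨w, hw, rfl⟩
    obtain ⟨x, hx, hx1⟩ := P.exists_ne (P.adj_pt hw)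
    exact ⟨π x, q.π_mem_im hx (hw.le_NN hx), P.π_ne q hw hx hx1⟩
  ti := by
    rintro _ ⟨w, hw, rfl⟩ _ ⟨w', hw', rfl⟩ m ⟨x, hx, hxN, rfl⟩ h h0
    have hx1 : x ≠ 1 := by
      rintro rfl
      exact h0 q.one
    rw [P.im_inj q hw hw' hx hx1 h]
  mem := by
    rintro _ ⟨w, hw, rfl⟩ φ hφ m
    obtain ⟨t, ht, h1⟩ := (P.mem_Ta q hw).1 hφ
    obtain ⟨n, hn, rfl⟩ := q.surj m
    rw [h1 n hn]
    obtain ⟨α, hα, υ, hυ, e⟩ := P.mem_au hw (P.com' hw hn ht)
    have hυN := hw.le_NN hυ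
    have htn : t * n * t⁻¹ ∈ NN Z a := by
      rw [← P.conj_NN hw ht, mem_conj]
      have : t⁻¹ * (t * n * t⁻¹) * t = n := by group
      rwa [this]
    -- `t n t⁻¹ = n υ⁻¹ α⁻¹`
    have e1 : (t * n * t⁻¹)⁻¹ * (n * υ⁻¹) ∈ a := by
      have e2 : (t * n * t⁻¹)⁻¹ = n⁻¹ * (n * t * n⁻¹ * t⁻¹) := by group
      have e3 : υ * n = n * υ := P.abN hw.pt hυN hn
      have e4 : n⁻¹ * α = α * n⁻¹ := (P.aN hw.pt hα (inv_mem hn)).symm
      have e5 : (t * n * t⁻¹)⁻¹ * (n * υ⁻¹) = α := by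
        rw [e2, e]
        calc n⁻¹ * (α * υ) * (n * υ⁻¹) = (n⁻¹ * α) * (υ * n) * υ⁻¹ := by group
          _ = (α * n⁻¹) * (n * υ) * υ⁻¹ := by rw [e3, e4]
          _ = α := by group
      rw [e5]
      exact hα
    have e6 : π (t * n * t⁻¹) = π (n * υ⁻¹) := (q.eq_iff htn (mul_mem hn (inv_mem hυN))).2 e1
    rw [e6, q.mul n hn _ (inv_mem hυN), add_sub_cancel_left]
    exact q.π_mem_im (inv_mem hυ) (inv_mem hυN)
  self := by
    rintro _ ⟨w, hw, rfl⟩
    exact (P.le_pr q hw hw).2 (P.self_le (P.adj_pt hw))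
  act := by
    rintro _ ⟨w, hw, rfl⟩ φ hφ _ ⟨r, hr, rfl⟩
    obtain ⟨t, ht, h1⟩ := (P.mem_Ta q hw).1 hφ
    exact ⟨_, P.adj_conj_of q hr (P.conj_pt hw ht), P.mp_im q hr (P.conj_pt hw ht) h1⟩
  cj := by
    rintro _ ⟨w, hw, rfl⟩ φ hφ _ ⟨r, hr, rfl⟩ m
    obtain ⟨t, ht, h1⟩ := (P.mem_Ta q hw).1 hφ
    obtain ⟨n, hn, rfl⟩ := q.surj m
    have htn : t * n * t⁻¹ ∈ NN Z a := by
      rw [← P.conj_NN hw ht, mem_conj]
      have : t⁻¹ * (t * n * t⁻¹) * t = n := by group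
      rwa [this]
    rw [P.mp_im q hr (P.conj_pt hw ht) h1, h1 n hn, P.mem_pr q (P.adj_conj_of q hr (P.conj_pt hw ht)) htn,
      P.mem_pr q hr hn, NN_conj, ← conj_centralizer, mem_conj]
    have : t⁻¹ * (t * n * t⁻¹) * t = n := by group
    rw [this]
  sur := by
    rintro _ ⟨w, hw, rfl⟩ m hm v ⟨υ, hυ, hυN, rfl⟩
    obtain ⟨n, hn, rfl⟩ := q.surj m
    rw [P.mem_pr q hw hn] at hm
    obtain ⟨t, ht, α, hα, e⟩ := P.sur hw hn hm hυ
    obtain ⟨φ, hφ⟩ := P.act_ex q (P.conj_pt hw ht)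
    refine ⟨φ, (P.mem_Ta q hw).2 ⟨t, ht, hφ⟩, ?_⟩
    rw [hφ n hn, ← q.mul n hn υ hυN, q.eq_iff ?_ (mul_mem hn hυN), e]
    · have : (n * υ * α)⁻¹ * (n * υ) = α⁻¹ := by group
      rw [this]
      exact inv_mem hα
    · rw [← P.conj_NN hw ht, mem_conj]
      have : t⁻¹ * (t * n * t⁻¹) * t = n := by group
      rwa [this]
  sym := by
    rintro _ ⟨w, hw, rfl⟩ _ ⟨r, hr, rfl⟩ h
    rw [P.le_pr q hw hr] at h
    rw [P.le_pr q hr hw]
    exact P.perp_symm hw hr h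
  ix := by
    rintro _ ⟨w, hw, rfl⟩ _ ⟨r, hr, rfl⟩ h m
    rw [P.le_pr q hw hr] at h
    obtain ⟨n, hn, rfl⟩ := q.surj m
    obtain ⟨x, hx, hc⟩ := P.dec hw hr h hn
    have hxN := hr.le_NN hx
    refine ⟨π x, q.π_mem_im hx hxN, ?_⟩
    have h1 : π n - π x = π (x⁻¹ * n) := by
      rw [q.mul _ (inv_mem hxN) _ hn, q.inv hxN]; abel
    rw [h1]
    exact (P.mem_pr q hw (mul_mem (inv_mem hxN) hn)).2 hc

end TQ

end Cfsg.Agent.Omega.NO3S.EThree

end

section


/-!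
# The transvection case: lines, one component

`TQL Z U B` : `TQ` with `O₂(H/F) = 1`, lines `U`, and a 2-group `B` with `C_{N_0}(B) ≤ Z_0Z_1`.

* `TQL.geoO` : `PtGeo.GeoO` for every `a`.
-/

set_option autoImplicit false
set_option linter.unusedSectionVars false

namespace Cfsg.Agent.Omega.NO3S.EThree

open Subgroup Cfsg Cfsg.Agent.ZN Cfsg.Agent.Omega.MinPar
open Cfsg.Agent.Omega.NoFF.Basic (conj_conj mem_conj conj_le_iff conj_le_centralizer comm_symm comm_mono)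
open Cfsg.Agent.Omega.NOThreeL.Pair (conj_eq_of_mem)
open Cfsg.Agent.Omega.OM.PG PtGeo
open scoped Pointwise

universe u

variable {G : Type u} [Group G]

theorem norm_conj {A : Subgroup G} {k : G} (h : k ∈ normalizer (A : Set G)) : MulAut.conj k • A = A :=
  conj_eq_of_mem h

theorem conj_norm {A : Subgroup G} {k : G} (h : MulAut.conj k • A = A) : k ∈ normalizer (A : Set G) :=
  ChoiceBase.mem_normalizer_iff_cj.2 h

theorem conj_normalizer (k : G) (A : Subgroup G) :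
    MulAut.conj k • normalizer (A : Set G) = normalizer ((MulAut.conj k • A : Subgroup G) : Set G) :=
  (Cfsg.Agent.MinSimple.CosetFam.normalizer_conj k A).symm

theorem mem_conj_self {k x : G} {A : Subgroup G} (h : x ∈ A) : k * x * k⁻¹ ∈ MulAut.conj k • A := by
  rw [mem_conj]
  have : k⁻¹ * (k * x * k⁻¹) * k = x := by group
  rwa [this]

namespace TQ0

variable [Finite G] {Z U : Fin 2 → Subgroup G} (P : TQ0 Z U)
include P

/-- the points of the line `k U_1` are adjacent to `k Z_0`; more precisely -/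
theorem tr1 {k : G} {y : Subgroup G} (hy : IsPt Z y) (hle : y ≤ MulAut.conj k • U 1) :
    ∃ g : G, MulAut.conj g • (MulAut.conj k • Z 1) = y ∧ MulAut.conj g • (MulAut.conj k • Z 0) = MulAut.conj k • Z 0 ∧
      MulAut.conj g • (MulAut.conj k • U 1) = MulAut.conj k • U 1 ∧
      MulAut.conj g • (MulAut.conj k • U 0) = MulAut.conj k • U 0 := by
  obtain ⟨s, s0, s1, s2, s3⟩ := P.swap
  obtain ⟨k'', rfl⟩ := hy
  have h1 : MulAut.conj ((k * s)⁻¹ * k'') • Z 0 ≤ U 0 := by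
    have := conj_le_iff (g := (k * s)⁻¹) |>.2 hle
    rw [← s2, conj_conj k s, inv_conj_conj, conj_conj] at this
    exact this
  obtain ⟨l, l0, l1, l2, l3⟩ := P.tr _ h1
  have t1 : MulAut.conj (k * s)⁻¹ • (MulAut.conj k • Z 1) = Z 0 := by
    rw [conj_conj, mul_inv_rev, inv_mul_cancel_right, ← s0, inv_conj_conj]
  have t0 : MulAut.conj (k * s)⁻¹ • (MulAut.conj k • Z 0) = Z 1 := by
    rw [conj_conj, mul_inv_rev, inv_mul_cancel_right, ← s1, inv_conj_conj]
  have t3 : MulAut.conj (k * s)⁻¹ • (MulAut.conj k • U 1) = U 0 := by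
    rw [conj_conj, mul_inv_rev, inv_mul_cancel_right, ← s2, inv_conj_conj]
  have t2 : MulAut.conj (k * s)⁻¹ • (MulAut.conj k • U 0) = U 1 := by
    rw [conj_conj, mul_inv_rev, inv_mul_cancel_right, ← s3, inv_conj_conj]
  refine ⟨k * s * l * (k * s)⁻¹, ?_, ?_, ?_, ?_⟩
  · rw [← conj_conj, t1, ← conj_conj, l0, conj_conj, ← mul_assoc, mul_inv_cancel, one_mul]
  · rw [← conj_conj, t0, ← conj_conj, l1, ← conj_conj, s1]
  · rw [← conj_conj, t3, ← conj_conj, l2, ← conj_conj, s2]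
  · rw [← conj_conj, t2, ← conj_conj, l3, ← conj_conj, s3]

theorem adj_of_le {k : G} {y : Subgroup G} (hy : IsPt Z y) (hle : y ≤ MulAut.conj k • U 1) :
    Adj Z (MulAut.conj k • Z 0) y := by
  obtain ⟨g, h1, h2, -, -⟩ := P.tr1 hy hle
  exact ⟨g * k, by rw [← conj_conj, h2], by rw [← conj_conj, h1]⟩

/-- lines -/
theorem pts1 {k x : G} (hx : x ∈ MulAut.conj k • U 1) (hx1 : x ≠ 1) :
    ∃ w, IsPt Z w ∧ w ≤ MulAut.conj k • U 1 ∧ x ∈ w := by
  obtain ⟨s, s0, s1, s2, s3⟩ := P.swap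
  have h1 : (k * s)⁻¹ * x * (k * s) ∈ U 0 := by
    rw [← s2, conj_conj, mem_conj] at hx
    exact hx
  have h2 : (k * s)⁻¹ * x * (k * s) ≠ 1 := by
    intro e
    apply hx1
    have : x = (k * s) * ((k * s)⁻¹ * x * (k * s)) * (k * s)⁻¹ := by group
    rw [this, e]; group
  obtain ⟨w, hw, hle, hxw⟩ := P.pts _ h1 h2
  refine ⟨MulAut.conj (k * s) • w, hw.conj _, ?_, ?_⟩
  · have := conj_le_iff (g := k * s) |>.2 hle
    rwa [← conj_conj k s (U 0), s2] at this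
  · rw [mem_conj]; exact hxw

theorem pt_le_line (k : G) : MulAut.conj k • Z 1 ≤ MulAut.conj k • U 1 := by
  obtain ⟨s, s0, s1, s2, s3⟩ := P.swap
  rw [← s0, ← s2]
  exact conj_le_iff.2 (conj_le_iff.2 P.ZU)

theorem line_le_NN (k : G) : MulAut.conj k • U 1 ≤ NN Z (MulAut.conj k • Z 0) := by
  intro x hx
  by_cases hx1 : x = 1
  · rw [hx1]; exact one_mem _
  obtain ⟨w, hw, hle, hxw⟩ := P.pts1 hx hx1
  exact (P.adj_of_le hw hle).le_NN hxw

theorem line_le_cent (k : G) : MulAut.conj k • U 1 ≤ centralizer (NN Z (MulAut.conj k • Z 1) : Set G) := by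
  obtain ⟨s, s0, s1, s2, s3⟩ := P.swap
  rw [← s0, ← s2, conj_conj, conj_conj]
  have h1 : MulAut.conj (k * s) • U 0 ≤ QQ (MulAut.conj (k * s) • Z 0) := by
    rw [QQ_conj]
    exact conj_le_iff.2 P.UQ'
  exact h1.trans (P.QQ_le_cent ⟨_, rfl⟩)

theorem card_line (k : G) : Nat.card (MulAut.conj k • U 1 : Subgroup G) = Nat.card (Z 0) ^ 2 := by
  obtain ⟨s, s0, s1, s2, s3⟩ := P.swap
  rw [← s2, conj_conj, ← P.cardU]
  exact (Nat.card_congr (Subgroup.equivSMul (MulAut.conj (k * s)) (U 0)).toEquiv).symm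

/-- a line is generated by two different points -/
theorem line_eq {k : G} {y y' : Subgroup G} (hy : IsPt Z y) (hy' : IsPt Z y') (h : y ≤ MulAut.conj k • U 1)
    (h' : y' ≤ MulAut.conj k • U 1) (hne : y ≠ y') : y ⊔ y' = MulAut.conj k • U 1 := by
  refine Subgroup.eq_of_le_of_card_ge (sup_le h h') ?_
  rw [P.card_line, sq]
  have h1 : Nat.card (y × y') ≤ Nat.card (y ⊔ y' : Subgroup G) := by
    refine Nat.card_le_card_of_injective
      (fun p : y × y' => (⟨p.1 * p.2, mul_mem (mem_sup_left p.1.2) (mem_sup_right p.2.2)⟩ : (y ⊔ y' : Subgroup G))) ?_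
    rintro ⟨a, b⟩ ⟨c, d⟩ e
    have e1 : (a : G) * b = c * d := congrArg Subtype.val e
    have e2 : (c : G)⁻¹ * a = d * (b : G)⁻¹ := by
      calc (c : G)⁻¹ * a = (c : G)⁻¹ * (a * b) * (b : G)⁻¹ := by group
        _ = (c : G)⁻¹ * (c * d) * (b : G)⁻¹ := by rw [e1]
        _ = d * (b : G)⁻¹ := by group
    have e3 : (c : G)⁻¹ * a = 1 := by
      by_contra h0
      exact hne (P.ti _ _ hy hy' _ (mul_mem (inv_mem c.2) a.2) (e2 ▸ mul_mem d.2 (inv_mem b.2)) h0)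
    have e4 : (c : G) = a := inv_mul_eq_one.1 e3
    have e5 : (d : G) = b := by
      rw [e3] at e2
      exact (mul_inv_eq_one.1 e2.symm)
    exact Prod.ext (Subtype.ext e4.symm) (Subtype.ext e5.symm)
  rwa [Nat.card_prod, P.card_pt hy, P.card_pt hy'] at h1

/-- another point on the line -/
theorem exists_other (k : G) {y : Subgroup G} (hy : IsPt Z y) :
    ∃ y', IsPt Z y' ∧ y' ≤ MulAut.conj k • U 1 ∧ y' ≠ y := by
  by_contra hcon
  push Not at hcon
  have h1 : MulAut.conj k • U 1 ≤ y := by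
    intro x hx
    by_cases hx1 : x = 1
    · rw [hx1]; exact one_mem _
    obtain ⟨w, hw, hle, hxw⟩ := P.pts1 hx hx1
    rwa [← hcon w hw hle]
  have h2 := Subgroup.card_le_of_le h1
  rw [P.card_line, P.card_pt hy] at h2
  have h3 := P.one_lt
  nlinarith

theorem sq_one {a : Subgroup G} (ha : IsPt Z a) {x : G} (hx : x ∈ NN Z a) : x * x = 1 := by
  let K : Subgroup G :=
    { carrier := {x | x ∈ NN Z a ∧ x * x = 1}
      one_mem' := ⟨one_mem _, one_mul _⟩
      mul_mem' := fun {x y} hx hy => ⟨mul_mem hx.1 hy.1, by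
        have h1 := P.abN ha hx.1 hy.1
        calc x * y * (x * y) = x * (y * x) * y := by group
          _ = x * (x * y) * y := by rw [h1]
          _ = (x * x) * (y * y) := by group
          _ = 1 := by rw [hx.2, hy.2, one_mul]⟩
      inv_mem' := fun {x} hx => ⟨inv_mem hx.1, by
        have : x⁻¹ * x⁻¹ = (x * x)⁻¹ := by group
        rw [this, hx.2, inv_one]⟩ }
  have h1 : NN Z a ≤ K := by
    refine sSup_le fun u hu y hy => ⟨hu.le_NN hy, ?_⟩
    rw [← sq]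
    exact P.ZsqConj (P.adj_pt hu) y hy
  exact (h1 hx).2

end TQ0

/-- The transvection case, with lines and `B`. -/
structure TQL (Z U : Fin 2 → Subgroup G) (B : Subgroup G) : Prop extends TQ Z U where
  core : ∀ J : Subgroup G, J ≤ HH (Z 0) → HH (Z 0) ≤ normalizer (J : Set G) →
    (∀ y ∈ J, y * y ∈ centralizer (NN Z (Z 0) : Set G)) → J ≤ centralizer (NN Z (Z 0) : Set G)
  B2 : IsPGroup 2 B
  B0 : B ≤ HH (Z 0)
  B1 : B ≤ HH (Z 1)
  BU : ∀ x ∈ U 0, ∀ b ∈ B, b * x * b⁻¹ * x⁻¹ ∈ Z 0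
  Bfix : ∀ n ∈ NN Z (Z 0), (∀ b ∈ B, b * n * b⁻¹ = n) → n ∈ Z 0 ⊔ Z 1
  ab : ∀ l l', LnOn Z U (Z 0) l → LnOn Z U (Z 0) l' → l ≤ centralizer (l' : Set G)

namespace TQL

variable [Finite G] {Z U : Fin 2 → Subgroup G} {B : Subgroup G} (P : TQL Z U B)
include P

theorem core' {a : Subgroup G} (ha : IsPt Z a) (J : Subgroup G) (h1 : J ≤ HH a)
    (h2 : HH a ≤ normalizer (J : Set G)) (h3 : ∀ y ∈ J, y * y ∈ centralizer (NN Z a : Set G)) :
    J ≤ centralizer (NN Z a : Set G) := by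
  obtain ⟨k, rfl⟩ := ha
  have k1 : MulAut.conj k⁻¹ • J ≤ HH (Z 0) := by
    have := conj_le_iff (g := k⁻¹) |>.2 h1
    rwa [← HH_conj, inv_conj_conj] at this
  have k2 : HH (Z 0) ≤ normalizer ((MulAut.conj k⁻¹ • J : Subgroup G) : Set G) := by
    have := conj_le_iff (g := k⁻¹) |>.2 h2
    rwa [← HH_conj, inv_conj_conj, conj_normalizer] at this
  have k3 : ∀ y ∈ MulAut.conj k⁻¹ • J, y * y ∈ centralizer (NN Z (Z 0) : Set G) := by
    intro y hy
    rw [mem_conj, inv_inv] at hy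
    have := h3 _ hy
    rw [NN_conj, ← conj_centralizer, mem_conj] at this
    have e : k⁻¹ * (k * y * k⁻¹ * (k * y * k⁻¹)) * k = y * y := by group
    rwa [e] at this
  have k4 := P.core _ k1 k2 k3
  have k5 := conj_le_iff (g := k) |>.2 k4
  rwa [conj_inv_conj, conj_centralizer, ← NN_conj] at k5

/-- the radical -/
def II (Z : Fin 2 → Subgroup G) (a : Subgroup G) : Subgroup G :=
  NN Z a ⊓ ⨅ r : {r : Subgroup G // Adj Z a r}, centralizer (NN Z r : Set G)

omit P in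
theorem mem_II {a : Subgroup G} {x : G} : x ∈ II Z a ↔ x ∈ NN Z a ∧ ∀ r, Adj Z a r → x ∈ centralizer (NN Z r : Set G) := by
  unfold II
  rw [mem_inf, mem_iInf]
  exact ⟨fun h => ⟨h.1, fun r hr => h.2 ⟨r, hr⟩⟩, fun h => ⟨h.1, fun r => h.2 r r.2⟩⟩

omit P in
theorem conj_II {a : Subgroup G} {g x : G} (hg : MulAut.conj g • a = a) (hx : x ∈ II Z a) : g * x * g⁻¹ ∈ II Z a := by
  rw [mem_II] at hx ⊢
  have h1 : MulAut.conj g • NN Z a = NN Z a := by rw [← NN_conj, hg]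
  refine ⟨by rw [← h1]; exact mem_conj_self hx.1, fun r hr => ?_⟩
  have h2 : Adj Z a (MulAut.conj g⁻¹ • r) := by
    have h3 := hr.conj g⁻¹
    have h4 : MulAut.conj g⁻¹ • a = a := by
      have := congrArg (fun A => MulAut.conj g⁻¹ • A) hg
      simp only [inv_conj_conj] at this
      exact this.symm
    rwa [h4] at h3
  have h3 := mem_conj_self (k := g) (hx.2 _ h2)
  rwa [conj_centralizer, ← NN_conj, conj_inv_conj] at h3

theorem o2' {a : Subgroup G} (ha : IsPt Z a) {w w' : Subgroup G} (hw : Adj Z a w) (hw' : Adj Z a w') {τ τ' : G}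
    (hτ : τ ∈ NN Z w) (hτ' : τ' ∈ NN Z w')
    (h : ∀ n ∈ NN Z a, n⁻¹ * (τ' * τ * n * (τ' * τ)⁻¹) ∈ II Z a) : τ' * τ ∈ centralizer (NN Z a : Set G) := by
  let J : Subgroup G :=
    { carrier := {h | MulAut.conj h • a = a ∧ (∀ i ∈ II Z a, h * i * h⁻¹ = i) ∧
        ∀ n ∈ NN Z a, n⁻¹ * (h * n * h⁻¹) ∈ II Z a}
      one_mem' := ⟨by rw [map_one, one_smul], fun i _ => by group, fun n _ => by
        have : n⁻¹ * (1 * n * 1⁻¹) = 1 := by group
        rw [this]; exact one_mem _⟩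
      mul_mem' := by
        rintro x y ⟨x1, x2, x3⟩ ⟨y1, y2, y3⟩
        refine ⟨by rw [← conj_conj, y1, x1], fun i hi => ?_, fun n hn => ?_⟩
        · have : x * y * i * (x * y)⁻¹ = x * (y * i * y⁻¹) * x⁻¹ := by group
          rw [this, y2 i hi, x2 i hi]
        · have e1 : n⁻¹ * (x * y * n * (x * y)⁻¹) =
              (n⁻¹ * (x * n * x⁻¹)) * (x * (n⁻¹ * (y * n * y⁻¹)) * x⁻¹) := by group
          rw [e1, x2 _ (y3 n hn)]
          exact mul_mem (x3 n hn) (y3 n hn)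
      inv_mem' := by
        rintro x ⟨x1, x2, x3⟩
        have x1' : MulAut.conj x⁻¹ • a = a := by
          have := congrArg (fun A => MulAut.conj x⁻¹ • A) x1
          simp only [inv_conj_conj] at this
          exact this.symm
        have hN : ∀ n ∈ NN Z a, x⁻¹ * n * x ∈ NN Z a := by
          intro n hn
          have h1 : MulAut.conj x⁻¹ • NN Z a = NN Z a := by rw [← NN_conj, x1']
          have h2 := mem_conj_self (k := x⁻¹) hn
          rwa [h1, inv_inv] at h2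
        refine ⟨x1', fun i hi => ?_, fun n hn => ?_⟩
        · have h1 := x2 i hi
          have : x⁻¹ * i * x⁻¹⁻¹ = x⁻¹ * (x * i * x⁻¹) * x := by rw [h1]; group
          rw [this]; group
        · have h1 := x3 _ (hN n hn)
          have h2 := inv_mem h1
          have e1 : n⁻¹ * (x⁻¹ * n * x⁻¹⁻¹) = ((x⁻¹ * n * x)⁻¹ * (x * (x⁻¹ * n * x) * x⁻¹))⁻¹ := by group
          rw [e1]
          exact h2 }
  have hJ1 : J ≤ HH a := fun x hx => conj_norm hx.1
  have hJ2 : HH a ≤ normalizer (J : Set G) := by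
    intro g hg
    have key : ∀ g ∈ HH a, ∀ x ∈ J, g * x * g⁻¹ ∈ J := by
      rintro g hg x ⟨x1, x2, x3⟩
      have hga : MulAut.conj g • a = a := norm_conj hg
      have hga' : MulAut.conj g⁻¹ • a = a := norm_conj (inv_mem hg)
      refine ⟨?_, fun i hi => ?_, fun n hn => ?_⟩
      · rw [← conj_conj, ← conj_conj, hga', x1, hga]
      · have h1 := x2 _ (conj_II hga' hi)
        have e1 : g * x * g⁻¹ * i * (g * x * g⁻¹)⁻¹ = g * (x * (g⁻¹ * i * g⁻¹⁻¹) * x⁻¹) * g⁻¹ := by group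
        rw [e1, h1]; group
      · have hn' : g⁻¹ * n * g ∈ NN Z a := by
          have h1 : MulAut.conj g⁻¹ • NN Z a = NN Z a := by rw [← NN_conj, hga']
          have h2 := mem_conj_self (k := g⁻¹) hn
          rwa [h1, inv_inv] at h2
        have h1 := conj_II hga (x3 _ hn')
        have e1 : g * ((g⁻¹ * n * g)⁻¹ * (x * (g⁻¹ * n * g) * x⁻¹)) * g⁻¹ =
            n⁻¹ * (g * x * g⁻¹ * n * (g * x * g⁻¹)⁻¹) := by group
        rwa [e1] at h1
    refine mem_normalizer_iff.2 fun x => ⟨key g hg x, fun hx => ?_⟩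
    have := key g⁻¹ (inv_mem hg) _ hx
    have e : g⁻¹ * (g * x * g⁻¹) * g⁻¹⁻¹ = x := by group
    rwa [e] at this
  have hJ3 : ∀ y ∈ J, y * y ∈ centralizer (NN Z a : Set G) := by
    rintro y ⟨y1, y2, y3⟩
    refine mem_centralizer_iff.2 fun n hn => ?_
    set i : G := n⁻¹ * (y * n * y⁻¹) with hi
    have hiI : i ∈ II Z a := y3 n hn
    have e1 : y * n * y⁻¹ = n * i := by rw [hi]; group
    have e2 : y * y * n * (y * y)⁻¹ = n := by
      calc y * y * n * (y * y)⁻¹ = y * (y * n * y⁻¹) * y⁻¹ := by group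
        _ = y * (n * i) * y⁻¹ := by rw [e1]
        _ = (y * n * y⁻¹) * (y * i * y⁻¹) := by group
        _ = n * (i * i) := by rw [e1, y2 i hiI]; group
        _ = n := by rw [P.sq_one ha (mem_II.1 hiI).1, mul_one]
    calc n * (y * y) = y * y * n * (y * y)⁻¹ * (y * y) := by rw [e2]
      _ = y * y * n := by group
  refine P.core' ha J hJ1 hJ2 hJ3 ⟨?_, fun i hi => ?_, h⟩
  · rw [← conj_conj, P.conj_pt hw hτ, P.conj_pt hw' hτ']
  · have h1 := mem_centralizer_iff.1 ((mem_II.1 hi).2 w hw) τ hτ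
    have h2 := mem_centralizer_iff.1 ((mem_II.1 hi).2 w' hw') τ' hτ'
    calc τ' * τ * i * (τ' * τ)⁻¹ = τ' * (τ * i * τ⁻¹) * τ'⁻¹ := by group
      _ = τ' * i * τ'⁻¹ := by rw [h1, mul_inv_cancel_right]
      _ = i := by rw [h2, mul_inv_cancel_right]

section quot

variable {a : Subgroup G} {M : Type u} [AddCommGroup M] {π : G → M} (ha : IsPt Z a) (q : Qt (NN Z a) a M π)
include ha q

theorem π_mem_pr {n : G} (hn : n ∈ NN Z a) :
    (∀ r ∈ PPa q, π n ∈ pr (Ta q) r) ↔ n ∈ II Z a := by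
  rw [mem_II]
  constructor
  · intro h
    exact ⟨hn, fun r hr => (P.mem_pr q hr hn).1 (h _ ⟨r, hr, rfl⟩)⟩
  · rintro ⟨-, h⟩ _ ⟨r, hr, rfl⟩
    exact (P.mem_pr q hr hn).2 (h r hr)

theorem col_line {k : G} (hk : a = MulAut.conj k • Z 0) {y y' : Subgroup G} (hy : IsPt Z y) (hy' : IsPt Z y')
    (h : y ≤ MulAut.conj k • U 1) (h' : y' ≤ MulAut.conj k • U 1) (hne : y ≠ y') :
    Col (PPa q) (Ta q) (q.im y) (q.im y') := by
  subst hk
  have hay := P.adj_of_le hy h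
  have hay' := P.adj_of_le hy' h'
  refine ⟨?_, fun v hv hv0 => ?_⟩
  · rw [P.le_pr q hay hay']
    obtain ⟨g, h1, -, h3, -⟩ := P.tr1 hy h
    have h4 := P.line_le_cent (g * k)
    rw [← conj_conj, ← conj_conj, h1, h3] at h4
    exact h'.trans h4
  · have hsup : q.im (y ⊔ y') = q.im y ⊔ q.im y' := by
      refine q.im_sup hay.le_NN hay'.le_NN fun g hg => mem_sup_of_comm (fun z hz => ?_) hg
      exact mem_centralizer_iff.2 fun x hx => P.abN ha (hay.le_NN hx) (hay'.le_NN hz)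
    rw [← hsup, P.line_eq hy hy' h h' hne] at hv ⊢
    obtain ⟨g, hg, hgN, rfl⟩ := hv
    have hg1 : g ≠ 1 := by
      rintro rfl
      exact hv0 q.one
    obtain ⟨w, hw, hle, hgw⟩ := P.pts1 hg hg1
    exact ⟨q.im w, ⟨w, P.adj_of_le hw hle, rfl⟩, q.π_mem_im hgw hgN, q.im_mono hle⟩

/-- The geometry with lines. -/
theorem geoL : GeoL (PPa q) (Ta q) where
  toGeo := P.geo q
  o2 := by
    rintro _ ⟨w, hw, rfl⟩ _ ⟨w', hw', rfl⟩ t ht t' ht' h m
    obtain ⟨τ, hτ, h1⟩ := (P.mem_Ta q hw).1 ht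
    obtain ⟨τ', hτ', h2⟩ := (P.mem_Ta q hw').1 ht'
    have e0 : ∀ n ∈ NN Z a, t' (t (π n)) = π (τ' * τ * n * (τ' * τ)⁻¹) := by
      intro n hn
      have hn' : τ * n * τ⁻¹ ∈ NN Z a := by
        have := mem_conj_self (k := τ) hn
        rwa [P.conj_NN hw hτ] at this
      rw [h1 n hn, h2 _ hn']
      congr 1
      group
    have hmem : ∀ n ∈ NN Z a, τ' * τ * n * (τ' * τ)⁻¹ ∈ NN Z a := by
      intro n hn
      have h3 : MulAut.conj (τ' * τ) • NN Z a = NN Z a := by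
        rw [← conj_conj, P.conj_NN hw hτ, P.conj_NN hw' hτ']
      rw [← h3]
      exact mem_conj_self hn
    have h3 : τ' * τ ∈ centralizer (NN Z a : Set G) := by
      refine P.o2' ha hw hw' hτ hτ' fun n hn => ?_
      rw [← P.π_mem_pr ha q (mul_mem (inv_mem hn) (hmem n hn))]
      intro r hr
      have h4 := h (π n) r hr
      rw [e0 n hn] at h4
      rw [q.mul _ (inv_mem hn) _ (hmem n hn), q.inv hn]
      have : -π n + π (τ' * τ * n * (τ' * τ)⁻¹) = π (τ' * τ * n * (τ' * τ)⁻¹) - π n := by abel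
      rwa [this]
    obtain ⟨n, hn, rfl⟩ := q.surj m
    rw [e0 n hn, ← mem_centralizer_iff.1 h3 n hn, mul_inv_cancel_right]
  line := by
    rintro _ ⟨w, ⟨k, hk, rfl⟩, rfl⟩
    obtain ⟨y, hy, hle, hne⟩ := P.exists_other k (y := MulAut.conj k • Z 1) (P.adj_pt ⟨k, rfl, rfl⟩)
    subst hk
    have hay := P.adj_of_le hy hle
    refine ⟨q.im y, ⟨y, hay, rfl⟩, fun e => hne (P.im_eq q ⟨k, rfl, rfl⟩ hay e).symm, ?_⟩
    exact P.col_line ha q rfl (P.adj_pt ⟨k, rfl, rfl⟩) hy (P.pt_le_line k) hle hne.symm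
  nbr := by
    rintro _ ⟨w, hw, rfl⟩
    obtain ⟨r, hr, h⟩ := P.exists_moved hw
    exact ⟨q.im r, ⟨r, hr, rfl⟩, by rwa [P.le_pr q hw hr]⟩
  top := by
    intro m
    obtain ⟨n, hn, rfl⟩ := q.surj m
    have h1 : NN Z a ≤ q.pre (sSup (PPa q)) := by
      refine sSup_le fun u hu x hx => ⟨hu.le_NN hx, ?_⟩
      exact AddSubgroup.mem_sSup_of_mem (⟨u, hu, rfl⟩ : q.im u ∈ PPa q) (q.π_mem_im hx (hu.le_NN hx))
    exact (h1 hn).2

omit ha in
theorem im_conj_le {t : G} (ht : MulAut.conj t • a = a) {r r' : Subgroup G} (hr : Adj Z a r) (hr' : Adj Z a r') :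
    q.im (MulAut.conj t • r') ≤ pr (Ta q) (q.im (MulAut.conj t • r)) ↔ q.im r' ≤ pr (Ta q) (q.im r) := by
  rw [P.le_pr q (P.adj_conj_of q hr ht) (P.adj_conj_of q hr' ht), P.le_pr q hr hr', NN_conj, ← conj_centralizer,
    conj_le_iff]

omit ha in
theorem cn_conj {t : G} (ht : MulAut.conj t • a = a) {r r' : Subgroup G} (hr : Adj Z a r) (hr' : Adj Z a r')
    (h : Cn (PPa q) (Ta q) (q.im r) (q.im r')) :
    Cn (PPa q) (Ta q) (q.im (MulAut.conj t • r)) (q.im (MulAut.conj t • r')) := by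
  obtain ⟨_, ⟨s, hs, rfl⟩, h1, h2⟩ := h
  refine ⟨_, ⟨_, P.adj_conj_of q hs ht, rfl⟩, ?_, ?_⟩
  · rwa [P.im_conj_le q ht hr hs]
  · rwa [P.im_conj_le q ht hr' hs]

omit ha q in
theorem Bfix' (k : G) : ∃ T : Subgroup G, IsPGroup 2 T ∧ (∀ t ∈ T, MulAut.conj t • (MulAut.conj k • Z 0) =
    MulAut.conj k • Z 0) ∧ (∀ t ∈ T, MulAut.conj t • (MulAut.conj k • Z 1) = MulAut.conj k • Z 1) ∧
    (∀ n ∈ NN Z (MulAut.conj k • Z 0), (∀ t ∈ T, t * n * t⁻¹ = n) → n ∈ MulAut.conj k • Z 0 ⊔ MulAut.conj k • Z 1) ∧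
    (∀ x ∈ MulAut.conj k • U 0, ∀ t ∈ T, t * x * t⁻¹ * x⁻¹ ∈ MulAut.conj k • Z 0) := by
  refine ⟨MulAut.conj k • B, ?_, ?_, ?_, ?_, ?_⟩
  · exact P.B2.of_equiv (Subgroup.equivSMul (MulAut.conj k) B)
  · intro t ht
    rw [mem_conj] at ht
    have h1 := norm_conj (P.B0 ht)
    have h2 := congrArg (fun A => MulAut.conj k • A) h1
    simp only [conj_conj] at h2
    have e : k * (k⁻¹ * t * k) = t * k := by group
    rw [e, ← conj_conj] at h2
    exact h2
  · intro t ht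
    rw [mem_conj] at ht
    have h1 := norm_conj (P.B1 ht)
    have h2 := congrArg (fun A => MulAut.conj k • A) h1
    simp only [conj_conj] at h2
    have e : k * (k⁻¹ * t * k) = t * k := by group
    rw [e, ← conj_conj] at h2
    exact h2
  · intro n hn hf
    rw [NN_conj, mem_conj] at hn
    rw [← conj_sup', mem_conj]
    refine P.Bfix _ hn fun b hb => ?_
    have h1 := hf (k * b * k⁻¹) (mem_conj_self hb)
    have e : b * (k⁻¹ * n * k) * b⁻¹ = k⁻¹ * (k * b * k⁻¹ * n * (k * b * k⁻¹)⁻¹) * k := by group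
    rw [e, h1]
  · intro x hx t ht
    rw [mem_conj] at hx ht ⊢
    have := P.BU _ hx _ ht
    have e : k⁻¹ * t * k * (k⁻¹ * x * k) * (k⁻¹ * t * k)⁻¹ * (k⁻¹ * x * k)⁻¹ = k⁻¹ * (t * x * t⁻¹ * x⁻¹) * k := by
      group
    rwa [e] at this

/-- **One component** (helper262, (2')) -/
theorem cn_one {u w₁ : Subgroup G} (hu : Adj Z a u) (hw₁ : Adj Z a w₁) : Cn (PPa q) (Ta q) (q.im u) (q.im w₁) := by
  classical
  have gL := P.geoL ha q
  have mP : ∀ r, Adj Z a r → q.im r ∈ PPa q := fun r h => ⟨r, h, rfl⟩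
  obtain ⟨k, hk, hku⟩ := hu
  have hu : Adj Z a u := ⟨k, hk, hku⟩
  by_contra hcon
  obtain ⟨T, hT2, hTa, hTu, hTf, -⟩ := P.Bfix' k
  rw [← hk] at hTa hTf
  rw [← hku] at hTu hTf
  set C : AddSubgroup M := MC (PPa q) (Ta q) (q.im w₁) with hC
  have hTN : ∀ t ∈ T, ∀ x ∈ NN Z a, t * x * t⁻¹ ∈ NN Z a := by
    intro t ht x hx
    have h1 : MulAut.conj t • NN Z a = NN Z a := by rw [← NN_conj, hTa t ht]
    rw [← h1]
    exact mem_conj_self hx
  have hTa' : ∀ t ∈ T, ∀ x ∈ a, t * x * t⁻¹ ∈ a := by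
    intro t ht x hx
    have := mem_conj_self (k := t) hx
    rwa [hTa t ht] at this
  -- elements mapping `w₁` into its component
  have hmap : ∀ t ∈ T, Cn (PPa q) (Ta q) (q.im w₁) (q.im (MulAut.conj t • w₁)) →
      ∀ x ∈ NN Z a, π x ∈ C → π (t * x * t⁻¹) ∈ C := by
    intro t ht hcn x hx hxC
    obtain ⟨φ, hφ⟩ := P.act_ex q (hTa t ht)
    rw [← hφ x hx]
    have h1 : C ≤ C.comap φ.toAddMonoidHom := by
      refine sSup_le ?_
      rintro _ ⟨⟨r, hr, rfl⟩, hr2⟩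
      rintro _ ⟨y, hy, hyN, rfl⟩
      change φ (π y) ∈ C
      rw [hφ y hyN]
      have h2 := P.cn_conj q (hTa t ht) hw₁ hr hr2
      have h3 := gL.cn_trans ⟨w₁, hw₁, rfl⟩ ⟨_, P.adj_conj_of q hw₁ (hTa t ht), rfl⟩
        ⟨_, P.adj_conj_of q hr (hTa t ht), rfl⟩ hcn h2
      refine le_MC (mP _ (P.adj_conj_of q hr (hTa t ht))) h3 ?_
      exact q.π_mem_im (mem_conj_self hy) (hTN t ht y hyN)
    exact h1 hxC
  let T₁ : Subgroup G := T ⊓ normalizer (q.pre C : Set G)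
  have hT₁ : ∀ t ∈ T₁, ∀ x ∈ NN Z a, π x ∈ C → π (t * x * t⁻¹) ∈ C := by
    intro t ht x hx hxC
    exact ((mem_normalizer_iff.1 ht.2 x).1 ⟨hx, hxC⟩).2
  obtain ⟨y₀, hy₀, hy₀1⟩ := P.exists_ne (P.adj_pt hw₁)
  have hw₁C : Cn (PPa q) (Ta q) (q.im w₁) (q.im w₁) := gL.cn_refl ⟨w₁, hw₁, rfl⟩
  obtain ⟨x₀, hx₀N, hx₀C, hx₀0, hx₀T⟩ := q.fixed_vec (T := T₁) (hT2.to_le inf_le_left)
    (fun t ht => hTN t ht.1) (fun t ht => hTa' t ht.1) (C := C) hT₁
    (y := π y₀) (le_MC (mP _ hw₁) hw₁C (q.π_mem_im hy₀ (hw₁.le_NN hy₀))) (P.π_ne q hw₁ hy₀ hy₀1) (by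
      rw [← q.mul _ (hw₁.le_NN hy₀) _ (hw₁.le_NN hy₀), P.sq_one ha (hw₁.le_NN hy₀), q.one])
  -- the point of the fixed vector
  obtain ⟨_, ⟨w, hw, rfl⟩, hcw, x, hx, hxN, hxe⟩ := gL.vec ⟨w₁, hw₁, rfl⟩ (π x₀) hx₀C hx₀0
  have hx1 : x ≠ 1 := by
    rintro rfl
    apply hx₀0
    rw [← hxe, q.one]
  have hxT : ∀ t ∈ T₁, t * x * t⁻¹ = x := by
    intro t ht
    have h1 : π (t * x * t⁻¹) = π x := by
      obtain ⟨φ, hφ⟩ := P.act_ex q (hTa t ht.1)
      rw [← hφ x hxN, hxe, hφ x₀ hx₀N, hx₀T t ht]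
    have h2 : MulAut.conj t • w = w := by
      refine P.im_inj q (P.adj_conj_of q hw (hTa t ht.1)) hw (mem_conj_self hx) (fun e => hx1 (conj_eq_one_iff.1 e)) ?_
      rw [h1]
      exact q.π_mem_im hx hxN
    have h3 : t * x * t⁻¹ ∈ w := by
      have := mem_conj_self (k := t) hx
      rwa [h2] at this
    have h4 : x⁻¹ * (t * x * t⁻¹) ∈ a := (q.eq_iff hxN (hTN t ht.1 x hxN)).1 h1.symm
    have h5 := P.pt_disj q hw (mul_mem (inv_mem hx) h3) h4
    exact (inv_mul_eq_one.1 h5).symm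
  -- the orbit
  let O : Finset G := (Set.toFinite {y : G | ∃ t ∈ T, y = t * x * t⁻¹}).toFinset
  have hO : ∀ y, y ∈ O ↔ ∃ t ∈ T, y = t * x * t⁻¹ := fun y => by
    simp only [O, Set.Finite.mem_toFinset, Set.mem_ofPred_eq]
  obtain ⟨n, hn, hnπ, hnT⟩ := q.exists_prod (fun x hx y hy => P.abN ha hx hy) O (by
    intro y hy
    obtain ⟨t, ht, rfl⟩ := (hO y).1 hy
    exact hTN t ht x hxN)
  have hnau : n ∈ a ⊔ u := by
    refine hTf n hn fun t ht => hnT t fun y hy => ?_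
    obtain ⟨t', ht', rfl⟩ := (hO y).1 hy
    exact (hO _).2 ⟨t * t', mul_mem ht ht', by group⟩
  have hnu : π n ∈ q.im u := by
    obtain ⟨α, hα, υ, hυ, rfl⟩ := P.mem_au hu hnau
    have hυN := hu.le_NN hυ
    have hαN : α ∈ NN Z a := by
      have := mul_mem hn (inv_mem hυN)
      rwa [mul_inv_cancel_right] at this
    rw [q.mul α hαN υ hυN, (q.ker α hαN).2 hα, zero_add]
    exact q.π_mem_im hυ hυN
  -- a neighbour of `w`
  obtain ⟨_, ⟨r, hr, rfl⟩, hrw⟩ := gL.nbr _ ⟨w, hw, rfl⟩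
  have hr1 : Cn (PPa q) (Ta q) (q.im w₁) (q.im r) := gL.cn_step ⟨w₁, hw₁, rfl⟩ ⟨w, hw, rfl⟩ ⟨r, hr, rfl⟩ hcw hrw
  have hur : q.im u ≤ pr (Ta q) (q.im r) := by
    by_contra h
    exact hcon (gL.cn_step ⟨w₁, hw₁, rfl⟩ ⟨r, hr, rfl⟩ ⟨u, hu, rfl⟩ hr1 h).symm
  have hrest : ∀ y ∈ O.erase x, π y ∈ pr (Ta q) (q.im r) := by
    intro y hy
    rw [Finset.mem_erase] at hy
    obtain ⟨hyx, hyO⟩ := hy
    obtain ⟨t, ht, rfl⟩ := (hO y).1 hyO
    by_contra h
    apply hyx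
    have h1 : Cn (PPa q) (Ta q) (q.im w₁) (q.im (MulAut.conj t • w)) := by
      refine gL.cn_step ⟨w₁, hw₁, rfl⟩ ⟨r, hr, rfl⟩ ⟨_, P.adj_conj_of q hw (hTa t ht), rfl⟩ hr1 fun h2 => h (h2 ?_)
      exact q.π_mem_im (mem_conj_self hx) (hTN t ht x hxN)
    have h2 := P.cn_conj q (hTa t ht) hw₁ hw hcw
    have h3 : Cn (PPa q) (Ta q) (q.im w₁) (q.im (MulAut.conj t • w₁)) :=
      gL.cn_trans ⟨w₁, hw₁, rfl⟩ ⟨_, P.adj_conj_of q hw (hTa t ht), rfl⟩ ⟨_, P.adj_conj_of q hw₁ (hTa t ht), rfl⟩ h1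
        h2.symm
    refine hxT t ⟨ht, ?_⟩
    refine mem_normalizer_fintype fun y hy => ?_
    have hy' : y ∈ NN Z a ∧ π y ∈ C := hy
    exact (⟨hTN t ht y hy'.1, hmap t ht h3 y hy'.1 hy'.2⟩ : t * y * t⁻¹ ∈ q.pre C)
  have hxO : x ∈ O := (hO x).2 ⟨1, one_mem _, by group⟩
  rw [← Finset.add_sum_erase O π hxO] at hnπ
  have hx2 : π x ∈ pr (Ta q) (q.im r) := by
    have h1 : π x = π n - ∑ y ∈ O.erase x, π y := by rw [hnπ]; abel
    rw [h1]
    exact sub_mem (hur hnu) (sum_mem hrest)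
  have hwr : ¬ q.im w ≤ pr (Ta q) (q.im r) := gL.nsym ⟨w, hw, rfl⟩ ⟨r, hr, rfl⟩ hrw
  exact gL.not_mem ⟨r, hr, rfl⟩ ⟨w, hw, rfl⟩ hwr (q.π_mem_im hx hxN) (P.π_ne q hw hx hx1) hx2

/-- **The geometry has one component.** -/
theorem geoO : GeoO (PPa q) (Ta q) where
  toGeoL := P.geoL ha q
  cn := by
    rintro _ ⟨w, hw, rfl⟩ _ ⟨w', hw', rfl⟩
    exact P.cn_one ha q hw hw'
  nonempty := by
    obtain ⟨k, rfl⟩ := ha
    exact ⟨_, _, ⟨k, rfl, rfl⟩, rfl⟩

end quot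

end TQL

end Cfsg.Agent.Omega.NO3S.EThree

end

section


/-!
# NO-3S, case (E), TEXT R3 #16982 (4): symplectic spaces in characteristic 2

`B` a nondegenerate alternating form on the `F`-space `E`, `char F = 2`.

* `tvn B u a` : the transvection `x ↦ x + a B(x,u) u`;
* `Sim B φ c A` : `A` is `φ`-semilinear and `B(Ax, Ay) = c φ(B(x,y))`;
* `Sy.exists_perp`, `Sy.perp_le` : an additive subgroup invariant under the transvections with centres in `u^⊥`
  and not inside `F u` contains `u^⊥`;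
* `Sy.tra` : two transvections with centres in `u^⊥ - F u` move any vector of `u^⊥ - F u` to any other;
* `Sim.eq_tvn` : a similarity which fixes `u^⊥` pointwise is a transvection;
* `Sy.exists_list` : every linear isometry is a product of transvections.
-/

set_option autoImplicit false

namespace Cfsg.Agent.Omega.NO3S.EThree

variable {F E : Type*} [Field F] [AddCommGroup E] [Module F E]

/-- The transvection `x ↦ x + a B(x,u) u`. -/
def tvn (B : E →ₗ[F] E →ₗ[F] F) (u : E) (a : F) (x : E) : E := x + (a * B x u) • u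

/-- `A` is a `φ`-semilinear similarity with factor `c`. -/
structure Sim (B : E →ₗ[F] E →ₗ[F] F) (φ : F ≃+* F) (c : F) (A : E → E) : Prop where
  add : ∀ x y, A (x + y) = A x + A y
  smul : ∀ (a : F) x, A (a • x) = φ a • A x
  form : ∀ x y, B (A x) (A y) = c * φ (B x y)

/-- `B` is a nondegenerate alternating form (characteristic 2). -/
structure Sy (B : E →ₗ[F] E →ₗ[F] F) : Prop where
  two : (2 : F) = 0
  alt : ∀ x, B x x = 0
  nd : ∀ x, (∀ y, B x y = 0) → x = 0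

namespace Sy

variable {B : E →ₗ[F] E →ₗ[F] F} (h : Sy B)

include h

theorem add_self (x : E) : x + x = 0 := by
  have : x + x = (2 : F) • x := by rw [two_smul]
  rw [this, h.two, zero_smul]

theorem add_self' (a : F) : a + a = 0 := by
  have : a + a = (2 : F) * a := by ring
  rw [this, h.two, zero_mul]

theorem neg_eq (x : E) : -x = x := neg_eq_of_add_eq_zero_left (h.add_self x)

theorem symm (x y : E) : B x y = B y x := by
  have h1 := h.alt (x + y)
  simp only [map_add, LinearMap.add_apply, h.alt, zero_add, add_zero] at h1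
  linear_combination h1 - B y x * h.two

theorem nd' (x : E) (hx : ∀ y, B y x = 0) : x = 0 := h.nd x fun y => by rw [h.symm]; exact hx y

/-- `u^⊥⊥ = F u` -/
theorem perp_perp {u x : E} (hx : ∀ y, B y u = 0 → B y x = 0) : ∃ a : F, x = a • u := by
  by_cases hu : ∀ y, B y u = 0
  · refine ⟨0, ?_⟩
    rw [zero_smul]
    exact h.nd' x fun y => hx y (hu y)
  push Not at hu
  obtain ⟨y0, hy0⟩ := hu
  refine ⟨B y0 x / B y0 u, ?_⟩
  have h1 : x - (B y0 x / B y0 u) • u = 0 := by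
    apply h.nd'
    intro y
    have h2 := hx (y - (B y u / B y0 u) • y0) (by
      rw [map_sub, LinearMap.sub_apply, map_smul, LinearMap.smul_apply, smul_eq_mul, div_mul_cancel₀ _ hy0, sub_self])
    rw [map_sub, LinearMap.sub_apply, map_smul, LinearMap.smul_apply, smul_eq_mul] at h2
    rw [map_sub, map_smul, smul_eq_mul]
    rw [← h2]
    ring
  exact sub_eq_zero.1 h1

/-- a vector of `u^⊥` not orthogonal to `x ∉ F u` -/
theorem exists_perp {u x : E} (hx : ∀ a : F, x ≠ a • u) : ∃ w, B w u = 0 ∧ B w x ≠ 0 := by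
  by_contra hcon
  push Not at hcon
  obtain ⟨a, ha⟩ := h.perp_perp hcon
  exact hx a ha

/-- **(KEY)** an additive subgroup invariant under the transvections with centres in `u^⊥` and not inside `F u`
contains `u^⊥`. -/
theorem perp_le {u : E} {S : AddSubgroup E} (hS : ∀ x ∈ S, ∀ w, B w u = 0 → ∀ a : F, (a * B x w) • w ∈ S)
    {x : E} (hx : x ∈ S) (hxu : ∀ a : F, x ≠ a • u) {v : E} (hv : B v u = 0) : v ∈ S := by
  have key : ∀ w, B w u = 0 → B x w ≠ 0 → w ∈ S := by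
    intro w hw hxw
    have h1 := hS x hx w hw (B x w)⁻¹
    rwa [inv_mul_cancel₀ hxw, one_smul] at h1
  by_cases hxv : B x v = 0
  · obtain ⟨w, hw, hwx⟩ := h.exists_perp hxu
    have hxw : B x w ≠ 0 := by rwa [h.symm]
    have h1 := key w hw hxw
    have h2 := key (v + w) (by rw [map_add, LinearMap.add_apply, hv, hw, add_zero])
      (by rw [map_add, hxv, zero_add]; exact hxw)
    have h3 := S.sub_mem h2 h1
    rwa [add_sub_cancel_right] at h3
  · exact key v hv hxv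

/-- a common non-orthogonal vector in `u^⊥` -/
theorem exists_link {u x y : E} (hx : ∀ a : F, x ≠ a • u) (hy : ∀ a : F, y ≠ a • u) :
    ∃ z, B z u = 0 ∧ B z x ≠ 0 ∧ B z y ≠ 0 := by
  obtain ⟨a, ha, hax⟩ := h.exists_perp hx
  obtain ⟨b, hb, hby⟩ := h.exists_perp hy
  by_cases hay : B a y = 0
  · by_cases hbx : B b x = 0
    · refine ⟨a + b, ?_, ?_, ?_⟩
      · rw [map_add, LinearMap.add_apply, ha, hb, add_zero]
      · rw [map_add, LinearMap.add_apply, hbx, add_zero]; exact hax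
      · rw [map_add, LinearMap.add_apply, hay, zero_add]; exact hby
    · exact ⟨b, hb, hbx, hby⟩
  · exact ⟨a, ha, hax, hay⟩

theorem tvn_tvn (u : E) (a : F) (x : E) : tvn B u a (tvn B u a x) = x := by
  unfold tvn
  rw [map_add, LinearMap.add_apply, map_smul, LinearMap.smul_apply, h.alt, smul_zero, add_zero, add_assoc,
    h.add_self, add_zero]

/-- one transvection moves `x` to `y` when `B x y ≠ 0` -/
theorem tvn_move {x y : E} (hxy : B x y ≠ 0) : tvn B (x + y) (B x y)⁻¹ x = y := by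
  unfold tvn
  rw [map_add, h.alt, zero_add, inv_mul_cancel₀ hxy, one_smul, ← add_assoc, h.add_self, zero_add]

omit h in
theorem tvn_of_perp {u x : E} (a : F) (hx : B x u = 0) : tvn B u a x = x := by
  unfold tvn
  rw [hx, mul_zero, zero_smul, add_zero]

/-- **two transvections with centres in `u^⊥ - F u` move `x` to `y`.** -/
theorem tra {u x y : E} (hx0 : B x u = 0) (hx : ∀ a : F, x ≠ a • u) (hy0 : B y u = 0) (hy : ∀ a : F, y ≠ a • u) :
    ∃ w₁ w₂ : E, ∃ a₁ a₂ : F, B w₁ u = 0 ∧ B w₂ u = 0 ∧ (∀ a : F, w₁ ≠ a • u) ∧ (∀ a : F, w₂ ≠ a • u) ∧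
      tvn B w₂ a₂ (tvn B w₁ a₁ x) = y := by
  obtain ⟨z, hz0, hzx, hzy⟩ := h.exists_link hx hy
  have hxz : B x z ≠ 0 := by rwa [h.symm]
  refine ⟨x + z, z + y, (B x z)⁻¹, (B z y)⁻¹, ?_, ?_, ?_, ?_, ?_⟩
  · rw [map_add, LinearMap.add_apply, hx0, hz0, add_zero]
  · rw [map_add, LinearMap.add_apply, hy0, hz0, add_zero]
  · intro a ha
    have h1 : B x (x + z) = 0 := by rw [ha, map_smul, hx0, smul_zero]
    rw [map_add, h.alt, zero_add] at h1
    exact hxz h1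
  · intro a ha
    have h1 : B z (z + y) = 0 := by rw [ha, map_smul, hz0, smul_zero]
    rw [map_add, h.alt, zero_add] at h1
    exact hzy h1
  · rw [h.tvn_move hxz, h.tvn_move hzy]

/-- transvections are linear isometries -/
theorem tvn_sim (u : E) (a : F) : Sim B (RingEquiv.refl F) 1 (tvn B u a) := by
  refine ⟨fun x y => ?_, fun b x => ?_, fun x y => ?_⟩
  · unfold tvn
    rw [map_add, LinearMap.add_apply, mul_add, add_smul]
    abel
  · unfold tvn
    rw [map_smul, LinearMap.smul_apply, smul_eq_mul, RingEquiv.refl_apply, smul_add, smul_smul]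
    congr 2
    ring
  · unfold tvn
    rw [RingEquiv.refl_apply, one_mul]
    simp only [map_add, LinearMap.add_apply, map_smul, LinearMap.smul_apply, smul_eq_mul, h.alt, mul_zero, add_zero]
    rw [h.symm u y]
    have h1 := h.add_self' (a * B y u * B x u)
    have e : B x y + a * B x u * B y u + a * B y u * B x u =
        B x y + (a * B y u * B x u + a * B y u * B x u) := by ring
    rw [e, h1, add_zero]

end Sy

namespace Sim

variable {B : E →ₗ[F] E →ₗ[F] F} {φ : F ≃+* F} {c : F} {A : E → E} (hA : Sim B φ c A)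

include hA

theorem zero : A 0 = 0 := by
  have h := hA.add 0 0
  rw [add_zero] at h
  exact left_eq_add.1 h

theorem sub (x y : E) : A (x - y) = A x - A y := by
  have h := hA.add (x - y) y
  rw [sub_add_cancel] at h
  rw [h, add_sub_cancel_right]

/-- fixing a nonzero 1-space pointwise: no field automorphism -/
theorem phi_eq {u : E} (hu : u ≠ 0) (hfix : ∀ a : F, A (a • u) = a • u) (a : F) : φ a = a := by
  have h1 := hA.smul a u
  have h2 := hfix 1
  rw [one_smul] at h2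
  rw [hfix a, h2] at h1
  exact (smul_left_injective F hu h1).symm

/-- **a similarity fixing `u^⊥` pointwise is a transvection** (`u^⊥ / F u ≠ 0`). -/
theorem eq_tvn (h : Sy B) {u : E} (hu : u ≠ 0) (hfix : ∀ x, B x u = 0 → A x = x) {w : E} (hw : B w u = 0)
    (hwu : ∀ a : F, w ≠ a • u) : ∃ l : F, ∀ x, A x = tvn B u l x := by
  have hφ : ∀ a, φ a = a := hA.phi_eq hu fun a => hfix _ (by
    rw [map_smul, LinearMap.smul_apply, h.alt, smul_zero])
  have hc : c = 1 := by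
    obtain ⟨y, hy, hyw⟩ := h.exists_perp hwu
    have h1 := hA.form y w
    rw [hfix y hy, hfix w hw, hφ] at h1
    have h2 : c * B y w = 1 * B y w := by rw [one_mul]; exact h1.symm
    exact mul_right_cancel₀ hyw h2
  obtain ⟨y1, hy1⟩ : ∃ y, B y u ≠ 0 := by
    by_contra hcon
    push Not at hcon
    exact hu (h.nd' u hcon)
  -- normalise
  obtain ⟨y0, hy0⟩ : ∃ y, B y u = 1 := ⟨(B y1 u)⁻¹ • y1, by
    rw [map_smul, LinearMap.smul_apply, smul_eq_mul, inv_mul_cancel₀ hy1]⟩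
  obtain ⟨l, hl⟩ : ∃ l : F, A y0 - y0 = l • u := by
    apply h.perp_perp
    intro y hy
    have h1 := hA.form y y0
    rw [hfix y hy, hφ, hc, one_mul] at h1
    rw [map_sub, h1, sub_self]
  refine ⟨l, fun x => ?_⟩
  have h1 : A (x - B x u • y0) = x - B x u • y0 := hfix _ (by
    rw [map_sub, LinearMap.sub_apply, map_smul, LinearMap.smul_apply, hy0, smul_eq_mul, mul_one, sub_self])
  have h2 : A y0 = y0 + l • u := by rw [← hl]; abel
  rw [hA.sub, hA.smul, hφ, h2] at h1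
  unfold tvn
  have h3 : A x = x - B x u • y0 + B x u • (y0 + l • u) := by rw [← h1]; abel
  rw [h3, smul_add, smul_smul, mul_comm (B x u) l]
  abel

end Sim

namespace Sy

variable {B : E →ₗ[F] E →ₗ[F] F} (h : Sy B)

/-- composition of transvections -/
def comp (B : E →ₗ[F] E →ₗ[F] F) (l : List (E × F)) (x : E) : E := l.foldr (fun p y => tvn B p.1 p.2 y) x

theorem comp_cons (p : E × F) (l : List (E × F)) (x : E) : comp B (p :: l) x = tvn B p.1 p.2 (comp B l x) := rfl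

include h

/-- **every linear isometry is a product of transvections.** -/
theorem exists_list [FiniteDimensional F E] {A : E → E} (hA : Sim B (RingEquiv.refl F) 1 A) :
    ∃ l : List (E × F), ∀ x, A x = comp B l x := by
  -- the fixed space
  let Fx : (A : E → E) → Sim B (RingEquiv.refl F) 1 A → Submodule F E := fun A hA =>
    { carrier := {x | A x = x}
      add_mem' := fun {x y} hx hy => by
        change A (x + y) = x + y
        rw [hA.add, hx, hy]
      zero_mem' := hA.zero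
      smul_mem' := fun a x hx => by
        change A (a • x) = a • x
        rw [hA.smul, hx, RingEquiv.refl_apply] }
  have main : ∀ n : ℕ, ∀ (A : E → E) (hA : Sim B (RingEquiv.refl F) 1 A),
      Module.finrank F E ≤ Module.finrank F (Fx A hA) + n → ∃ l : List (E × F), ∀ x, A x = comp B l x := by
    intro n
    induction n with
    | zero =>
      intro A hA hn
      have h1 : Fx A hA = ⊤ := by
        apply Submodule.eq_top_of_finrank_eq
        exact le_antisymm (Submodule.finrank_le _) (by simpa using hn)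
      refine ⟨[], fun x => ?_⟩
      have h2 : x ∈ Fx A hA := by rw [h1]; exact Submodule.mem_top
      exact h2
    | succ n ih =>
      intro A hA hn
      by_cases hid : ∀ x, A x = x
      · exact ⟨[], hid⟩
      push Not at hid
      obtain ⟨x, hx⟩ := hid
      -- it suffices to fix one more vector with transvections trivial on the fixed space
      have step : ∀ (A' : E → E) (hA' : Sim B (RingEquiv.refl F) 1 A'), (∀ w, A w = w → A' w = w) → A' x = x →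
          ∃ l : List (E × F), ∀ x, A' x = comp B l x := by
        intro A' hA' hle hx'
        refine ih A' hA' ?_
        have h1 : Fx A hA < Fx A' hA' := by
          refine lt_of_le_of_ne (fun w hw => hle w hw) fun he => hx ?_
          have h2 : x ∈ Fx A' hA' := hx'
          rw [← he] at h2
          exact h2
        have h2 := Submodule.finrank_lt_finrank_of_lt h1
        omega
      have hcomp : ∀ (u : E) (a : F) (A : E → E), Sim B (RingEquiv.refl F) 1 A →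
          Sim B (RingEquiv.refl F) 1 fun y => tvn B u a (A y) := by
        intro u a A hA
        have ht := h.tvn_sim u a
        refine ⟨fun x y => ?_, fun b x => ?_, fun x y => ?_⟩
        · rw [hA.add, ht.add]
        · rw [hA.smul, ht.smul]; rfl
        · rw [ht.form, hA.form]
          simp
      have hfx : ∀ w y, A w = w → B w (A y) = B w y := by
        intro w y hw
        have h1 := hA.form w y
        rw [hw] at h1
        simpa using h1
      -- one step: `B (A x) x ≠ 0`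
      by_cases hB : B (A x) x = 0
      · -- two steps
        obtain ⟨z, hz1, hz2, hz3⟩ : ∃ z, (∀ w, A w = w → B w z = 0) ∧ B x z ≠ 0 ∧ B (A x) z ≠ 0 := by
          -- `W = Fix A`, `x, A x ∉ W = W^⊥⊥`
          have hdd : ∀ y, (∀ z, (∀ w, A w = w → B w z = 0) → B y z = 0) → A y = y := by
            intro y hy
            -- double orthogonal
            have hnd : (B : LinearMap.BilinForm F E).Nondegenerate := by
              refine ⟨fun m hm => h.nd m hm, fun m hm => h.nd' m hm⟩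
            have hrefl : (B : LinearMap.BilinForm F E).IsRefl := fun a b hab => by
              rw [← h.symm]; exact hab
            have h1 := LinearMap.BilinForm.orthogonal_orthogonal hnd hrefl (Fx A hA)
            have h2 : y ∈ LinearMap.BilinForm.orthogonal (B : LinearMap.BilinForm F E)
                (LinearMap.BilinForm.orthogonal (B : LinearMap.BilinForm F E) (Fx A hA)) := by
              intro z hz
              have h3 : B y z = 0 := hy z fun w hw => hz w hw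
              change B z y = 0
              rw [← h.symm]; exact h3
            rw [h1] at h2
            exact h2
          have hxW : ¬ A x = x := hx
          have hAxW : ¬ A (A x) = A x := by
            intro h1
            apply hx
            have h2 : A (A x - x) = 0 := by rw [hA.sub, h1, sub_self]
            have h3 : A x - x = 0 := by
              apply h.nd
              intro y
              have h4 := hA.form (A x - x) y
              rw [h2, map_zero, LinearMap.zero_apply] at h4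
              simpa using h4.symm
            exact sub_eq_zero.1 h3
          have ha : ∃ z, (∀ w, A w = w → B w z = 0) ∧ B x z ≠ 0 := by
            by_contra hcon
            push Not at hcon
            exact hxW (hdd x hcon)
          have hb : ∃ z, (∀ w, A w = w → B w z = 0) ∧ B (A x) z ≠ 0 := by
            by_contra hcon
            push Not at hcon
            exact hAxW (hdd _ hcon)
          obtain ⟨a, ha1, ha2⟩ := ha
          obtain ⟨b, hb1, hb2⟩ := hb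
          by_cases h1 : B (A x) a = 0
          · by_cases h2 : B x b = 0
            · refine ⟨a + b, fun w hw => ?_, ?_, ?_⟩
              · rw [map_add, ha1 w hw, hb1 w hw, add_zero]
              · rw [map_add, h2, add_zero]; exact ha2
              · rw [map_add, h1, zero_add]; exact hb2
            · exact ⟨b, hb1, h2, hb2⟩
          · exact ⟨a, ha1, ha2, h1⟩
        -- `A x → x + z → x`
        have hAz : B (A x) (x + z) ≠ 0 := by rw [map_add, hB, zero_add]; exact hz3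
        have hzx : B (x + z) x ≠ 0 := by
          rw [map_add, LinearMap.add_apply, h.alt, zero_add, h.symm]; exact hz2
        have hA1 := hcomp (A x + (x + z)) (B (A x) (x + z))⁻¹ A hA
        have hA2 := hcomp (x + z + x) (B (x + z) x)⁻¹ _ hA1
        obtain ⟨l, hl⟩ := step _ hA2 (fun w hw => by
          have e1 : B w (A x + (x + z)) = 0 := by
            rw [map_add, map_add, hfx w x hw, hz1 w hw, add_zero, h.add_self']
          have e2 : B w (x + z + x) = 0 := by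
            rw [map_add, map_add, hz1 w hw, add_zero, h.add_self']
          change tvn B (x + z + x) _ (tvn B (A x + (x + z)) _ (A w)) = w
          rw [hw, tvn_of_perp _ e1, tvn_of_perp _ e2]) (by
          rw [h.tvn_move hAz, h.tvn_move hzx])
        refine ⟨(A x + (x + z), (B (A x) (x + z))⁻¹) :: (x + z + x, (B (x + z) x)⁻¹) :: l, fun y => ?_⟩
        rw [comp_cons, comp_cons, ← hl y, h.tvn_tvn, h.tvn_tvn]
      · have hA1 := hcomp (A x + x) (B (A x) x)⁻¹ A hA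
        obtain ⟨l, hl⟩ := step _ hA1 (fun w hw => by
          have e1 : B w (A x + x) = 0 := by
            rw [map_add, hfx w x hw, h.add_self']
          change tvn B (A x + x) _ (A w) = w
          rw [hw, tvn_of_perp _ e1]) (by
          rw [h.tvn_move hB])
        refine ⟨(A x + x, (B (A x) x)⁻¹) :: l, fun y => ?_⟩
        rw [comp_cons, ← hl y, h.tvn_tvn]
  exact main (Module.finrank F E) A hA (Nat.le_add_left _ _)

end Sy

end Cfsg.Agent.Omega.NO3S.EThree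

end

section


/-!
# NO-3S, case (E), TEXT R3 #16982 (4): a symplectic module with radical

`M : SpR F E r B H N Z` : `H` acts on the abelian group `N` with radical `Z ≤ N`; `N / Z = E^r`, `H` permutes the `r`
coordinates and acts by semilinear similarities of `(E, B)`; the transvections of each coordinate are induced by
elements of `H` centralising `Z`.

* `At M j y v` : `v` has the coordinate `y` at `j` and `0` elsewhere; `On M j A g` : `g` acts as `A` on the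
  coordinate `j` and trivially on the others;
* `Side M Zp Vp Bp j₀ u₀ w₀` : the point `Zp` (`F u₀` at `j₀`), the line `Vp` (`F u₀ + F w₀`), the abelian group
  `Bp ≥ Vp` normalised by `N` and by `D = H ∩ N(Zp)`;
* `Side.key` : a subgroup of `N` normalised by `D` which is not inside `Zp Z` (at `j₀`) covers `u₀^⊥`;
* `Side.other` : `Bp` acts trivially on the coordinates `j ≠ j₀`;
* `Side.tv` : `Bp` acts on the coordinate `j₀` by transvections with centre `u₀`;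
* `Side.full` : if `K ≤ Bp` is normalised by `D` and does not centralise `N` then it induces all of them;
* `Side.all` : and `⟨K^H⟩` induces all transvections of all coordinates.
-/

set_option autoImplicit false
set_option linter.unusedSectionVars false

namespace Cfsg.Agent.Omega.NO3S.EThree

open Subgroup

variable {G : Type*} [Group G]

/-- `H` acts on `N` with radical `Z` as a wreathed symplectic group. -/
structure SpR (F E : Type*) [Field F] [AddCommGroup E] [Module F E] (r : ℕ) (B : E →ₗ[F] E →ₗ[F] F)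
    (H N Z : Subgroup G) where
  e : G → Fin r → E
  mul : ∀ v ∈ N, ∀ w ∈ N, e (v * w) = e v + e w
  surj : ∀ x : Fin r → E, ∃ v ∈ N, e v = x
  ker : ∀ v ∈ N, e v = 0 ↔ v ∈ Z
  nor : ∀ h ∈ H, ∀ v ∈ N, h * v * h⁻¹ ∈ N
  act : ∀ h ∈ H, ∃ σ : Equiv.Perm (Fin r), ∀ j, ∃ (φ : F ≃+* F) (c : F) (A : E → E), Sim B φ c A ∧
    ∀ v ∈ N, e (h * v * h⁻¹) (σ j) = A (e v j)
  lift : ∀ j u a, ∃ g ∈ H, (∀ z ∈ Z, g * z = z * g) ∧
    ∀ v ∈ N, e (g * v * g⁻¹) j = tvn B u a (e v j) ∧ ∀ k, k ≠ j → e (g * v * g⁻¹) k = e v k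
  tr : ∀ j j', ∃ h ∈ H, ∀ v ∈ N, e (h * v * h⁻¹) j' = 0 ↔ e v j = 0

variable {F E : Type*} [Field F] [AddCommGroup E] [Module F E] {r : ℕ} {B : E →ₗ[F] E →ₗ[F] F} {H N Z : Subgroup G}

/-- `v` has the coordinate `y` at `j` and `0` elsewhere -/
def At (M : SpR F E r B H N Z) (j : Fin r) (y : E) (v : G) : Prop := M.e v j = y ∧ ∀ k, k ≠ j → M.e v k = 0

/-- `g` acts as `A` on the coordinate `j` and trivially on the others -/
def On (M : SpR F E r B H N Z) (j : Fin r) (A : E → E) (g : G) : Prop :=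
  ∀ v ∈ N, M.e (g * v * g⁻¹) j = A (M.e v j) ∧ ∀ k, k ≠ j → M.e (g * v * g⁻¹) k = M.e v k

namespace SpR

variable (M : SpR F E r B H N Z)

theorem e_one : M.e 1 = 0 := by
  have h := M.mul 1 (one_mem N) 1 (one_mem N)
  rw [mul_one] at h
  exact left_eq_add.1 h

theorem e_inv {v : G} (hv : v ∈ N) : M.e v⁻¹ = -M.e v := by
  have h := M.mul v hv v⁻¹ (inv_mem hv)
  rw [mul_inv_cancel, M.e_one] at h
  exact (neg_eq_of_add_eq_zero_right h.symm).symm

theorem e_div {v w : G} (hv : v ∈ N) (hw : w ∈ N) : M.e (v * w⁻¹) = M.e v - M.e w := by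
  rw [M.mul v hv _ (inv_mem hw), M.e_inv hw, sub_eq_add_neg]

/-- equal coordinates: equal modulo `Z` -/
theorem div_mem {v w : G} (hv : v ∈ N) (hw : w ∈ N) (h : M.e v = M.e w) : v * w⁻¹ ∈ Z := by
  rw [← M.ker _ (mul_mem hv (inv_mem hw)), M.e_div hv hw, h, sub_self]

theorem at_iff {j : Fin r} {y : E} {v : G} : At M j y v ↔ M.e v = Pi.single j y := by
  constructor
  · rintro ⟨h1, h2⟩
    funext k
    by_cases hk : k = j
    · subst hk; rw [Pi.single_eq_same]; exact h1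
    · rw [Pi.single_eq_of_ne hk]; exact h2 k hk
  · intro h
    refine ⟨?_, fun k hk => ?_⟩
    · rw [h, Pi.single_eq_same]
    · rw [h, Pi.single_eq_of_ne hk]

theorem exists_at (j : Fin r) (y : E) : ∃ v ∈ N, At M j y v := by
  obtain ⟨v, hv, h⟩ := M.surj (Pi.single j y)
  exact ⟨v, hv, M.at_iff.2 h⟩

theorem At.eq {j : Fin r} {y : E} {v w : G} {M : SpR F E r B H N Z} (h : At M j y v) (h' : At M j y w) :
    M.e v = M.e w := by
  rw [M.at_iff.1 h, M.at_iff.1 h']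

/-! ### The maps induced by an element of `H` -/

theorem act_surj {h : G} (hh : h ∈ H) {σ : Equiv.Perm (Fin r)} {j : Fin r} {A : E → E}
    (hA : ∀ v ∈ N, M.e (h * v * h⁻¹) (σ j) = A (M.e v j)) (y : E) : ∃ x, A x = y := by
  obtain ⟨v, hv, hy, -⟩ := M.exists_at (σ j) y
  have h1 : h⁻¹ * v * h ∈ N := by
    have := M.nor h⁻¹ (inv_mem hh) v hv
    rwa [inv_inv] at this
  refine ⟨M.e (h⁻¹ * v * h) j, ?_⟩
  rw [← hA _ h1]
  have e : h * (h⁻¹ * v * h) * h⁻¹ = v := by group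
  rw [e, hy]

theorem c_ne (hB : Sy B) {u : E} (hu : u ≠ 0) {φ : F ≃+* F} {c : F} {A : E → E} (hA : Sim B φ c A)
    (hs : ∀ y, ∃ x, A x = y) : c ≠ 0 := by
  intro hc
  apply hu
  apply hB.nd
  intro y
  obtain ⟨x, hx⟩ := hs u
  obtain ⟨x', hx'⟩ := hs y
  rw [← hx, ← hx', hA.form, hc, zero_mul]

theorem inj_of (hB : Sy B) {φ : F ≃+* F} {c : F} {A : E → E} (hA : Sim B φ c A) (hs : ∀ y, ∃ x, A x = y) {x : E}
    (hx : A x = 0) : x = 0 := by
  by_contra hx0
  have hc := c_ne hB hx0 hA hs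
  apply hx0
  apply hB.nd
  intro y
  have h1 := hA.form x y
  rw [hx, map_zero, LinearMap.zero_apply] at h1
  have h2 : φ (B x y) = 0 := (mul_eq_zero.1 h1.symm).resolve_left hc
  exact (map_eq_zero φ).1 h2

/-- an element fixing the coordinate `j` of some vector concentrated in `j` fixes the coordinate `j` -/
theorem perm_eq {h : G} {σ : Equiv.Perm (Fin r)}
    (hσ : ∀ j, ∃ (φ : F ≃+* F) (c : F) (A : E → E), Sim B φ c A ∧ ∀ v ∈ N, M.e (h * v * h⁻¹) (σ j) = A (M.e v j))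
    {j j' : Fin r} {y : E} {v : G} (hv : v ∈ N) (hy : At M j y v) (hne : M.e (h * v * h⁻¹) j' ≠ 0) : σ j = j' := by
  by_contra hcon
  obtain ⟨k, hk⟩ : ∃ k, σ k = j' := ⟨σ.symm j', σ.apply_symm_apply j'⟩
  have hkj : k ≠ j := fun h1 => hcon (h1 ▸ hk)
  obtain ⟨φ, c, A, hA, hAe⟩ := hσ k
  apply hne
  rw [← hk, hAe v hv, hy.2 k hkj, hA.zero]

/-! ### Elements acting on one coordinate -/

theorem On.one (j : Fin r) : On M j id 1 := by
  intro v hv
  rw [one_mul, inv_one, mul_one]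
  exact ⟨rfl, fun _ _ => rfl⟩

variable {M}

theorem On.mul {j : Fin r} {A A' : E → E} {g g' : G} (hg' : g' ∈ H) (h : On M j A g) (h' : On M j A' g') :
    On M j (fun x => A (A' x)) (g * g') := by
  intro v hv
  have e : g * g' * v * (g * g')⁻¹ = g * (g' * v * g'⁻¹) * g⁻¹ := by group
  have h1 := h _ (M.nor g' hg' v hv)
  have h2 := h' v hv
  rw [e]
  exact ⟨by rw [h1.1, h2.1], fun k hk => by rw [h1.2 k hk, h2.2 k hk]⟩

theorem On.at {j : Fin r} {A : E → E} {g : G} (h : On M j A g) {v : G} (hv : v ∈ N) {y : E} (hy : At M j y v) :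
    At M j (A y) (g * v * g⁻¹) := by
  refine ⟨?_, fun k hk => ?_⟩
  · rw [(h v hv).1, hy.1]
  · rw [(h v hv).2 k hk, hy.2 k hk]

/-- conjugating a transvection by an element of `H` -/
theorem On.conj {h : G} (hh : h ∈ H) {σ : Equiv.Perm (Fin r)}
    (hσ : ∀ j, ∃ (φ : F ≃+* F) (c : F) (A : E → E), Sim B φ c A ∧ ∀ v ∈ N, M.e (h * v * h⁻¹) (σ j) = A (M.e v j))
    {j : Fin r} {φ : F ≃+* F} {c : F} {A : E → E} (hA : Sim B φ c A)
    (hAe : ∀ v ∈ N, M.e (h * v * h⁻¹) (σ j) = A (M.e v j)) {u : E} (hc : c ≠ 0) {a : F} {g : G} (hgH : g ∈ H)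
    (hg : On M j (tvn B u a) g) : On M (σ j) (tvn B (A u) (φ a * c⁻¹)) (h * g * h⁻¹) := by
  intro v hv
  have h1 : h⁻¹ * v * h ∈ N := by
    have := M.nor h⁻¹ (inv_mem hh) v hv
    rwa [inv_inv] at this
  have h2 := M.nor g hgH _ h1
  have e1 : h * g * h⁻¹ * v * (h * g * h⁻¹)⁻¹ = h * (g * (h⁻¹ * v * h) * g⁻¹) * h⁻¹ := by group
  have e2 : h * (h⁻¹ * v * h) * h⁻¹ = v := by group
  have h3 := hg _ h1
  refine ⟨?_, fun k hk => ?_⟩
  · rw [e1, hAe _ h2, h3.1]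
    have h4 := hAe _ h1
    rw [e2] at h4
    unfold tvn
    rw [hA.add, hA.smul, ← h4, map_mul]
    congr 2
    rw [h4, hA.form]
    field_simp
  · obtain ⟨k', hk'⟩ : ∃ k', σ k' = k := ⟨σ.symm k, σ.apply_symm_apply k⟩
    have hne : k' ≠ j := fun h5 => hk (by rw [← hk', h5])
    obtain ⟨φ', c', A', -, hA'⟩ := hσ k'
    rw [e1, ← hk', hA' _ h2, h3.2 k' hne, ← hA' _ h1, e2]

end SpR

/-- The point `Zp`, the line `Vp` and the abelian group `Bp`. -/
structure Side (M : SpR F E r B H N Z) (Zp Vp Bp : Subgroup G) (j₀ : Fin r) (u₀ w₀ : E) : Prop where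
  hB : Sy B
  HZ : H ≤ normalizer (Z : Set G)
  ZN : Z ≤ N
  ZV : Zp ≤ Vp
  VN : Vp ≤ N
  VB : Vp ≤ Bp
  NN : ∀ x ∈ N, ∀ y ∈ N, x * y = y * x
  BB : ∀ x ∈ Bp, ∀ y ∈ Bp, x * y = y * x
  NB : N ≤ normalizer (Bp : Set G)
  DB : H ⊓ normalizer (Zp : Set G) ≤ normalizer (Bp : Set G)
  BH : Bp ≤ H
  BZ : ∀ b ∈ Bp, ∀ z ∈ Z, b * z = z * b
  f4 : ∀ x ∈ Z, ∀ z ∈ Zp, x ≠ 1 → z ≠ 1 → ∀ g : G, g * (x * z) * g⁻¹ ∉ Zp
  ZZ : ∀ x ∈ Z, x ∈ Zp → x = 1
  red : ∀ g ∈ H, (∀ z ∈ Z, g * z = z * g) → (∀ v ∈ N, g * v * g⁻¹ * v⁻¹ ∈ Z) → ∀ v ∈ N, g * v = v * g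
  hu : u₀ ≠ 0
  hw : ∀ a : F, w₀ ≠ a • u₀
  hwu : B w₀ u₀ = 0
  pt : ∀ x ∈ Zp, ∃ a : F, At M j₀ (a • u₀) x
  pt' : ∀ a : F, ∃ x ∈ Zp, At M j₀ (a • u₀) x
  ln : ∀ x ∈ Vp, ∃ a b : F, At M j₀ (a • u₀ + b • w₀) x
  ln' : ∀ a b : F, ∃ x ∈ Vp, At M j₀ (a • u₀ + b • w₀) x

namespace Side

variable [Finite G] {M : SpR F E r B H N Z} {Zp Vp Bp : Subgroup G} {j₀ : Fin r} {u₀ w₀ : E}
  (D : Side M Zp Vp Bp j₀ u₀ w₀)

include D

theorem conj_eq {g z z' : G} (hg : g ∈ H) (hz : z ∈ Zp) (hz' : z' ∈ Zp) (h : M.e (g * z * g⁻¹) = M.e z') :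
    g * z * g⁻¹ = z' := by
  have hzN : z ∈ N := D.VN (D.ZV hz)
  have hz'N : z' ∈ N := D.VN (D.ZV hz')
  have h1 : g * z * g⁻¹ * z'⁻¹ ∈ Z := M.div_mem (M.nor g hg z hzN) hz'N h
  by_cases hz1 : z' = 1
  · rw [hz1, inv_one, mul_one] at h1
    have h2 : z ∈ Z := (mem_normalizer_iff.1 (D.HZ hg) z).2 h1
    have h3 := D.ZZ z h2 hz
    rw [h3, hz1]; group
  by_contra hne
  have h2 : g * z * g⁻¹ * z'⁻¹ ≠ 1 := fun h3 => hne (mul_inv_eq_one.1 h3)
  apply D.f4 _ h1 z' hz' h2 hz1 g⁻¹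
  have e : g⁻¹ * (g * z * g⁻¹ * z'⁻¹ * z') * g⁻¹⁻¹ = z := by group
  rw [e]
  exact hz

/-- an element of `H` preserving `F u₀` at `j₀` normalises `Zp` -/
theorem mem_norm {g : G} (hg : g ∈ H) (h : ∀ z ∈ Zp, ∃ b : F, At M j₀ (b • u₀) (g * z * g⁻¹)) :
    g ∈ H ⊓ normalizer (Zp : Set G) := by
  refine ⟨hg, ?_⟩
  have h1 : ∀ z ∈ Zp, g * z * g⁻¹ ∈ Zp := by
    intro z hz
    obtain ⟨b, hb⟩ := h z hz
    obtain ⟨z', hz', hz''⟩ := D.pt' b
    rw [D.conj_eq hg hz hz' (SpR.At.eq hb hz'')]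
    exact hz'
  exact mem_normalizer_fintype h1

/-- the lifts of transvections of the coordinate `j` are in `D` when `j ≠ j₀` or the centre is in `u₀^⊥` -/
theorem lift_mem {g : G} (hg : g ∈ H) {j : Fin r} {u : E} {a : F} (h : On M j (tvn B u a) g)
    (hju : j ≠ j₀ ∨ B u₀ u = 0) : g ∈ H ⊓ normalizer (Zp : Set G) := by
  refine D.mem_norm hg fun z hz => ?_
  obtain ⟨b, hb⟩ := D.pt z hz
  refine ⟨b, ?_⟩
  have h1 := h z (D.VN (D.ZV hz))
  by_cases hj : j = j₀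
  · have h2 := hju.resolve_left fun h3 => h3 hj
    subst hj
    have h3 := SpR.On.at h (D.VN (D.ZV hz)) hb
    rwa [Sy.tvn_of_perp _ (by rw [map_smul, LinearMap.smul_apply, h2, smul_zero])] at h3
  · refine ⟨?_, fun k hk => ?_⟩
    · rw [h1.2 j₀ (fun h3 => hj h3.symm), hb.1]
    · by_cases hkj : k = j
      · rw [hkj, h1.1, hb.2 j (hkj ▸ hk)]
        unfold tvn
        simp
      · rw [h1.2 k hkj, hb.2 k hk]

theorem exists_lift (j : Fin r) (u : E) (a : F) : ∃ g ∈ H, (∀ z ∈ Z, g * z = z * g) ∧ On M j (tvn B u a) g := by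
  obtain ⟨g, hg, h1, h2⟩ := M.lift j u a
  exact ⟨g, hg, h1, h2⟩

/-- an element of `D` fixes the coordinate `j₀` -/
theorem perm_fix {d : G} (hd : d ∈ H ⊓ normalizer (Zp : Set G)) {σ : Equiv.Perm (Fin r)}
    (hσ : ∀ j, ∃ (φ : F ≃+* F) (c : F) (A : E → E), Sim B φ c A ∧ ∀ v ∈ N, M.e (d * v * d⁻¹) (σ j) = A (M.e v j)) :
    σ j₀ = j₀ := by
  obtain ⟨z, hz, hz1⟩ := D.pt' 1
  rw [one_smul] at hz1
  have h1 : d * z * d⁻¹ ∈ Zp := (mem_normalizer_iff.1 hd.2 z).1 hz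
  obtain ⟨a, ha⟩ := D.pt _ h1
  refine SpR.perm_eq M hσ (D.VN (D.ZV hz)) hz1 ?_
  rw [ha.1]
  intro h2
  -- `d z d⁻¹ ∈ Z`, so `z ∈ Z`
  have h3 : M.e (d * z * d⁻¹) = 0 := by
    rw [M.at_iff.1 ha, h2, Pi.single_zero]
  have h4 := (M.ker _ (D.VN (D.ZV h1))).1 h3
  have h5 := D.ZZ _ h4 h1
  have h6 : z = 1 := conj_eq_one_iff.1 h5
  apply D.hu
  have h7 := hz1.1
  rw [h6, M.e_one] at h7
  exact h7.symm

/-- an element of `D` maps vectors concentrated in `j₀` to such vectors -/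
theorem exists_act {d : G} (hd : d ∈ H ⊓ normalizer (Zp : Set G)) : ∃ (φ : F ≃+* F) (c : F) (A : E → E),
    Sim B φ c A ∧ (∃ b : F, A u₀ = b • u₀) ∧ (∀ y, ∃ x, A x = y) ∧ c ≠ 0 ∧
      ∀ v ∈ N, ∀ y, At M j₀ y v → At M j₀ (A y) (d * v * d⁻¹) := by
  obtain ⟨σ, hσ⟩ := M.act d hd.1
  have h0 := D.perm_fix hd hσ
  obtain ⟨φ, c, A, hA, hAe⟩ := hσ j₀
  rw [h0] at hAe
  have hs : ∀ y, ∃ x, A x = y := fun y => M.act_surj hd.1 (σ := 1) (j := j₀) hAe y
  have hat : ∀ v ∈ N, ∀ y, At M j₀ y v → At M j₀ (A y) (d * v * d⁻¹) := by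
    intro v hv y hy
    refine ⟨by rw [hAe v hv, hy.1], fun k hk => ?_⟩
    obtain ⟨k', hk'⟩ : ∃ k', σ k' = k := ⟨σ.symm k, σ.apply_symm_apply k⟩
    have hne : k' ≠ j₀ := fun h1 => hk (by rw [← hk', h1, h0])
    obtain ⟨φ', c', A', hA', hAe'⟩ := hσ k'
    rw [← hk', hAe' v hv, hy.2 k' hne, hA'.zero]
  refine ⟨φ, c, A, hA, ?_, hs, SpR.c_ne D.hB D.hu hA hs, hat⟩
  obtain ⟨z, hz, hz1⟩ := D.pt' 1
  rw [one_smul] at hz1
  obtain ⟨b, hb⟩ := D.pt _ ((mem_normalizer_iff.1 hd.2 z).1 hz)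
  exact ⟨b, by rw [← (hat z (D.VN (D.ZV hz)) _ hz1).1, hb.1]⟩

/-- **(KEY)** a subgroup `K ≤ N` normalised by `D`, with an element whose coordinate at `j₀` is not in `F u₀`,
covers `u₀^⊥`. -/
theorem key {K : Subgroup G} (hKN : K ≤ N) (hDK : H ⊓ normalizer (Zp : Set G) ≤ normalizer (K : Set G)) {x : G}
    (hx : x ∈ K) (hxu : ∀ a : F, M.e x j₀ ≠ a • u₀) {y : E} (hy : B y u₀ = 0) : ∃ v ∈ K, At M j₀ y v := by
  have hB := D.hB
  -- the subgroup of `E` covered by `K`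
  let S : AddSubgroup E :=
    { carrier := {y | ∃ v ∈ K, At M j₀ y v}
      add_mem' := by
        rintro a b ⟨v, hv, hva⟩ ⟨w, hw, hwb⟩
        refine ⟨v * w, mul_mem hv hw, ?_, fun k hk => ?_⟩
        · rw [M.mul v (hKN hv) w (hKN hw), Pi.add_apply, hva.1, hwb.1]
        · rw [M.mul v (hKN hv) w (hKN hw), Pi.add_apply, hva.2 k hk, hwb.2 k hk, add_zero]
      zero_mem' := ⟨1, one_mem K, by rw [M.e_one]; rfl, fun k _ => by rw [M.e_one]; rfl⟩
      neg_mem' := by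
        rintro a ⟨v, hv, hva⟩
        refine ⟨v⁻¹, inv_mem hv, ?_, fun k hk => ?_⟩
        · rw [M.e_inv (hKN hv), Pi.neg_apply, hva.1]
        · rw [M.e_inv (hKN hv), Pi.neg_apply, hva.2 k hk, neg_zero] }
  have hcom : ∀ v ∈ K, ∀ w, B w u₀ = 0 → ∀ a : F, (a * B (M.e v j₀) w) • w ∈ S := by
    intro v hv w hw a
    obtain ⟨g, hg, -, hon⟩ := D.exists_lift j₀ w a
    have hgD := D.lift_mem hg hon (Or.inr (by rw [hB.symm]; exact hw))
    have h1 : g * v * g⁻¹ ∈ K := (mem_normalizer_iff.1 (hDK hgD) v).1 hv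
    have h2 := hon v (hKN hv)
    refine ⟨g * v * g⁻¹ * v⁻¹, mul_mem h1 (inv_mem hv), ?_, fun k hk => ?_⟩
    · rw [M.e_div (hKN h1) (hKN hv), Pi.sub_apply, h2.1]
      unfold tvn
      rw [add_sub_cancel_left]
    · rw [M.e_div (hKN h1) (hKN hv), Pi.sub_apply, h2.2 k hk, sub_self]
  have hS : ∀ x ∈ S, ∀ w, B w u₀ = 0 → ∀ a : F, (a * B x w) • w ∈ S := by
    rintro x ⟨v, hv, hvx⟩ w hw a
    have := hcom v hv w hw a
    rwa [hvx.1] at this
  -- an element of `S` outside `F u₀`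
  obtain ⟨w, hw, hwx, hwF⟩ : ∃ w, B w u₀ = 0 ∧ B (M.e x j₀) w ≠ 0 ∧ ∀ a : F, w ≠ a • u₀ := by
    by_cases h1 : B (M.e x j₀) u₀ = 0
    · obtain ⟨w, hw, hwx⟩ := hB.exists_perp hxu
      refine ⟨w, hw, by rw [hB.symm]; exact hwx, fun a ha => hwx ?_⟩
      rw [ha, map_smul, LinearMap.smul_apply, hB.symm, h1, smul_zero]
    · by_cases h2 : B (M.e x j₀) w₀ = 0
      · refine ⟨w₀ + u₀, ?_, ?_, fun a ha => D.hw (a - 1) ?_⟩
        · rw [map_add, LinearMap.add_apply, D.hwu, hB.alt, add_zero]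
        · rw [map_add, h2, zero_add]; exact h1
        · rw [sub_smul, one_smul, ← ha, add_sub_cancel_right]
      · exact ⟨w₀, D.hwu, h2, D.hw⟩
  have hwS : w ∈ S := by
    have h1 := hcom x hx w hw (B (M.e x j₀) w)⁻¹
    rwa [inv_mul_cancel₀ hwx, one_smul] at h1
  exact hB.perp_le hS hwS hwF hy

/-- **`Bp` acts trivially on the coordinates `≠ j₀`.** -/
theorem other {g : G} (hg : g ∈ Bp) {j : Fin r} (hj : j ≠ j₀) {v : G} (hv : v ∈ N) :
    M.e (g * v * g⁻¹) j = M.e v j := by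
  have hB := D.hB
  by_contra hne
  -- `i = [g, v] ∈ N ∩ Bp`
  have hgv : g * v * g⁻¹ ∈ N := M.nor g (D.BH hg) v hv
  have hiN : g * v * g⁻¹ * v⁻¹ ∈ N := mul_mem hgv (inv_mem hv)
  have hiB : g * v * g⁻¹ * v⁻¹ ∈ Bp := by
    have h1 := (mem_normalizer_iff.1 (D.NB hv) g⁻¹).1 (inv_mem hg)
    have e : g * v * g⁻¹ * v⁻¹ = g * (v * g⁻¹ * v⁻¹) := by group
    rw [e]
    exact mul_mem hg h1
  have hx0 : M.e (g * v * g⁻¹ * v⁻¹) j ≠ 0 := by
    rw [M.e_div hgv hv, Pi.sub_apply]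
    exact sub_ne_zero.2 hne
  -- `N ∩ Bp` covers the coordinate `j`
  let S : AddSubgroup E :=
    { carrier := {y | ∃ v ∈ N ⊓ Bp, At M j y v}
      add_mem' := by
        rintro a b ⟨v, hv, hva⟩ ⟨w, hw, hwb⟩
        refine ⟨v * w, mul_mem hv hw, ?_, fun k hk => ?_⟩
        · rw [M.mul v hv.1 w hw.1, Pi.add_apply, hva.1, hwb.1]
        · rw [M.mul v hv.1 w hw.1, Pi.add_apply, hva.2 k hk, hwb.2 k hk, add_zero]
      zero_mem' := ⟨1, one_mem _, by rw [M.e_one]; rfl, fun k _ => by rw [M.e_one]; rfl⟩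
      neg_mem' := by
        rintro a ⟨v, hv, hva⟩
        refine ⟨v⁻¹, inv_mem hv, ?_, fun k hk => ?_⟩
        · rw [M.e_inv hv.1, Pi.neg_apply, hva.1]
        · rw [M.e_inv hv.1, Pi.neg_apply, hva.2 k hk, neg_zero] }
  have hcom : ∀ v ∈ N ⊓ Bp, ∀ (w : E) (a : F), (a * B (M.e v j) w) • w ∈ S := by
    intro v hv0 w a
    have hvN : v ∈ N := hv0.1
    have hvB : v ∈ Bp := hv0.2
    obtain ⟨d, hd, -, hon⟩ := D.exists_lift j w a
    have hdD := D.lift_mem hd hon (Or.inl hj)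
    have h1 : d * v * d⁻¹ ∈ N := M.nor d hd v hvN
    have h1' : d * v * d⁻¹ ∈ Bp := (mem_normalizer_iff.1 (D.DB hdD) v).1 hvB
    have h2 := hon v hvN
    refine ⟨d * v * d⁻¹ * v⁻¹, mem_inf.2 ⟨mul_mem h1 (inv_mem hvN), mul_mem h1' (inv_mem hvB)⟩, ?_,
      fun k hk => ?_⟩
    · rw [M.e_div h1 hvN, Pi.sub_apply, h2.1]
      unfold tvn
      rw [add_sub_cancel_left]
    · rw [M.e_div h1 hvN, Pi.sub_apply, h2.2 k hk, sub_self]
  have hS : ∀ x ∈ S, ∀ w, B w 0 = 0 → ∀ a : F, (a * B x w) • w ∈ S := by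
    rintro x ⟨v, hv, hvx⟩ w - a
    have := hcom v hv w a
    rwa [hvx.1] at this
  have hall : ∀ y : E, y ∈ S := by
    obtain ⟨w, -, hwx⟩ := hB.exists_perp (u := 0) (x := M.e (g * v * g⁻¹ * v⁻¹) j) (fun a ha => hx0 (by
      rw [ha, smul_zero]))
    have hwx' : B (M.e (g * v * g⁻¹ * v⁻¹) j) w ≠ 0 := by rw [hB.symm]; exact hwx
    have hwS : w ∈ S := by
      have h1 := hcom _ ⟨hiN, hiB⟩ w (B (M.e (g * v * g⁻¹ * v⁻¹) j) w)⁻¹
      rwa [inv_mul_cancel₀ hwx', one_smul] at h1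
    intro y
    refine hB.perp_le hS hwS (fun a ha => hwx ?_) (map_zero _)
    rw [ha, smul_zero, map_zero, LinearMap.zero_apply]
  -- so `g` centralises all vectors concentrated in `j`
  have hfix : ∀ (y : E), ∀ w ∈ N, At M j y w → g * w * g⁻¹ = w := by
    intro y w hw hwy
    obtain ⟨x, ⟨hxN, hxB⟩, hxy⟩ := hall y
    have h1 : w * x⁻¹ ∈ Z := M.div_mem hw hxN (SpR.At.eq hwy hxy)
    have h2 := D.BZ g hg _ h1
    have h3 := D.BB g hg x hxB
    have e : g * w * g⁻¹ = g * (w * x⁻¹) * x * g⁻¹ := by group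
    rw [e, h2]
    calc w * x⁻¹ * g * x * g⁻¹ = w * x⁻¹ * (g * x) * g⁻¹ := by group
      _ = w := by rw [h3]; group
  -- contradiction with the action of `g`
  obtain ⟨σ, hσ⟩ := M.act g (D.BH hg)
  obtain ⟨φ, c, A, hA, hAe⟩ := hσ j
  have hσj : σ j = j := by
    obtain ⟨w, hw, hwx⟩ := M.exists_at j (M.e (g * v * g⁻¹ * v⁻¹) j)
    refine M.perm_eq hσ hw hwx ?_
    rw [hfix _ w hw hwx, hwx.1]
    exact hx0
  rw [hσj] at hAe
  apply hne
  obtain ⟨w, hw, hwy⟩ := M.exists_at j (M.e v j)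
  rw [hAe v hv, ← hwy.1, ← hAe w hw, hfix _ w hw hwy, hwy.1]

/-- **`Bp` acts on the coordinate `j₀` by transvections with centre `u₀`.** -/
theorem tv {g : G} (hg : g ∈ Bp) : ∃ l : F, On M j₀ (tvn B u₀ l) g := by
  have hB := D.hB
  -- `N ∩ Bp` covers `u₀^⊥`
  have hcov : ∀ y, B y u₀ = 0 → ∃ v ∈ N ⊓ Bp, At M j₀ y v := by
    intro y hy
    obtain ⟨x, hx, hx1⟩ := D.ln' 0 1
    rw [zero_smul, zero_add, one_smul] at hx1
    refine D.key (K := N ⊓ Bp) inf_le_left ?_ (x := x) ⟨D.VN hx, D.VB hx⟩ ?_ hy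
    · intro d hd
      have h1 := D.DB hd
      have key : ∀ d ∈ H ⊓ normalizer (Zp : Set G), ∀ x ∈ N ⊓ Bp, d * x * d⁻¹ ∈ N ⊓ Bp := fun d hd x hx =>
        ⟨M.nor d hd.1 x hx.1, (mem_normalizer_iff.1 (D.DB hd) x).1 hx.2⟩
      rw [mem_normalizer_iff]
      intro x
      refine ⟨key d hd x, fun hx => ?_⟩
      have h2 := key d⁻¹ (inv_mem hd) _ hx
      have e : d⁻¹ * (d * x * d⁻¹) * d⁻¹⁻¹ = x := by group
      rwa [e] at h2
    · intro a ha
      rw [hx1.1] at ha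
      exact D.hw a ha
  have hfix : ∀ y, B y u₀ = 0 → ∀ w ∈ N, At M j₀ y w → g * w * g⁻¹ = w := by
    intro y hy w hw hwy
    obtain ⟨x, ⟨hxN, hxB⟩, hxy⟩ := hcov y hy
    have h1 : w * x⁻¹ ∈ Z := M.div_mem hw hxN (SpR.At.eq hwy hxy)
    have h2 := D.BZ g hg _ h1
    have h3 := D.BB g hg x hxB
    have e : g * w * g⁻¹ = g * (w * x⁻¹) * x * g⁻¹ := by group
    rw [e, h2]
    calc w * x⁻¹ * g * x * g⁻¹ = w * x⁻¹ * (g * x) * g⁻¹ := by group
      _ = w := by rw [h3]; group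
  obtain ⟨σ, hσ⟩ := M.act g (D.BH hg)
  have hσj : σ j₀ = j₀ := by
    obtain ⟨w, hw, hwx⟩ := M.exists_at j₀ u₀
    refine M.perm_eq hσ hw hwx ?_
    rw [hfix _ (hB.alt _) w hw hwx, hwx.1]
    exact D.hu
  obtain ⟨φ, c, A, hA, hAe⟩ := hσ j₀
  rw [hσj] at hAe
  obtain ⟨l, hl⟩ := hA.eq_tvn hB D.hu (fun x hx => by
    obtain ⟨w, hw, hwx⟩ := M.exists_at j₀ x
    rw [← hwx.1, ← hAe w hw, hfix x hx w hw hwx]) D.hwu D.hw
  exact ⟨l, fun v hv => ⟨by rw [hAe v hv, hl], fun k hk => D.other hg hk hv⟩⟩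

/-- `[g, v] ∈ Zp Z` for `g ∈ Bp` -/
theorem comm_mem {g v : G} (hg : g ∈ Bp) (hv : v ∈ N) : ∃ z ∈ Zp, ∃ z' ∈ Z, g * v * g⁻¹ * v⁻¹ = z' * z := by
  obtain ⟨l, hl⟩ := D.tv hg
  have h1 := hl v hv
  have hgv : g * v * g⁻¹ ∈ N := M.nor g (D.BH hg) v hv
  obtain ⟨z, hz, hz1⟩ := D.pt' (l * B (M.e v j₀) u₀)
  have h2 : M.e (g * v * g⁻¹ * v⁻¹) = M.e z := by
    rw [M.e_div hgv hv, M.at_iff.1 hz1]
    funext k
    by_cases hk : k = j₀
    · subst hk
      rw [Pi.sub_apply, h1.1, Pi.single_eq_same]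
      unfold tvn
      rw [add_sub_cancel_left]
    · rw [Pi.sub_apply, h1.2 k hk, sub_self, Pi.single_eq_of_ne hk]
  exact ⟨z, hz, _, M.div_mem (mul_mem hgv (inv_mem hv)) (D.VN (D.ZV hz)) h2, by group⟩

/-- `K ≤ Bp` normalised by `D` and not centralising `N` induces all transvections with centre `u₀` -/
theorem full [Finite F] {K : Subgroup G} (hKB : K ≤ Bp) (hDK : H ⊓ normalizer (Zp : Set G) ≤ normalizer (K : Set G))
    (hne : ∃ g ∈ K, ∃ v ∈ N, g * v ≠ v * g) (l : F) : ∃ g ∈ K, On M j₀ (tvn B u₀ l) g := by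
  have hB := D.hB
  obtain ⟨g, hg, v, hv, hgv⟩ := hne
  obtain ⟨m, hm⟩ := D.tv (hKB hg)
  have hm0 : m ≠ 0 := by
    intro h0
    apply hgv
    refine D.red g (D.BH (hKB hg)) (D.BZ g (hKB hg)) (fun w hw => ?_) v hv
    refine M.div_mem (M.nor g (D.BH (hKB hg)) w hw) hw ?_
    funext k
    by_cases hk : k = j₀
    · subst hk
      rw [(hm w hw).1, h0]
      unfold tvn
      rw [zero_mul, zero_smul, add_zero]
    · exact (hm w hw).2 k hk
  -- `l = m b²`
  obtain ⟨b, hb⟩ : ∃ b : F, b * b = l * m⁻¹ := by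
    have hinj : Function.Injective fun x : F => x * x := by
      intro x y hxy
      have h1 : (x - y) * (x - y) = 0 := by
        have h2 : x * x - y * y = 0 := sub_eq_zero.2 hxy
        have h3 : (x - y) * (x - y) = (x * x - y * y) + 2 * (y * y - x * y) := by ring
        rw [h3, h2, hB.two, zero_mul, add_zero]
      exact sub_eq_zero.1 (mul_self_eq_zero.1 h1)
    exact Finite.surjective_of_injective hinj (l * m⁻¹)
  by_cases hb0 : b = 0
  · refine ⟨1, one_mem K, ?_⟩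
    have hl : l = 0 := by
      rw [hb0, zero_mul] at hb
      exact (mul_eq_zero.1 hb.symm).resolve_right (inv_ne_zero hm0)
    intro w hw
    rw [hl, one_mul, inv_one, mul_one]
    refine ⟨?_, fun _ _ => rfl⟩
    unfold tvn
    rw [zero_mul, zero_smul, add_zero]
  -- an element of `D` with `u₀ ↦ b u₀`
  have hne0 : ∀ {x : E}, x ≠ 0 → ∀ a : F, x ≠ a • (0 : E) := fun hx a h => hx (by rw [h, smul_zero])
  obtain ⟨w₁, w₂, a₁, a₂, -, -, -, -, hmv⟩ := hB.tra (u := 0) (x := u₀) (y := b • u₀) (map_zero _) (hne0 D.hu)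
    (map_zero _) (hne0 (smul_ne_zero hb0 D.hu))
  obtain ⟨d₁, hd₁, -, hon₁⟩ := D.exists_lift j₀ w₁ a₁
  obtain ⟨d₂, hd₂, -, hon₂⟩ := D.exists_lift j₀ w₂ a₂
  have hon := SpR.On.mul hd₁ hon₂ hon₁
  have hd : d₂ * d₁ ∈ H := mul_mem hd₂ hd₁
  have ht₁ := hB.tvn_sim w₁ a₁
  have ht₂ := hB.tvn_sim w₂ a₂
  have hsim : Sim B (RingEquiv.refl F) 1 fun x => tvn B w₂ a₂ (tvn B w₁ a₁ x) := by
    refine ⟨fun x y => ?_, fun c x => ?_, fun x y => ?_⟩
    · rw [ht₁.add, ht₂.add]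
    · rw [ht₁.smul, ht₂.smul]; rfl
    · rw [ht₂.form, ht₁.form]; simp
  have hdD : d₂ * d₁ ∈ H ⊓ normalizer (Zp : Set G) := by
    refine D.mem_norm hd fun z hz => ?_
    obtain ⟨a, ha⟩ := D.pt z hz
    refine ⟨a * b, ?_⟩
    have h1 := SpR.On.at hon (D.VN (D.ZV hz)) ha
    rw [hsim.smul, hmv, RingEquiv.refl_apply, smul_smul] at h1
    exact h1
  obtain ⟨σ, hσ⟩ := M.act _ hd
  have hσj := D.perm_fix hdD hσ
  refine ⟨d₂ * d₁ * g * (d₂ * d₁)⁻¹, (mem_normalizer_iff.1 (hDK hdD) g).1 hg, ?_⟩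
  -- conjugation
  have h1 := SpR.On.conj (M := M) hd hσ hsim (fun v hv => by rw [hσj]; exact (hon v hv).1) (u := u₀) one_ne_zero
    (D.BH (hKB hg)) hm
  rw [hσj, hmv, RingEquiv.refl_apply, inv_one, mul_one] at h1
  have h2 : tvn B (b • u₀) m = tvn B u₀ l := by
    funext x
    unfold tvn
    rw [map_smul, smul_eq_mul, smul_smul]
    congr 2
    have h3 : l = m * (b * b) := by rw [hb]; field_simp
    rw [h3]; ring
  rwa [h2] at h1

/-- the conjugates of `K` under `H` induce all transvections of all coordinates -/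
theorem all [Finite F] {K R : Subgroup G} (hKB : K ≤ Bp) (hDK : H ⊓ normalizer (Zp : Set G) ≤ normalizer (K : Set G))
    (hne : ∃ g ∈ K, ∃ v ∈ N, g * v ≠ v * g) (hR : ∀ h ∈ H, ∀ g ∈ K, h * g * h⁻¹ ∈ R) (j : Fin r) (u : E) (a : F) :
    ∃ g ∈ R, g ∈ H ∧ (∀ z ∈ Z, g * z = z * g) ∧ On M j (tvn B u a) g := by
  have hB := D.hB
  by_cases hu : u = 0
  · refine ⟨1, one_mem R, one_mem H, fun z _ => by rw [one_mul, mul_one], ?_⟩
    intro w hw
    rw [one_mul, inv_one, mul_one, hu]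
    refine ⟨?_, fun _ _ => rfl⟩
    unfold tvn
    rw [smul_zero, add_zero]
  -- move the coordinate `j₀` to `j`
  obtain ⟨h, hh, htr⟩ := M.tr j₀ j
  obtain ⟨σ, hσ⟩ := M.act h hh
  obtain ⟨v₀, hv₀, hv₀u⟩ := M.exists_at j₀ u₀
  have hσj : σ j₀ = j := by
    refine M.perm_eq hσ hv₀ hv₀u fun h1 => ?_
    exact D.hu (hv₀u.1.symm.trans ((htr v₀ hv₀).1 h1))
  obtain ⟨φ, c, A, hA, hAe⟩ := hσ j₀
  have hs := fun y => M.act_surj hh hAe y
  have hc := SpR.c_ne hB D.hu hA hs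
  have hAu : A u₀ ≠ 0 := fun h1 => D.hu (SpR.inj_of hB hA hs h1)
  -- move `A u₀` to `u`
  have hne0 : ∀ {x : E}, x ≠ 0 → ∀ a : F, x ≠ a • (0 : E) := fun hx a h => hx (by rw [h, smul_zero])
  obtain ⟨w₁, w₂, a₁, a₂, -, -, -, -, hmv⟩ := hB.tra (u := 0) (x := A u₀) (y := u) (map_zero _) (hne0 hAu)
    (map_zero _) (hne0 hu)
  obtain ⟨d₁, hd₁, -, hon₁⟩ := D.exists_lift j w₁ a₁
  obtain ⟨d₂, hd₂, -, hon₂⟩ := D.exists_lift j w₂ a₂
  have hon := SpR.On.mul hd₁ hon₂ hon₁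
  have hd : d₂ * d₁ ∈ H := mul_mem hd₂ hd₁
  have ht₁ := hB.tvn_sim w₁ a₁
  have ht₂ := hB.tvn_sim w₂ a₂
  have hsim : Sim B (RingEquiv.refl F) 1 fun x => tvn B w₂ a₂ (tvn B w₁ a₁ x) := by
    refine ⟨fun x y => ?_, fun c x => ?_, fun x y => ?_⟩
    · rw [ht₁.add, ht₂.add]
    · rw [ht₁.smul, ht₂.smul]; rfl
    · rw [ht₂.form, ht₁.form]; simp
  obtain ⟨τ, hτ⟩ := M.act _ hd
  have hτj : τ j = j := by
    obtain ⟨w, hw, hwA⟩ := M.exists_at j (A u₀)
    refine M.perm_eq hτ hw hwA ?_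
    rw [(SpR.On.at hon hw hwA).1, hmv]
    exact hu
  obtain ⟨g, hg, hgon⟩ := D.full hKB hDK hne (φ.symm (a * c))
  have h1 := SpR.On.conj (M := M) hh hσ hA hAe (u := u₀) hc (D.BH (hKB hg)) hgon
  have hgH : h * g * h⁻¹ ∈ H := mul_mem (mul_mem hh (D.BH (hKB hg))) (inv_mem hh)
  rw [hσj, φ.apply_symm_apply, mul_assoc, mul_inv_cancel₀ hc, mul_one] at h1
  have h2 := SpR.On.conj (M := M) hd hτ hsim (fun v hv => by rw [hτj]; exact (hon v hv).1) (u := A u₀) one_ne_zero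
    hgH h1
  rw [hτj, hmv, RingEquiv.refl_apply, inv_one, mul_one] at h2
  have h3 : d₂ * d₁ * (h * g * h⁻¹) * (d₂ * d₁)⁻¹ = (d₂ * d₁ * h) * g * (d₂ * d₁ * h)⁻¹ := by group
  refine ⟨_, ?_, mul_mem (mul_mem hd hgH) (inv_mem hd), ?_, h2⟩
  · rw [h3]
    exact hR _ (mul_mem hd hh) g hg
  · -- centralises `Z`
    intro z hz
    rw [h3]
    have hx : (d₂ * d₁ * h)⁻¹ ∈ H := inv_mem (mul_mem hd hh)
    have h4 : (d₂ * d₁ * h)⁻¹ * z * (d₂ * d₁ * h) ∈ Z := by
      have := (mem_normalizer_iff.1 (D.HZ hx) z).1 hz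
      rwa [inv_inv] at this
    have h5 := D.BZ g (hKB hg) _ h4
    calc d₂ * d₁ * h * g * (d₂ * d₁ * h)⁻¹ * z
        = d₂ * d₁ * h * (g * ((d₂ * d₁ * h)⁻¹ * z * (d₂ * d₁ * h))) * (d₂ * d₁ * h)⁻¹ := by group
      _ = z * (d₂ * d₁ * h * g * (d₂ * d₁ * h)⁻¹) := by rw [h5]; group

/-- products of transvections of one coordinate -/
theorem all_comp [Finite F] {K R : Subgroup G} (hKB : K ≤ Bp)
    (hDK : H ⊓ normalizer (Zp : Set G) ≤ normalizer (K : Set G))
    (hne : ∃ g ∈ K, ∃ v ∈ N, g * v ≠ v * g) (hR : ∀ h ∈ H, ∀ g ∈ K, h * g * h⁻¹ ∈ R) (j : Fin r)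
    (l : List (E × F)) : ∃ g ∈ R, g ∈ H ∧ (∀ z ∈ Z, g * z = z * g) ∧ On M j (Sy.comp B l) g := by
  induction l with
  | nil =>
    refine ⟨1, one_mem R, one_mem H, fun z _ => by rw [one_mul, mul_one], ?_⟩
    intro w hw
    rw [one_mul, inv_one, mul_one]
    exact ⟨rfl, fun _ _ => rfl⟩
  | cons p l ih =>
    obtain ⟨g, hg, hgH, hgZ, hgon⟩ := ih
    obtain ⟨g', hg', hgH', hgZ', hgon'⟩ := D.all hKB hDK hne hR j p.1 p.2
    refine ⟨g' * g, mul_mem hg' hg, mul_mem hgH' hgH, fun z hz => ?_, ?_⟩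
    · rw [mul_assoc, hgZ z hz, ← mul_assoc, hgZ' z hz, mul_assoc]
    · have h1 := SpR.On.mul hgH hgon' hgon
      intro v hv
      exact h1 v hv

/-- **`⟨K^H⟩` induces every element of `Sp(E)^r`** -/
theorem all_iso [Finite F] [FiniteDimensional F E] {K R : Subgroup G} (hKB : K ≤ Bp)
    (hDK : H ⊓ normalizer (Zp : Set G) ≤ normalizer (K : Set G))
    (hne : ∃ g ∈ K, ∃ v ∈ N, g * v ≠ v * g) (hR : ∀ h ∈ H, ∀ g ∈ K, h * g * h⁻¹ ∈ R) {A : Fin r → E → E}
    (hA : ∀ j, Sim B (RingEquiv.refl F) 1 (A j)) :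
    ∃ g ∈ R, g ∈ H ∧ (∀ z ∈ Z, g * z = z * g) ∧ ∀ v ∈ N, ∀ j, M.e (g * v * g⁻¹) j = A j (M.e v j) := by
  classical
  have key : ∀ s : Finset (Fin r), ∃ g ∈ R, g ∈ H ∧ (∀ z ∈ Z, g * z = z * g) ∧
      ∀ v ∈ N, (∀ j ∈ s, M.e (g * v * g⁻¹) j = A j (M.e v j)) ∧ ∀ j, j ∉ s → M.e (g * v * g⁻¹) j = M.e v j := by
    intro s
    induction s using Finset.induction_on with
    | empty =>
      refine ⟨1, one_mem R, one_mem H, fun z _ => by rw [one_mul, mul_one], fun v hv => ⟨fun j hj => ?_, fun j _ => ?_⟩⟩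
      · exact absurd hj (Finset.notMem_empty j)
      · rw [one_mul, inv_one, mul_one]
    | insert j s hj ih =>
      obtain ⟨g, hg, hgH, hgZ, hgv⟩ := ih
      obtain ⟨l, hl⟩ := D.hB.exists_list (hA j)
      obtain ⟨g', hg', hgH', hgZ', hgon'⟩ := D.all_comp hKB hDK hne hR j l
      refine ⟨g' * g, mul_mem hg' hg, mul_mem hgH' hgH, fun z hz => ?_, fun v hv => ?_⟩
      · rw [mul_assoc, hgZ z hz, ← mul_assoc, hgZ' z hz, mul_assoc]
      · have e : g' * g * v * (g' * g)⁻¹ = g' * (g * v * g⁻¹) * g'⁻¹ := by group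
        have h1 := hgon' _ (M.nor g hgH v hv)
        rw [e]
        refine ⟨fun k hk => ?_, fun k hk => ?_⟩
        · by_cases hkj : k = j
          · rw [hkj, h1.1, (hgv v hv).2 j hj, hl]
          · rw [h1.2 k hkj, (hgv v hv).1 k ((Finset.mem_insert.1 hk).resolve_left hkj)]
        · have hkj : k ≠ j := fun h2 => hk (h2 ▸ Finset.mem_insert_self _ _)
          rw [h1.2 k hkj, (hgv v hv).2 k fun h2 => hk (Finset.mem_insert_of_mem h2)]
  obtain ⟨g, hg, hgH, hgZ, hgv⟩ := key Finset.univ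
  exact ⟨g, hg, hgH, hgZ, fun v hv j => (hgv v hv).1 j (Finset.mem_univ j)⟩

/-- **an involution centralising `Z` and a point in each coordinate lies in `C(N) ⟨K^H⟩`** -/
theorem gen [Finite F] [FiniteDimensional F E] {K R : Subgroup G} (hKB : K ≤ Bp)
    (hDK : H ⊓ normalizer (Zp : Set G) ≤ normalizer (K : Set G))
    (hne : ∃ g ∈ K, ∃ v ∈ N, g * v ≠ v * g) (hR : ∀ h ∈ H, ∀ g ∈ K, h * g * h⁻¹ ∈ R) {t : G} (ht : t ∈ H)
    (htZ : ∀ z ∈ Z, t * z = z * t) (ht2 : t * t = 1)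
    (hfix : ∀ j, ∃ u : E, u ≠ 0 ∧ ∀ a : F, ∃ y ∈ N, At M j (a • u) y ∧ t * y * t⁻¹ = y) :
    ∃ g ∈ R, g ∈ H ∧ ∀ v ∈ N, t * g⁻¹ * v = v * (t * g⁻¹) := by
  have hB := D.hB
  obtain ⟨σ, hσ⟩ := M.act t ht
  have hσj : ∀ j, σ j = j := by
    intro j
    obtain ⟨u, hu, hy⟩ := hfix j
    obtain ⟨y, hyN, hy1, hyt⟩ := hy 1
    rw [one_smul] at hy1
    refine M.perm_eq hσ hyN hy1 ?_
    rw [hyt, hy1.1]
    exact hu
  have hA : ∀ j, ∃ A : E → E, Sim B (RingEquiv.refl F) 1 A ∧ ∀ v ∈ N, M.e (t * v * t⁻¹) j = A (M.e v j) := by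
    intro j
    obtain ⟨φ, c, A, hA, hAe⟩ := hσ j
    rw [hσj j] at hAe
    obtain ⟨u, hu, hy⟩ := hfix j
    have hφ : ∀ a, φ a = a := hA.phi_eq hu fun a => by
      obtain ⟨y, hyN, hy1, hyt⟩ := hy a
      rw [← hy1.1, ← hAe y hyN, hyt]
    have hAA : ∀ x, A (A x) = x := by
      intro x
      obtain ⟨v, hv, hvx, -⟩ := M.exists_at j x
      have h1 := M.nor t ht v hv
      rw [← hvx, ← hAe v hv, ← hAe _ h1]
      have e : t * (t * v * t⁻¹) * t⁻¹ = t * t * v * (t * t)⁻¹ := by group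
      rw [e, ht2]
      simp
    have hc : c = 1 := by
      obtain ⟨x, hx⟩ : ∃ x, B u x ≠ 0 := by
        by_contra hcon
        push Not at hcon
        exact hu (hB.nd u hcon)
      have h1 := hA.form (A u) (A x)
      rw [hAA, hAA, hA.form, hφ, hφ] at h1
      have h2 : c * c = 1 := by
        have h3 : c * c * B u x = 1 * B u x := by rw [one_mul, mul_assoc]; exact h1.symm
        exact mul_right_cancel₀ hx h3
      have h3 : (c - 1) * (c - 1) = 0 := by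
        have h4 : (c - 1) * (c - 1) = (c * c - 1) + 2 * (1 - c) := by ring
        rw [h4, h2, hB.two]; ring
      exact sub_eq_zero.1 (mul_self_eq_zero.1 h3)
    refine ⟨A, ⟨hA.add, fun a x => ?_, fun x y => ?_⟩, hAe⟩
    · rw [hA.smul, hφ, RingEquiv.refl_apply]
    · rw [hA.form, hc, hφ, RingEquiv.refl_apply]
  choose A hA hAe using hA
  obtain ⟨g, hg, hgH, hgZ, hgv⟩ := D.all_iso hKB hDK hne hR hA
  refine ⟨g, hg, hgH, ?_⟩
  refine D.red _ (mul_mem ht (inv_mem hgH)) (fun z hz => ?_) fun v hv => ?_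
  · have h1 : g⁻¹ * z = z * g⁻¹ := by
      calc g⁻¹ * z = g⁻¹ * (z * g) * g⁻¹ := by group
        _ = g⁻¹ * (g * z) * g⁻¹ := by rw [hgZ z hz]
        _ = z * g⁻¹ := by group
    rw [mul_assoc, h1, ← mul_assoc, htZ z hz, mul_assoc]
  · have h1 : g⁻¹ * v * g ∈ N := by
      have := M.nor g⁻¹ (inv_mem hgH) v hv
      rwa [inv_inv] at this
    have e1 : t * g⁻¹ * v * (t * g⁻¹)⁻¹ = t * (g⁻¹ * v * g) * t⁻¹ := by group
    have e2 : g * (g⁻¹ * v * g) * g⁻¹ = v := by group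
    rw [e1]
    refine M.div_mem (M.nor t ht _ h1) hv ?_
    funext j
    rw [hAe j _ h1, ← hgv _ h1 j, e2]

end Side

end Cfsg.Agent.Omega.NO3S.EThree

end

section


/-!
# NO-3S, case (E), TEXT R3 #16982 (4) (helper609), `d = 1`

`H₀ = N(Z₀)`, `H₁ = N(Z₁)` act on `N₀`, `N₁` as symplectic groups with radical `Z₀`, `Z₁` (`SpR`); `Z₁ ≤ V₁ ≤ N₀`,
`Z₀ ≤ V₀ ≤ N₁` are points and totally isotropic lines; `Bᵢ ≥ Nᵢ Vᵢ` is abelian and normal in `Hᵢ`; `[N₀, N₁] ≠ 1`.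

* `Four.comm` : `[R₀, B₀] ≤ N₀`, `R₀ = ⟨N₁^{H₀}⟩`;
* `Four.norm_V` : `D ∩ R₀` normalises `V₀`;
* `Four.le_sup` : `D ≤ F₀ (D ∩ N(V₀))`, `F₀ = C_{H₀}(N₀)`: against STEP F.
-/

set_option autoImplicit false
set_option linter.unusedSectionVars false

namespace Cfsg.Agent.Omega.NO3S.EThree

open Subgroup

variable {G : Type*} [Group G]

variable {F E F' E' : Type*} [Field F] [AddCommGroup E] [Module F E] [Field F'] [AddCommGroup E'] [Module F' E']
  {r r' : ℕ} {B : E →ₗ[F] E →ₗ[F] F} {B' : E' →ₗ[F'] E' →ₗ[F'] F'} {N₀ N₁ Z₀ Z₁ : Subgroup G}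

/-- the hypotheses of (4) -/
structure Four (M₀ : SpR F E r B (normalizer (Z₀ : Set G)) N₀ Z₀) (M₁ : SpR F' E' r' B' (normalizer (Z₁ : Set G)) N₁ Z₁)
    (V₀ V₁ B₀ B₁ L : Subgroup G) (j₀ : Fin r) (u₀ w₀ : E) (j₁ : Fin r') (u₁ w₁ : E') : Prop where
  s₀ : Side M₀ Z₁ V₁ B₁ j₀ u₀ w₀
  s₁ : Side M₁ Z₀ V₀ B₀ j₁ u₁ w₁
  NB₀ : N₀ ≤ B₀
  NB₁ : N₁ ≤ B₁
  HB₀ : normalizer (Z₀ : Set G) ≤ normalizer (B₀ : Set G)
  NV : ∀ x ∈ V₀, x ∈ N₀ → x ∈ Z₀
  VZ : ∀ x ∈ V₀, x ∈ Z₁ → x = 1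
  LV : L ≤ normalizer (V₀ : Set G)
  LC : L ≤ centralizer (Z₁ : Set G)
  Ltr : ∀ x ∈ V₀, ∃ l ∈ L, l * x * l⁻¹ ∈ Z₀
  blk : ∀ j, ∃ u : E, u ≠ 0 ∧ ∀ a : F, ∃ y ∈ N₀, y ∈ centralizer (L : Set G) ∧ At M₀ j (a • u) y
  sq : ∀ x ∈ N₀, x * x = 1
  ne : ∃ g ∈ N₁, ∃ v ∈ N₀, g * v ≠ v * g

/-- the normal closure of `K` under `H` -/
def ncl (H K : Subgroup G) : Subgroup G := closure {x | ∃ h ∈ H, ∃ g ∈ K, x = h * g * h⁻¹}

theorem mem_ncl {H K : Subgroup G} {h g : G} (hh : h ∈ H) (hg : g ∈ K) : h * g * h⁻¹ ∈ ncl H K :=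
  subset_closure ⟨h, hh, g, hg, rfl⟩

theorem ncl_le {H K L : Subgroup G} (h : ∀ x ∈ H, ∀ g ∈ K, x * g * x⁻¹ ∈ L) : ncl H K ≤ L := by
  unfold ncl
  rw [closure_le]
  rintro _ ⟨x, hx, g, hg, rfl⟩
  exact h x hx g hg

theorem ncl_conj {H K : Subgroup G} {h : G} (hh : h ∈ H) {x : G} (hx : x ∈ ncl H K) : h * x * h⁻¹ ∈ ncl H K := by
  unfold ncl at hx
  induction hx using closure_induction with
  | mem x hx =>
    obtain ⟨y, hy, g, hg, rfl⟩ := hx
    have e : h * (y * g * y⁻¹) * h⁻¹ = (h * y) * g * (h * y)⁻¹ := by group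
    rw [e]
    exact mem_ncl (mul_mem hh hy) hg
  | one => rw [mul_one, mul_inv_cancel]; exact one_mem _
  | mul x y _ _ h1 h2 =>
    have e : h * (x * y) * h⁻¹ = (h * x * h⁻¹) * (h * y * h⁻¹) := by group
    rw [e]
    exact mul_mem h1 h2
  | inv x _ h1 =>
    have e : h * x⁻¹ * h⁻¹ = (h * x * h⁻¹)⁻¹ := by group
    rw [e]
    exact inv_mem h1

/-- elements of `A C`, `C ≤ N(A)` -/
theorem exists_mul_of_sup {A C : Subgroup G} (h : ∀ c ∈ C, ∀ a ∈ A, c * a * c⁻¹ ∈ A) {x : G} (hx : x ∈ A ⊔ C) :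
    ∃ a ∈ A, ∃ c ∈ C, x = a * c := by
  let K : Subgroup G :=
    { carrier := {x | ∃ f ∈ A, ∃ n ∈ C, x = f * n}
      one_mem' := ⟨1, one_mem A, 1, one_mem C, by simp⟩
      mul_mem' := by
        rintro _ _ ⟨f, hf, n, hn, rfl⟩ ⟨f', hf', n', hn', rfl⟩
        exact ⟨f * (n * f' * n⁻¹), mul_mem hf (h n hn f' hf'), n * n', mul_mem hn hn', by group⟩
      inv_mem' := by
        rintro _ ⟨f, hf, n, hn, rfl⟩
        refine ⟨n⁻¹ * f⁻¹ * n⁻¹⁻¹, h _ (inv_mem hn) _ (inv_mem hf), n⁻¹, inv_mem hn, by group⟩ }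
  have hle : A ⊔ C ≤ K := sup_le (fun f hf => ⟨f, hf, 1, one_mem C, by simp⟩)
    fun n hn => ⟨1, one_mem A, n, hn, by simp⟩
  exact hle hx

namespace Four

variable [Finite G] {M₀ : SpR F E r B (normalizer (Z₀ : Set G)) N₀ Z₀}
  {M₁ : SpR F' E' r' B' (normalizer (Z₁ : Set G)) N₁ Z₁} {V₀ V₁ B₀ B₁ L : Subgroup G}
  {j₀ : Fin r} {u₀ w₀ : E} {j₁ : Fin r'} {u₁ w₁ : E'} (D : Four M₀ M₁ V₀ V₁ B₀ B₁ L j₀ u₀ w₀ j₁ u₁ w₁)

include D

theorem Z₁_le : Z₁ ≤ N₀ := D.s₀.ZV.trans D.s₀.VN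

theorem Z₀_le : Z₀ ≤ N₁ := D.s₁.ZV.trans D.s₁.VN

/-- `[R₀, B₀] ≤ N₀` -/
theorem comm {g : G} (hg : g ∈ ncl (normalizer (Z₀ : Set G)) N₁) {x : G} (hx : x ∈ B₀) :
    g ∈ normalizer (Z₀ : Set G) ∧ g * x * g⁻¹ * x⁻¹ ∈ N₀ := by
  -- elements of `N₁`
  have h1 : ∀ y ∈ N₁, ∀ x ∈ B₀, y * x * y⁻¹ * x⁻¹ ∈ N₀ := by
    intro y hy x hx
    obtain ⟨z, hz, z', hz', e⟩ := D.s₁.comm_mem hx hy
    have h2 : (x * y * x⁻¹ * y⁻¹)⁻¹ ∈ N₀ := by
      rw [e]
      exact inv_mem (mul_mem (D.Z₁_le hz') (D.s₀.ZN hz))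
    have e2 : (x * y * x⁻¹ * y⁻¹)⁻¹ = y * x * y⁻¹ * x⁻¹ := by group
    rwa [e2] at h2
  have hN₁H : N₁ ≤ normalizer (Z₀ : Set G) := D.NB₁.trans D.s₀.BH
  let K : Subgroup G :=
    { carrier := {g | g ∈ normalizer (Z₀ : Set G) ∧ ∀ x ∈ B₀, g * x * g⁻¹ * x⁻¹ ∈ N₀}
      one_mem' := ⟨one_mem _, fun x _ => by simp⟩
      mul_mem' := by
        rintro a b ⟨ha, h1⟩ ⟨hb, h2⟩
        refine ⟨mul_mem ha hb, fun x hx => ?_⟩
        have h3 := M₀.nor a ha _ (h2 x hx)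
        have e : a * b * x * (a * b)⁻¹ * x⁻¹ = (a * (b * x * b⁻¹ * x⁻¹) * a⁻¹) * (a * x * a⁻¹ * x⁻¹) := by group
        rw [e]
        exact mul_mem h3 (h1 x hx)
      inv_mem' := by
        rintro a ⟨ha, h1⟩
        refine ⟨inv_mem ha, fun x hx => ?_⟩
        have h3 := M₀.nor a⁻¹ (inv_mem ha) _ (inv_mem (h1 x hx))
        have e : a⁻¹ * x * a⁻¹⁻¹ * x⁻¹ = a⁻¹ * (a * x * a⁻¹ * x⁻¹)⁻¹ * a⁻¹⁻¹ := by group
        rw [e]
        exact h3 }
  have hle : ncl (normalizer (Z₀ : Set G)) N₁ ≤ K := by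
    refine ncl_le fun h hh y hy => ⟨mul_mem (mul_mem hh (hN₁H hy)) (inv_mem hh), fun x hx => ?_⟩
    have hx' : h⁻¹ * x * h ∈ B₀ := by
      have := (mem_normalizer_iff.1 (D.HB₀ (inv_mem hh)) x).1 hx
      rwa [inv_inv] at this
    have h2 := M₀.nor h hh _ (h1 y hy _ hx')
    have e : h * y * h⁻¹ * x * (h * y * h⁻¹)⁻¹ * x⁻¹ = h * (y * (h⁻¹ * x * h) * y⁻¹ * (h⁻¹ * x * h)⁻¹) * h⁻¹ := by
      group
    rw [e]
    exact h2
  have h2 := hle hg
  exact ⟨h2.1, h2.2 x hx⟩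

/-- points of `V₀ Z₁` -/
theorem eq_one {x x' z g : G} (hx : x ∈ V₀) (hx' : x' ∈ V₀) (hz : z ∈ Z₁) (hg : g ∈ normalizer (Z₁ : Set G))
    (e : g * x * g⁻¹ = z * x') : z = 1 := by
  by_contra hz1
  by_cases hx1 : x' = 1
  · rw [hx1, mul_one] at e
    have h1 : x ∈ Z₁ := (mem_normalizer_iff.1 hg x).2 (e ▸ hz)
    have h2 := D.VZ x hx h1
    rw [h2] at e
    apply hz1
    rw [← e]; group
  · obtain ⟨l, hl, hlx⟩ := D.Ltr x' hx'
    obtain ⟨l', hl', hlx'⟩ := D.Ltr x hx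
    have hlz : l * z = z * l := (mem_centralizer_iff.1 (D.LC hl) z hz).symm
    apply D.s₁.f4 z hz _ hlx hz1 (fun h1 => hx1 (conj_eq_one_iff.1 h1)) (l' * (l * g)⁻¹)
    have e1 : z * (l * x' * l⁻¹) = l * g * x * (l * g)⁻¹ := by
      calc z * (l * x' * l⁻¹) = (z * l) * x' * l⁻¹ := by group
        _ = l * (z * x') * l⁻¹ := by rw [← hlz]; group
        _ = l * g * x * (l * g)⁻¹ := by rw [← e]; group
    have e2 : l' * (l * g)⁻¹ * (l * g * x * (l * g)⁻¹) * (l' * (l * g)⁻¹)⁻¹ = l' * x * l'⁻¹ := by group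
    rw [e1, e2]
    exact hlx'

theorem V₀B : V₀ ≤ B₀ := D.s₁.VB

/-- **`D ∩ R₀` normalises `V₀`** -/
theorem norm_V {g : G} (hg : g ∈ ncl (normalizer (Z₀ : Set G)) N₁) (hg1 : g ∈ normalizer (Z₁ : Set G)) :
    g ∈ normalizer (V₀ : Set G) := by
  have key : ∀ x ∈ V₀, g * x * g⁻¹ ∈ V₀ := by
    intro x hx
    have hgD : g ∈ normalizer (Z₁ : Set G) ⊓ normalizer (Z₀ : Set G) := ⟨hg1, (D.comm hg (D.V₀B hx)).1⟩
    have h1 := (D.comm hg (D.V₀B hx)).2
    have hxN := D.s₁.VN hx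
    have hgx := M₁.nor g hg1 x hxN
    have hk : g * x * g⁻¹ * x⁻¹ ∈ N₁ := mul_mem hgx (inv_mem hxN)
    obtain ⟨φ, c, A, hA, -, -, -, hat⟩ := D.s₁.exists_act hgD
    obtain ⟨a, b, hab⟩ := D.s₁.ln x hx
    have h2 := hat x hxN _ hab
    -- the coordinate of `[g, x]` is in `F u₁`
    obtain ⟨a', ha'⟩ : ∃ a' : F', M₁.e (g * x * g⁻¹ * x⁻¹) j₁ = a' • u₁ := by
      by_contra hcon
      push Not at hcon
      have hK : normalizer (Z₁ : Set G) ⊓ normalizer (Z₀ : Set G) ≤ normalizer ((N₀ ⊓ N₁ : Subgroup G) : Set G) := by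
        have kk : ∀ d ∈ normalizer (Z₁ : Set G) ⊓ normalizer (Z₀ : Set G), ∀ x ∈ N₀ ⊓ N₁, d * x * d⁻¹ ∈ N₀ ⊓ N₁ :=
          fun d hd x hx => mem_inf.2 ⟨M₀.nor d hd.2 x (mem_inf.1 hx).1, M₁.nor d hd.1 x (mem_inf.1 hx).2⟩
        intro d hd
        rw [mem_normalizer_iff]
        intro x
        refine ⟨kk d hd x, fun hx => ?_⟩
        have h2 := kk d⁻¹ (inv_mem hd) _ hx
        have e : d⁻¹ * (d * x * d⁻¹) * d⁻¹⁻¹ = x := by group
        rwa [e] at h2
      obtain ⟨k, hkK, hkw⟩ := D.s₁.key (K := N₀ ⊓ N₁) inf_le_right hK (mem_inf.2 ⟨h1, hk⟩) hcon D.s₁.hwu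
      obtain ⟨w, hw, hww⟩ := D.s₁.ln' 0 1
      rw [zero_smul, zero_add, one_smul] at hww
      have h3 : w * k⁻¹ ∈ Z₁ := M₁.div_mem (D.s₁.VN hw) (mem_inf.1 hkK).2 (SpR.At.eq hww hkw)
      have h4 : w ∈ N₀ := by
        have := mul_mem (D.Z₁_le h3) (mem_inf.1 hkK).1
        rwa [inv_mul_cancel_right] at this
      obtain ⟨b', hb'⟩ := D.s₁.pt w (D.NV w hw h4)
      exact D.s₁.hw b' (hww.1.symm.trans hb'.1)
    have hat' : At M₁ j₁ (a' • u₁) (g * x * g⁻¹ * x⁻¹) := by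
      refine ⟨ha', fun k hk => ?_⟩
      rw [M₁.e_div hgx hxN, Pi.sub_apply, h2.2 k hk, hab.2 k hk, sub_self]
    obtain ⟨z, hz, hza⟩ := D.s₁.pt' a'
    have h3 : g * x * g⁻¹ * x⁻¹ * z⁻¹ ∈ Z₁ := M₁.div_mem hk (D.Z₀_le hz) (SpR.At.eq hat' hza)
    have hzx : z * x ∈ V₀ := mul_mem (D.s₁.ZV hz) hx
    have e1 : g * x * g⁻¹ = (g * x * g⁻¹ * x⁻¹ * z⁻¹) * (z * x) := by group
    have h4 := D.eq_one hx hzx h3 hg1 e1
    rw [h4, one_mul] at e1
    rw [e1]
    exact hzx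
  exact mem_normalizer_fintype key

/-- **(4)**: `D ≤ F₀ (D ∩ N(V₀))` -/
theorem le_sup [Finite F] [Finite F'] [FiniteDimensional F E] :
    normalizer (Z₀ : Set G) ⊓ normalizer (Z₁ : Set G) ≤
      (normalizer (Z₀ : Set G) ⊓ centralizer (N₀ : Set G)) ⊔
        ((normalizer (Z₀ : Set G) ⊓ normalizer (Z₁ : Set G)) ⊓ normalizer (V₀ : Set G)) := by
  have hB' := D.s₁.hB
  have hN₁H : N₁ ≤ normalizer (Z₀ : Set G) := D.NB₁.trans D.s₀.BH
  -- `F₀ ≤ D`, normal in `H₀`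
  have hF0D : normalizer (Z₀ : Set G) ⊓ centralizer (N₀ : Set G) ≤ normalizer (Z₀ : Set G) ⊓ normalizer (Z₁ : Set G) :=
    le_inf inf_le_left (inf_le_right.trans ((centralizer_le D.Z₁_le).trans (centralizer_le_normalizer _)))
  have hF0n : ∀ h ∈ normalizer (Z₀ : Set G), ∀ f ∈ normalizer (Z₀ : Set G) ⊓ centralizer (N₀ : Set G),
      h * f * h⁻¹ ∈ normalizer (Z₀ : Set G) ⊓ centralizer (N₀ : Set G) := by
    intro h hh f hf
    refine mem_inf.2 ⟨mul_mem (mul_mem hh hf.1) (inv_mem hh), mem_centralizer_iff.2 fun y hy => ?_⟩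
    have h1 := M₀.nor h⁻¹ (inv_mem hh) y hy
    rw [inv_inv] at h1
    have h2 := mem_centralizer_iff.1 (mem_inf.1 hf).2 _ h1
    calc y * (h * f * h⁻¹) = h * ((h⁻¹ * y * h) * f) * h⁻¹ := by group
      _ = h * f * h⁻¹ * y := by rw [h2]; group
  have hRH : ncl (normalizer (Z₀ : Set G)) N₁ ≤ normalizer (Z₀ : Set G) :=
    ncl_le fun h hh y hy => mul_mem (mul_mem hh (hN₁H hy)) (inv_mem hh)
  -- `Θ = (F₀ R₀) ∩ D`
  have hTheta : ∀ y, y ∈ (normalizer (Z₀ : Set G) ⊓ centralizer (N₀ : Set G)) ⊔ ncl (normalizer (Z₀ : Set G)) N₁ →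
      y ∈ normalizer (Z₀ : Set G) ⊓ normalizer (Z₁ : Set G) →
      y ∈ (normalizer (Z₀ : Set G) ⊓ centralizer (N₀ : Set G)) ⊔
        ((normalizer (Z₀ : Set G) ⊓ normalizer (Z₁ : Set G)) ⊓ normalizer (V₀ : Set G)) := by
    intro y hy hyD
    obtain ⟨f, hf, g, hg, rfl⟩ := exists_mul_of_sup (fun c hc a ha => hF0n c (hRH hc) a ha) hy
    have hgD : g ∈ normalizer (Z₀ : Set G) ⊓ normalizer (Z₁ : Set G) := by
      have := mul_mem (inv_mem (hF0D hf)) hyD
      rwa [inv_mul_cancel_left] at this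
    exact mul_mem (mem_sup_left hf) (mem_sup_right (mem_inf.2 ⟨hgD, D.norm_V hg hgD.2⟩))
  have hThc : ∀ h ∈ normalizer (Z₀ : Set G), ∀ y ∈ (normalizer (Z₀ : Set G) ⊓ centralizer (N₀ : Set G)) ⊔
      ncl (normalizer (Z₀ : Set G)) N₁, h * y * h⁻¹ ∈ (normalizer (Z₀ : Set G) ⊓ centralizer (N₀ : Set G)) ⊔
      ncl (normalizer (Z₀ : Set G)) N₁ := by
    intro h hh y hy
    obtain ⟨f, hf, g, hg, rfl⟩ := exists_mul_of_sup (fun c hc a ha => hF0n c (hRH hc) a ha) hy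
    have e : h * (f * g) * h⁻¹ = (h * f * h⁻¹) * (h * g * h⁻¹) := by group
    rw [e]
    exact mul_mem (mem_sup_left (hF0n h hh f hf)) (mem_sup_right (ncl_conj hh hg))
  -- the conjugates of `N₀` under `L`
  have hNl : ∀ l ∈ L, ∀ n ∈ N₀, l * n * l⁻¹ ∈ (normalizer (Z₀ : Set G) ⊓ centralizer (N₀ : Set G)) ⊔
      ncl (normalizer (Z₀ : Set G)) N₁ ∧ l * n * l⁻¹ ∈ normalizer (Z₀ : Set G) ⊓ normalizer (Z₁ : Set G) := by
    intro l hl n hn
    -- `l n l⁻¹` centralises `V₀ ≥ Z₀`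
    have hcV : ∀ x ∈ V₀, l * n * l⁻¹ * x = x * (l * n * l⁻¹) := by
      intro x hx
      have h1 : l⁻¹ * x * l ∈ V₀ := by
        have := (mem_normalizer_iff.1 (inv_mem (D.LV hl)) x).1 hx
        rwa [inv_inv] at this
      have h2 := D.s₁.BB n (D.NB₀ hn) _ (D.V₀B h1)
      calc l * n * l⁻¹ * x = l * (n * (l⁻¹ * x * l)) * l⁻¹ := by group
        _ = x * (l * n * l⁻¹) := by rw [h2]; group
    have hcL : ∀ y ∈ N₀, y ∈ centralizer (L : Set G) → l * n * l⁻¹ * y = y * (l * n * l⁻¹) := by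
      intro y hy hyL
      have h1 : l * y = y * l := mem_centralizer_iff.1 hyL l hl
      have h2 := D.s₀.NN n hn y hy
      calc l * n * l⁻¹ * y = l * n * l⁻¹ * (y * l) * l⁻¹ := by group
        _ = l * (n * y) * l⁻¹ := by rw [← h1]; group
        _ = l * y * n * l⁻¹ := by rw [h2]; group
        _ = y * (l * n * l⁻¹) := by rw [h1]; group
    have hcZ1 : ∀ z ∈ Z₁, l * n * l⁻¹ * z = z * (l * n * l⁻¹) := fun z hz =>
      hcL z (D.Z₁_le hz) (mem_centralizer_iff.2 fun m hm => (mem_centralizer_iff.1 (D.LC hm) z hz).symm)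
    have ht0 : l * n * l⁻¹ ∈ normalizer (Z₀ : Set G) :=
      centralizer_le_normalizer _ (mem_centralizer_iff.2 fun z hz => (hcV z (D.s₁.ZV hz)).symm)
    have ht1 : l * n * l⁻¹ ∈ normalizer (Z₁ : Set G) :=
      centralizer_le_normalizer _ (mem_centralizer_iff.2 fun z hz => (hcZ1 z hz).symm)
    refine ⟨?_, mem_inf.2 ⟨ht0, ht1⟩⟩
    obtain ⟨g, hg, hgH, hgN⟩ := D.s₀.gen (K := N₁) (R := ncl (normalizer (Z₀ : Set G)) N₁) D.NB₁
      (fun d hd => by
        have kk : ∀ d ∈ normalizer (Z₀ : Set G) ⊓ normalizer (Z₁ : Set G), ∀ x ∈ N₁, d * x * d⁻¹ ∈ N₁ :=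
          fun d hd x hx => M₁.nor d hd.2 x hx
        rw [mem_normalizer_iff]
        intro x
        refine ⟨kk d hd x, fun hx => ?_⟩
        have h2 := kk d⁻¹ (inv_mem hd) _ hx
        have e : d⁻¹ * (d * x * d⁻¹) * d⁻¹⁻¹ = x := by group
        rwa [e] at h2) D.ne (fun h hh g hg => mem_ncl hh hg) ht0 (fun z hz => hcV z (D.s₁.ZV hz))
      (by
        have e : l * n * l⁻¹ * (l * n * l⁻¹) = l * (n * n) * l⁻¹ := by group
        rw [e, D.sq n hn]; group)
      (fun j => by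
        obtain ⟨u, hu, hy⟩ := D.blk j
        refine ⟨u, hu, fun a => ?_⟩
        obtain ⟨y, hyN, hyL, hya⟩ := hy a
        refine ⟨y, hyN, hya, ?_⟩
        rw [hcL y hyN hyL]; group)
    have e : l * n * l⁻¹ = (l * n * l⁻¹ * g⁻¹) * g := by group
    rw [e]
    refine mul_mem (mem_sup_left (mem_inf.2 ⟨mul_mem ht0 (inv_mem hgH), mem_centralizer_iff.2 fun v hv => ?_⟩))
      (mem_sup_right hg)
    exact (hgN v hv).symm
  -- all transvections with centre `w ∈ u₁^⊥ - F u₁`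
  obtain ⟨x₁, hx₁, hx₁w⟩ := D.s₁.ln' 0 1
  rw [zero_smul, zero_add, one_smul] at hx₁w
  have htw : ∀ b : F', ∃ y, y ∈ (normalizer (Z₀ : Set G) ⊓ centralizer (N₀ : Set G)) ⊔
      ncl (normalizer (Z₀ : Set G)) N₁ ∧ y ∈ normalizer (Z₀ : Set G) ⊓ normalizer (Z₁ : Set G) ∧
      On M₁ j₁ (tvn B' w₁ b) y := by
    intro b
    obtain ⟨l, hl, hlx⟩ := D.Ltr x₁ hx₁
    have hl1 : l⁻¹ ∈ normalizer (Z₁ : Set G) := inv_mem (centralizer_le_normalizer _ (D.LC hl))
    obtain ⟨σ, hσ⟩ := M₁.act _ hl1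
    obtain ⟨a, ha⟩ := D.s₁.pt _ hlx
    have hlxN : l * x₁ * l⁻¹ ∈ N₁ := D.Z₀_le hlx
    have e0 : l⁻¹ * (l * x₁ * l⁻¹) * l⁻¹⁻¹ = x₁ := by group
    have hw10 : w₁ ≠ 0 := fun h0 => D.s₁.hw 0 (by rw [h0, zero_smul])
    have hσj : σ j₁ = j₁ := by
      refine M₁.perm_eq hσ hlxN ha ?_
      rw [e0, hx₁w.1]
      exact hw10
    obtain ⟨φ, c, A, hA, hAe⟩ := hσ j₁
    have hs := fun y => M₁.act_surj hl1 hAe y
    have hc := SpR.c_ne hB' D.s₁.hu hA hs
    have hAu : φ a • A u₁ = w₁ := by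
      have h1 := hAe _ hlxN
      rw [hσj, e0, hx₁w.1, ha.1, hA.smul] at h1
      exact h1.symm
    have ha0 : φ a ≠ 0 := fun h0 => hw10 (by rw [← hAu, h0, zero_smul])
    obtain ⟨n, hn, hnon⟩ := D.s₁.full (K := N₀) D.NB₀ (fun d hd => by
        have kk : ∀ d ∈ normalizer (Z₁ : Set G) ⊓ normalizer (Z₀ : Set G), ∀ x ∈ N₀, d * x * d⁻¹ ∈ N₀ :=
          fun d hd x hx => M₀.nor d hd.2 x hx
        rw [mem_normalizer_iff]
        intro x
        refine ⟨kk d hd x, fun hx => ?_⟩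
        have h2 := kk d⁻¹ (inv_mem hd) _ hx
        have e : d⁻¹ * (d * x * d⁻¹) * d⁻¹⁻¹ = x := by group
        rwa [e] at h2) (by
        obtain ⟨g, hg, v, hv, hgv⟩ := D.ne
        exact ⟨v, hv, g, hg, fun h1 => hgv h1.symm⟩) (φ.symm (b * (φ a * φ a) * c))
    have h1 := SpR.On.conj (M := M₁) hl1 hσ hA hAe (u := u₁) hc (D.s₁.BH (D.NB₀ hn)) hnon
    rw [hσj, φ.apply_symm_apply, mul_assoc, mul_inv_cancel₀ hc, mul_one] at h1
    have h2 : tvn B' (A u₁) (b * (φ a * φ a)) = tvn B' w₁ b := by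
      funext x
      unfold tvn
      rw [← hAu, map_smul, smul_eq_mul, smul_smul]
      congr 2
      ring
    rw [h2, inv_inv] at h1
    have h3 := hNl l⁻¹ (inv_mem hl) n hn
    rw [inv_inv] at h3
    exact ⟨_, h3.1, h3.2, h1⟩
  have hne0 : ∀ {x : E'}, x ≠ 0 → ∀ a : F', x ≠ a • (0 : E') := fun hx a h => hx (by rw [h, smul_zero])
  have htall : ∀ w : E', B' w u₁ = 0 → (∀ a : F', w ≠ a • u₁) → ∀ b : F', ∃ y,
      y ∈ (normalizer (Z₀ : Set G) ⊓ centralizer (N₀ : Set G)) ⊔ ncl (normalizer (Z₀ : Set G)) N₁ ∧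
      y ∈ normalizer (Z₀ : Set G) ⊓ normalizer (Z₁ : Set G) ∧ On M₁ j₁ (tvn B' w b) y := by
    intro w hw hwu b
    obtain ⟨v₁, v₂, a₁, a₂, hv₁, hv₂, -, -, hmv⟩ := hB'.tra D.s₁.hwu D.s₁.hw hw hwu
    obtain ⟨d₁, hd₁, -, hon₁⟩ := D.s₁.exists_lift j₁ v₁ a₁
    obtain ⟨d₂, hd₂, -, hon₂⟩ := D.s₁.exists_lift j₁ v₂ a₂
    have hd₁D := D.s₁.lift_mem hd₁ hon₁ (Or.inr (by rw [hB'.symm]; exact hv₁))
    have hd₂D := D.s₁.lift_mem hd₂ hon₂ (Or.inr (by rw [hB'.symm]; exact hv₂))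
    have hon := SpR.On.mul hd₁ hon₂ hon₁
    have hd : d₂ * d₁ ∈ normalizer (Z₁ : Set G) := mul_mem hd₂ hd₁
    have hdD : d₂ * d₁ ∈ normalizer (Z₁ : Set G) ⊓ normalizer (Z₀ : Set G) := mul_mem hd₂D hd₁D
    have ht₁ := hB'.tvn_sim v₁ a₁
    have ht₂ := hB'.tvn_sim v₂ a₂
    have hsim : Sim B' (RingEquiv.refl F') 1 fun x => tvn B' v₂ a₂ (tvn B' v₁ a₁ x) := by
      refine ⟨fun x y => ?_, fun c x => ?_, fun x y => ?_⟩
      · rw [ht₁.add, ht₂.add]
      · rw [ht₁.smul, ht₂.smul]; rfl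
      · rw [ht₂.form, ht₁.form]; simp
    obtain ⟨σ, hσ⟩ := M₁.act _ hd
    have hσj := D.s₁.perm_fix hdD hσ
    obtain ⟨y, hy1, hy2, hyon⟩ := htw b
    have h1 := SpR.On.conj (M := M₁) hd hσ hsim (fun v hv => by rw [hσj]; exact (hon v hv).1) (u := w₁) one_ne_zero
      hy2.2 hyon
    rw [hσj, hmv, RingEquiv.refl_apply, inv_one, mul_one] at h1
    exact ⟨_, hThc _ hdD.2 y hy1, mul_mem (mul_mem (mem_inf.2 ⟨hdD.2, hdD.1⟩) hy2) (inv_mem (mem_inf.2 ⟨hdD.2, hdD.1⟩)),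
      h1⟩
  -- the main step
  intro d hd
  have hd' : d ∈ normalizer (Z₁ : Set G) ⊓ normalizer (Z₀ : Set G) := ⟨hd.2, hd.1⟩
  obtain ⟨φ, c, A, hA, ⟨b, hb⟩, hs, hc, hat⟩ := D.s₁.exists_act hd'
  have hx₁N := D.s₁.VN hx₁
  have h1 := hat x₁ hx₁N _ hx₁w
  have hb0 : b ≠ 0 := fun h0 => D.s₁.hu (SpR.inj_of hB' hA hs (by rw [hb, h0, zero_smul]))
  have hAw : B' (A w₁) u₁ = 0 := by
    have h2 := hA.form w₁ u₁
    rw [D.s₁.hwu, map_zero, mul_zero, hb, map_smul, smul_eq_mul] at h2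
    exact (mul_eq_zero.1 h2).resolve_left hb0
  have hAwu : ∀ a : F', A w₁ ≠ a • u₁ := by
    intro a ha
    have h2 : A (w₁ - φ.symm (a * b⁻¹) • u₁) = 0 := by
      rw [hA.sub, hA.smul, φ.apply_symm_apply, hb, smul_smul, mul_assoc, inv_mul_cancel₀ hb0, mul_one, ha, sub_self]
    exact D.s₁.hw _ (sub_eq_zero.1 (SpR.inj_of hB' hA hs h2))
  obtain ⟨v₁, v₂, a₁, a₂, hv₁, hv₂, hv₁u, hv₂u, hmv⟩ := hB'.tra hAw hAwu D.s₁.hwu D.s₁.hw
  obtain ⟨y₁, hy₁, hy₁D, hon₁⟩ := htall v₁ hv₁ hv₁u a₁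
  obtain ⟨y₂, hy₂, hy₂D, hon₂⟩ := htall v₂ hv₂ hv₂u a₂
  have hon := SpR.On.mul hy₁D.2 hon₂ hon₁
  have hyD : y₂ * y₁ ∈ normalizer (Z₀ : Set G) ⊓ normalizer (Z₁ : Set G) := mul_mem hy₂D hy₁D
  have h2 := SpR.On.at hon (M₁.nor d hd.2 x₁ hx₁N) h1
  rw [hmv] at h2
  have hδ : y₂ * y₁ * d ∈ normalizer (Z₀ : Set G) ⊓ normalizer (Z₁ : Set G) := mul_mem hyD hd
  have e1 : y₂ * y₁ * (d * x₁ * d⁻¹) * (y₂ * y₁)⁻¹ = y₂ * y₁ * d * x₁ * (y₂ * y₁ * d)⁻¹ := by group
  rw [e1] at h2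
  -- `δ = y₂ y₁ d` normalises `V₀`
  have hδV : y₂ * y₁ * d ∈ normalizer (V₀ : Set G) := by
    obtain ⟨φ', c', A', hA', ⟨b', hb'⟩, -, -, hat'⟩ := D.s₁.exists_act (d := y₂ * y₁ * d) ⟨hδ.2, hδ.1⟩
    have hA'w : A' w₁ = w₁ := by
      rw [← (hat' x₁ hx₁N _ hx₁w).1, h2.1]
    refine mem_normalizer_fintype fun x hx => ?_
    obtain ⟨α, β, hαβ⟩ := D.s₁.ln x hx
    have h3 := hat' x (D.s₁.VN hx) _ hαβ
    rw [hA'.add, hA'.smul, hA'.smul, hb', hA'w, smul_smul] at h3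
    obtain ⟨x', hx', hx'at⟩ := D.s₁.ln' (φ' α * b') (φ' β)
    have h4 := M₁.div_mem (M₁.nor _ hδ.2 x (D.s₁.VN hx)) (D.s₁.VN hx') (SpR.At.eq h3 hx'at)
    have e2 : y₂ * y₁ * d * x * (y₂ * y₁ * d)⁻¹ = (y₂ * y₁ * d * x * (y₂ * y₁ * d)⁻¹ * x'⁻¹) * x' := by group
    have h5 := D.eq_one hx hx' h4 hδ.2 e2
    rw [h5, one_mul] at e2
    rw [e2]
    exact hx'
  have e3 : d = (y₂ * y₁)⁻¹ * (y₂ * y₁ * d) := by group
  rw [e3]
  refine mul_mem (inv_mem (hTheta _ (mul_mem hy₂ hy₁) hyD)) (mem_sup_right (mem_inf.2 ⟨hδ, hδV⟩))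

end Four

end Cfsg.Agent.Omega.NO3S.EThree

end
end

-- part: Mrg/Omega/NO1/SE/Red
section
prune_inst 0xc4304000400000000000050090001c46de000190006c0001c0c00a400688af0045008160b48030120800a20400380040018800500200000000000400011c0080008812069048a000000000018084000000000000000000000000000000000000000000000
set_option linter.all false
open scoped Cfsg.Agent.FastGrp

section


/-!
# LEMMA SE (#16297, helper282; #15909 (F3)), first part: `L / Z(L)` is simple

`A`, `B` two different points of the finite group `L = ⟨A, B⟩`, `|A| ≥ 4`, an element `v ≠ 1` of a point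
normalises no other point. Then `A` is a weakly closed TI-subgroup, `A ∩ O₂(L) = 1`, `L / Z(L)` is nonabelian
simple, and `(L / Z(L), A Z(L) / Z(L))` satisfies the same hypothesis.
-/

set_option autoImplicit false

namespace Cfsg.Agent.Omega.NO1.SE

open Subgroup Cfsg Cfsg.Agent.Omega.NOne.Flat.TI Cfsg.Agent.WeakTI.Basic
open Cfsg.Agent.Lib.Cores Cfsg.Agent.WeakTI.ReduceTwo Cfsg.Agent.WeakTI.ReduceComponent
open scoped Pointwise

universe u

variable {L : Type u} [Group L]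

/-- the situation of LEMMA SE -/
structure Two (A B : Subgroup L) : Prop where
  tis : Tis (⊤ : Subgroup L) A
  pt : Pt (⊤ : Subgroup L) A B
  ne : A ≠ B
  gen : A ⊔ B = ⊤
  card : 4 ≤ Nat.card A

namespace Two

variable {A B : Subgroup L} (h : Two A B)
include h

theorem ptA : Pt (⊤ : Subgroup L) A A := Tis.pt_self

theorem comm {C : Subgroup L} (hC : Pt ⊤ A C) {a b : L} (ha : a ∈ C) (hb : b ∈ C) : a * b = b * a := by
  have h1 := h.tis.pt_sq hC ha
  have h2 := h.tis.pt_sq hC hb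
  have h3 := h.tis.pt_sq hC (C.mul_mem ha hb)
  calc a * b = a * (a * b * (a * b)) * b := by rw [h3, mul_one]
    _ = (a * a) * (b * a) * (b * b) := by group
    _ = b * a := by rw [h1, h2, one_mul, mul_one]

theorem wti : WTI A where
  comm _ ha _ hb := h.comm h.ptA ha hb
  sq := h.tis.sq
  ne := h.tis.ne
  ti g := by
    by_cases hi : MulAut.conj g • A ⊓ A = ⊥
    · exact Or.inr hi
    · obtain ⟨x, hx, hx1⟩ := (Subgroup.bot_or_exists_ne_one (MulAut.conj g • A ⊓ A)).resolve_left hi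
      exact Or.inl (h.tis.eq_of_mem (Tis.pt_conj h.ptA (mem_top g)) h.ptA hx.1 hx1 hx.2)
  wc g hg := by
    have hp : Pt ⊤ A (MulAut.conj g • A) := Tis.pt_conj h.ptA (mem_top g)
    obtain ⟨a, ha, ha1⟩ := h.tis.exists_ne hp
    exact h.tis.eq_of_norm hp h.ptA ha ha1 (hg ha)

theorem cjB : Cj A B := by
  obtain ⟨g, -, e⟩ := h.pt
  exact ⟨g, e⟩

theorem nc : normalClosure (A : Set L) = ⊤ := by
  rw [eq_top_iff, ← h.gen, sup_le_iff]
  have h1 : A ≤ normalClosure (A : Set L) := subset_normalClosure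
  refine ⟨h1, ?_⟩
  obtain ⟨g, -, e⟩ := h.pt
  rw [e]
  intro x hx
  rw [mem_cj] at hx
  have h2 := (normalClosure_normal (s := (A : Set L))).conj_mem _ (h1 hx) g
  have e2 : g * (g⁻¹ * x * g) * g⁻¹ = x := by group
  rwa [e2] at h2

theorem inf_pCore [Finite L] : A ⊓ pCore 2 L = ⊥ := by
  rw [Subgroup.eq_bot_iff_forall]
  rintro x ⟨hxA, hxO⟩
  by_contra hx
  have hB : WTI B := h.wti.of_cj h.cjB
  exact h.ne (h.tis.eq_of_norm h.ptA h.pt hxA hx (pCore_le_normalizer hB hxO))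

theorem red [Finite L] : Red (A.map (QuotientGroup.mk' (center L))) :=
  Cfsg.Agent.WeakTI.ReduceMain.red_quotient h.wti h.nc h.card h.inf_pCore

/-- **`L / Z(L)` is a nonabelian simple group.** -/
theorem simple [Finite L] : IsSimpleGroup (L ⧸ center L) ∧ ∃ a b : L ⧸ center L, a * b ≠ b * a :=
  Cfsg.Agent.WeakTI.Simple.isSimpleGroup_of_red h.red

/-- a central element of a point is trivial -/
theorem eq_one_of_center {C : Subgroup L} (hC : Pt ⊤ A C) {z : L} (hz : z ∈ C) (hz2 : z ∈ center L) : z = 1 := by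
  by_contra hz1
  have hn : ∀ D : Subgroup L, z ∈ normalizer (D : Set L) := by
    intro D
    rw [mem_normalizer_iff]
    intro x
    have e : z * x * z⁻¹ = x := by rw [← mem_center_iff.1 hz2 x]; group
    rw [e]
  exact h.ne ((h.tis.eq_of_norm hC h.ptA hz hz1 (hn A)).symm.trans (h.tis.eq_of_norm hC h.pt hz hz1 (hn B)))

/-- a normalises the point `C` modulo the centre implies that it normalises it -/
theorem norm_of_mod {C : Subgroup L} (hC : Pt ⊤ A C) {a : L}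
    (hn : ∀ b ∈ C, ∃ c ∈ C, ∃ z ∈ center L, a * b * a⁻¹ = c * z) : a ∈ normalizer (C : Set L) := by
  obtain ⟨b, hb, hb1⟩ := h.tis.exists_ne hC
  obtain ⟨c, hc, z, hz, e⟩ := hn b hb
  have hD : Pt ⊤ A (MulAut.conj a • C) := Tis.pt_conj hC (mem_top a)
  have h1 : c * z ∈ MulAut.conj a • C := by rw [← e]; exact conj_mem_cj hb
  have hcz : c * z ≠ 1 := by
    rw [← e]
    intro h0
    apply hb1
    have e2 : b = a⁻¹ * (a * b * a⁻¹) * a := by group
    rw [e2, h0]; group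
  have hN : c * z ∈ normalizer (C : Set L) := by
    refine mul_mem (le_normalizer hc) ?_
    rw [mem_normalizer_iff]
    intro x
    have e : z * x * z⁻¹ = x := by rw [← mem_center_iff.1 hz x]; group
    rw [e]
  exact norm_of_conj_eq (h.tis.eq_of_norm hD hC h1 hcz hN)

/-- image of a point in `L / Z(L)` -/
abbrev im (C : Subgroup L) : Subgroup (L ⧸ center L) := C.map (QuotientGroup.mk' (center L))

theorem mk_eq_one {C : Subgroup L} (hC : Pt ⊤ A C) {x : L} (hx : x ∈ C)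
    (h1 : (QuotientGroup.mk' (center L)) x = 1) : x = 1 :=
  h.eq_one_of_center hC hx ((QuotientGroup.eq_one_iff x).1 h1)

omit h in
theorem im_conj (C : Subgroup L) (g : L) :
    im (MulAut.conj g • C) = MulAut.conj (QuotientGroup.mk' (center L) g) • im C :=
  map_cj _ C g

theorem norm_of_im {C : Subgroup L} (hC : Pt ⊤ A C) {a : L}
    (hn : QuotientGroup.mk' (center L) a ∈ normalizer (im C : Set (L ⧸ center L))) :
    a ∈ normalizer (C : Set L) := by
  refine h.norm_of_mod hC fun b hb => ?_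
  have h1 := (mem_normalizer_iff.1 hn (QuotientGroup.mk' (center L) b)).1 ⟨b, hb, rfl⟩
  obtain ⟨c, hc, e⟩ := h1
  refine ⟨c, hc, c⁻¹ * (a * b * a⁻¹), ?_, by group⟩
  rw [← map_inv, ← map_mul, ← map_mul] at e
  exact QuotientGroup.eq.1 e

theorem im_inj {C D : Subgroup L} (hC : Pt ⊤ A C) (hD : Pt ⊤ A D) (e : im C = im D) : C = D := by
  obtain ⟨a, ha, ha1⟩ := h.tis.exists_ne hC
  refine h.tis.eq_of_norm hC hD ha ha1 (h.norm_of_im hD ?_)
  rw [← e]
  exact le_normalizer ⟨a, ha, rfl⟩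

theorem card_im : Nat.card (im A) = Nat.card A := by
  have hinj : Function.Injective ((QuotientGroup.mk' (center L)).subgroupMap A) := by
    rw [injective_iff_map_eq_one]
    intro x hx
    have h1 : (QuotientGroup.mk' (center L)) (x : L) = 1 := congrArg Subtype.val hx
    exact Subtype.ext (h.mk_eq_one h.ptA x.2 h1)
  exact (Nat.card_congr (Equiv.ofBijective _
    ⟨hinj, (QuotientGroup.mk' (center L)).subgroupMap_surjective A⟩)).symm

/-- **the hypothesis passes to `L / Z(L)`** -/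
theorem quot : Two (im A) (im B) where
  tis :=
    { le := le_top
      sq := by
        rintro _ ⟨a, ha, rfl⟩
        rw [← map_mul, h.tis.sq a ha, map_one]
      ne := by
        intro h0
        obtain ⟨a, ha, ha1⟩ := h.tis.exists_ne h.ptA
        apply ha1
        have h1 : QuotientGroup.mk' (center L) a ∈ im A := ⟨a, ha, rfl⟩
        rw [h0, mem_bot] at h1
        exact h.mk_eq_one h.ptA ha h1
      ti := by
        rintro g - _ ⟨a, ha, rfl⟩ ha1 hn
        obtain ⟨g, rfl⟩ := QuotientGroup.mk'_surjective (center L) g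
        have ha2 : a ≠ 1 := by
          rintro rfl
          exact ha1 (map_one _)
        rw [← im_conj] at hn ⊢
        have hp : Pt ⊤ A (MulAut.conj g • A) := Tis.pt_conj h.ptA (mem_top g)
        rw [← h.tis.eq_of_norm h.ptA hp ha ha2 (h.norm_of_im hp hn)] }
  pt := by
    obtain ⟨g, -, e⟩ := h.pt
    exact ⟨QuotientGroup.mk' (center L) g, mem_top _, by rw [e]; exact im_conj A g⟩
  ne e := h.ne (h.im_inj h.ptA h.pt e)
  gen := by
    rw [← Subgroup.map_sup, h.gen, ← MonoidHom.range_eq_map]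
    exact MonoidHom.range_eq_top.2 (QuotientGroup.mk'_surjective _)
  card := by rw [h.card_im]; exact h.card

end Two

end Cfsg.Agent.Omega.NO1.SE

end

section


/-!
# LEMMA SE (#16297), part two: the dichotomy of the structure equation `t s t = r⁻¹ t r`

In a simple rank-one set-up of `2`-rank at least two either `r = s`, hence `(t s)³ = 1`, or the group is a Suzuki group.
-/

set_option autoImplicit false

namespace Cfsg.Agent.Omega.NO1.SE.Core

open MulAction Subgroup Cfsg Cfsg.Agent Cfsg.Agent.SuzukiRankOne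
  Cfsg.Agent.SuzukiRankOne.Assembly

variable {G Ω : Type*} [Group G] [Finite G] [MulAction G Ω] {a : Ω} {t : G} {Q : Subgroup G}

theorem core [FaithfulSMul G Ω] [IsSimpleGroup G] (hS : IsRankOneSetup G Ω a t Q)
    (h2 : ∃ x y : G, x ≠ 1 ∧ y ≠ 1 ∧ x ≠ y ∧ x * x = 1 ∧ y * y = 1 ∧ x * y = y * x) :
    (∃ s ∈ Q, s ≠ 1 ∧ s * s = 1 ∧ (t * s) ^ 3 = 1) ∨
    (Nat.card Q = (Nat.card (involutionsIn (stabilizer G a : Set G)) + 1) ^ 2 ∧ Lie.IsoSuzuki G) := by
  obtain ⟨hcen, hclosed⟩ := S1130.result hS h2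
  have hK := S1131.result hS h2
  obtain ⟨C, hC, hCc, -⟩ := id hK
  obtain ⟨⟨s, r⟩, ⟨hs, hr, hsr⟩, -⟩ := S1123.result hS
  simp only at hs hr hsr
  have hQ2 := M1.isPGroup_Q hS h2
  by_cases hrs : r = s
  · left
    subst hrs
    refine ⟨r, hr, hs.2.1, hs.2.2, ?_⟩
    have hinv : r⁻¹ = r := inv_eq_of_mul_eq_one_left hs.2.2
    rw [hinv] at hsr
    have ht := hS.mul_self
    calc (t * r) ^ 3 = (t * r * t) * r * (t * r) := by simp only [pow_succ, pow_zero, one_mul, mul_assoc]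
      _ = (r * t * r) * r * (t * r) := by rw [hsr]
      _ = r * t * (r * r) * t * r := by simp only [mul_assoc]
      _ = r * (t * t) * r := by rw [hs.2.2]; simp only [mul_one, mul_assoc]
      _ = 1 := by rw [ht, mul_one, hs.2.2]
  · right
    have : Fact (Nat.Prime 2) := ⟨Nat.prime_two⟩
    have hnab : ¬ ∀ x ∈ Q, ∀ y ∈ Q, x * y = y * x := fun h =>
      hrs (AbelianCase.r_eq_s hS h2 C hC hQ2 h s r hs hr hsr)
    let S : Sylow 2 Q := default
    have hST : (S : Subgroup Q) = ⊤ :=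
      (S.is_maximal' (hQ2.of_equiv Subgroup.topEquiv.symm) le_top).symm
    have hSuz : IsSuzukiTwoGroup ↥(S : Subgroup Q) := by
      rcases S1132.result hS h2 S with h | h
      · exfalso
        apply hnab
        intro x hx y hy
        have hmem : ∀ x : Q, x ∈ (S : Subgroup Q) := fun x => by
          rw [hST]
          exact Subgroup.mem_top x
        have h3 := h.is_comm.comm (⟨⟨x, hx⟩, hmem _⟩ : (S : Subgroup Q)) ⟨⟨y, hy⟩, hmem _⟩
        exact congrArg (fun z : (S : Subgroup Q) => ((z : Q) : G)) h3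
      · exact h
    obtain ⟨h4, hcard, n, hn⟩ := of_suzuki hS hcen S hST hSuz
    have hr2 : r * r = s := OrderFive.sq_eq hS hcen hclosed hs hr hsr hrs (h4 r hr)
    have hcard' : Nat.card Q = (Nat.card (involutionsIn (stabilizer G a : Set G)) + 1) ^ 2 := by
      refine hcard.resolve_right ?_
      rw [hn]
      exact OrderFive.card_ne_cube hS hcen hclosed hC hs hr hsr hrs (h4 r hr) hn
    exact ⟨hcard', SzCase.isoSuzuki hS h2 hK hs hr hsr hr2 hcard'⟩

end Cfsg.Agent.Omega.NO1.SE.Core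

end

section


/-!
# Central extensions of `Sz(q)`: tools for `Z(L) = 1`

* `comm_of_scale` : a family `ℓ : F → E`, additive modulo the centre and scaled by elements of `E`, commutes;
* `pow_index_of_perfect`, `not_dvd_of_cyclic` : transfer;
* `isCyclic_of_isPGroup` : for `p` odd, `p`-subgroups of `Sz(q)` are cyclic.
-/

set_option autoImplicit false

namespace Cfsg.Agent.Omega.NO1.SE.Centre

open Subgroup Cfsg

/-! ### bilinear maps -/

section scale

variable {E F : Type*} [Group E] [Field F]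

theorem comm_of_scale (htwo : (2 : F) = 0) (hex : ∃ t : F, t ≠ 0 ∧ t + 1 ≠ 0 ∧ t ^ 2 + t + 1 ≠ 0) (ℓ : F → E)
    (hadd : ∀ x y, ∃ z ∈ center E, ℓ x * ℓ y = ℓ (x + y) * z)
    (hs : ∀ k : F, k ≠ 0 → ∃ δ : E, ∀ x, ∃ z ∈ center E, δ * ℓ x * δ⁻¹ = ℓ (k * x) * z) (x y : F) :
    ℓ x * ℓ y = ℓ y * ℓ x := by
  have hself : ∀ a : F, a + a = 0 := fun a => by linear_combination a * htwo
  -- the commutator map
  let b : F → F → E := fun x y => ℓ x * ℓ y * (ℓ x)⁻¹ * (ℓ y)⁻¹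
  have hb : ∀ x y, b x y = ℓ x * ℓ y * (ℓ x)⁻¹ * (ℓ y)⁻¹ := fun _ _ => rfl
  have hcen : ∀ x y, b x y ∈ center E := by
    intro x y
    obtain ⟨z, hz, e⟩ := hadd x y
    obtain ⟨z', hz', e'⟩ := hadd y x
    have h1 : b x y = ℓ (x + y) * (z * z'⁻¹) * (ℓ (x + y))⁻¹ := by
      have h2 : b x y = (ℓ x * ℓ y) * (ℓ y * ℓ x)⁻¹ := by rw [hb]; group
      rw [h2, e, e', add_comm y x]; group
    have h3 : z * z'⁻¹ ∈ center E := mul_mem hz (inv_mem hz')
    rw [h1, mem_center_iff.1 h3, mul_inv_cancel_right]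
    exact h3
  have hc : ∀ x y (g : E), b x y * g = g * b x y := fun x y g => (mem_center_iff.1 (hcen x y) g).symm
  -- multiplicativity
  have hl : ∀ x x' y, b (x + x') y = b x y * b x' y := by
    intro x x' y
    obtain ⟨z, hz, e⟩ := hadd x x'
    have hz' : ∀ g : E, z * g = g * z := fun g => (mem_center_iff.1 hz g).symm
    have h1 : ℓ (x + x') = ℓ x * ℓ x' * z⁻¹ := by rw [e, mul_inv_cancel_right]
    have hz'' : ∀ g : E, z⁻¹ * g = g * z⁻¹ := fun g => by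
      rw [inv_mul_eq_iff_eq_mul, ← mul_assoc, hz', mul_inv_cancel_right]
    have h2 : b (x + x') y = ℓ x * b x' y * ℓ y * (ℓ x)⁻¹ * (ℓ y)⁻¹ := by
      rw [hb, hb, h1]
      calc ℓ x * ℓ x' * z⁻¹ * ℓ y * (ℓ x * ℓ x' * z⁻¹)⁻¹ * (ℓ y)⁻¹
          = ℓ x * ℓ x' * (z⁻¹ * ℓ y) * z * (ℓ x')⁻¹ * (ℓ x)⁻¹ * (ℓ y)⁻¹ := by group
        _ = ℓ x * ℓ x' * (ℓ y * z⁻¹) * z * (ℓ x')⁻¹ * (ℓ x)⁻¹ * (ℓ y)⁻¹ := by rw [hz'']
        _ = ℓ x * (ℓ x' * ℓ y * (ℓ x')⁻¹ * (ℓ y)⁻¹) * ℓ y * (ℓ x)⁻¹ * (ℓ y)⁻¹ := by group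
    rw [h2]
    calc ℓ x * b x' y * ℓ y * (ℓ x)⁻¹ * (ℓ y)⁻¹ = (b x' y * ℓ x) * ℓ y * (ℓ x)⁻¹ * (ℓ y)⁻¹ := by rw [hc]
      _ = b x' y * b x y := by rw [hb x y]; group
      _ = b x y * b x' y := hc _ _ _
  have hr : ∀ x y y', b x (y + y') = b x y * b x y' := by
    intro x y y'
    have hinv : ∀ u v, b u v = (b v u)⁻¹ := fun u v => by rw [hb, hb]; group
    rw [hinv, hl, _root_.mul_inv_rev, ← hinv, ← hinv]
    exact hc _ _ _
  -- scaling
  have hsc : ∀ k, k ≠ 0 → ∀ x y, b (k * x) (k * y) = b x y := by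
    intro k hk x y
    obtain ⟨δ, hδ⟩ := hs k hk
    obtain ⟨z, hz, e⟩ := hδ x
    obtain ⟨z', hz', e'⟩ := hδ y
    have h1 : ℓ (k * x) = δ * ℓ x * δ⁻¹ * z⁻¹ := by rw [e, mul_inv_cancel_right]
    have h2 : ℓ (k * y) = δ * ℓ y * δ⁻¹ * z'⁻¹ := by rw [e', mul_inv_cancel_right]
    have hz2 : ∀ g : E, z⁻¹ * g = g * z⁻¹ := fun g => (mem_center_iff.1 (inv_mem hz) g).symm
    have hz3 : ∀ g : E, z'⁻¹ * g = g * z'⁻¹ := fun g => (mem_center_iff.1 (inv_mem hz') g).symm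
    have h3 : b (k * x) (k * y) = δ * b x y * δ⁻¹ := by
      rw [hb (k * x), h1, h2]
      calc δ * ℓ x * δ⁻¹ * z⁻¹ * (δ * ℓ y * δ⁻¹ * z'⁻¹) * (δ * ℓ x * δ⁻¹ * z⁻¹)⁻¹ * (δ * ℓ y * δ⁻¹ * z'⁻¹)⁻¹
          = δ * ℓ x * δ⁻¹ * (z⁻¹ * (δ * ℓ y * δ⁻¹)) * (z'⁻¹ * z) * (δ * (ℓ x)⁻¹ * δ⁻¹) * z' * (δ * (ℓ y)⁻¹ * δ⁻¹) := by group
        _ = δ * ℓ x * δ⁻¹ * ((δ * ℓ y * δ⁻¹) * z⁻¹) * (z'⁻¹ * z) * (δ * (ℓ x)⁻¹ * δ⁻¹) * z' * (δ * (ℓ y)⁻¹ * δ⁻¹) := by rw [hz2]
        _ = δ * ℓ x * ℓ y * δ⁻¹ * (z⁻¹ * (z'⁻¹ * z)) * (δ * (ℓ x)⁻¹ * δ⁻¹) * z' * (δ * (ℓ y)⁻¹ * δ⁻¹) := by group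
        _ = δ * ℓ x * ℓ y * δ⁻¹ * (z'⁻¹ * (δ * (ℓ x)⁻¹ * δ⁻¹)) * z' * (δ * (ℓ y)⁻¹ * δ⁻¹) := by
            rw [hz2]; group
        _ = δ * ℓ x * ℓ y * δ⁻¹ * ((δ * (ℓ x)⁻¹ * δ⁻¹) * z'⁻¹) * z' * (δ * (ℓ y)⁻¹ * δ⁻¹) := by rw [hz3]
        _ = δ * (ℓ x * ℓ y * (ℓ x)⁻¹ * (ℓ y)⁻¹) * δ⁻¹ := by group
    rw [h3, ← hc, mul_inv_cancel_right]
  -- `b 1 = 1`
  have h0 : ∀ y, b 0 y = 1 := by
    intro y
    have h1 := hl 0 0 y
    rw [add_zero] at h1
    exact (mul_eq_left.1 h1.symm)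
  have hr0 : ∀ x, b x 0 = 1 := by
    intro x
    have h1 := hr x 0 0
    rw [add_zero] at h1
    exact (mul_eq_left.1 h1.symm)
  obtain ⟨t, ht0, ht1, ht⟩ := hex
  have hscale : ∀ x, x ≠ 0 → ∀ y, b x y = b 1 (x⁻¹ * y) := by
    intro x hx y
    have h1 := hsc x hx 1 (x⁻¹ * y)
    rw [mul_one, mul_inv_cancel_left₀ hx] at h1
    exact h1
  have hsq : ∀ x y, b x y * b x y = 1 := by
    intro x y
    rw [← hr, hself, hr0]
  have h1 : ∀ y, b 1 y = 1 := by
    intro y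
    set s : F := (t + 1)⁻¹ + t⁻¹ + 1 with hsdef
    have hs0 : s ≠ 0 := by
      have h2 : s = (t ^ 2 + t + 1) / (t * (t + 1)) := by
        rw [hsdef]
        field_simp
        linear_combination t * htwo
      rw [h2]
      exact div_ne_zero ht (mul_ne_zero ht0 ht1)
    have key : ∀ v, b 1 (s * v) = 1 := by
      intro v
      have h2 : s * v = (t + 1)⁻¹ * v + t⁻¹ * v + v := by rw [hsdef]; ring
      have e1 : b t v * b 1 v * b t v = b 1 v := by rw [hc t v (b 1 v), mul_assoc, hsq, mul_one]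
      rw [h2, hr, hr, ← hscale _ ht1, ← hscale _ ht0, hl, e1, hsq]
    have h3 := key (s⁻¹ * y)
    rwa [mul_inv_cancel_left₀ hs0] at h3
  have hall : b x y = 1 := by
    by_cases hx : x = 0
    · rw [hx, h0]
    · rw [hscale x hx, h1]
  have h2 : ℓ x * ℓ y * (ℓ x)⁻¹ * (ℓ y)⁻¹ = 1 := hall
  rw [mul_inv_eq_one, mul_inv_eq_iff_eq_mul] at h2
  exact h2

end scale

/-! ### transfer -/

section transfer

variable {L : Type*} [Group L] [Finite L]

omit [Finite L] in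
theorem hom_eq_one (hL : commutator L = ⊤) {E : Type*} [CommGroup E] (f : L →* E) (x : L) : f x = 1 := by
  have h1 : commutator L ≤ f.ker := Abelianization.commutator_subset_ker f
  exact h1 (by rw [hL]; exact mem_top x)

theorem pow_index_of_perfect (hL : commutator L = ⊤) {E : Type*} [CommGroup E] (H : Subgroup L) (ϕ : H →* E)
    {z : L} (hz : z ∈ center L) : ∃ h : z ^ H.index ∈ H, ϕ ⟨z ^ H.index, h⟩ = 1 := by
  have key : ∀ (k : ℕ) (g₀ : L), g₀⁻¹ * z ^ k * g₀ ∈ H → g₀⁻¹ * z ^ k * g₀ = z ^ k := by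
    intro k g₀ _
    have h1 : z ^ k ∈ center L := pow_mem hz k
    rw [mul_assoc, ← mem_center_iff.1 h1 g₀, inv_mul_cancel_left]
  refine ⟨MonoidHom.transfer_eq_pow_aux z key, ?_⟩
  rw [← MonoidHom.transfer_eq_pow ϕ z key]
  exact hom_eq_one hL _ z

/-- a finite perfect group whose central quotient has cyclic Sylow `p`-subgroups has `p'`-centre -/
theorem not_dvd_of_cyclic (hL : commutator L = ⊤) {p : ℕ} [hp : Fact p.Prime]
    (hc : ∀ P : Subgroup (L ⧸ center L), IsPGroup p P → IsCyclic P) : ¬ p ∣ Nat.card (center L) := by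
  intro hdvd
  obtain ⟨z₀, hz₀⟩ := exists_prime_orderOf_dvd_card' p hdvd
  obtain ⟨z, hz⟩ := z₀
  have hzo : orderOf z = p := by rw [← hz₀, Subgroup.orderOf_mk]
  have hzp : IsPGroup p (zpowers z) := by
    rw [IsPGroup.iff_card]
    exact ⟨1, by rw [Nat.card_zpowers, hzo, pow_one]⟩
  obtain ⟨P, hP⟩ := hzp.exists_le_sylow
  -- `P` is abelian
  let f : (P : Subgroup L) →* (P : Subgroup L).map (QuotientGroup.mk' (center L)) :=
    (QuotientGroup.mk' (center L)).subgroupMap (P : Subgroup L)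
  have hcyc : IsCyclic ((P : Subgroup L).map (QuotientGroup.mk' (center L))) := by
    apply hc
    exact P.isPGroup'.map _
  have hcomm : ∀ x y : (P : Subgroup L), x * y = y * x := by
    refine commutative_of_cyclic_center_quotient f ?_
    intro x hx
    have h1 : (QuotientGroup.mk' (center L)) (x : L) = 1 := congrArg Subtype.val hx
    have h2 : (x : L) ∈ center L := (QuotientGroup.eq_one_iff (x : L)).1 h1
    rw [mem_center_iff]
    intro y
    exact Subtype.ext (mem_center_iff.1 h2 y)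
  let _ : CommGroup (P : Subgroup L) := { (inferInstance : Group (P : Subgroup L)) with mul_comm := hcomm }
  obtain ⟨h1, h2⟩ := pow_index_of_perfect hL (P : Subgroup L) (MonoidHom.id (P : Subgroup L)) hz
  have h3 : z ^ (P : Subgroup L).index = 1 := congrArg Subtype.val h2
  have h4 : p ∣ (P : Subgroup L).index := by
    have h5 := orderOf_dvd_of_pow_eq_one h3
    rwa [hzo] at h5
  exact P.not_dvd_index h4

end transfer

/-! ### odd Sylow subgroups of `Sz(q)` -/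

section cyclic

open Cfsg.Agent.LieExceptional.CyclicSylow Cfsg.Agent.ThreePrime.SzRel

/-- If `p` is odd, the `p`-part of `q² (q - 1) (q² + 1)` is that of `q - 1` when `p ∣ q - 1`. -/
theorem fact_aux {p q : ℕ} [Fact p.Prime] (hp : p ≠ 2) (hq : 2 ≤ q) (hpq : p ∣ q - 1) :
    (q ^ 2 * (q - 1) * (q ^ 2 + 1)).factorization p = (q - 1).factorization p := by
  have hpp : p.Prime := Fact.out
  have h1 : ¬ p ∣ q := by
    intro h
    have h2 : p ∣ q - (q - 1) := Nat.dvd_sub h hpq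
    rw [show q - (q - 1) = 1 by omega] at h2
    exact hpp.one_lt.ne' (Nat.dvd_one.1 h2)
  have h2 : ¬ p ∣ q ^ 2 + 1 := by
    intro h
    obtain ⟨k, hk⟩ := hpq
    have h3 : q = p * k + 1 := by omega
    rw [h3] at h
    have h4 : (p * k + 1) ^ 2 + 1 = p * (p * k * k + 2 * k) + 2 := by ring
    rw [h4] at h
    have h5 : p ∣ 2 := (Nat.dvd_add_right (dvd_mul_right _ _)).1 h
    exact hp ((Nat.prime_dvd_prime_iff_eq hpp Nat.prime_two).1 h5)
  have h3 : q - 1 ≠ 0 := by omega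
  have h4 : q ^ 2 * (q ^ 2 + 1) ≠ 0 := by positivity
  rw [show q ^ 2 * (q - 1) * (q ^ 2 + 1) = q ^ 2 * (q ^ 2 + 1) * (q - 1) by ring,
    Nat.factorization_mul h4 h3, Finsupp.add_apply, Nat.factorization_eq_zero_of_not_dvd, zero_add]
  intro h
  rcases hpp.dvd_mul.1 h with h | h
  · exact h1 (hpp.dvd_of_dvd_pow h)
  · exact h2 h

/-- If the odd prime `p` divides `q² + 1` with `q` even, then it does not divide `q ^ i - 1` for `0 < i < 4`. -/
theorem order_aux {p q : ℕ} [Fact p.Prime] (hp : p ≠ 2) (hq : 2 ≤ q) (hpq : p ∣ q ^ 2 + 1) :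
    ∀ i, 0 < i → i < 4 → ¬ p ∣ q ^ i - 1 := by
  have hpp : p.Prime := Fact.out
  have hp2 : ¬ p ∣ 2 := fun h => hp ((Nat.prime_dvd_prime_iff_eq hpp Nat.prime_two).1 h)
  have key2 : ¬ p ∣ q ^ 2 - 1 := by
    intro h
    have h1 : p ∣ (q ^ 2 + 1) - (q ^ 2 - 1) := Nat.dvd_sub hpq h
    have h2 : 1 ≤ q ^ 2 := Nat.one_le_pow _ _ (by omega)
    rw [show (q ^ 2 + 1) - (q ^ 2 - 1) = 2 by omega] at h1
    exact hp2 h1
  have key1 : ¬ p ∣ q - 1 := by
    intro h
    apply key2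
    have : q - 1 ∣ q ^ 2 - 1 := by
      simpa using Nat.sub_dvd_pow_sub_pow q 1 2
    exact h.trans this
  intro i hi hi4
  interval_cases i
  · simpa using key1
  · exact key2
  · intro h
    have h1 : (q ^ 3 : ZMod p) = 1 := by
      have h2 : ((q ^ 3 - 1 : ℕ) : ZMod p) = 0 := (ZMod.natCast_eq_zero_iff _ _).2 h
      rw [Nat.cast_sub (Nat.one_le_pow _ _ (by omega))] at h2
      push_cast at h2
      exact sub_eq_zero.1 h2
    have h2 : (q ^ 2 + 1 : ZMod p) = 0 := by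
      have := (ZMod.natCast_eq_zero_iff (q ^ 2 + 1) p).2 hpq
      push_cast at this
      exact this
    have h3 : (q : ZMod p) = -1 := by
      linear_combination (q : ZMod p) * h2 - h1
    rw [h3] at h2
    have h4 : ((2 : ℕ) : ZMod p) = 0 := by
      push_cast
      linear_combination h2
    exact hp2 ((ZMod.natCast_eq_zero_iff _ _).1 h4)

/-- **`p`-subgroups of `Sz(q)`, `p` odd, are cyclic.** -/
theorem isCyclic_of_isPGroup {X : Type*} [Group X] [Finite X] (hX : Lie.IsoSuzuki X) {p : ℕ} [Fact p.Prime]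
    (hp : p ≠ 2) (P : Subgroup X) (hP : IsPGroup p P) : IsCyclic P := by
  have hpp : p.Prime := Fact.out
  obtain ⟨F, iF, iF', m, hm, hF, ⟨f⟩⟩ := hX
  have hcard : Nat.card X = (2 ^ (2 * m + 1)) ^ 2 * (2 ^ (2 * m + 1) - 1) * ((2 ^ (2 * m + 1)) ^ 2 + 1) := by
    rw [Nat.card_congr f.toEquiv]
    exact (Cfsg.Agent.S1163.result hm hF).1
  rw [← hF] at hcard
  let R : Cfsg.Agent.ThreePrime.SzRel.Rel X F := (ofGood (Cfsg.Agent.LieRecognition.SzMatrix.good hF)).map f.symm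
  have hq : Nat.card F = Fintype.card F := Nat.card_eq_fintype_card
  set q := Fintype.card F with hqdef
  have hq2 : 2 ≤ q := by
    rw [hF]
    calc 2 = 2 ^ 1 := rfl
      _ ≤ 2 ^ (2 * m + 1) := Nat.pow_le_pow_right (by norm_num) (by omega)
  have hpq : ¬ p ∣ q := by
    intro h
    rw [hF] at h
    exact hp ((Nat.prime_dvd_prime_iff_eq hpp Nat.prime_two).1 (hpp.dvd_of_dvd_pow h))
  by_cases h1 : p ∣ q - 1
  · let d : Fˣ →* X :=
      { toFun := R.d
        map_one' := R.d_one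
        map_mul' := fun k l => (R.d_mul k l).symm }
    have hd : Function.Injective d := fun k l h => R.d_inj h
    refine isCyclic_of_isPGroup_of_hom d hd ?_ hP
    rw [hcard, Nat.card_units, hq]
    exact fact_aux hp hq2 h1
  · by_cases h2 : p ∣ q ^ 2 + 1
    · refine isCyclic_of_isPGroup_of_hom_GL (F := F) (n := 4) (p := p) ?_ ?_ hP
        (((Cfsg.Lie.Sz F (2 ^ (m + 1))).subtype.comp f.toMonoidHom).comp (Subgroup.subtype _)) ?_
      · rw [hq]; exact hpq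
      · rw [hq]; exact order_aux hp hq2 h2
      · rw [MonoidHom.coe_comp, MonoidHom.coe_comp]
        exact ((Subgroup.subtype_injective _).comp f.injective).comp (Subgroup.subtype_injective _)
    · have h3 : ¬ p ∣ Nat.card X := by
        rw [hcard]
        intro h
        rcases hpp.dvd_mul.1 h with h | h
        · rcases hpp.dvd_mul.1 h with h | h
          · exact hpq (hpp.dvd_of_dvd_pow h)
          · exact h1 h
        · exact h2 h
      have h4 : Nat.card P = 1 := by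
        obtain ⟨n, hn⟩ := IsPGroup.iff_card.1 hP
        rcases Nat.eq_zero_or_pos n with h0 | h0
        · rw [hn, h0, pow_zero]
        · exfalso
          apply h3
          refine (dvd_pow_self p h0.ne').trans ?_
          rw [← hn]
          exact card_subgroup_dvd_card P
      have := (Nat.card_eq_one_iff_unique.1 h4).1
      infer_instance

end cyclic

end Cfsg.Agent.Omega.NO1.SE.Centre

end

section


/-!
# `L / Z(L) = Sz(q)` with a lift `A` of the centre of a Sylow 2-subgroup: `Z(L) = 1` (#16297 (f))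

* `exists_rel_sylow` : coordinates adapted to a Sylow 2-subgroup;
* `Ext` : `A ∩ Z(L) = 1`, `A` maps onto `{u 0 b}`, an element normalising `A` modulo `Z(L)` normalises `A`;
* `Ext.le_commutator`, `Ext.not_two_dvd`, `Ext.center_eq_bot`.
-/

set_option autoImplicit false

namespace Cfsg.Agent.Omega.NO1.SE

open Subgroup Cfsg Cfsg.Agent.Omega.NO1.SE.Centre
open Cfsg.Agent.ThreePrime

/-- coordinates adapted to a Sylow 2-subgroup -/
theorem exists_rel_sylow {X : Type*} [Group X] [Finite X] (h : Lie.IsoSuzuki X) (P : Sylow 2 X) :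
    ∃ (F : Type) (_ : Field F) (_ : Fintype F) (m : ℕ), 1 ≤ m ∧ Fintype.card F = 2 ^ (2 * m + 1) ∧
      Nat.card X = Fintype.card F ^ 2 * (Fintype.card F ^ 2 + 1) * (Fintype.card F - 1) ∧
      ∃ R : SzRel.Rel X F, R.T = (P : Subgroup X) := by
  have : Fact (Nat.Prime 2) := ⟨Nat.prime_two⟩
  obtain ⟨F, iF, iF', m, hm, hF, ⟨f⟩⟩ := h
  let R₀ : SzRel.Rel X F := (SzRel.ofGood (Cfsg.Agent.LieRecognition.SzMatrix.good hF)).map f.symm
  obtain ⟨P₀, hP₀⟩ := R₀.exists_sylow_eq hm hF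
  obtain ⟨g, hg⟩ := MulAction.exists_smul_eq X P₀ P
  refine ⟨F, iF, iF', m, hm, hF, ?_, R₀.map (MulAut.conj g), ?_⟩
  · rw [Nat.card_congr f.toEquiv, (Cfsg.Agent.S1163.result hm hF).1, hF]
    ring
  rw [← hg, Sylow.coe_subgroup_smul, hP₀]
  ext x
  rw [Subgroup.mem_pointwise_smul_iff_inv_smul_mem]
  constructor
  · rintro ⟨a, b, rfl⟩
    refine ⟨a, b, ?_⟩
    show (MulAut.conj g)⁻¹ (MulAut.conj g (R₀.u a b)) = _
    rw [MulAut.inv_apply_self]
  · rintro ⟨a, b, hab⟩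
    refine ⟨a, b, ?_⟩
    show x = MulAut.conj g (R₀.u a b)
    rw [← hab]
    exact (MulAut.apply_inv_self X (MulAut.conj g) x).symm

/-- a lift of the centre of a Sylow 2-subgroup of `L / Z(L) = Sz(q)` -/
structure Ext {L F : Type*} [Group L] [Field F] (A : Subgroup L) (R : SzRel.Rel (L ⧸ center L) F) : Prop where
  inf : ∀ a ∈ A, a ∈ center L → a = 1
  mem : ∀ x, x ∈ A.map (QuotientGroup.mk' (center L)) ↔ ∃ b, x = R.u 0 b
  norm : ∀ g : L, (∀ x ∈ A.map (QuotientGroup.mk' (center L)),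
    QuotientGroup.mk' (center L) g * x * (QuotientGroup.mk' (center L) g)⁻¹ ∈ A.map (QuotientGroup.mk' (center L))) →
      g ∈ normalizer (A : Set L)

namespace Ext

variable {L F : Type*} [Group L] [Field F] {A : Subgroup L} {R : SzRel.Rel (L ⧸ center L) F}
  (h : Ext A R)
include h

local notation "π" => QuotientGroup.mk' (center L)

theorem exists_mem (b : F) : ∃ a ∈ A, (QuotientGroup.mk' (center L)) a = R.u 0 b := by
  obtain ⟨a, ha, e⟩ := (h.mem (R.u 0 b)).2 ⟨b, rfl⟩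
  exact ⟨a, ha, e⟩

omit h in
theorem center_of_eq {x y : L} (e : (QuotientGroup.mk' (center L)) x = (QuotientGroup.mk' (center L)) y) :
    x⁻¹ * y ∈ center L := QuotientGroup.eq.1 e

theorem eq_of_eq {a b : L} (ha : a ∈ A) (hb : b ∈ A)
    (e : (QuotientGroup.mk' (center L)) a = (QuotientGroup.mk' (center L)) b) : a = b := by
  have h1 := h.inf _ (mul_mem (inv_mem ha) hb) (center_of_eq e)
  rwa [inv_mul_eq_one] at h1

theorem norm_d {g : L} {k : Fˣ} (hg : (QuotientGroup.mk' (center L)) g = R.d k) : g ∈ normalizer (A : Set L) := by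
  apply h.norm
  intro x hx
  obtain ⟨b, rfl⟩ := (h.mem x).1 hx
  rw [hg, R.conj_d, zero_mul, zero_mul]
  exact (h.mem _).2 ⟨_, rfl⟩

theorem norm_u {g : L} {a b : F} (hg : (QuotientGroup.mk' (center L)) g = R.u a b) :
    g ∈ normalizer (A : Set L) := by
  apply h.norm
  intro x hx
  obtain ⟨c, rfl⟩ := (h.mem x).1 hx
  rw [hg, R.conj_u]
  exact (h.mem _).2 ⟨_, rfl⟩

/-- `A = [A, H]` -/
theorem le_commutator (hne : ∃ j : Fˣ, j ≠ 1) : A ≤ commutator L := by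
  intro a ha
  obtain ⟨b, hb⟩ := (h.mem _).1 ⟨a, ha, rfl⟩
  obtain ⟨j, hj⟩ := hne
  have hj1 : R.θ j + 1 ≠ 0 := by
    intro h0
    apply hj
    have h1 : R.θ j = 1 := by
      have h2 := R.add_self (1 : F)
      linear_combination h0 - h2
    have h2 : (j : F) = 1 := R.θ.injective (by rw [h1, map_one])
    exact Units.ext h2
  obtain ⟨c, hc⟩ : ∃ c : F, c * R.θ j + c = b := ⟨b / (R.θ j + 1), by field_simp⟩
  obtain ⟨a', ha', e'⟩ := h.exists_mem c
  obtain ⟨g, hg⟩ := QuotientGroup.mk'_surjective (center L) (R.d j)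
  have hgn := h.norm_d hg
  have h1 : g * a' * g⁻¹ * a'⁻¹ ∈ A := mul_mem ((mem_normalizer_iff.1 hgn a').1 ha') (inv_mem ha')
  have h2 : (QuotientGroup.mk' (center L)) (g * a' * g⁻¹ * a'⁻¹) = (QuotientGroup.mk' (center L)) a := by
    rw [map_mul, map_mul, map_mul, map_inv, map_inv, hg, e', R.conj_d, R.u_inv, R.u_mul]
    show _ = (QuotientGroup.mk' (center L)) a
    rw [hb]
    simp only [zero_mul, add_zero]
    rw [hc]
  rw [← h.eq_of_eq h1 ha h2]
  exact commutator_mem_commutator (mem_top g) (mem_top a')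

/-- `Z(L)` has odd order. -/
theorem not_two_dvd [Finite L] [Fintype F] {m : ℕ} (hm : 1 ≤ m) (hF : Fintype.card F = 2 ^ (2 * m + 1))
    (hL : commutator L = ⊤) : ¬ 2 ∣ Nat.card (center L) := by
  classical
  have : Fact (Nat.Prime 2) := ⟨Nat.prime_two⟩
  -- a scalar
  have hex : ∃ t : F, t ≠ 0 ∧ t + 1 ≠ 0 ∧ t ^ 2 + t + 1 ≠ 0 := by
    by_contra hcon
    push_neg at hcon
    let p : Polynomial F := Polynomial.X * (Polynomial.X + 1) * (Polynomial.X ^ 2 + Polynomial.X + 1)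
    have hp : p.Monic := by
      have h1 : (Polynomial.X + 1 : Polynomial F).Monic := by monicity!
      have h2 : (Polynomial.X ^ 2 + Polynomial.X + 1 : Polynomial F).Monic := by monicity!
      exact (Polynomial.monic_X.mul h1).mul h2
    have hd : p.natDegree ≤ 4 := by
      show (Polynomial.X * (Polynomial.X + 1) * (Polynomial.X ^ 2 + Polynomial.X + 1) : Polynomial F).natDegree ≤ 4
      compute_degree
    have h0 : p = 0 := by
      refine Polynomial.eq_zero_of_natDegree_lt_card_of_eval_eq_zero p (f := id) Function.injective_id ?_ ?_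
      · intro t
        show Polynomial.eval t (Polynomial.X * (Polynomial.X + 1) * (Polynomial.X ^ 2 + Polynomial.X + 1)) = 0
        simp only [Polynomial.eval_mul, Polynomial.eval_add, Polynomial.eval_pow, Polynomial.eval_X,
          Polynomial.eval_one]
        by_cases h1 : t = 0
        · rw [h1, zero_mul, zero_mul]
        · by_cases h2 : t + 1 = 0
          · rw [h2, mul_zero, zero_mul]
          · rw [hcon t h1 h2, mul_zero]
      · rw [hF]
        refine lt_of_le_of_lt hd ?_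
        calc 4 < 2 ^ 3 := by norm_num
          _ ≤ 2 ^ (2 * m + 1) := Nat.pow_le_pow_right (by norm_num) (by omega)
    exact hp.ne_zero h0
  -- `N(A) / A`
  set N := normalizer (A : Set L) with hN
  let A' : Subgroup N := A.subgroupOf N
  have hA'n : A'.Normal := inferInstance
  let q : N →* N ⧸ A' := QuotientGroup.mk' A'
  have hqA : ∀ x : N, (x : L) ∈ A → q x = 1 := fun x hx => (QuotientGroup.eq_one_iff x).2 hx
  have hcN : ∀ z ∈ center L, z ∈ N := by
    intro z hz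
    rw [hN, mem_normalizer_iff]
    intro x
    have e : z * x * z⁻¹ = x := by rw [← mem_center_iff.1 hz x]; group
    rw [e]
  have hqc : ∀ x : N, (x : L) ∈ center L → q x ∈ center (N ⧸ A') := by
    intro x hx
    rw [mem_center_iff]
    intro y
    obtain ⟨y, rfl⟩ := QuotientGroup.mk'_surjective A' y
    show q y * q x = q x * q y
    rw [← map_mul, ← map_mul]
    congr 1
    exact Subtype.ext (mem_center_iff.1 hx y)
  have hlift : ∀ x : F, ∃ g : N, (QuotientGroup.mk' (center L)) (g : L) = R.u x 0 := by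
    intro x
    obtain ⟨g, hg⟩ := QuotientGroup.mk'_surjective (center L) (R.u x 0)
    exact ⟨⟨g, h.norm_u hg⟩, hg⟩
  choose û hû using hlift
  let ℓ : F → N ⧸ A' := fun x => q (û x)
  -- an element of `N` over `u a b` is in `ℓ a * center`
  have key : ∀ (g : N) (a b : F), (QuotientGroup.mk' (center L)) (g : L) = R.u a b →
      ∃ z ∈ center (N ⧸ A'), q g = ℓ a * z := by
    intro g a b hg
    obtain ⟨c, hc, ec⟩ := h.exists_mem b
    have hcN' : c ∈ N := le_normalizer hc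
    have h1 : (QuotientGroup.mk' (center L)) ((û a : L) * c) = (QuotientGroup.mk' (center L)) (g : L) := by
      rw [map_mul, hû, ec, hg, R.u_mul]
      congr 1
      · ring
      · rw [map_zero]; ring
    have h2 := center_of_eq h1
    refine ⟨q (⟨c, hcN'⟩ * ((û a * ⟨c, hcN'⟩)⁻¹ * g)), ?_, ?_⟩
    · rw [map_mul, hqA ⟨c, hcN'⟩ hc, one_mul]
      exact hqc _ h2
    · show q g = q (û a) * q _
      rw [← map_mul]
      congr 1
      group
  have hcomm : ∀ x y, ℓ x * ℓ y = ℓ y * ℓ x := by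
    refine comm_of_scale R.two hex ℓ ?_ ?_
    · intro x y
      have h1 := key (û x * û y) (x + y) (x * R.θ y) (by
        show (QuotientGroup.mk' (center L)) ((û x : L) * (û y : L)) = _
        rw [map_mul, hû, hû, R.u_mul]
        congr 1
        ring)
      obtain ⟨z, hz, e⟩ := h1
      rw [map_mul] at e
      exact ⟨z, hz, e⟩
    · intro k hk
      -- `j ↦ j² θ(j)⁻¹` is onto
      let th : Fˣ →* Fˣ := Units.map R.θ.toMonoidHom
      let χ : Fˣ →* Fˣ := powMonoidHom 2 * th⁻¹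
      have hχ : ∀ j : Fˣ, ((χ j : Fˣ) : F) = (j : F) ^ 2 * (R.θ j)⁻¹ := by
        intro j
        show ((j ^ 2 * (th j)⁻¹ : Fˣ) : F) = _
        rw [Units.val_mul, Units.val_pow_eq_pow_val, Units.val_inv_eq_inv_val]
        rfl
      have hinj : Function.Injective χ := by
        rw [injective_iff_map_eq_one]
        intro j hj
        have h1 : (j : F) ^ 2 * (R.θ j)⁻¹ = 1 := by rw [← hχ, hj]; rfl
        have h2 : R.d j * R.u 1 0 * (R.d j)⁻¹ = R.u 1 0 := by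
          rw [R.conj_d, one_mul, h1, zero_mul]
        rcases R.fpf h2 with h3 | h3
        · exact h3
        · exact absurd h3.1 one_ne_zero
      obtain ⟨j, hj⟩ := (Finite.injective_iff_surjective.1 hinj) (Units.mk0 k hk)
      have hj' : (j : F) ^ 2 * (R.θ j)⁻¹ = k := by rw [← hχ, hj]; rfl
      obtain ⟨g, hg⟩ := QuotientGroup.mk'_surjective (center L) (R.d j)
      let g' : N := ⟨g, h.norm_d hg⟩
      refine ⟨q g', fun x => ?_⟩
      have h1 := key (g' * û x * g'⁻¹) (k * x) 0 (by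
        show (QuotientGroup.mk' (center L)) (g * (û x : L) * g⁻¹) = _
        rw [map_mul, map_mul, map_inv, hû, hg, R.conj_d, zero_mul]
        congr 1
        rw [← hj']
        ring)
      obtain ⟨z, hz, e⟩ := h1
      rw [map_mul, map_mul, map_inv] at e
      exact ⟨z, hz, e⟩
  -- the preimage of the Sylow group and its abelian quotient
  let S : Subgroup L := R.T.comap (QuotientGroup.mk' (center L))
  have hSN : S ≤ N := by
    rintro x ⟨a, b, e⟩
    exact h.norm_u e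
  let ϕ : S →* N ⧸ A' := q.comp (Subgroup.inclusion hSN)
  have hϕ : ∀ x y : S, ϕ x * ϕ y = ϕ y * ϕ x := by
    rintro ⟨x, a, b, ex⟩ ⟨y, c, d, ey⟩
    obtain ⟨z, hz, e1⟩ := key ⟨x, h.norm_u ex⟩ a b ex
    obtain ⟨z', hz', e2⟩ := key ⟨y, h.norm_u ey⟩ c d ey
    show q ⟨x, _⟩ * q ⟨y, _⟩ = q ⟨y, _⟩ * q ⟨x, _⟩
    rw [e1, e2]
    calc ℓ a * z * (ℓ c * z') = ℓ a * (z * ℓ c) * z' := by group
      _ = ℓ a * ℓ c * (z * z') := by rw [← mem_center_iff.1 hz (ℓ c)]; group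
      _ = ℓ c * ℓ a * (z' * z) := by rw [hcomm, mem_center_iff.1 hz' z]
      _ = ℓ c * (ℓ a * z') * z := by group
      _ = ℓ c * z' * (ℓ a * z) := by rw [mem_center_iff.1 hz' (ℓ a)]; group
  have hrc : ∀ x y : ϕ.range, x * y = y * x := by
    rintro ⟨_, x, rfl⟩ ⟨_, y, rfl⟩
    exact Subtype.ext (hϕ x y)
  let _ : CommGroup ϕ.range := { (inferInstance : Group ϕ.range) with mul_comm := hrc }
  intro h2
  obtain ⟨z₀, hz₀⟩ := exists_prime_orderOf_dvd_card' 2 h2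
  obtain ⟨z, hz⟩ := z₀
  have hzo : orderOf z = 2 := by rw [← hz₀, Subgroup.orderOf_mk]
  obtain ⟨h3, h4⟩ := pow_index_of_perfect hL S ϕ.rangeRestrict hz
  have h5 : q ⟨z ^ S.index, hSN h3⟩ = 1 := congrArg Subtype.val h4
  have h6 : z ^ S.index ∈ A := (QuotientGroup.eq_one_iff (⟨z ^ S.index, hSN h3⟩ : N)).1 h5
  have h7 := h.inf _ h6 (pow_mem hz _)
  have h8 := orderOf_dvd_of_pow_eq_one h7
  rw [hzo] at h8
  have h9 : S.index = R.T.index :=
    index_comap_of_surjective _ (QuotientGroup.mk'_surjective (center L))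
  obtain ⟨P, hP⟩ := R.exists_sylow_eq hm hF
  rw [h9, ← hP] at h8
  exact P.not_dvd_index h8

/-- **`Z(L) = 1`.** -/
theorem center_eq_bot [Finite L] [Fintype F] {m : ℕ} (hm : 1 ≤ m) (hF : Fintype.card F = 2 ^ (2 * m + 1))
    (hX : Lie.IsoSuzuki (L ⧸ center L)) (hnc : normalClosure (A : Set L) = ⊤) : center L = ⊥ := by
  have hL : commutator L = ⊤ := by
    rw [eq_top_iff, ← hnc]
    apply normalClosure_le_normal
    refine h.le_commutator ?_
    have h1 : 1 < Nat.card Fˣ := by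
      rw [Nat.card_units, Nat.card_eq_fintype_card, hF]
      have : 2 ^ 3 ≤ 2 ^ (2 * m + 1) := Nat.pow_le_pow_right (by norm_num) (by omega)
      omega
    have h2 : Nontrivial Fˣ := Finite.one_lt_card_iff_nontrivial.1 h1
    exact exists_ne 1
  rw [← Subgroup.card_eq_one]
  by_contra hne
  obtain ⟨p, hp, hdvd⟩ := Nat.exists_prime_and_dvd hne
  have : Fact p.Prime := ⟨hp⟩
  by_cases h2 : p = 2
  · subst h2
    exact h.not_two_dvd hm hF hL hdvd
  · exact not_dvd_of_cyclic hL (fun P hP => isCyclic_of_isPGroup hX h2 P hP) hdvd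

end Ext

end Cfsg.Agent.Omega.NO1.SE

end

section


/-!
# LEMMA SE (#16297), second part

`StrOut A` : the output of the first part for the simple group `X = L / Z(L)`: `N(A)` is strongly embedded and split by
a `2`-group `Q` with `A = {x ∈ Q | x² = 1}`.

* `Two.main_simple` : `X` simple: `(O3)`, or `X` is a Suzuki group and `A` the centre of a Sylow 2-subgroup;
* `Two.main` : the same for `L`, with `Z(L) = 1` in the Suzuki case and `|L| = q² (q² + 1) (q - 1)`, `q = |A|`;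
* `Two.dcw` : two elements normalising `A` and `B` and inverted by the same involution interchanging them commute.
-/

set_option autoImplicit false

namespace Cfsg.Agent.Omega.NO1.SE

open Subgroup Cfsg Cfsg.Agent.Omega.NOne.Flat.TI Cfsg.Agent.Omega.NoFF.Basic
open Cfsg.Agent.StrongEmb.Split
open scoped Pointwise

universe u

/-- the output of the first part for a simple group -/
def StrOut {X : Type u} [Group X] (A : Subgroup X) : Prop :=
  ∃ H Q : Subgroup X, IsStronglyEmbedded H ∧ IsSplit H Q ∧ IsPGroup 2 Q ∧ H = normalizer (A : Set X) ∧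
    ∀ x, (x ∈ A ↔ x ∈ Q ∧ x * x = 1)

namespace Two

section simple

variable {X : Type u} [Group X] [Finite X] {A B : Subgroup X}

theorem exists_comm (h : Two A B) :
    ∃ x y : X, x ≠ 1 ∧ y ≠ 1 ∧ x ≠ y ∧ x * x = 1 ∧ y * y = 1 ∧ x * y = y * x := by
  obtain ⟨x, hx, hx1⟩ := h.tis.exists_ne h.ptA
  have h1 : ∃ y ∈ A, y ≠ 1 ∧ y ≠ x := by
    by_contra hcon
    push Not at hcon
    have h2 : (A : Set X) ⊆ {1, x} := by
      intro y hy
      by_cases hy1 : y = 1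
      · exact Or.inl hy1
      · exact Or.inr (hcon y hy hy1)
    have h3 : Nat.card A ≤ 2 := by
      rw [← SetLike.coe_sort_coe, Nat.card_coe_set_eq]
      refine (Set.ncard_le_ncard h2 (Set.toFinite _)).trans ?_
      exact (Set.ncard_insert_le _ _).trans (by rw [Set.ncard_singleton])
    have := h.card
    omega
  obtain ⟨y, hy, hy1, hyx⟩ := h1
  exact ⟨x, y, hx1, hy1, Ne.symm hyx, h.tis.sq x hx, h.tis.sq y hy, h.comm h.ptA hx hy⟩

omit [Finite X] in
theorem faithful (h : Two A B) (hX : IsSimpleGroup X) : FaithfulSMul X (X ⧸ normalizer (A : Set X)) := by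
  apply faithfulSMul_of_core
  rcases IsSimpleGroup.eq_bot_or_eq_top_of_normal (normalizer (A : Set X)).normalCore inferInstance with h1 | h1
  · exact h1
  · exfalso
    obtain ⟨b, hb, hb1⟩ := h.tis.exists_ne h.pt
    have h2 : b ∈ (normalizer (A : Set X)).normalCore := by rw [h1]; exact mem_top b
    exact h.ne (h.tis.eq_of_norm h.pt h.ptA hb hb1 (Subgroup.normalCore_le _ h2)).symm

theorem setup (_ : Two A B) {Q : Subgroup X} (hH : IsStronglyEmbedded (normalizer (A : Set X)))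
    (hs : IsSplit (normalizer (A : Set X)) Q) {t : X} (ht : t ∉ normalizer (A : Set X)) (ht2 : t * t = 1) :
    IsRankOneSetup X (X ⧸ normalizer (A : Set X)) ((1 : X) : X ⧸ normalizer (A : Set X)) t Q := by
  have : Fact (Nat.Prime 2) := ⟨Nat.prime_two⟩
  refine setup_of_isSplit hH hs ht ?_
  refine orderOf_eq_prime (by rw [pow_two]; exact ht2) ?_
  rintro rfl
  exact ht (one_mem _)

/-- **The dichotomy for a simple group.** -/
theorem main_simple (h : Two A B) (hX : IsSimpleGroup X) (hS : StrOut A) :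
    (∀ t ∈ A, t ≠ 1 → ∃ u ∈ B, u ≠ 1 ∧ (t * u) ^ 3 = 1) ∨
    (Lie.IsoSuzuki X ∧ ∃ P : Sylow 2 X, ∀ x, x ∈ A ↔ x ∈ P ∧ x * x = 1) := by
  have : Fact (Nat.Prime 2) := ⟨Nat.prime_two⟩
  obtain ⟨H, Q, hH, hs, hQ, rfl, hA⟩ := hS
  have hf := h.faithful hX
  have h2 := h.exists_comm
  by_cases hcase : ∀ t ∈ A, t ≠ 1 → ∃ u ∈ B, u ≠ 1 ∧ (t * u) ^ 3 = 1
  · exact Or.inl hcase
  right
  push Not at hcase
  obtain ⟨t, ht, ht1, hno⟩ := hcase
  obtain ⟨g, -, rfl⟩ := h.pt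
  have htn : g⁻¹ * t * g ∉ normalizer (A : Set X) := by
    intro hn
    apply h.ne
    refine h.tis.eq_of_norm h.ptA h.pt ht ht1 (norm_of_conj_eq ?_)
    have h3 := conj_eq_of_norm hn
    calc MulAut.conj t • MulAut.conj g • A = MulAut.conj g • MulAut.conj (g⁻¹ * t * g) • A := by
          rw [conj_conj, conj_conj]
          congr 2
          group
      _ = MulAut.conj g • A := by rw [h3]
  have hR := h.setup hH hs htn (by
    calc g⁻¹ * t * g * (g⁻¹ * t * g) = g⁻¹ * (t * t) * g := by group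
      _ = 1 := by rw [h.tis.sq t ht]; group)
  have hXs := hX
  rcases Core.core hR h2 with ⟨s, hsQ, hs1, hss, h3⟩ | ⟨-, hSz⟩
  · exfalso
    refine hno (g * s * g⁻¹) ?_ ?_ ?_
    · rw [mem_conj]
      have e : g⁻¹ * (g * s * g⁻¹) * g = s := by group
      rw [e]
      exact (hA s).2 ⟨hsQ, hss⟩
    · intro h0
      apply hs1
      calc s = g⁻¹ * (g * s * g⁻¹) * g := by group
        _ = 1 := by rw [h0]; group
    · have e : t * (g * s * g⁻¹) = g * (g⁻¹ * t * g * s) * g⁻¹ := by group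
      rw [e, conj_pow, h3, mul_one, mul_inv_cancel]
  · refine ⟨hSz, ?_⟩
    obtain ⟨P, hP⟩ := (Cfsg.Agent.S1119.result hR).2.2.2.1
    have hPQ : (P : Subgroup X) = Q := (P.is_maximal' hQ hP).symm
    refine ⟨P, fun x => ?_⟩
    rw [hA x]
    show _ ↔ x ∈ (P : Subgroup X) ∧ _
    rw [hPQ]

/-- in a simple group the elements of the two-point stabiliser inverted by `w` lie in a cyclic group -/
theorem cyc_simple (h : Two A B) (hX : IsSimpleGroup X) (hS : StrOut A) {w : X} (hw : w * w = 1)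
    (hwB : MulAut.conj w • A = B) : ∃ C : Subgroup X, IsCyclic C ∧
      ∀ y, y ∈ normalizer (A : Set X) → y ∈ normalizer (B : Set X) → w * y * w⁻¹ = y⁻¹ → y ∈ C := by
  obtain ⟨H, Q, hH, hs, hQ, rfl, hA⟩ := hS
  have hf := h.faithful hX
  have h2 := h.exists_comm
  have hwn : w ∉ normalizer (A : Set X) := fun hn => h.ne (by rw [← hwB, conj_eq_of_norm hn])
  have hR := h.setup hH hs hwn hw
  obtain ⟨C, hC, hCc, -⟩ := Cfsg.Agent.S1131.result hR h2
  refine ⟨C, hCc, fun y hyA hyB hy => ?_⟩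
  have h3 : y ∈ (C : Set X) := by
    rw [hC]
    refine ⟨⟨?_, ?_⟩, hy⟩
    · refine MulAction.mem_stabilizer_iff.2 ?_
      show ((y * 1 : X) : X ⧸ normalizer (A : Set X)) = _
      rw [eq_comm, QuotientGroup.eq, mul_one, inv_one, one_mul]
      exact hyA
    · refine MulAction.mem_stabilizer_iff.2 ?_
      show ((y * (w * 1) : X) : X ⧸ normalizer (A : Set X)) = ((w * 1 : X) : X ⧸ normalizer (A : Set X))
      rw [eq_comm, QuotientGroup.eq, mul_one]
      refine norm_of_conj_eq ?_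
      have h4 := conj_eq_of_norm hyB
      rw [← hwB, conj_conj] at h4
      calc MulAut.conj (w⁻¹ * (y * w)) • A = MulAut.conj w⁻¹ • MulAut.conj (y * w) • A := by rw [conj_conj]
        _ = MulAut.conj w⁻¹ • MulAut.conj w • A := by rw [h4]
        _ = A := by rw [conj_conj, inv_mul_cancel, map_one, one_smul]
  exact h3

end simple

section general

variable {L : Type u} [Group L] [Finite L] {A B : Subgroup L}

/-- **LEMMA SE.** -/
theorem main (h : Two A B) (hS : StrOut (im A)) :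
    (∀ t ∈ A, t ≠ 1 → ∃ u ∈ B, u ≠ 1 ∧ (t * u) ^ 3 = 1) ∨
    (Lie.IsoSuzuki L ∧ Nat.card L = Nat.card A ^ 2 * (Nat.card A ^ 2 + 1) * (Nat.card A - 1) ∧
      ∃ P : Sylow 2 L, ∀ x, x ∈ A ↔ x ∈ P ∧ x * x = 1) := by
  rcases h.quot.main_simple h.simple.1 hS with h1 | ⟨hSz, P, hP⟩
  · left
    intro t ht ht1
    obtain ⟨_, ⟨u, hu, rfl⟩, hu1, h3⟩ := h1 (QuotientGroup.mk' (center L) t) ⟨t, ht, rfl⟩
      (fun h0 => ht1 (h.mk_eq_one h.ptA ht h0))
    have hune : u ≠ 1 := by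
      rintro rfl
      exact hu1 (map_one _)
    refine ⟨u, hu, hune, ?_⟩
    rw [← map_mul, ← map_pow] at h3
    have hc : (t * u) ^ 3 ∈ center L := (QuotientGroup.eq_one_iff _).1 h3
    -- `c := (t u)³` is central and inverted by `t`
    have ht2 := h.tis.sq t ht
    have hu2 := h.tis.pt_sq h.pt hu
    have hti : t⁻¹ = t := inv_eq_of_mul_eq_one_left ht2
    have hui : u⁻¹ = u := inv_eq_of_mul_eq_one_left hu2
    have h4 : t * (t * u) ^ 3 * t⁻¹ = ((t * u) ^ 3)⁻¹ := by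
      rw [← conj_pow, ← inv_pow]
      congr 1
      rw [_root_.mul_inv_rev, hti, hui, ← mul_assoc, ht2, one_mul]
    have h5 : (t * u) ^ 3 * (t * u) ^ 3 = 1 := by
      rw [mem_center_iff.1 hc t, mul_inv_cancel_right] at h4
      nth_rewrite 1 [h4]
      exact inv_mul_cancel _
    have hodd := h.tis.odd h.ptA h.pt h.ne ht ht1 hu hune
    have h6 : orderOf (t * u) ∣ 6 := orderOf_dvd_of_pow_eq_one (by
      rw [show (6 : ℕ) = 3 + 3 by norm_num, pow_add, h5])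
    have h7 : orderOf (t * u) ∣ 3 := by
      have h8 : Nat.Coprime (orderOf (t * u)) 2 := Nat.coprime_two_right.2 hodd
      exact h8.dvd_of_dvd_mul_left (by rw [show (2 * 3 : ℕ) = 6 by norm_num]; exact h6)
    exact orderOf_dvd_iff_pow_eq_one.1 h7
  · right
    obtain ⟨F, iF, iF', m, hm, hF, hcX, R, hR⟩ := exists_rel_sylow hSz P
    have hmem : ∀ x, x ∈ A.map (QuotientGroup.mk' (center L)) ↔ ∃ b, x = R.u 0 b := by
      intro x
      show x ∈ im A ↔ _
      rw [hP x]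
      show x ∈ (P : Subgroup (L ⧸ center L)) ∧ _ ↔ _
      rw [← hR]
      constructor
      · rintro ⟨⟨a, b, rfl⟩, h1⟩
        rw [R.u_sq_iff] at h1
        exact ⟨b, by rw [h1]⟩
      · rintro ⟨b, rfl⟩
        exact ⟨R.u_mem _ _, (R.u_sq_iff 0 b).2 rfl⟩
    have hE : Ext A R :=
      { inf := fun a ha hz => h.eq_one_of_center h.ptA ha hz
        mem := hmem
        norm := by
          intro g hg
          refine h.norm_of_im h.ptA ?_
          refine norm_of_conj_eq ?_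
          have h1 : MulAut.conj (QuotientGroup.mk' (center L) g) • im A ≤ im A := by
            intro x hx
            rw [mem_conj] at hx
            have h2 := hg _ hx
            have e : QuotientGroup.mk' (center L) g * ((QuotientGroup.mk' (center L) g)⁻¹ * x *
                QuotientGroup.mk' (center L) g) * (QuotientGroup.mk' (center L) g)⁻¹ = x := by group
            rwa [e] at h2
          refine Subgroup.eq_of_le_of_card_ge h1 (le_of_eq ?_)
          exact Nat.card_congr (Subgroup.equivSMul (MulAut.conj (QuotientGroup.mk' (center L) g)) (im A)).toEquiv }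
    have hZ : center L = ⊥ := hE.center_eq_bot hm hF hSz h.nc
    have hbij : Function.Bijective (QuotientGroup.mk' (center L)) := by
      refine ⟨?_, QuotientGroup.mk'_surjective _⟩
      rw [← MonoidHom.ker_eq_bot_iff, QuotientGroup.ker_mk', hZ]
    let f : L ≃* L ⧸ center L := MulEquiv.ofBijective (QuotientGroup.mk' (center L)) hbij
    have hfa : ∀ x, f x = QuotientGroup.mk' (center L) x := fun _ => rfl
    -- the order
    have hcA : Nat.card A = Fintype.card F := by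
      rw [← h.card_im, ← Nat.card_eq_fintype_card]
      refine (Nat.card_congr (Equiv.ofBijective (fun b : F => (⟨R.u 0 b, (hmem _).2 ⟨b, rfl⟩⟩ : im A)) ⟨?_, ?_⟩)).symm
      · intro b c hbc
        exact (R.u_inj (congrArg Subtype.val hbc)).2
      · rintro ⟨x, hx⟩
        obtain ⟨b, rfl⟩ := (hmem x).1 hx
        exact ⟨b, rfl⟩
    have hcL : Nat.card L = Nat.card A ^ 2 * (Nat.card A ^ 2 + 1) * (Nat.card A - 1) := by
      rw [Nat.card_congr f.toEquiv, hcX, hcA]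
    obtain ⟨P', hP'⟩ : ∃ P' : Sylow 2 L, ∀ x, x ∈ P' ↔ f x ∈ P :=
      ⟨P.comapOfInjective f.toMonoidHom f.injective (fun x _ => f.surjective x), fun x => Iff.rfl⟩
    refine ⟨?_, hcL, P', fun x => ?_⟩
    · obtain ⟨F', iF1, iF1', m', hm', hF', ⟨f'⟩⟩ := hSz
      exact ⟨F', iF1, iF1', m', hm', hF', ⟨f.trans f'⟩⟩
    · rw [hP' x, hfa]
      have h1 : x ∈ A ↔ QuotientGroup.mk' (center L) x ∈ im A := by
        constructor
        · intro hx; exact ⟨x, hx, rfl⟩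
        · rintro ⟨a, ha, e⟩
          rwa [← hbij.1 e]
      rw [h1, hP]
      refine and_congr_right fun _ => ?_
      rw [← map_mul]
      constructor
      · intro h2
        exact hbij.1 (by rw [h2, map_one])
      · intro h2
        rw [h2, map_one]

/-- two elements normalising `A` and `B` and inverted by the same involution interchanging them commute -/
theorem dcw (h : Two A B) (hS : StrOut (im A)) {w : L} (hw : w * w = 1) (hwB : MulAut.conj w • A = B) {y z : L}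
    (hyA : y ∈ normalizer (A : Set L)) (hyB : y ∈ normalizer (B : Set L)) (hy : w * y * w⁻¹ = y⁻¹)
    (hzA : z ∈ normalizer (A : Set L)) (hzB : z ∈ normalizer (B : Set L)) (hz : w * z * w⁻¹ = z⁻¹) :
    y * z = z * y := by
  set π := QuotientGroup.mk' (center L) with hπ
  have hn : ∀ {C : Subgroup L} {x : L}, x ∈ normalizer (C : Set L) → π x ∈ normalizer (im C : Set (L ⧸ center L)) := by
    intro C x hx
    refine norm_of_conj_eq ?_
    rw [← im_conj, conj_eq_of_norm hx]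
  obtain ⟨C, hCc, hC⟩ := h.quot.cyc_simple h.simple.1 hS (w := π w) (by rw [← map_mul, hw, map_one])
    (by rw [← im_conj, hwB])
  have h1 : y ∈ C.comap π := hC _ (hn hyA) (hn hyB) (by rw [← map_inv, ← map_mul, ← map_mul, hy, map_inv])
  have h2 : z ∈ C.comap π := hC _ (hn hzA) (hn hzB) (by rw [← map_inv, ← map_mul, ← map_mul, hz, map_inv])
  let ϕ : C.comap π →* C := π.subgroupComap C
  have h3 : ∀ a b : C.comap π, a * b = b * a := by
    refine commutative_of_cyclic_center_quotient ϕ ?_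
    intro x hx
    have h4 : π (x : L) = 1 := congrArg Subtype.val hx
    have h5 : (x : L) ∈ center L := (QuotientGroup.eq_one_iff (x : L)).1 h4
    rw [mem_center_iff]
    intro y
    exact Subtype.ext (mem_center_iff.1 h5 y)
  exact congrArg Subtype.val (h3 ⟨y, h1⟩ ⟨z, h2⟩)

end general

end Two

end Cfsg.Agent.Omega.NO1.SE

end
end

-- part: Mrg/Omega/NOThreeL/RLow/KOneLine
section
prune_inst 0x4202004412202000000050210001c468e000590000f000000200d4004884e20c5022e608c2021020802020400340020009800000000000000000400011901a0808a500403000104260009810080000000000000000000000000000000000000000000000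
set_option linter.all false
open scoped Cfsg.Agent.FastGrp

section


/-!
# THEOREM R-LOW (#21762), `k = 1`: the root line of a natural line

`N : NatKM F S P U ⊥ 1` (one natural summand), `R = ln N univ` its root line.

* `zc_inf_eq` : if a 2-group `S'` acts semilinearly on the line `R ≤ S'` and `Ω₁ Z(S') ≤ R`, then
  `Ω₁ Z(C_{S'}(R)) = R`;
* `lineF N` : coordinates on `R`, `semi` : `S` acts semilinearly on `R`;
* `slg N` : the elements of `P` acting as elements of `SL₂(F)`; `inf_slg_le` : `S ∩ slg N ≤ C(R)`;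
* `syl_sup_slg` : `C_S(R) ≤ T ≤ S` is Sylow in `T (slg N)`;
* **`fuse`** : `N_P(T)` is transitive on `C_R(T)#` (Burnside, no torus).
-/

set_option autoImplicit false
set_option linter.unusedSectionVars false

namespace Cfsg.Agent.Omega.NOThreeL.RLow.KOne

open Subgroup Cfsg Cfsg.Agent.ZN Cfsg.Agent.ZN.ChoiceBase Cfsg.Agent.ZN.ChoiceSit
open Cfsg.Agent.Omega.MinPar
open Cfsg.Agent.Omega.IId.MixedK (conj_comm comm_conj)
open Cfsg.Agent.Omega.IId.SemiLine
open Cfsg.Agent.Omega.IId.KOne (card_le_pow conj_cent syl_inf syl_le)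
open Cfsg.Agent.Omega.FFThm (NatK NatKM ActsSL)
open Cfsg.Agent.Omega.Half (Amb)
open Cfsg.Agent.Omega.Half.NatA (Mv)
open Cfsg.Agent.Omega.NO1.NSix (em em_mem e_em_self em_add ph ph_add exists_semi e_conj)
open Cfsg.Agent.Omega.NOThreeL.NF
open Cfsg.Agent.Omega.NOThreeL.NF.NatR
open Cfsg.Agent.Omega.NatPair (ap ap_mul ap_one ap_inv_ap ap_zero' ap_one' ext2 exists_ap ap_smul)
open Cfsg.Agent.Lib.SL2Mat

universe u

section line

variable {G : Type*} [Group G]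

theorem mem_sup_norm {A B : Subgroup G} (h : A ≤ normalizer (B : Set G)) {x : G}
    (hx : x ∈ A ⊔ B) : ∃ a ∈ A, ∃ b ∈ B, a * b = x := by
  have h1 : x ∈ ((A ⊔ B : Subgroup G) : Set G) := hx
  rw [coe_mul_of_left_le_normalizer_right A B h] at h1
  exact Set.mem_mul.mp h1

/-- `Ω₁ Z(C_{S'}(R)) = R` (the order argument of #13866 (1)). -/
theorem zc_inf_eq [Finite G] {F : Type*} [Field F] [Finite F] [CharP F 2] {S' R : Subgroup G}
    (L : LineF F R) (h2 : IsPGroup 2 S') (hSR : S' ≤ normalizer (R : Set G)) (hRS : R ≤ S')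
    (hSs : ∀ s ∈ S', L.Semi s) (hZ : zc S' ≤ R) : zc (S' ⊓ centralizer (R : Set G)) = R := by
  have hRc : ∀ r ∈ R, ∀ r' ∈ R, r * r' = r' * r := by
    intro r hr r' hr'
    obtain ⟨x, rfl⟩ := (L.mem r).1 hr
    obtain ⟨x', rfl⟩ := (L.mem r').1 hr'
    exact L.comm x x'
  have hRsq : ∀ r ∈ R, r * r = 1 := by
    intro r hr
    obtain ⟨x, rfl⟩ := (L.mem r).1 hr
    rw [← L.add, CharTwo.add_self_eq_zero, L.e_zero]
  set X : Subgroup G := centralizer (R : Set G) with hX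
  have hRX : R ≤ X := fun r hr => mem_centralizer_iff.2 fun r' hr' => hRc r' hr' r hr
  set Y := S' ⊓ X with hY
  have hmemX : ∀ {g : G}, g ∈ X ↔ ∀ r ∈ R, g * r = r * g := by
    intro g
    rw [hX, mem_centralizer_iff]
    exact ⟨fun h r hr => (h r hr).symm, fun h r hr => (h r hr).symm⟩
  have h2' : Nat.card R = Nat.card ↥(R ⊓ centralizer (S' : Set G)) ^ Y.relIndex S' :=
    L.card_eq S' hSs h2
  have h4 : Nat.card Y * Y.relIndex S' = Nat.card S' := by
    have h := relIndex_mul_relIndex (⊥ : Subgroup G) Y S' bot_le inf_le_left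
    rwa [relIndex_bot_left, relIndex_bot_left] at h
  have hRY : R ≤ Y := le_inf hRS hRX
  have hRz : R ≤ zc Y := by
    intro r hr
    refine Cfsg.Agent.ZN.mem_zc.2 ⟨hRY hr, fun b hb => hmemX.1 hb.2 r hr, ?_⟩
    rw [pow_two]; exact hRsq r hr
  obtain ⟨a, haS, hagen⟩ := L.exists_gen S' hSs h2
  have hYN : (Y.subgroupOf S').Normal := by
    constructor
    intro n hn g
    rw [mem_subgroupOf] at hn ⊢
    exact mem_inf.2 ⟨(g * n * g⁻¹).2, conj_cent (hSR g.2) hn.2⟩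
  obtain ⟨k, hk⟩ : ∃ k, Y.relIndex S' = 2 ^ k := by
    obtain ⟨n, hn⟩ := h2.exists_card_eq
    have h5 : Y.relIndex S' ∣ 2 ^ n := by
      rw [← hn, ← h4]; exact dvd_mul_left _ _
    obtain ⟨k, -, hk⟩ := (Nat.dvd_prime_pow Nat.prime_two).1 h5
    exact ⟨k, hk⟩
  have hak : a ^ 2 ^ k ∈ Y := by
    have h5 := Subgroup.pow_index_mem (Y.subgroupOf S') (⟨a, haS⟩ : S')
    rw [mem_subgroupOf] at h5
    rw [← hk]
    exact h5
  have hSNz : S' ≤ normalizer ((zc Y : Subgroup G) : Set G) := by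
    refine le_trans ?_ (normalizer_le_normalizer_zc Y)
    exact (normal_subgroupOf_iff_le_normalizer inf_le_left).1 hYN
  have h5 := card_le_pow (Z := zc Y) (fun x hx y hy => zc_comm hy (ZN.zc_le Y hx))
    (fun x hx => by rw [← pow_two]; exact zc_sq hx) (a := a)
    (fun x hx => (mem_normalizer_iff.1 (hSNz haS) x).1 hx) k
    (fun x hx => zc_comm hx hak)
  have h6 : zc Y ⊓ centralizer ({a} : Set G) ≤ R ⊓ centralizer (S' : Set G) := by
    intro x hxx
    obtain ⟨hx, hxa⟩ := mem_inf.1 hxx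
    rw [mem_centralizer_singleton_iff] at hxa
    have hxS : ∀ s ∈ S', s * x = x * s := by
      intro s hs
      obtain ⟨n, hn⟩ := hagen s hs
      have hY' : a ^ n * s ∈ Y := mem_inf.2 ⟨mul_mem (zpow_mem haS n) hs, hmemX.2 hn⟩
      have h7 : (a ^ n * s) * x = x * (a ^ n * s) := zc_comm hx hY'
      have h8 : a ^ n * x = x * a ^ n := ((show Commute a x from hxa.symm).zpow_left n).eq
      have h9 : a ^ n * (s * x) = a ^ n * (x * s) := by
        calc a ^ n * (s * x) = (a ^ n * s) * x := by group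
          _ = (x * a ^ n) * s := by rw [h7]; group
          _ = a ^ n * (x * s) := by rw [← h8]; group
      exact mul_left_cancel h9
    refine mem_inf.2 ⟨hZ (mem_zc.2 ⟨(ZN.zc_le Y hx).1, hxS, zc_sq hx⟩),
      mem_centralizer_iff.2 fun s hs => hxS s hs⟩
  refine (Subgroup.eq_of_le_of_card_ge hRz ?_).symm
  calc Nat.card (zc Y) ≤ Nat.card ↥(zc Y ⊓ centralizer ({a} : Set G)) ^ 2 ^ k := h5
    _ ≤ Nat.card ↥(R ⊓ centralizer (S' : Set G)) ^ 2 ^ k :=
        Nat.pow_le_pow_left (card_le_of_le h6) _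
    _ = Nat.card R := by rw [h2', hk]

end line

/-! ### One natural summand -/

section one

variable {G : Type u} [Group G] {F : Type} [Field F] {S P U : Subgroup G}

/-- coordinates on the root line -/
noncomputable def lineF (N : NatKM F S P U ⊥ 1) : LineF F (ln N Set.univ) where
  e x := em N.toNatK 0 ![x, 0]
  add x y := by
    rw [← em_add]
    congr 1
    ext i; fin_cases i <;> simp
  inj := by
    intro x y hxy
    have h1 : em N.toNatK 0 ![x, 0] = em N.toNatK 0 ![y, 0] := hxy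
    have h2 := congrArg (fun g => N.e g 0) h1
    simp only [e_em_self] at h2
    exact congrFun h2 0
  mem g := by
    rw [mem_ln]
    constructor
    · rintro ⟨hg, h1, -⟩
      refine ⟨N.e g 0 0, ?_⟩
      refine e_inj (M := N) (em_mem _ _ _) hg ?_
      funext j
      obtain rfl : j = 0 := Subsingleton.elim _ _
      rw [e_em_self]
      refine ext2 rfl ?_
      rw [h1]; rfl
    · rintro ⟨x, rfl⟩
      refine ⟨em_mem _ _ _, fun j => ?_, fun j hj => absurd (Set.mem_univ j) hj⟩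
      obtain rfl : j = 0 := Subsingleton.elim _ _
      rw [e_em_self]; rfl

variable {N : NatKM F S P U ⊥ 1}

theorem mem_root {v : G} : v ∈ ln N Set.univ ↔ v ∈ U ∧ N.e v 0 1 = 0 := by
  rw [mem_ln]
  constructor
  · rintro ⟨h1, h2, -⟩
    exact ⟨h1, h2 0⟩
  · rintro ⟨h1, h2⟩
    refine ⟨h1, fun j => ?_, fun j hj => absurd (Set.mem_univ j) hj⟩
    obtain rfl : j = 0 := Subsingleton.elim _ _
    exact h2

variable (hA : Amb S P U)
include hA

theorem norm_root : S ≤ normalizer (ln N Set.univ : Set G) := by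
  have key : ∀ s ∈ S, ∀ v ∈ ln N Set.univ, s * v * s⁻¹ ∈ ln N Set.univ := by
    intro s hs v hv
    rw [mem_root] at hv ⊢
    obtain ⟨σ, hσ⟩ := N.line s hs
    refine ⟨hA.conj_mem (hA.TH hs) hv.1, ?_⟩
    have h1 := (hσ v hv.1 0).2 hv.2
    have h2 : σ 0 = 0 := Subsingleton.elim _ _
    rwa [h2] at h1
  intro s hs
  rw [mem_normalizer_iff]
  intro v
  refine ⟨key s hs v, fun h => ?_⟩
  have h1 := key s⁻¹ (inv_mem hs) _ h
  have e1 : s⁻¹ * (s * v * s⁻¹) * s⁻¹⁻¹ = v := by group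
  rwa [e1] at h1

/-- **`S` acts semilinearly on the root line.** -/
theorem semi [Finite F] {s : G} (hs : s ∈ S) : (lineF N).Semi s := by
  have hsP := hA.TH hs
  obtain ⟨σ, hσ⟩ := N.perm s hsP
  have h0 : σ 0 = 0 := Subsingleton.elim _ _
  obtain ⟨τ, hτ⟩ := exists_semi (M := N.toNatK) hA hsP hσ 0
  rw [h0] at hτ
  refine ⟨ph N.toNatK s 0 0 ![1, 0] 0, τ, fun x => ?_⟩
  have hm : ∀ y : F, em N.toNatK 0 ![y, 0] ∈ ln N Set.univ := fun y => ((lineF N).mem _).2 ⟨y, rfl⟩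
  have h1 := (mem_normalizer_iff.1 (norm_root hA hs) _).1 (hm x)
  obtain ⟨y, hy⟩ := ((lineF N).mem _).1 h1
  have hy' : em N.toNatK 0 ![y, 0] = s * em N.toNatK 0 ![x, 0] * s⁻¹ := hy
  change s * em N.toNatK 0 ![x, 0] * s⁻¹ = em N.toNatK 0 ![_, 0]
  rw [← hy']
  congr 2
  have h2 : N.e (s * em N.toNatK 0 ![x, 0] * s⁻¹) 0 = τ x • ph N.toNatK s 0 0 ![1, 0] := by
    rw [← hτ]
    have e1 : (x • ![1, 0] : Fin 2 → F) = ![x, 0] := by ext i; fin_cases i <;> simp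
    rw [e1]; rfl
  rw [← hy', e_em_self] at h2
  have h3 := congrFun h2 0
  simp only [Matrix.cons_val_zero, Pi.smul_apply, smul_eq_mul] at h3
  rw [h3, mul_comm]

/-- The elements of `P` acting as elements of `SL₂(F)`. -/
def slg (N : NatKM F S P U ⊥ 1) (hPU : P ≤ normalizer (U : Set G)) : Subgroup G where
  carrier := {g | g ∈ P ∧ ∃ A, Ac N g A}
  mul_mem' := by
    rintro a b ⟨ha, A, hA⟩ ⟨hb, B, hB⟩
    exact ⟨mul_mem ha hb, A * B, hA.mul hPU hb hB⟩
  one_mem' := ⟨one_mem _, 1, ac_one (one_mem _)⟩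
  inv_mem' := by
    rintro a ⟨ha, A, hA⟩
    exact ⟨inv_mem ha, A⁻¹, hA.inv hPU ha⟩

theorem slg_le {hPU : P ≤ normalizer (U : Set G)} : slg N hPU ≤ P := fun _ h => h.1

theorem slg_conj {hPU : P ≤ normalizer (U : Set G)} {g h : G} (hg : g ∈ P) (hh : h ∈ slg N hPU) :
    g * h * g⁻¹ ∈ slg N hPU := by
  obtain ⟨hh1, A, hA'⟩ := hh
  obtain ⟨B, hB⟩ := N.norm g hg h hh1 A hA'
  exact ⟨mul_mem (mul_mem hg hh1) (inv_mem hg), B, hB⟩

/-- a 2-element of `SL₂(F)` which fixes the root line centralises it -/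
theorem inf_slg_le [Finite F] [CharP F 2] (hS : IsPGroup 2 S) {hPU : P ≤ normalizer (U : Set G)} :
    S ⊓ slg N hPU ≤ centralizer (ln N Set.univ : Set G) := by
  rintro s ⟨hs, hsP, A, hsA⟩
  -- `s` acts as a scalar
  set L := lineF N with hL
  have hm : ∀ y : F, L.e y ∈ ln N Set.univ := fun y => (L.mem _).2 ⟨y, rfl⟩
  have hU : ∀ y : F, L.e y ∈ U := fun y => (mem_root.1 (hm y)).1
  have he : ∀ y : F, N.e (L.e y) 0 = ![y, 0] := fun y => e_em_self _ _ _
  have h1 : ∀ y, s * L.e y * s⁻¹ = L.e (ap (A 0) ![1, 0] 0 * y) := by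
    intro y
    obtain ⟨y', hy'⟩ := (L.mem _).1 ((mem_normalizer_iff.1 (norm_root hA hs) _).1 (hm y))
    rw [← hy']
    have h2 := hsA _ (hU y) 0
    rw [← hy', he, he] at h2
    have e1 : (![y, 0] : Fin 2 → F) = y • ![1, 0] := by ext i; fin_cases i <;> simp
    rw [e1, ap_smul] at h2
    have h3 := congrFun h2 0
    simp only [Matrix.cons_val_zero, Pi.smul_apply, smul_eq_mul] at h3
    rw [h3, mul_comm]
  set a : F := ap (A 0) ![1, 0] 0 with ha
  have h2 : ∀ (n : ℕ) (y : F), (s ^ n) * L.e y * (s ^ n)⁻¹ = L.e (a ^ n * y) := by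
    intro n
    induction n with
    | zero => intro y; simp
    | succ n ih =>
      intro y
      rw [pow_succ]
      calc s ^ n * s * L.e y * (s ^ n * s)⁻¹ = s ^ n * (s * L.e y * s⁻¹) * (s ^ n)⁻¹ := by group
        _ = _ := by rw [h1, ih, pow_succ, mul_assoc]
  obtain ⟨k, hk⟩ := hS ⟨s, hs⟩
  have hk' : s ^ 2 ^ k = 1 := by
    have := congrArg Subtype.val hk
    simpa using this
  have h3 : a ^ 2 ^ k = 1 := by
    have h4 := h2 (2 ^ k) 1
    rw [hk'] at h4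
    have h5 := L.inj (h4.symm.trans (by simp : (1 : G) * L.e 1 * (1 : G)⁻¹ = L.e 1))
    rwa [mul_one] at h5
  have h4 : a = 1 := by
    have h5 := (iterateFrobenius F 2 k).injective
    refine h5 ?_
    rw [iterateFrobenius_def, iterateFrobenius_def, h3, one_pow]
  refine mem_centralizer_iff.2 fun r hr => ?_
  obtain ⟨y, rfl⟩ := (L.mem r).1 hr
  have h5 := h1 y
  rw [h4, one_mul] at h5
  exact (conj_comm h5).symm

/-- **`T` is Sylow in `T (slg N)`** if `C_S(R) ≤ T ≤ S`. -/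
theorem syl_sup_slg [Finite G] [Finite F] [CharP F 2] (hSP : Syl S P) {hPU : P ≤ normalizer (U : Set G)}
    {T : Subgroup G} (hTS : T ≤ S) (hT : S ⊓ centralizer (ln N Set.univ : Set G) ≤ T) : Syl T (T ⊔ slg N hPU) := by
  have hS2 : IsPGroup 2 S := hSP.2.1
  have hN1 : S ⊓ slg N hPU ≤ T := (le_inf inf_le_left (inf_slg_le hA hS2)).trans hT
  have hSyl : Syl (S ⊓ slg N hPU) (slg N hPU) := syl_inf hSP (slg_le hA) fun h hh n hn => slg_conj hA hh hn
  have hTN : T ≤ normalizer (slg N hPU : Set G) := by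
    intro t ht
    have htP : t ∈ P := hA.TH (hTS ht)
    rw [mem_normalizer_iff]
    intro x
    refine ⟨fun hx => slg_conj hA htP hx, fun hx => ?_⟩
    have h1 := slg_conj hA (inv_mem htP) hx
    have e1 : t⁻¹ * (t * x * t⁻¹) * t⁻¹⁻¹ = x := by group
    rwa [e1] at h1
  refine ⟨le_sup_left, hS2.to_le hTS, fun Q hQ hQ2 hTQ => ?_⟩
  have hQN : Q ⊓ slg N hPU = S ⊓ slg N hPU :=
    hSyl.2.2 _ inf_le_right (hQ2.to_le inf_le_left) (le_inf (hN1.trans hTQ) inf_le_right)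
  refine le_antisymm (fun x hx => ?_) hTQ
  obtain ⟨t, ht, n, hn, rfl⟩ := mem_sup_norm hTN (hQ hx)
  have h1 : n ∈ Q := by
    have := mul_mem (inv_mem (hTQ ht)) hx
    rwa [inv_mul_cancel_left] at this
  have h2 : n ∈ S ⊓ slg N hPU := by rw [← hQN]; exact ⟨h1, hn⟩
  exact mul_mem ht (hN1 h2)

/-- **Fusion**: `N_P(T)` is transitive on the involutions of `Ω₁ Z(T)` in the root line (`C_S(R) ≤ T ≤ S`). -/
theorem fuse [Finite G] [Finite F] [CharP F 2] (hSP : Syl S P) {T : Subgroup G}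
    (hTS : T ≤ S) (hT : S ⊓ centralizer (ln N Set.univ : Set G) ≤ T) {a b : G} (ha : a ∈ U) (hb : b ∈ U)
    (haT : ∀ t ∈ T, t * a = a * t) (hbT : ∀ t ∈ T, t * b = b * t) (ha1 : a ≠ 1) (hb1 : b ≠ 1) :
    ∃ g ∈ P, g ∈ normalizer (T : Set G) ∧ g * a * g⁻¹ = b := by
  have hPU := hA.HV
  have hea : N.e a 0 ≠ 0 := by
    intro h
    refine ha1 (e_inj (M := N) ha (one_mem _) ?_)
    rw [e_one]
    funext j
    obtain rfl : j = 0 := Subsingleton.elim _ _
    exact h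
  have heb : N.e b 0 ≠ 0 := by
    intro h
    refine hb1 (e_inj (M := N) hb (one_mem _) ?_)
    rw [e_one]
    funext j
    obtain rfl : j = 0 := Subsingleton.elim _ _
    exact h
  obtain ⟨A, hAab⟩ := exists_ap hea heb
  obtain ⟨g, hg, hgA, -⟩ := N.lift fun _ => A
  have hgs : g ∈ slg N hPU := ⟨hg, _, hgA⟩
  have hgab : g * a * g⁻¹ = b := by
    refine e_inj (M := N) (hA.conj_mem hg ha) hb ?_
    funext j
    obtain rfl : j = 0 := Subsingleton.elim _ _
    rw [hgA a ha 0, hAab]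
  have hSyl := syl_sup_slg hA hSP (hPU := hPU) hTS hT
  set P₀ := T ⊔ slg N hPU with hP₀
  have hP₀P : P₀ ≤ P := sup_le (hTS.trans hA.TH) (slg_le hA)
  have hgP₀ : g ∈ P₀ := le_sup_right (a := T) hgs
  have hcj : cj g P₀ = P₀ := cj_eq_of_mem_normalizer (le_normalizer hgP₀)
  have h1 : Syl (cj g T) P₀ := by
    refine ⟨?_, isPGroup_cj g hSyl.2.1, fun Q hQ hp hTQ => ?_⟩
    · rw [← hcj]; exact cj_mono g hSyl.1
    · have h3 := cj_mono g⁻¹ hQ
      have h4 : cj g⁻¹ P₀ = P₀ := cj_eq_of_mem_normalizer (le_normalizer (inv_mem hgP₀))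
      rw [h4] at h3
      have h2 := hSyl.2.2 (cj g⁻¹ Q) h3 (isPGroup_cj _ hp) (cj_le_iff.1 hTQ)
      rw [← h2, cj_cj_inv]
  have hC1 : cj g T ≤ centralizer ({b} : Set G) := by
    rintro _ ⟨t, ht, rfl⟩
    rw [mem_centralizer_singleton_iff]
    change g * t * g⁻¹ * b = b * (g * t * g⁻¹)
    rw [← hgab]
    calc g * t * g⁻¹ * (g * a * g⁻¹) = g * (t * a) * g⁻¹ := by group
      _ = g * (a * t) * g⁻¹ := by rw [haT t ht]
      _ = _ := by group
  have hC2 : T ≤ centralizer ({b} : Set G) := fun t ht => by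
    rw [mem_centralizer_singleton_iff]; exact hbT t ht
  obtain ⟨c, hc, e⟩ := syl_conj (syl_le h1 (le_inf h1.1 hC1) inf_le_left)
    (syl_le hSyl (le_inf hSyl.1 hC2) inf_le_left : Syl T (P₀ ⊓ centralizer ({b} : Set G)))
  rw [cj_cj] at e
  refine ⟨c * g, mul_mem (hP₀P hc.1) hg, mem_normalizer_iff_cj.2 e, ?_⟩
  have hcb : c * b = b * c := mem_centralizer_singleton_iff.1 (show c ∈ centralizer ({b} : Set G) from hc.2)
  calc c * g * a * (c * g)⁻¹ = c * (g * a * g⁻¹) * c⁻¹ := by group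
    _ = b := by rw [hgab, hcb]; group

end one

end Cfsg.Agent.Omega.NOThreeL.RLow.KOne

end

section


/-!
# [R-low], #21762 (0): normal subgroups of odd order transitive on the vectors

`Γ` finite, faithful on the elementary abelian 2-group `E`, `D` normal in `Γ` of odd order and
transitive on the nonzero vectors.  Then there is a cyclic `K ⊴ Γ`, `K ≤ D`, fixed-point-free,
self-centralising in `D`, with `⁅D, Γ⁆ ≤ K`.
-/

set_option autoImplicit false

namespace Cfsg.Agent.Omega.NOThreeL.RLow.TransOdd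

open Cfsg.Agent.Lib.Cores Cfsg.Agent.LieRecognition
open scoped commutatorElement

variable {Γ E : Type*} [Group Γ] [Finite Γ] [AddCommGroup E] [Finite E]
    [DistribMulAction Γ E] [FaithfulSMul Γ E]

/-- #21762 (0). -/
theorem core [Nontrivial E] (D : Subgroup Γ) [hDn : D.Normal] (hodd : Odd (Nat.card D))
    (h2 : ∀ e : E, 2 • e = 0)
    (htr : ∀ a b : E, a ≠ 0 → b ≠ 0 → ∃ d ∈ D, d • a = b) :
    ∃ K : Subgroup Γ, K ≤ D ∧ K.Normal ∧ IsCyclic K ∧
      (∀ g ∈ K, g ≠ 1 → ∀ e : E, g • e = e → e = 0) ∧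
      (∀ d ∈ D, (∀ k ∈ K, d * k = k * d) → d ∈ K) ∧
      (∀ d ∈ D, ∀ t : Γ, d * t * d⁻¹ * t⁻¹ ∈ K) := by
  have hf : FaithfulSMul D E := ⟨fun {x y} h => Subtype.ext
    (FaithfulSMul.eq_of_smul_eq_smul (fun e : E => h e))⟩
  have htr' : ∀ a b : E, a ≠ 0 → b ≠ 0 → ∃ d : D, d • a = b := by
    intro a b ha hb
    obtain ⟨d, hd, h⟩ := htr a b ha hb
    exact ⟨⟨d, hd⟩, h⟩
  obtain ⟨hcyc, hfree⟩ :=
    OddTransFitting.fitting_isCyclic_and_free (D := D) (E := E) hodd Nat.prime_two h2 htr'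
  have : Group.IsSolvable D := FT61.Main.isSolvable hodd Nat.prime_two h2 htr'
  have hcent := Cfsg.Agent.S0044.centralizer_fitting_le D fittingSubgroup_normal
  have hch : (Cfsg.fittingSubgroup D).Characteristic := fittingSubgroup_characteristic
  set K : Subgroup Γ := (Cfsg.fittingSubgroup D).map D.subtype with hK
  have hKn : K.Normal := by rw [hK]; infer_instance
  have hKc : IsCyclic K := by
    rw [hK]
    exact isCyclic_of_surjective
      ((Cfsg.fittingSubgroup D).equivMapOfInjective D.subtype D.subtype_injective).toMonoidHom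
      (MulEquiv.surjective _)
  have hKD : K ≤ D := Subgroup.map_subtype_le _
  have hself : ∀ d ∈ D, (∀ k ∈ K, d * k = k * d) → d ∈ K := by
    intro d hd h
    refine ⟨⟨d, hd⟩, hcent ?_, rfl⟩
    rw [Subgroup.mem_centralizer_iff]
    intro k hk
    apply Subtype.ext
    exact (h k ⟨k, hk, rfl⟩).symm
  refine ⟨K, hKD, hKn, hKc, ?_, hself, ?_⟩
  · rintro g ⟨k, hk, rfl⟩ hg1 e he
    exact hfree k hk (fun h => hg1 (by rw [h]; rfl)) e he
  · intro d hd t
    apply hself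
    · have h1 : t * d⁻¹ * t⁻¹ ∈ D := hDn.conj_mem _ (D.inv_mem hd) t
      have : d * t * d⁻¹ * t⁻¹ = d * (t * d⁻¹ * t⁻¹) := by group
      rw [this]; exact D.mul_mem hd h1
    · intro k hk
      -- conjugation by any two elements commutes on the cyclic `K`
      have hpow : ∀ g : Γ, ∃ m : ℤ, ∀ k ∈ K, g * k * g⁻¹ = k ^ m := by
        intro g
        obtain ⟨⟨z, hz⟩, hgen⟩ := hKc.exists_generator
        obtain ⟨m, hm⟩ := Subgroup.mem_zpowers_iff.1 (hgen ⟨g * z * g⁻¹, hKn.conj_mem z hz g⟩)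
        have hm' : z ^ m = g * z * g⁻¹ := congrArg Subtype.val hm
        refine ⟨m, fun k hk => ?_⟩
        obtain ⟨n, hn⟩ := Subgroup.mem_zpowers_iff.1 (hgen ⟨k, hk⟩)
        have hn' : z ^ n = k := congrArg Subtype.val hn
        rw [← hn', ← zpow_mul, mul_comm n m, zpow_mul, hm', conj_zpow]
      obtain ⟨m, hm⟩ := hpow d
      obtain ⟨n, hn⟩ := hpow t
      have key : ∀ k ∈ K, d * (t * k * t⁻¹) * d⁻¹ = t * (d * k * d⁻¹) * t⁻¹ := by
        intro k hk
        rw [hn k hk, hm k hk, hm (k ^ n) (K.zpow_mem hk n), hn (k ^ m) (K.zpow_mem hk m),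
          ← zpow_mul, ← zpow_mul, mul_comm]
      have hk' : t⁻¹ * k * t ∈ K := by
        have := hKn.conj_mem k hk t⁻¹; simpa using this
      have hk'' : d⁻¹ * (t⁻¹ * k * t) * d ∈ K := by
        have := hKn.conj_mem _ hk' d⁻¹; simpa using this
      have h3 := key _ hk''
      have h4 : d * (t * (d⁻¹ * (t⁻¹ * k * t) * d) * t⁻¹) * d⁻¹
          = (d * t * d⁻¹ * t⁻¹) * k * (d * t * d⁻¹ * t⁻¹)⁻¹ := by group
      have h5 : t * (d * (d⁻¹ * (t⁻¹ * k * t) * d) * d⁻¹) * t⁻¹ = k := by group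
      rw [h4, h5] at h3
      exact mul_inv_eq_iff_eq_mul.1 h3

/-- #21762 (3b): a subgroup with a common fixed vector has its odd part in the centre. -/
theorem central_of_fix [Nontrivial E] (D : Subgroup Γ) [hDn : D.Normal]
    (hodd : Odd (Nat.card D)) (h2 : ∀ e : E, 2 • e = 0)
    (htr : ∀ a b : E, a ≠ 0 → b ≠ 0 → ∃ d ∈ D, d • a = b)
    (P : Subgroup Γ) (e : E) (he : e ≠ 0) (hPe : ∀ p ∈ P, p • e = e) :
    ∀ d ∈ D, d ∈ P → ∀ p ∈ P, d * p = p * d := by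
  obtain ⟨K, -, -, -, hfree, -, hcomm⟩ := core D hodd h2 htr
  intro d hd hdP p hp
  by_contra hne
  have hmem : d * p * d⁻¹ * p⁻¹ ∈ P :=
    P.mul_mem (P.mul_mem (P.mul_mem hdP hp) (P.inv_mem hdP)) (P.inv_mem hp)
  refine he (hfree _ (hcomm d hd p) (fun h => hne ?_) e (hPe _ hmem))
  have h1 : d * p * d⁻¹ = p := mul_inv_eq_one.1 h
  exact mul_inv_eq_iff_eq_mul.1 h1

/-- Burnside: a cyclic Sylow 2-subgroup has a normal complement (of odd order). -/
theorem exists_complement {Γ : Type*} [Group Γ] [Finite Γ] (T : Sylow 2 Γ)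
    (hcyc : IsCyclic (T : Subgroup Γ)) :
    ∃ D : Subgroup Γ, D.Normal ∧ Odd (Nat.card D) ∧
      (∀ g : Γ, ∃ d ∈ D, ∃ t ∈ (T : Subgroup Γ), g = d * t) ∧
      Nat.card Γ = Nat.card D * Nat.card (T : Subgroup Γ) := by
  by_cases h2 : 2 ∣ Nat.card Γ
  · have hmin : (Nat.card Γ).minFac = 2 := (Nat.minFac_eq_two_iff _).2 h2
    have hle := IsCyclic.normalizer_le_centralizer hmin hcyc
    have hc := MonoidHom.ker_transferSylow_isComplement' T hle
    have hnd := MonoidHom.not_dvd_card_ker_transferSylow T hle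
    refine ⟨(MonoidHom.transferSylow T hle).ker, inferInstance, ?_, ?_, ?_⟩
    · rw [← Nat.not_even_iff_odd, even_iff_two_dvd]
      exact hnd
    · intro g
      obtain ⟨⟨d, t⟩, hdt⟩ := hc.2 g
      exact ⟨d, d.2, t, t.2, hdt.symm⟩
    · exact hc.card_mul_card.symm
  · have hT : (T : Subgroup Γ) = ⊥ := by
      rw [← Subgroup.card_eq_one]
      obtain ⟨n, hn⟩ := (IsPGroup.iff_card.1 T.isPGroup')
      rcases Nat.eq_zero_or_pos n with h0 | h0
      · rw [hn, h0, pow_zero]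
      · exfalso
        apply h2
        have h3 : Nat.card (T : Subgroup Γ) ∣ Nat.card Γ := Subgroup.card_subgroup_dvd_card _
        rw [hn] at h3
        exact (dvd_pow_self 2 h0.ne').trans h3
    refine ⟨⊤, inferInstance, ?_, fun g => ⟨g, trivial, 1, Subgroup.one_mem _, by simp⟩, ?_⟩
    · rw [Subgroup.card_top, ← Nat.not_even_iff_odd, even_iff_two_dvd]
      exact h2
    · rw [hT]; simp

/-- A normal subgroup of 2-power index in a group transitive on the nonzero vectors is transitive. -/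
theorem trans_normal {Γ E : Type*} [Group Γ] [Finite Γ] [AddCommGroup E] [Finite E]
    [DistribMulAction Γ E] (D : Subgroup Γ) [hDn : D.Normal] (n : ℕ) (hD : D.index ∣ 2 ^ n)
    (h2 : ∀ e : E, 2 • e = 0)
    (htr : ∀ a b : E, a ≠ 0 → b ≠ 0 → ∃ g : Γ, g • a = b) :
    ∀ a b : E, a ≠ 0 → b ≠ 0 → ∃ d ∈ D, d • a = b := by
  intro a b ha hb
  have horb : MulAction.orbit Γ a = {x : E | x ≠ 0} := by
    ext x
    constructor
    · rintro ⟨g, rfl⟩ h0
      exact ha ((smul_eq_zero_iff_eq g).1 h0)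
    · intro hx
      obtain ⟨g, hg⟩ := htr a x ha hx
      exact ⟨g, hg⟩
  have hcard : (MulAction.stabilizer Γ a).index + 1 = Nat.card E := by
    rw [MulAction.index_stabilizer, horb]
    have h1 : {x : E | x ≠ 0} = ({0} : Set E)ᶜ := rfl
    rw [h1, Set.ncard_compl, Set.ncard_singleton]
    have : 0 < Nat.card E := Nat.card_pos
    omega
  have heven : 2 ∣ Nat.card E := by
    have ho : addOrderOf a = 2 := by
      apply addOrderOf_eq_prime (h2 a) ha
    rw [← ho]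
    exact addOrderOf_dvd_natCard a
  have hodd : Nat.Coprime (MulAction.stabilizer Γ a).index (2 ^ n) := by
    apply Nat.Coprime.pow_right
    rw [Nat.coprime_comm, Nat.coprime_two_left, ← Nat.not_even_iff_odd, even_iff_two_dvd]
    omega
  have htop : D ⊔ MulAction.stabilizer Γ a = ⊤ := by
    rw [← Subgroup.index_eq_one]
    refine Nat.eq_one_of_dvd_coprimes hodd ?_ ?_
    · exact Subgroup.index_dvd_of_le le_sup_right
    · exact (Subgroup.index_dvd_of_le le_sup_left).trans hD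
  obtain ⟨g, hg⟩ := htr a b ha hb
  have hg' : g ∈ D ⊔ MulAction.stabilizer Γ a := by rw [htop]; trivial
  obtain ⟨d, hd, s, hs, rfl⟩ := Subgroup.mem_sup_of_normal_left.1 hg'
  refine ⟨d, hd, ?_⟩
  rw [← hg, mul_smul, MulAction.mem_stabilizer_iff.1 hs]

end Cfsg.Agent.Omega.NOThreeL.RLow.TransOdd

end

section


/-!
# [R-low], #21762 (3b): the linear part of the case `k = 1`

`H` acts on the elementary abelian 2-group `K`, transitively on the nonzero vectors, a Sylow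
2-subgroup `T` has cyclic image, `T ≤ R` and `R` fixes a nonzero vector: then the images of `R` and
of `T` commute.
-/

set_option autoImplicit false

namespace Cfsg.Agent.Omega.NOThreeL.RLow.KOneAbs

open Cfsg.Agent.Omega.NOThreeL.RLow

/-- #21762 (0) + (3b), linear part (`hcyc`: the image of `T` is generated by the image of `s`). -/
theorem comm_of' {H K : Type*} [Group H] [Finite H] [AddCommGroup K] [Finite K]
    [DistribMulAction H K] (h2 : ∀ k : K, k + k = 0) (T : Sylow 2 H) (s : H)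
    (hs : s ∈ (T : Subgroup H))
    (hcyc : ∀ t ∈ (T : Subgroup H), ∃ n : ℤ, ∀ k : K, t • k = (s ^ n) • k)
    (htr : ∀ a b : K, a ≠ 0 → b ≠ 0 → ∃ h : H, h • a = b) (R : Subgroup H)
    (hTR : (T : Subgroup H) ≤ R) (e : K) (he : e ≠ 0) (hR : ∀ r ∈ R, r • e = e) :
    ∀ r ∈ R, ∀ t ∈ (T : Subgroup H), ∀ k : K, r • t • k = t • r • k := by
  classical
  have h2' : ∀ k : K, 2 • k = 0 := fun k => by rw [two_nsmul]; exact h2 k
  have : Nontrivial K := ⟨⟨e, 0, he⟩⟩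
  let f : H →* (AddMonoid.End K)ˣ := (DistribMulAction.toAddMonoidEnd H K).toHomUnits
  let g : H →* f.range := f.rangeRestrict
  have hg : Function.Surjective g := f.rangeRestrict_surjective
  have hfin : Finite f.range := Finite.of_surjective g hg
  have hact : ∀ (h : H) (k : K), g h • k = h • k := fun h k => rfl
  have hfaith : FaithfulSMul f.range K := inferInstance
  let T' : Sylow 2 f.range := T.mapSurjective hg
  have hT' : (T' : Subgroup f.range) = (T : Subgroup H).map g := rfl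
  have hcyc' : IsCyclic (T' : Subgroup f.range) := by
    have hgs : g s ∈ (T' : Subgroup f.range) := by rw [hT']; exact ⟨s, hs, rfl⟩
    refine ⟨⟨g s, hgs⟩, ?_⟩
    rintro ⟨x, hx⟩
    have hx' := hx
    rw [hT'] at hx'
    obtain ⟨t, ht, rfl⟩ := hx'
    obtain ⟨n, hn⟩ := hcyc t ht
    refine ⟨n, Subtype.ext ?_⟩
    show (g s) ^ n = g t
    rw [← map_zpow]
    apply FaithfulSMul.eq_of_smul_eq_smul (α := K)
    intro k
    rw [hact, hact, hn]
  obtain ⟨D, hDn, hodd, hDT, hcard⟩ := TransOdd.exists_complement T' hcyc'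
  have hidx : ∃ n, D.index ∣ 2 ^ n := by
    obtain ⟨n, hn⟩ := IsPGroup.iff_card.1 T'.isPGroup'
    refine ⟨n, ?_⟩
    have h1 := D.card_mul_index
    rw [hcard] at h1
    have h3 : 0 < Nat.card D := Nat.card_pos
    rw [Nat.eq_of_mul_eq_mul_left h3 h1]
    exact dvd_of_eq hn
  obtain ⟨n, hn⟩ := hidx
  have htr' : ∀ a b : K, a ≠ 0 → b ≠ 0 → ∃ x : f.range, x • a = b := by
    intro a b ha hb
    obtain ⟨h, hh⟩ := htr a b ha hb
    exact ⟨g h, hh⟩
  have htrD := TransOdd.trans_normal D n hn h2' htr'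
  have hcen := TransOdd.central_of_fix D hodd h2' htrD (R.map g) e he (by
    rintro _ ⟨r, hr, rfl⟩
    exact hR r hr)
  intro r hr t ht k
  obtain ⟨d, hd, t₁, ht₁, hdt⟩ := hDT (g r)
  have hrR : g r ∈ R.map g := ⟨r, hr, rfl⟩
  have ht₁R : t₁ ∈ R.map g := by
    rw [hT'] at ht₁
    exact Subgroup.map_mono hTR ht₁
  have hdR : d ∈ R.map g := by
    have : d = g r * t₁⁻¹ := by rw [hdt]; group
    rw [this]
    exact (R.map g).mul_mem hrR ((R.map g).inv_mem ht₁R)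
  have htT' : g t ∈ (T' : Subgroup f.range) := by rw [hT']; exact ⟨t, ht, rfl⟩
  have htR : g t ∈ R.map g := ⟨t, hTR ht, rfl⟩
  have c1 : d * g t = g t * d := hcen d hd hdR _ htR
  have c2 : t₁ * g t = g t * t₁ := by
    have hcomm : IsMulCommutative (T' : Subgroup f.range) := inferInstance
    exact congrArg Subtype.val (hcomm.is_comm.comm ⟨t₁, ht₁⟩ ⟨g t, htT'⟩)
  have c3 : g r * g t = g t * g r := by
    rw [hdt, mul_assoc, c2, ← mul_assoc, c1, mul_assoc]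
  have h3 : (g r * g t) • k = (g t * g r) • k := by rw [c3]
  rw [mul_smul, mul_smul] at h3
  exact h3

/-- The same with `IsCyclic` of the image in the automorphism group. -/
theorem comm_of {H K : Type*} [Group H] [Finite H] [AddCommGroup K] [Finite K]
    [DistribMulAction H K] (h2 : ∀ k : K, k + k = 0) (T : Sylow 2 H)
    (hcyc : IsCyclic (((T : Subgroup H).map (DistribMulAction.toAddAut H K)) :
      Subgroup (Multiplicative (AddAut K))))
    (htr : ∀ a b : K, a ≠ 0 → b ≠ 0 → ∃ h : H, h • a = b) (R : Subgroup H)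
    (hTR : (T : Subgroup H) ≤ R) (e : K) (he : e ≠ 0) (hR : ∀ r ∈ R, r • e = e) :
    ∀ r ∈ R, ∀ t ∈ (T : Subgroup H), ∀ k : K, r • t • k = t • r • k := by
  obtain ⟨⟨_, s, hs, rfl⟩, hgen⟩ := hcyc.exists_generator
  refine comm_of' h2 T s hs (fun t ht => ?_) htr R hTR e he hR
  obtain ⟨n, hn⟩ := Subgroup.mem_zpowers_iff.1 (hgen ⟨_, t, ht, rfl⟩)
  refine ⟨n, fun k => ?_⟩
  have h1 : (DistribMulAction.toAddAut H K s) ^ n = DistribMulAction.toAddAut H K t :=
    congrArg Subtype.val hn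
  rw [← map_zpow] at h1
  have h3 : (DistribMulAction.toAddAut H K (s ^ n)).toAdd k
      = (DistribMulAction.toAddAut H K t).toAdd k := by rw [h1]
  exact h3.symm

end Cfsg.Agent.Omega.NOThreeL.RLow.KOneAbs

end

section


/-!
# THEOREM R-LOW (#21762), (3b): a line inside the root line of a natural line has no radical

`P, R ∈ P*(S)`, `V_P` natural (one summand, `C_{V_P}(O²(P)) = 1`), `V_R` contained in the root line `C_{V_P}(C_S(..))`
of `V_P`, `C_Z(R) ≠ 1`: impossible.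

* `zc_of_le` : `C_S(R₁) ≤ T ≤ S` ⟹ `Ω₁ Z(T) = C_{R₁}(T)` (`R₁` the root line);
* **`false_of_le_root`**.
-/

set_option autoImplicit false

namespace Cfsg.Agent.Omega.NOThreeL.RLow.KOne

open Subgroup Cfsg Cfsg.Agent.ZN Cfsg.Agent.ZN.ChoiceBase Cfsg.Agent.ZN.ChoiceSit
open Cfsg.Agent.Omega.MinPar
open Cfsg.Agent.Omega.IId.MixedK (conj_comm comm_conj)
open Cfsg.Agent.Omega.FFThm (NatK NatKM ActsSL)
open Cfsg.Agent.Omega.Half (Amb amb_of_loc)
open Cfsg.Agent.Omega.NOThreeL.NF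
open Cfsg.Agent.Omega.NOThreeL.NF.NatR
open Cfsg.Agent.Omega.NatPair (ap ap_zero')
open Cfsg.Agent.Lib.SL2Mat

universe u

variable {G : Type u} [Group G] [Finite G] {F : Type} [Field F] {S : Sylow 2 G} {P R : Subgroup G}
  {N : NatKM F (S : Subgroup G) P (zl (S : Subgroup G) P) ⊥ 1}

/-- `Z ≤ R₁` -/
theorem zc_le_root (hA : Amb (S : Subgroup G) P (zl (S : Subgroup G) P)) : zc (S : Subgroup G) ≤ ln N Set.univ := by
  intro z hz
  have hzU := hA.zc hz
  refine mem_root.2 ⟨hzU, ?_⟩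
  obtain ⟨t, ht, hact, -⟩ := N.unip fun _ => 1
  have h1 := hact z hzU 0
  have h2 : t * z * t⁻¹ = z := comm_conj ((ZN.mem_zc.1 hz).2.1 t ht)
  rw [h2, ap_up] at h1
  have h3 := congrFun h1 0
  simp only [Matrix.cons_val_zero, one_mul] at h3
  exact left_eq_add.1 h3

theorem syl_of_sylow (hP : (S : Subgroup G) ≤ P) : Syl (S : Subgroup G) P :=
  ⟨hP, S.isPGroup', fun Q _ hQ hSQ => (S.is_maximal' hQ hSQ)⟩

section

variable (hA : Amb (S : Subgroup G) P (zl (S : Subgroup G) P))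
include hA

theorem root_le : ln N Set.univ ≤ (S : Subgroup G) ⊓ centralizer (ln N Set.univ : Set G) := by
  refine le_inf ((ln_le _).trans hA.VT) fun x hx => mem_centralizer_iff.2 fun y hy => ?_
  exact hA.comm y (ln_le _ hy) x (ln_le _ hx)

/-- `Ω₁ Z(T) = C_{R₁}(T)` for `C_S(R₁) ≤ T ≤ S`. -/
theorem zc_of_le [Finite F] [CharP F 2] {T : Subgroup G} (hTS : T ≤ (S : Subgroup G))
    (hT : (S : Subgroup G) ⊓ centralizer (ln N Set.univ : Set G) ≤ T) :
    zc T = ln N Set.univ ⊓ centralizer (T : Set G) := by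
  have h0 := zc_inf_eq (lineF N) S.isPGroup' (norm_root hA) ((root_le hA).trans inf_le_left)
    (fun s hs => semi hA hs) (zc_le_root hA)
  have hRT : ln N Set.univ ≤ T := (root_le hA).trans hT
  refine le_antisymm (fun x hx => ?_) fun x hx => ?_
  · obtain ⟨hxT, hxc, hx2⟩ := ZN.mem_zc.1 hx
    have hx1 : x ∈ centralizer (ln N Set.univ : Set G) :=
      mem_centralizer_iff.2 fun r hr => hxc r (hRT hr)
    refine ⟨?_, mem_centralizer_iff.2 fun t ht => hxc t ht⟩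
    change x ∈ ln N Set.univ
    rw [← h0]
    exact ZN.mem_zc.2 ⟨⟨hTS hxT, hx1⟩, fun b hb => hxc b (hT hb), hx2⟩
  · obtain ⟨hx1, hx2⟩ := mem_inf.1 hx
    refine ZN.mem_zc.2 ⟨hRT hx1, fun b hb => mem_centralizer_iff.1 hx2 b hb, hA.sq x (ln_le _ hx1)⟩

end

/-- `Ω₁ Z(T)` is commutative -/
@[reducible] def zcComm (T : Subgroup G) : CommGroup ↥(zc T) :=
  { (inferInstance : Group ↥(zc T)) with
    mul_comm := fun x y => Subtype.ext ((ZN.mem_zc.1 y.2).2.1 x (ZN.zc_le T x.2)) }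

/-- the conjugation action of `N_G(T)` on `Ω₁ Z(T)` -/
@[reducible] def act (T : Subgroup G) : DistribMulAction ↥(normalizer (T : Set G)) (Additive ↥(zc T)) where
  smul h k := Additive.ofMul ⟨(h : G) * (Additive.toMul k : ↥(zc T)) * (h : G)⁻¹,
    (mem_normalizer_iff.1 (MinSimple.VModule.normalizer_le_normalizer_zc T h.2) _).1 (Additive.toMul k).2⟩
  one_smul k := by
    apply Additive.toMul.injective
    apply Subtype.ext
    change (1 : G) * (Additive.toMul k : ↥(zc T)) * (1 : G)⁻¹ = _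
    group
  mul_smul g h k := by
    apply Additive.toMul.injective
    apply Subtype.ext
    change ((g * h : ↥(normalizer (T : Set G))) : G) * (Additive.toMul k : ↥(zc T)) *
      ((g * h : ↥(normalizer (T : Set G))) : G)⁻¹ = (g : G) * ((h : G) * (Additive.toMul k : ↥(zc T)) * (h : G)⁻¹) * (g : G)⁻¹
    rw [Subgroup.coe_mul]; group
  smul_zero h := by
    apply Additive.toMul.injective
    apply Subtype.ext
    change (h : G) * 1 * (h : G)⁻¹ = 1
    group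
  smul_add h k l := by
    apply Additive.toMul.injective
    apply Subtype.ext
    change (h : G) * ((Additive.toMul k : ↥(zc T)) * (Additive.toMul l : ↥(zc T)) : G) * (h : G)⁻¹ =
      (h : G) * (Additive.toMul k : ↥(zc T)) * (h : G)⁻¹ * ((h : G) * (Additive.toMul l : ↥(zc T)) * (h : G)⁻¹)
    group

/-- **(3b)**: a line inside the root line has no radical. -/
theorem false_of_le_root [Finite F] [CharP F 2] (hc : IsCharacteristicTwoType G)
    (hP : IsParS (S : Subgroup G) P) (N : NatKM F (S : Subgroup G) P (zl (S : Subgroup G) P) ⊥ 1)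
    (hR : IsParS (S : Subgroup G) R) (hz : zc (S : Subgroup G) ⊓ centralizer (R : Set G) ≠ ⊥)
    (hl : zl (S : Subgroup G) R ≤ ln N Set.univ) : False := by
  have hA := amb_of_loc hc S hP.isLoc
  set T : Subgroup G := o2 R with hTdef
  have hTeq : (S : Subgroup G) ⊓ centralizer (zl (S : Subgroup G) R : Set G) = T := hR.inf_centralizer S hc
  have hTS : T ≤ (S : Subgroup G) := by rw [← hTeq]; exact inf_le_left
  have hT : (S : Subgroup G) ⊓ centralizer (ln N Set.univ : Set G) ≤ T := by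
    rw [← hTeq]
    exact inf_le_inf_left _ (centralizer_le hl)
  have hzT := zc_of_le hA hTS hT
  have hzT' : ∀ x ∈ zc T, x ∈ ln N Set.univ := fun x hx => by
    rw [hzT] at hx
    exact hx.1
  have hSyl : Syl (S : Subgroup G) P := syl_of_sylow hP.le
  have hZT : zc (S : Subgroup G) ≤ zc T := by
    rw [hzT]
    exact le_inf (zc_le_root hA) fun z hz => mem_centralizer_iff.2 fun t ht => (ZN.mem_zc.1 hz).2.1 t (hTS ht)
  have hRN : R ≤ normalizer (T : Set G) := MinSimple.VModule.le_normalizer_o2 R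
  have hSN : (S : Subgroup G) ≤ normalizer (T : Set G) := hR.le.trans hRN
  -- the action
  letI := zcComm T
  letI := act T
  have hsm : ∀ (h : ↥(normalizer (T : Set G))) (k : Additive ↥(zc T)),
      ((Additive.toMul (h • k) : ↥(zc T)) : G) = (h : G) * (Additive.toMul k : ↥(zc T)) * (h : G)⁻¹ :=
    fun _ _ => rfl
  obtain ⟨e, he, he1⟩ : ∃ e : G, e ∈ zc (S : Subgroup G) ⊓ centralizer (R : Set G) ∧ e ≠ 1 := by
    by_contra hcon
    push Not at hcon
    exact hz ((Subgroup.eq_bot_iff_forall _).2 hcon)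
  have he' : e ∈ zc T := hZT he.1
  obtain ⟨a, haS, hagen⟩ := (lineF N).exists_gen (S : Subgroup G) (fun s hs => semi hA hs) S.isPGroup'
  have key := KOneAbs.comm_of' (H := ↥(normalizer (T : Set G))) (K := Additive ↥(zc T)) ?_ (S.subtype hSN) ⟨a, hSN haS⟩ haS ?_ ?_
    (R.subgroupOf (normalizer (T : Set G))) ?_ (Additive.ofMul ⟨e, he'⟩) ?_ ?_
  · -- conclusion
    refine hR.not_zc ?_
    have hle : ∀ r ∈ R, ∀ z ∈ zc (S : Subgroup G), r * z * r⁻¹ ∈ zc (S : Subgroup G) := by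
      intro r hr z hz
      have h3 : r * z * r⁻¹ ∈ zc T := (mem_normalizer_iff.1
        (MinSimple.VModule.normalizer_le_normalizer_zc T (hRN hr)) z).1 (hZT hz)
      refine ZN.mem_zc.2 ⟨hTS (ZN.zc_le T h3), fun t ht => ?_, (ZN.mem_zc.1 h3).2.2⟩
      have h1 := key ⟨r, hRN hr⟩ hr ⟨t, hSN ht⟩ ht (Additive.ofMul ⟨z, hZT hz⟩)
      have h2 := congrArg (fun k : Additive ↥(zc T) => ((Additive.toMul k : ↥(zc T)) : G)) h1
      simp only [hsm] at h2
      change r * (t * z * t⁻¹) * r⁻¹ = t * (r * z * r⁻¹) * t⁻¹ at h2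
      rw [comm_conj ((ZN.mem_zc.1 hz).2.1 t ht)] at h2
      exact conj_comm h2.symm
    intro r hr
    rw [mem_normalizer_iff]
    intro z
    refine ⟨fun h => hle r hr z h, fun h => ?_⟩
    have h1 := hle r⁻¹ (inv_mem hr) _ h
    have e1 : r⁻¹ * (r * z * r⁻¹) * r⁻¹⁻¹ = z := by group
    rwa [e1] at h1
  · -- exponent 2
    intro k
    apply Additive.toMul.injective
    apply Subtype.ext
    change ((Additive.toMul k : ↥(zc T)) : G) * (Additive.toMul k : ↥(zc T)) = 1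
    rw [← pow_two]
    exact (ZN.mem_zc.1 (Additive.toMul k).2).2.2
  · -- cyclic
    intro b hb
    obtain ⟨n, hn⟩ := hagen (b : G) hb
    refine ⟨-n, fun k => ?_⟩
    apply Additive.toMul.injective
    apply Subtype.ext
    rw [hsm, hsm]
    have hk : ((Additive.toMul k : ↥(zc T)) : G) ∈ ln N Set.univ := hzT' _ (Additive.toMul k : ↥(zc T)).2
    have h2 := hn _ hk
    have e1 : (((⟨a, hSN haS⟩ : ↥(normalizer (T : Set G))) ^ (-n) : ↥(normalizer (T : Set G))) : G) = a ^ (-n) := by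
      rw [Subgroup.coe_zpow]
    rw [e1]
    have h3 : (b : G) * (Additive.toMul k : ↥(zc T)) = (a ^ n)⁻¹ * ((Additive.toMul k : ↥(zc T)) * (a ^ n * b)) := by
      rw [← h2]; group
    rw [h3, zpow_neg]
    group
  · -- transitive
    intro x y hx hy
    have hx' := (Additive.toMul x : ↥(zc T)).2
    have hy' := (Additive.toMul y : ↥(zc T)).2
    obtain ⟨-, hxc, -⟩ := ZN.mem_zc.1 hx'
    obtain ⟨-, hyc, -⟩ := ZN.mem_zc.1 hy'
    obtain ⟨g, -, hgT, hg⟩ := fuse hA hSyl hTS hT (ln_le _ (hzT' _ hx')) (ln_le _ (hzT' _ hy')) hxc hyc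
      (fun h => hx (Additive.toMul.injective (Subtype.ext h))) (fun h => hy (Additive.toMul.injective (Subtype.ext h)))
    refine ⟨⟨g, hgT⟩, ?_⟩
    apply Additive.toMul.injective
    apply Subtype.ext
    rw [hsm]
    exact hg
  · -- `S ≤ R`
    intro t ht
    exact hR.le ht
  · intro h
    exact he1 (congrArg (fun k : Additive ↥(zc T) => ((Additive.toMul k : ↥(zc T)) : G)) h)
  · intro r hr
    apply Additive.toMul.injective
    apply Subtype.ext
    rw [hsm]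
    exact comm_conj (mem_centralizer_iff.1 he.2 r hr)

end Cfsg.Agent.Omega.NOThreeL.RLow.KOne

end

section


/-!
# THEOREM R-LOW (#21762), (3a): the abstract end

`A ≤ T` an offender on `V`, `V / D` a sum of natural modules or of even-subset modules, `A` faithful on `V / D`,
`[V, A] ≤ R ≤ V`.  Then `|A : C_A(V)| ≤ |R : R ∩ D|` (`nat_card_le`, `sym_card_le`).

`Trv V A R` : `A` acts on `V` as a group of transvections with one axis and centre `R`, `|R| ≤ |A : C_A(V)|`; then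
`A` is an offender (`Trv.offM`) and `R ∩ D = 1` (`Trv.false_nat`, `Trv.false_sym`) = (3a).
-/

set_option autoImplicit false

namespace Cfsg.Agent.Omega.NOThreeL.RLow

open Subgroup Cfsg Cfsg.Agent.Omega.FFThm
open Cfsg.Agent.Omega.NatPair (ap)
open Cfsg.Agent.Lib.SL2Mat

universe u

variable {G : Type u} [Group G]

/-! ### Two counting lemmas -/

theorem card_le_of_fun [Finite G] {A C : Subgroup G} {X : Type*} [Finite X] (φ : A → X)
    (h : ∀ a b : A, φ a = φ b → (a : G)⁻¹ * b ∈ C) :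
    Nat.card A ≤ Nat.card ↥(A ⊓ C) * Nat.card X := by
  have h1 : C.relIndex A ≤ Nat.card X := by
    rw [relIndex, index]
    refine Nat.card_le_card_of_injective (fun q : A ⧸ C.subgroupOf A => φ q.out) ?_
    intro x y hxy
    have h2 := h _ _ hxy
    have h3 : (x.out : A ⧸ C.subgroupOf A) = y.out := by
      rw [QuotientGroup.eq, mem_subgroupOf]
      exact h2
    rwa [QuotientGroup.out_eq', QuotientGroup.out_eq'] at h3
  have h2 : C.relIndex A * Nat.card ↥(A ⊓ C) = Nat.card A := by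
    have e := relIndex_inf_mul_relIndex (⊥ : Subgroup G) C A
    rw [relIndex_bot_left, bot_inf_eq, relIndex_bot_left, mul_comm, inf_comm] at e
    exact e
  rw [← h2, mul_comm]
  exact Nat.mul_le_mul_left _ h1

theorem card_ge_of_fun [Finite G] {R D : Subgroup G} {X : Type*} [Finite X] (ψ : X → R)
    (h : ∀ x y : X, ((ψ x : G))⁻¹ * ψ y ∈ D → x = y) :
    Nat.card X * Nat.card ↥(R ⊓ D) ≤ Nat.card R := by
  have h1 : Nat.card X ≤ D.relIndex R := by
    rw [relIndex, index]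
    refine Nat.card_le_card_of_injective (fun x : X => ((ψ x : R) : R ⧸ D.subgroupOf R)) ?_
    intro x y hxy
    have h2 : ((ψ x : R) : R ⧸ D.subgroupOf R) = (ψ y : R) := hxy
    rw [QuotientGroup.eq, mem_subgroupOf] at h2
    exact h x y h2
  have h2 : D.relIndex R * Nat.card ↥(R ⊓ D) = Nat.card R := by
    have e := relIndex_inf_mul_relIndex (⊥ : Subgroup G) D R
    rw [relIndex_bot_left, bot_inf_eq, relIndex_bot_left, mul_comm, inf_comm] at e
    exact e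
  rw [← h2]
  exact Nat.mul_le_mul_right _ h1

/-- the abstract inequality -/
theorem card_le_card [Finite G] {A C R D : Subgroup G} {X : Type*} [Finite X] (φ : A → X)
    (h : ∀ a b : A, φ a = φ b → (a : G)⁻¹ * b ∈ C) (ψ : X → R)
    (h' : ∀ x y : X, ((ψ x : G))⁻¹ * ψ y ∈ D → x = y) :
    Nat.card A * Nat.card ↥(R ⊓ D) ≤ Nat.card ↥(A ⊓ C) * Nat.card R := by
  calc Nat.card A * Nat.card ↥(R ⊓ D) ≤ Nat.card ↥(A ⊓ C) * Nat.card X * Nat.card ↥(R ⊓ D) :=
        Nat.mul_le_mul_right _ (card_le_of_fun φ h)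
    _ = Nat.card ↥(A ⊓ C) * (Nat.card X * Nat.card ↥(R ⊓ D)) := by ring
    _ ≤ _ := Nat.mul_le_mul_left _ (card_ge_of_fun ψ h')

/-! ### Natural modules -/

section nat

variable {F : Type} [Field F] [Finite F] {T H V D A R : Subgroup G} {k : ℕ}

theorem nat_card_le [Finite G] (N : NatKM F T H V D k) (hAT : A ≤ T) (ho : OffM V A)
    (hn : ∀ a ∈ A, ∀ v ∈ V, a * v * a⁻¹ ∈ V) (hRV : R ≤ V)
    (hR : ∀ a ∈ A, ∀ v ∈ V, a * v * a⁻¹ * v⁻¹ ∈ R)
    (hf : ∀ a ∈ A, (∀ v ∈ V, N.e (a * v * a⁻¹) = N.e v) → a ∈ centralizer (V : Set G)) :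
    Nat.card A * Nat.card ↥(R ⊓ D) ≤ Nat.card ↥(A ⊓ centralizer (V : Set G)) * Nat.card R := by
  classical
  obtain ⟨I, h1, h2⟩ := N.offM A hAT ho
  have e1 : N.e 1 = 0 := by
    have := N.mul 1 V.one_mem 1 V.one_mem
    rw [mul_one] at this
    exact left_eq_add.1 this
  have einv : ∀ v ∈ V, N.e v⁻¹ = - N.e v := by
    intro v hv
    have := N.mul v hv v⁻¹ (V.inv_mem hv)
    rw [mul_inv_cancel, e1] at this
    exact (neg_eq_of_add_eq_zero_right this.symm).symm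
  let X : Type := {b : Fin k → F // ∀ i, i ∉ I → b i = 0}
  have hX : Finite X := inferInstanceAs (Finite {b : Fin k → F // ∀ i, i ∉ I → b i = 0})
  choose bb hb0 hb using h1
  choose aa haA haa using h2
  obtain ⟨v₁, hv₁, ev₁⟩ := N.surj fun _ => ![0, 1]
  have hψ : ∀ x : X, aa x.1 x.2 * v₁ * (aa x.1 x.2)⁻¹ * v₁⁻¹ ∈ R := fun x => hR _ (haA _ _) _ hv₁
  have eψ : ∀ x : X, ∀ i, N.e (aa x.1 x.2 * v₁ * (aa x.1 x.2)⁻¹ * v₁⁻¹) i 0 = x.1 i := by
    intro x i
    rw [N.mul _ (hn _ (haA _ _) _ hv₁) _ (V.inv_mem hv₁), einv _ hv₁, Pi.add_apply, Pi.neg_apply,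
      (haa x.1 x.2).1 _ hv₁ i, ev₁, Pi.add_apply, Pi.neg_apply, NatPair.ap_zero', up_00, up_01]
    simp
  refine card_le_card (X := X) (fun a => ⟨bb a a.2, hb0 a a.2⟩) ?_ (fun x => ⟨_, hψ x⟩) ?_
  · intro a b hab
    have hab' : bb a a.2 = bb b b.2 := congrArg Subtype.val hab
    refine hf _ (A.mul_mem (A.inv_mem a.2) b.2) fun v hv => ?_
    have hw : (a : G)⁻¹ * ((b : G) * v * (b : G)⁻¹) * (a : G)⁻¹⁻¹ ∈ V := hn _ (A.inv_mem a.2) _ (hn _ b.2 _ hv)
    have e2 : (a : G)⁻¹ * b * v * ((a : G)⁻¹ * b)⁻¹ = (a : G)⁻¹ * ((b : G) * v * (b : G)⁻¹) * (a : G)⁻¹⁻¹ := by group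
    rw [e2]
    funext i
    have h3 := (hb a a.2).1 _ hw i
    have e3 : (a : G) * ((a : G)⁻¹ * ((b : G) * v * (b : G)⁻¹) * (a : G)⁻¹⁻¹) * (a : G)⁻¹ = (b : G) * v * (b : G)⁻¹ := by group
    rw [e3, (hb b b.2).1 _ hv i, hab'] at h3
    have h4 := congrArg (ap (up (bb b b.2 i))⁻¹) h3
    rw [NatPair.ap_inv_ap, NatPair.ap_inv_ap] at h4
    exact h4.symm
  · intro x y hxy
    have hx := hRV (hψ x)
    have hy := hRV (hψ y)
    have h3 := (N.ker _ (V.mul_mem (V.inv_mem hx) hy)).2 hxy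
    rw [N.mul _ (V.inv_mem hx) _ hy, einv _ hx, neg_add_eq_zero] at h3
    apply Subtype.ext
    funext i
    rw [← eψ x i, ← eψ y i, h3]

end nat

/-! ### Even-subset modules -/

section sym

variable {T H V D A R : Subgroup G} {k m : ℕ}

/-- half of the support of an involution with the fixed point `0` -/
theorem exists_half {n : ℕ} (τ : Equiv.Perm (Fin (n + 1))) (h0 : τ 0 = 0) (h2 : ∀ x, τ (τ x) = x) :
    ∃ y : Fin (n + 1) → ZMod 2, ∑ x, y x = 0 ∧ ∀ x, y (τ x) + y x = if τ x = x then 0 else 1 := by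
  classical
  let y₀ : Fin (n + 1) → ZMod 2 := fun x => if x < τ x then 1 else 0
  refine ⟨fun x => y₀ x + if x = 0 then ∑ z, y₀ z else 0, ?_, fun x => ?_⟩
  · rw [Finset.sum_add_distrib, Finset.sum_ite_eq' Finset.univ (0 : Fin (n + 1)) (fun _ => ∑ z, y₀ z),
      if_pos (Finset.mem_univ _), CharTwo.add_self_eq_zero]
  · by_cases hx : τ x = x
    · rw [if_pos hx, hx, CharTwo.add_self_eq_zero]
    · rw [if_neg hx]
      have hx0 : x ≠ 0 := fun h => hx (by rw [h, h0])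
      have hx0' : τ x ≠ 0 := fun h => hx0 (by rw [← h2 x, h, h0])
      change (y₀ (τ x) + if τ x = 0 then ∑ z, y₀ z else 0) + (y₀ x + if x = 0 then ∑ z, y₀ z else 0) = 1
      rw [if_neg hx0, if_neg hx0', add_zero, add_zero]
      simp only [y₀, h2]
      rcases lt_or_gt_of_ne hx with h | h
      · rw [if_pos h, if_neg (not_lt.2 h.le), add_zero]
      · rw [if_neg (not_lt.2 h.le), if_pos h, zero_add]

/-- two points of one block are separated by an element of `V` -/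
theorem eq_of_not_sep (hm : 1 ≤ m) (N : SymK T H V D k m) (i : Fin k) {a b : Fin (2 ^ m + 1)}
    (h : ∀ v ∈ V, N.e v i a = N.e v i b) : a = b := by
  classical
  by_contra hab
  obtain ⟨c, hca, hcb⟩ : ∃ c : Fin (2 ^ m + 1), c ≠ a ∧ c ≠ b := by
    by_contra hcon
    push Not at hcon
    have h1 : (Finset.univ : Finset (Fin (2 ^ m + 1))) ⊆ {a, b} := by
      intro x _
      rw [Finset.mem_insert, Finset.mem_singleton]
      by_cases hx : x = a
      · exact Or.inl hx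
      · exact Or.inr (hcon x hx)
    have h2 := (Finset.card_le_card h1).trans Finset.card_le_two
    rw [Finset.card_univ, Fintype.card_fin] at h2
    have h3 : 2 ^ 1 ≤ 2 ^ m := Nat.pow_le_pow_right (by norm_num) hm
    omega
  obtain ⟨v, hv, ev⟩ := N.surj (fun j x => if j = i then (Pi.single a 1 + Pi.single c 1 : Fin (2 ^ m + 1) → ZMod 2) x else 0) (by
    intro j
    by_cases hj : j = i
    · simp only [hj, if_true, Pi.add_apply]
      rw [Finset.sum_add_distrib, Finset.sum_pi_single', Finset.sum_pi_single']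
      simp [CharTwo.add_self_eq_zero]
    · simp [hj])
  have h1 := h v hv
  rw [ev] at h1
  simp only [if_true, Pi.add_apply, Pi.single_apply] at h1
  rw [if_neg hca.symm, if_neg (Ne.symm hab), if_neg hcb.symm] at h1
  simp at h1

theorem sym_card_le [Finite G] (hm : 1 ≤ m) (N : SymKM T H V D k m) (hAT : A ≤ T) (ho : OffM V A)
    (hn : ∀ a ∈ A, ∀ v ∈ V, a * v * a⁻¹ ∈ V) (hRV : R ≤ V)
    (hR : ∀ a ∈ A, ∀ v ∈ V, a * v * a⁻¹ * v⁻¹ ∈ R)
    (hf : ∀ a ∈ A, (∀ v ∈ V, N.e (a * v * a⁻¹) = N.e v) → a ∈ centralizer (V : Set G)) :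
    Nat.card A * Nat.card ↥(R ⊓ D) ≤ Nat.card ↥(A ⊓ centralizer (V : Set G)) * Nat.card R := by
  classical
  obtain ⟨-, h1⟩ := N.offM A hAT ho
  have e1 : N.e 1 = 0 := by
    have := N.mul 1 V.one_mem 1 V.one_mem
    rw [mul_one] at this
    exact left_eq_add.1 this
  have einv : ∀ v ∈ V, N.e v⁻¹ = N.e v := by
    intro v hv
    have := N.mul v hv v⁻¹ (V.inv_mem hv)
    rw [mul_inv_cancel, e1] at this
    have h2 := neg_eq_of_add_eq_zero_right this.symm
    rw [← h2]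
    funext i x
    rw [Pi.neg_apply, Pi.neg_apply, CharTwo.neg_eq]
  let X : Type := {τ : Fin k → Equiv.Perm (Fin (2 ^ m + 1)) // ∃ a ∈ A, ActsSym N.e V a 1 τ ∧
    ∀ i x, τ i x ≠ x → τ i (τ i x) = x ∧ ∃ b ∈ A, ActsSym N.e V b 1 (Function.update 1 i (Equiv.swap x (τ i x)))}
  have hX : Finite X := inferInstanceAs (Finite {τ : Fin k → Equiv.Perm (Fin (2 ^ m + 1)) //
    ∃ a ∈ A, ActsSym N.e V a 1 τ ∧
    ∀ i x, τ i x ≠ x → τ i (τ i x) = x ∧ ∃ b ∈ A, ActsSym N.e V b 1 (Function.update 1 i (Equiv.swap x (τ i x)))})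
  choose tt ht0 ht1 using h1
  have h2 : ∀ τ : X, ∃ r ∈ R, ∀ i x, N.e r i x = if τ.1 i x = x then 0 else 1 := by
    rintro ⟨τ, a, haA, ha, hτ⟩
    have hinv : ∀ i x, τ i (τ i x) = x := by
      intro i x
      by_cases h : τ i x = x
      · rw [h, h]
      · exact (hτ i x h).1
    have h0 := N.fix0 a (hAT haA) 1 τ ha
    choose y hy0 hy using fun i => exists_half (τ i) (h0 i) (hinv i)
    obtain ⟨v, hv, ev⟩ := N.surj y hy0
    refine ⟨_, hR a haA v hv, fun i x => ?_⟩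
    rw [N.mul _ (hn _ haA _ hv) _ (V.inv_mem hv), einv _ hv, Pi.add_apply, Pi.add_apply]
    have h3 := ha v hv i (τ i x)
    rw [hinv, Equiv.Perm.one_apply] at h3
    rw [h3, ev, hy i x]
  choose r hrR hr using h2
  refine card_le_card (X := X) (fun a => ⟨tt a a.2, a, a.2, ht0 a a.2, ht1 a a.2⟩) ?_ (fun x => ⟨r x, hrR x⟩) ?_
  · intro a b hab
    have hab' : tt a a.2 = tt b b.2 := congrArg Subtype.val hab
    refine hf _ (A.mul_mem (A.inv_mem a.2) b.2) fun v hv => ?_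
    have hw : (a : G)⁻¹ * ((b : G) * v * (b : G)⁻¹) * (a : G)⁻¹⁻¹ ∈ V := hn _ (A.inv_mem a.2) _ (hn _ b.2 _ hv)
    have e2 : (a : G)⁻¹ * b * v * ((a : G)⁻¹ * b)⁻¹ = (a : G)⁻¹ * ((b : G) * v * (b : G)⁻¹) * (a : G)⁻¹⁻¹ := by group
    rw [e2]
    funext i x
    have h3 := ht0 a a.2 _ hw i x
    have e3 : (a : G) * ((a : G)⁻¹ * ((b : G) * v * (b : G)⁻¹) * (a : G)⁻¹⁻¹) * (a : G)⁻¹ = (b : G) * v * (b : G)⁻¹ := by group
    rw [e3, hab', ht0 b b.2 v hv i x] at h3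
    exact h3.symm
  · intro τ τ' hxy
    have hx := hRV (hrR τ)
    have hy := hRV (hrR τ')
    have h3 := (N.ker _ (V.mul_mem (V.inv_mem hx) hy)).2 hxy
    rw [N.mul _ (V.inv_mem hx) _ hy, einv _ hx] at h3
    have h4 : N.e (r τ) = N.e (r τ') := by
      funext i x
      have := congrFun (congrFun h3 i) x
      rw [Pi.add_apply, Pi.add_apply] at this
      exact CharTwo.add_eq_zero.1 this
    -- the supports agree
    have h5 : ∀ i x, τ.1 i x = x ↔ τ'.1 i x = x := by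
      intro i x
      have h6 := congrFun (congrFun h4 i) x
      rw [hr τ i x, hr τ' i x] at h6
      by_cases e2 : τ.1 i x = x
      · rw [if_pos e2] at h6
        refine ⟨fun _ => ?_, fun _ => e2⟩
        by_contra e3
        rw [if_neg e3] at h6
        exact zero_ne_one h6
      · rw [if_neg e2] at h6
        refine ⟨fun h => absurd h e2, fun h => ?_⟩
        rw [if_pos h] at h6
        exact absurd h6 one_ne_zero
    obtain ⟨τ, a, haA, ha, hτ⟩ := τ
    obtain ⟨τ', a', haA', ha', hτ'⟩ := τ'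
    apply Subtype.ext
    funext i
    ext1 x
    change τ i x = τ' i x
    by_cases hx1 : τ i x = x
    · rw [hx1]
      exact ((h5 i x).1 hx1).symm
    have hx2 : τ' i x ≠ x := fun h => hx1 ((h5 i x).2 h)
    by_contra hne
    obtain ⟨-, b, hbA, hb⟩ := hτ i x hx1
    obtain ⟨-, b', hbA', hb'⟩ := hτ' i x hx2
    set s := Equiv.swap x (τ i x) with hs
    set s' := Equiv.swap x (τ' i x) with hs'
    have act : ∀ {b : G} {s : Equiv.Perm (Fin (2 ^ m + 1))}, b ∈ A → ActsSym N.e V b 1 (Function.update 1 i s) →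
        ∀ v ∈ V, ∀ z, N.e (b * v * b⁻¹) i (s z) = N.e v i z := by
      intro b s _ hb v hv z
      have := hb v hv i z
      rwa [Function.update_self] at this
    have hcomm : ∀ z, s (s' z) = s' (s z) := by
      intro z
      refine eq_of_not_sep hm N.toSymK i fun w hw => ?_
      -- `w = (b b') v (b b')⁻¹`
      have hv : b'⁻¹ * (b⁻¹ * w * b⁻¹⁻¹) * b'⁻¹⁻¹ ∈ V := hn _ (A.inv_mem hbA') _ (hn _ (A.inv_mem hbA) _ hw)
      set v := b'⁻¹ * (b⁻¹ * w * b⁻¹⁻¹) * b'⁻¹⁻¹ with hv'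
      have e2 : b * (b' * v * b'⁻¹) * b⁻¹ = w := by rw [hv']; group
      have e3 : b' * (b * v * b⁻¹) * b'⁻¹ = w := by
        have h6 := mem_centralizer_iff.1 (ho.comm b hbA b' hbA') _ (hn _ hbA' _ (hn _ hbA _ hv))
        calc b' * (b * v * b⁻¹) * b'⁻¹ = (b * b' * b⁻¹ * b'⁻¹) * (b' * (b * v * b⁻¹) * b'⁻¹) * (b * b' * b⁻¹ * b'⁻¹)⁻¹ := by
              rw [← h6]; group
          _ = b * (b' * v * b'⁻¹) * b⁻¹ := by group
          _ = w := e2
      have h7 : N.e w i (s (s' z)) = N.e v i z := by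
        rw [← e2, act hbA hb _ (hn _ hbA' _ hv), act hbA' hb' _ hv]
      have h8 : N.e w i (s' (s z)) = N.e v i z := by
        rw [← e3, act hbA' hb' _ (hn _ hbA _ hv), act hbA hb _ hv]
      rw [h7, h8]
    have h6 := hcomm x
    have e4 : s x = τ i x := Equiv.swap_apply_left _ _
    have e5 : s' x = τ' i x := Equiv.swap_apply_left _ _
    rw [e4, e5, hs, hs', Equiv.swap_apply_of_ne_of_ne hx2 (Ne.symm hne),
      Equiv.swap_apply_of_ne_of_ne hx1 hne] at h6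
    exact hne h6.symm

end sym

/-! ### (3a) -/

section off

variable {V A R : Subgroup G}

/-- `A` acts on `V` as a group of transvections with centre `R` and one axis -/
structure Trv (V A R : Subgroup G) : Prop where
  Vcomm : ∀ v ∈ V, ∀ w ∈ V, v * w = w * v
  Rsq : ∀ r ∈ R, r * r = 1
  RV : R ≤ V
  RA : ∀ a ∈ A, ∀ r ∈ R, a * r = r * a
  comm : ∀ a ∈ A, ∀ v ∈ V, a * v * a⁻¹ * v⁻¹ ∈ R
  axis : ∀ a ∈ A, a ∉ centralizer (V : Set G) → ∀ v ∈ V, a * v = v * a → ∀ b ∈ A, b * v = v * b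
  ne : ¬ A ≤ centralizer (V : Set G)
  card : Nat.card R * Nat.card ↥(A ⊓ centralizer (V : Set G)) ≤ Nat.card A

namespace Trv

variable (h : Trv V A R)
include h

theorem conj_mem {a v : G} (ha : a ∈ A) (hv : v ∈ V) : a * v * a⁻¹ ∈ V := by
  have h1 := V.mul_mem (h.RV (h.comm a ha v hv)) hv
  rwa [inv_mul_cancel_right] at h1

theorem elemM : ElemM V A := by
  have key : ∀ a ∈ A, ∀ v ∈ V, ∃ r ∈ R, a * v * a⁻¹ = r * v := fun a ha v hv =>
    ⟨_, h.comm a ha v hv, by group⟩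
  have conjR : ∀ a ∈ A, ∀ r ∈ R, a * r * a⁻¹ = r := fun a ha r hr => by
    rw [h.RA a ha r hr, mul_inv_cancel_right]
  refine ⟨fun a ha => ?_, fun a ha b hb => ?_⟩
  · rw [mem_centralizer_iff]
    intro v hv
    obtain ⟨r, hr, e⟩ := key a ha v hv
    have e2 : a ^ 2 * v * (a ^ 2)⁻¹ = v := by
      calc a ^ 2 * v * (a ^ 2)⁻¹ = a * (a * v * a⁻¹) * a⁻¹ := by rw [pow_two]; group
        _ = a * (r * v) * a⁻¹ := by rw [e]
        _ = (a * r * a⁻¹) * (a * v * a⁻¹) := by group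
        _ = r * (r * v) := by rw [conjR a ha r hr, e]
        _ = v := by rw [← mul_assoc, h.Rsq r hr, one_mul]
    rw [mul_inv_eq_iff_eq_mul] at e2
    exact e2.symm
  · rw [mem_centralizer_iff]
    intro v hv
    obtain ⟨r, hr, e⟩ := key a ha v hv
    obtain ⟨s, hs, e'⟩ := key b hb v hv
    have e1 : a * (b * v * b⁻¹) * a⁻¹ = s * r * v := by
      calc a * (b * v * b⁻¹) * a⁻¹ = (a * s * a⁻¹) * (a * v * a⁻¹) := by rw [e']; group
        _ = s * r * v := by rw [conjR a ha s hs, e, mul_assoc]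
    have e2 : b * (a * v * a⁻¹) * b⁻¹ = s * r * v := by
      calc b * (a * v * a⁻¹) * b⁻¹ = (b * r * b⁻¹) * (b * v * b⁻¹) := by rw [e]; group
        _ = r * s * v := by rw [conjR b hb r hr, e', mul_assoc]
        _ = s * r * v := by rw [h.Vcomm r (h.RV hr) s (h.RV hs)]
    -- `c = a b a⁻¹ b⁻¹`, applied to `b a v`
    obtain ⟨w, hw⟩ : ∃ w, w = b * (a * v * a⁻¹) * b⁻¹ := ⟨_, rfl⟩
    have e3 : (a * b * a⁻¹ * b⁻¹) * w * (a * b * a⁻¹ * b⁻¹)⁻¹ = w := by
      calc (a * b * a⁻¹ * b⁻¹) * w * (a * b * a⁻¹ * b⁻¹)⁻¹ = a * (b * v * b⁻¹) * a⁻¹ := by rw [hw]; group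
        _ = w := by rw [e1, hw, e2]
    have hRc : ∀ r ∈ R, (a * b * a⁻¹ * b⁻¹) * r * (a * b * a⁻¹ * b⁻¹)⁻¹ = r := by
      intro r hr
      have i1 := conjR a ha r hr
      have i2 := conjR b hb r hr
      have i3 := conjR a⁻¹ (A.inv_mem ha) r hr
      have i4 := conjR b⁻¹ (A.inv_mem hb) r hr
      calc (a * b * a⁻¹ * b⁻¹) * r * (a * b * a⁻¹ * b⁻¹)⁻¹
          = a * (b * (a⁻¹ * (b⁻¹ * r * b⁻¹⁻¹) * a⁻¹⁻¹) * b⁻¹) * a⁻¹ := by group
        _ = r := by rw [i4, i3, i2, i1]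
    have e4 : v = (s * r)⁻¹ * w := by rw [hw, e2]; group
    have e5 : (a * b * a⁻¹ * b⁻¹) * v * (a * b * a⁻¹ * b⁻¹)⁻¹ = v := by
      have hsr : (s * r)⁻¹ ∈ R := R.inv_mem (R.mul_mem hs hr)
      calc (a * b * a⁻¹ * b⁻¹) * v * (a * b * a⁻¹ * b⁻¹)⁻¹
          = ((a * b * a⁻¹ * b⁻¹) * (s * r)⁻¹ * (a * b * a⁻¹ * b⁻¹)⁻¹) *
            ((a * b * a⁻¹ * b⁻¹) * w * (a * b * a⁻¹ * b⁻¹)⁻¹) := by rw [e4]; group
        _ = v := by rw [hRc _ hsr, e3, ← e4]
    rw [mul_inv_eq_iff_eq_mul] at e5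
    exact e5.symm

theorem offM [Finite G] : OffM V A where
  toElemM := h.elemM
  ne := h.ne
  le := by
    obtain ⟨a, ha, hac⟩ := Set.not_subset.1 h.ne
    -- `|V : C_V(A)| ≤ |R|`
    have h1 : Nat.card V ≤ Nat.card ↥(V ⊓ centralizer (A : Set G)) * Nat.card R := by
      refine card_le_of_fun (X := R) (fun v => ⟨a * v * a⁻¹ * (v : G)⁻¹, h.comm a ha v v.2⟩) ?_
      intro v w hvw
      have e1 : a * v * a⁻¹ * (v : G)⁻¹ = a * w * a⁻¹ * (w : G)⁻¹ := congrArg Subtype.val hvw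
      rw [mem_centralizer_iff]
      have hvwV : (v : G)⁻¹ * w ∈ V := V.mul_mem (V.inv_mem v.2) w.2
      have e2 : a * ((v : G)⁻¹ * w) = (v : G)⁻¹ * w * a := by
        have e3 : a * w * a⁻¹ = a * v * a⁻¹ * (v : G)⁻¹ * w := by rw [e1]; group
        have e4 : a * v * a⁻¹ ∈ V := h.conj_mem ha v.2
        have e5 : a * v * a⁻¹ * ((v : G)⁻¹ * w) = (v : G)⁻¹ * w * (a * v * a⁻¹) := h.Vcomm _ e4 _ hvwV
        calc a * ((v : G)⁻¹ * w) = (a * v * a⁻¹)⁻¹ * (a * w * a⁻¹) * a := by group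
          _ = (a * v * a⁻¹)⁻¹ * (a * v * a⁻¹ * (v : G)⁻¹ * w) * a := by rw [← e3]
          _ = (v : G)⁻¹ * w * a := by group
      exact fun b hb => h.axis a ha hac _ hvwV e2 b hb
    calc Nat.card V * Nat.card ↥(A ⊓ centralizer (V : Set G))
        ≤ Nat.card ↥(V ⊓ centralizer (A : Set G)) * Nat.card R * Nat.card ↥(A ⊓ centralizer (V : Set G)) :=
          Nat.mul_le_mul_right _ h1
      _ = Nat.card ↥(V ⊓ centralizer (A : Set G)) * (Nat.card R * Nat.card ↥(A ⊓ centralizer (V : Set G))) := by ring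
      _ ≤ Nat.card ↥(V ⊓ centralizer (A : Set G)) * Nat.card A := Nat.mul_le_mul_left _ h.card
      _ = _ := mul_comm _ _

omit h in
theorem false_of [Finite G] {D : Subgroup G} (h : Trv V A R)
    (h1 : Nat.card A * Nat.card ↥(R ⊓ D) ≤ Nat.card ↥(A ⊓ centralizer (V : Set G)) * Nat.card R)
    (hRD : R ⊓ D ≠ ⊥) : False := by
  have h2 := h.card
  have h3 : 1 < Nat.card ↥(R ⊓ D) := (Subgroup.one_lt_card_iff_ne_bot _).2 hRD
  have h4 : 0 < Nat.card A := Nat.card_pos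
  have h5 : Nat.card A * Nat.card ↥(R ⊓ D) ≤ Nat.card A := by
    rw [mul_comm (Nat.card ↥(A ⊓ centralizer (V : Set G)))] at h1
    exact h1.trans h2
  have h6 : Nat.card A * 1 < Nat.card A * Nat.card ↥(R ⊓ D) := Nat.mul_lt_mul_of_pos_left h3 h4
  omega

/-- **(3a), natural type.** -/
theorem false_nat [Finite G] {F : Type} [Field F] [Finite F] {T H D : Subgroup G} {k : ℕ} (N : NatKM F T H V D k)
    (hAT : A ≤ T)
    (hf : ∀ a ∈ A, (∀ v ∈ V, N.e (a * v * a⁻¹) = N.e v) → a ∈ centralizer (V : Set G))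
    (hRD : R ⊓ D ≠ ⊥) : False :=
  h.false_of (nat_card_le N hAT h.offM (fun _ ha _ hv => h.conj_mem ha hv) h.RV h.comm hf) hRD

/-- **(3a), symmetric type.** -/
theorem false_sym [Finite G] {T H D : Subgroup G} {k m : ℕ} (hm : 1 ≤ m) (N : SymKM T H V D k m)
    (hAT : A ≤ T)
    (hf : ∀ a ∈ A, (∀ v ∈ V, N.e (a * v * a⁻¹) = N.e v) → a ∈ centralizer (V : Set G))
    (hRD : R ⊓ D ≠ ⊥) : False :=
  h.false_of (sym_card_le hm N hAT h.offM (fun _ ha _ hv => h.conj_mem ha hv) h.RV h.comm hf) hRD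

end Trv

end off

end Cfsg.Agent.Omega.NOThreeL.RLow

end

section


/-!
# THEOREM R-LOW (#21762), (3a): the group form

`Trv.false_line` : `R` a 2-parabolic over `S` with line `zl S P` of natural or symmetric type, radical `cv S P`; no
subgroup `A ≤ S` acts on `zl S P` as a group of transvections with centre `R`, `|R| ≤ |A : C_A|`, if `R ∩ cv S P ≠ 1`.
-/

set_option autoImplicit false

namespace Cfsg.Agent.Omega.NOThreeL.RLow

open Subgroup Cfsg Cfsg.Agent.ZN Cfsg.Agent.Omega.MinPar Cfsg.Agent.Omega.FrameFF Cfsg.Agent.Omega.FFThm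

universe u

variable {G : Type u} [Group G] [Finite G] {S : Sylow 2 G} {P A R : Subgroup G}

/-- **(3a), natural type, group form.** -/
theorem Trv.false_natS (h : Trv (zl (S : Subgroup G) P) A R) (hG : IsCharacteristicTwoType G)
    (hP : IsParS (S : Subgroup G) P) {F : Type} [Field F] [Finite F] {k : ℕ}
    (N : NatKM F (S : Subgroup G) P (zl (S : Subgroup G) P) (cv (S : Subgroup G) P) k)
    (hAS : A ≤ (S : Subgroup G)) (hRD : R ⊓ cv (S : Subgroup G) P ≠ ⊥) : False := by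
  refine h.false_nat N hAS (fun a ha hc => ?_) hRD
  rw [mem_centralizer_iff]
  intro v hv
  refine (All.HOne.comm_of_sec hG S hP (hAS ha) (fun w hw => ?_) v hv).symm
  have h1 := h.conj_mem ha hw
  rw [← N.ker _ (mul_mem h1 (inv_mem hw))]
  have e1 : N.e 1 = 0 := (N.ker 1 (one_mem _)).2 (one_mem _)
  have e2 : N.e w⁻¹ = - N.e w := by
    have := N.mul w hw w⁻¹ (inv_mem hw)
    rw [mul_inv_cancel, e1] at this
    exact (neg_eq_of_add_eq_zero_right this.symm).symm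
  rw [N.mul _ h1 _ (inv_mem hw), hc w hw, e2, add_neg_cancel]

/-- **(3a), symmetric type, group form.** -/
theorem Trv.false_symS (h : Trv (zl (S : Subgroup G) P) A R) (hG : IsCharacteristicTwoType G)
    (hP : IsParS (S : Subgroup G) P) {k m : ℕ} (hm : 1 ≤ m)
    (N : SymKM (S : Subgroup G) P (zl (S : Subgroup G) P) (cv (S : Subgroup G) P) k m)
    (hAS : A ≤ (S : Subgroup G)) (hRD : R ⊓ cv (S : Subgroup G) P ≠ ⊥) : False := by
  refine h.false_sym hm N hAS (fun a ha hc => ?_) hRD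
  rw [mem_centralizer_iff]
  intro v hv
  refine (All.HOne.comm_of_sec hG S hP (hAS ha) (fun w hw => ?_) v hv).symm
  have h1 := h.conj_mem ha hw
  rw [← N.ker _ (mul_mem h1 (inv_mem hw))]
  have e1 : N.e 1 = 0 := (N.ker 1 (one_mem _)).2 (one_mem _)
  have e2 : N.e w⁻¹ = - N.e w := by
    have := N.mul w hw w⁻¹ (inv_mem hw)
    rw [mul_inv_cancel, e1] at this
    exact (neg_eq_of_add_eq_zero_right this.symm).symm
  rw [N.mul _ h1 _ (inv_mem hw), hc w hw, e2, add_neg_cancel]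

/-- **(3a)** for a line of natural or symmetric type. -/
theorem Trv.false_line (h : Trv (zl (S : Subgroup G) P) A R) (hG : IsCharacteristicTwoType G)
    (hP : IsParS (S : Subgroup G) P) (hc : ConclM (S : Subgroup G) P)
    (hAS : A ≤ (S : Subgroup G)) (hRD : R ⊓ cv (S : Subgroup G) P ≠ ⊥) : False := by
  rcases hc with ⟨F, _, _, _, k, -, ⟨N⟩⟩ | ⟨k, m, -, hm, ⟨N⟩⟩
  · exact h.false_natS hG hP N hAS hRD
  · exact h.false_symS hG hP (by omega) N hAS hRD

end Cfsg.Agent.Omega.NOThreeL.RLow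

end
end

-- part: Mrg/Omega/NO1/Tens/Loc
section
prune_inst 0x2004112200000018051290001c469e000590006c0000a08008400480af20a500a96184a0151218022a4400340060029800000000000000000400011800800088100001000000000086010080000000000000000000000000000000000000000000000
set_option linter.all false
open scoped Cfsg.Agent.FastGrp

-- merged: Cfsg.Agent.Mrg.Omega.NOne.BetaTwo.Basic
section

/-!
# NO-1, type (beta), `q = 2`: the five points of `V = O₄⁻(2)`

`z : Fin 5 → G` are five involutions, pairwise commuting, with product `1`, permuted by `P` at least by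
the alternating group.
-/

set_option autoImplicit false
set_option Elab.async false

namespace Cfsg.Agent.Omega.NOne.BetaTwo.Basic

open Subgroup Equiv Cfsg Cfsg.Agent.MinSimple.VModule Cfsg.Agent.MinSimple.Basic
open Cfsg.Agent.ZN (o2 o2_map)

universe u

/-! ### Five points -/

theorem five : ∀ i j k l m a : Fin 5, [i, j, k, l, m].Nodup →
    a = i ∨ a = j ∨ a = k ∨ a = l ∨ a = m := by
  decide +kernel

theorem ne1 : ∀ i : Fin 5, ∃ j, i ≠ j := by decide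

theorem ext2 : ∀ i j : Fin 5, i ≠ j → ∃ k l m, [i, j, k, l, m].Nodup := by
  decide +kernel

theorem ext3 : ∀ i j k : Fin 5, i ≠ j → i ≠ k → j ≠ k → ∃ l m, [i, j, k, l, m].Nodup := by
  decide +kernel

theorem perm0 : ∀ σ : Perm (Fin 5), σ 0 = 0 → σ ^ 4 = 1 →
    (∀ τ : Perm (Fin 5), Perm.sign τ = 1 → τ 0 = 0 → (σ * (τ * σ⁻¹ * τ⁻¹)) ^ 4 = 1) →
    σ = 1 ∨ (σ * σ = 1 ∧ ∀ j, j ≠ 0 → σ j ≠ j) := by
  (set_option synthInstance.maxSize 9000 in open scoped Cfsg.Agent.Lib.FastPerm in decide +kernel)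

theorem nd {i j k l m : Fin 5} (h : [i, j, k, l, m].Nodup) :
    i ≠ j ∧ i ≠ k ∧ i ≠ l ∧ i ≠ m ∧ j ≠ k ∧ j ≠ l ∧ j ≠ m ∧ k ≠ l ∧ k ≠ m ∧ l ≠ m := by
  simp only [List.nodup_cons, List.mem_cons, List.not_mem_nil, not_or, or_false] at h
  tauto

/-- the permutation with given values -/
theorem exists_perm {i j k l m : Fin 5} (h : [i, j, k, l, m].Nodup) :
    ∃ σ : Perm (Fin 5), σ 0 = i ∧ σ 1 = j ∧ σ 2 = k ∧ σ 3 = l ∧ σ 4 = m := by
  have hs : Function.Surjective ![i, j, k, l, m] := by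
    intro a
    rcases five i j k l m a h with h | h | h | h | h
    · exact ⟨0, by simp [h]⟩
    · exact ⟨1, by simp [h]⟩
    · exact ⟨2, by simp [h]⟩
    · exact ⟨3, by simp [h]⟩
    · exact ⟨4, by simp [h]⟩
  have hb : Function.Bijective ![i, j, k, l, m] := Finite.surjective_iff_bijective.1 hs
  exact ⟨Equiv.ofBijective _ hb, rfl, rfl, rfl, rfl, rfl⟩

theorem exists_perm' {i j k l m i' j' k' l' m' : Fin 5} (h : [i, j, k, l, m].Nodup)
    (h' : [i', j', k', l', m'].Nodup) :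
    ∃ σ : Perm (Fin 5), σ i = i' ∧ σ j = j' ∧ σ k = k' ∧ σ l = l' ∧ σ m = m' := by
  obtain ⟨a, h0, h1, h2, h3, h4⟩ := exists_perm h
  obtain ⟨b, g0, g1, g2, g3, g4⟩ := exists_perm h'
  refine ⟨b * a⁻¹, ?_, ?_, ?_, ?_, ?_⟩
  · rw [← h0]; simpa only [_root_.Fin.isValue, _root_.Equiv.Perm.coe_mul, _root_.Equiv.Perm.coe_inv, _root_.Function.comp_apply, _root_.Equiv.symm_apply_apply] using g0
  · rw [← h1]; simpa only [_root_.Fin.isValue, _root_.Equiv.Perm.coe_mul, _root_.Equiv.Perm.coe_inv, _root_.Function.comp_apply, _root_.Equiv.symm_apply_apply] using g1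
  · rw [← h2]; simpa using g2
  · rw [← h3]; simpa using g3
  · rw [← h4]; simpa using g4

/-- `A₅` is 3-transitive -/
theorem exists_even {i j k i' j' k' : Fin 5} (h1 : i ≠ j) (h2 : i ≠ k) (h3 : j ≠ k)
    (h1' : i' ≠ j') (h2' : i' ≠ k') (h3' : j' ≠ k') :
    ∃ σ : Perm (Fin 5), Perm.sign σ = 1 ∧ σ i = i' ∧ σ j = j' ∧ σ k = k' := by
  obtain ⟨l, m, h⟩ := ext3 i j k h1 h2 h3
  obtain ⟨l', m', h'⟩ := ext3 i' j' k' h1' h2' h3'
  obtain ⟨σ, g1, g2, g3, g4, g5⟩ := exists_perm' h h'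
  obtain ⟨n1, n2, n3, n4, n5, h88⟩ := nd h'
  revert h88; rintro ⟨n6, n7, n8, n9, n10⟩
  rcases Int.units_eq_one_or (Perm.sign σ) with hs | hs
  · exact ⟨σ, hs, g1, g2, g3⟩
  · refine ⟨swap l' m' * σ, ?_, ?_, ?_, ?_⟩
    · rw [Perm.sign_mul, hs, Perm.sign_swap n10]; rfl
    · rw [Perm.mul_apply, g1, swap_apply_of_ne_of_ne n3 n4]
    · rw [Perm.mul_apply, g2, swap_apply_of_ne_of_ne n6 n7]
    · rw [Perm.mul_apply, g3, swap_apply_of_ne_of_ne n8 n9]

theorem perm_i {i : Fin 5} {σ : Perm (Fin 5)} (h0 : σ i = i) (h4 : σ ^ 4 = 1)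
    (h : ∀ τ : Perm (Fin 5), Perm.sign τ = 1 → τ i = i → (σ * (τ * σ⁻¹ * τ⁻¹)) ^ 4 = 1) :
    σ = 1 ∨ (σ * σ = 1 ∧ ∀ j, j ≠ i → σ j ≠ j) := by
  set ρ : Perm (Fin 5) := swap 0 i with hρ
  have hρρ : ρ * ρ = 1 := swap_mul_self _ _
  have hρi : ρ⁻¹ = ρ := swap_inv _ _
  have hρ0 : ρ 0 = i := swap_apply_left _ _
  have hρ1 : ρ i = 0 := swap_apply_right _ _
  have h1 := perm0 (ρ * σ * ρ⁻¹) (by simp [hρi, hρ0, hρ1, h0]) (by rw [conj_pow, h4]; simp) ?_
  · rcases h1 with h1 | ⟨h1, h2⟩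
    · left
      have : σ = ρ⁻¹ * (ρ * σ * ρ⁻¹) * ρ := by group
      rw [this, h1]; group
    · right
      constructor
      · have : σ * σ = ρ⁻¹ * ((ρ * σ * ρ⁻¹) * (ρ * σ * ρ⁻¹)) * ρ := by group
        rw [this, h1]; group
      · intro j hj hj2
        refine h2 (ρ j) ?_ ?_
        · intro h3
          apply hj
          have : ρ (ρ j) = j := by rw [← Perm.mul_apply, hρρ]; rfl
          rw [← this, h3, hρ0]
        · rw [hρi, Perm.mul_apply, Perm.mul_apply, ← Perm.mul_apply, ← Perm.mul_apply]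
          have : ρ (ρ j) = j := by rw [← Perm.mul_apply, hρρ]; rfl
          simp [this, hj2]
  · intro τ hτ hτ0
    have h3 := h (ρ⁻¹ * τ * ρ) ?_ (by simp [hρi, hρ0, hρ1, hτ0])
    · have : ρ * σ * ρ⁻¹ * (τ * (ρ * σ * ρ⁻¹)⁻¹ * τ⁻¹) =
        ρ * (σ * (ρ⁻¹ * τ * ρ * σ⁻¹ * (ρ⁻¹ * τ * ρ)⁻¹)) * ρ⁻¹ := by group
      rw [this, conj_pow, h3]; simp
    · rw [Perm.sign_mul, Perm.sign_mul, hτ, mul_one, ← Perm.sign_mul, inv_mul_cancel, Perm.sign_one]

/-! ### The hypothesis -/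

variable {G : Type u} [Group G]

/-- Five points permuted by `P`, at least by `A₅`. -/
structure Hyp (P : Subgroup G) (z : Fin 5 → G) : Prop where
  inj : Function.Injective z
  sq : ∀ i, z i * z i = 1
  comm : ∀ i j, z i * z j = z j * z i
  prod : z 0 * z 1 * z 2 * z 3 * z 4 = 1
  act : ∀ p ∈ P, ∃ σ : Perm (Fin 5), ∀ i, p * z i * p⁻¹ = z (σ i)
  alt : ∀ σ : Perm (Fin 5), Perm.sign σ = 1 → ∃ p ∈ P, ∀ i, p * z i * p⁻¹ = z (σ i)

/-- `V = ⟨z_i⟩` -/
def V (z : Fin 5 → G) : Subgroup G := _root_.Subgroup.closure (Set.range z)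

/-- `C_i = C_G(z_i)` -/
def C (z : Fin 5 → G) (i : Fin 5) : Subgroup G := centralizer {z i}

/-- `Q_i = O₂(C_i)` -/
def Q (z : Fin 5 → G) (i : Fin 5) : Subgroup G := o2 (C z i)

variable {P : Subgroup G} {z : Fin 5 → G}

theorem mem_C {i : Fin 5} {x : G} : x ∈ C z i ↔ x * z i * x⁻¹ = z i := by
  rw [C, mem_centralizer_singleton_iff]
  constructor
  · intro h; rw [h]; group
  · intro h
    calc x * z i = (x * z i * x⁻¹) * x := by group
      _ = z i * x := by rw [h]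

theorem z_mem (i : Fin 5) : z i ∈ V z := subset_closure ⟨i, rfl⟩

theorem Hyp.zinv (h : Hyp P z) (i : Fin 5) : (z i)⁻¹ = z i := inv_eq_of_mul_eq_one_right (h.sq i)

theorem Hyp.exP (h : Hyp P z) {i j k i' j' k' : Fin 5} (h1 : i ≠ j) (h2 : i ≠ k) (h3 : j ≠ k)
    (h1' : i' ≠ j') (h2' : i' ≠ k') (h3' : j' ≠ k') : ∃ p ∈ P, ∃ σ : Perm (Fin 5),
      (∀ i, p * z i * p⁻¹ = z (σ i)) ∧ σ i = i' ∧ σ j = j' ∧ σ k = k' := by
  obtain ⟨σ, hs, hσ⟩ := exists_even h1 h2 h3 h1' h2' h3'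
  obtain ⟨p, hp, hpσ⟩ := h.alt σ hs
  exact ⟨p, hp, σ, hpσ, hσ⟩

theorem Hyp.exP2 (h : Hyp P z) {i j i' j' : Fin 5} (h1 : i ≠ j) (h1' : i' ≠ j') :
    ∃ p ∈ P, ∃ σ : Perm (Fin 5), (∀ i, p * z i * p⁻¹ = z (σ i)) ∧ σ i = i' ∧ σ j = j' := by
  obtain ⟨k, l, m, hn⟩ := ext2 i j h1
  obtain ⟨k', l', m', hn'⟩ := ext2 i' j' h1'
  obtain ⟨n1, n2, n3, n4, n5, n6, n7, n8, n9, n10⟩ := nd hn
  obtain ⟨n1', n2', n3', n4', n5', n6', n7', n8', n9', n10'⟩ := nd hn'
  obtain ⟨p, hp, σ, hσ, h3, h4, -⟩ := h.exP n1 n2 n5 n1' n2' n5'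
  exact ⟨p, hp, σ, hσ, h3, h4⟩

theorem Hyp.exP1 (h : Hyp P z) (i i' : Fin 5) :
    ∃ p ∈ P, ∃ σ : Perm (Fin 5), (∀ i, p * z i * p⁻¹ = z (σ i)) ∧ σ i = i' := by
  obtain ⟨j, hj⟩ := ne1 i
  obtain ⟨j', hj'⟩ := ne1 i'
  obtain ⟨p, hp, σ, hσ, h3, -⟩ := h.exP2 hj hj'
  exact ⟨p, hp, σ, hσ, h3⟩

/-! ### The elements of `V` -/

theorem Hyp.prod' (h : Hyp P z) {i j k l m : Fin 5} (hn : [i, j, k, l, m].Nodup) :
    z i * z j * z k * z l * z m = 1 := by
  obtain ⟨σ, h0, h1, h2, h3, h4⟩ := exists_perm hn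
  rcases Int.units_eq_one_or (Perm.sign σ) with hs | hs
  · obtain ⟨p, hp, hpσ⟩ := h.alt σ hs
    have : p * (z 0 * z 1 * z 2 * z 3 * z 4) * p⁻¹ = (p * z 0 * p⁻¹) * (p * z 1 * p⁻¹) *
      (p * z 2 * p⁻¹) * (p * z 3 * p⁻¹) * (p * z 4 * p⁻¹) := by group
    rw [h.prod, hpσ, hpσ, hpσ, hpσ, hpσ, h0, h1, h2, h3, h4] at this
    rw [← this]; group
  · have hs' : Perm.sign (σ * swap 3 4) = 1 := by
      rw [Perm.sign_mul, hs, Perm.sign_swap (by decide)]; rfl
    obtain ⟨p, hp, hpσ⟩ := h.alt _ hs'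
    have : p * (z 0 * z 1 * z 2 * z 3 * z 4) * p⁻¹ = (p * z 0 * p⁻¹) * (p * z 1 * p⁻¹) *
      (p * z 2 * p⁻¹) * (p * z 3 * p⁻¹) * (p * z 4 * p⁻¹) := by group
    have e0 : (σ * swap 3 4 : Perm (Fin 5)) 0 = i := by rw [Perm.mul_apply, swap_apply_of_ne_of_ne (by decide) (by decide), h0]
    have e1 : (σ * swap 3 4 : Perm (Fin 5)) 1 = j := by rw [Perm.mul_apply, swap_apply_of_ne_of_ne (by decide) (by decide), h1]
    have e2 : (σ * swap 3 4 : Perm (Fin 5)) 2 = k := by rw [Perm.mul_apply, swap_apply_of_ne_of_ne (by decide) (by decide), h2]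
    have e3 : (σ * swap 3 4 : Perm (Fin 5)) 3 = m := by rw [Perm.mul_apply, swap_apply_left, h4]
    have e4 : (σ * swap 3 4 : Perm (Fin 5)) 4 = l := by rw [Perm.mul_apply, swap_apply_right, h3]
    rw [h.prod, hpσ, hpσ, hpσ, hpσ, hpσ, e0, e1, e2, e3, e4] at this
    have h5 : z i * z j * z k * z l * z m = z i * z j * z k * z m * z l := by
      rw [mul_assoc (z i * z j * z k), h.comm l m, ← mul_assoc]
    rw [h5, ← this]; group

/-- `z_i z_j z_k = z_l z_m` -/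
theorem Hyp.three (h : Hyp P z) {i j k l m : Fin 5} (hn : [i, j, k, l, m].Nodup) :
    z i * z j * z k = z l * z m := by
  have h1 := h.prod' hn
  calc z i * z j * z k = (z i * z j * z k * z l * z m) * (z m * z m) ⁻¹ * (z m * (z l * z l)⁻¹ * z l) := by group
    _ = z m * z l := by rw [h1, h.sq, h.sq]; group
    _ = z l * z m := h.comm _ _

theorem Hyp.ne_one (h : Hyp P z) (i : Fin 5) : z i ≠ 1 := by
  intro h1
  obtain ⟨j, hj⟩ := ne1 i
  obtain ⟨p, -, σ, hσ, h3⟩ := h.exP1 i j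
  have := hσ i
  rw [h1, h3] at this
  apply hj
  apply h.inj
  rw [h1, ← this]; group

theorem Hyp.mul_ne_one (h : Hyp P z) {i j : Fin 5} (hij : i ≠ j) : z i * z j ≠ 1 := by
  intro h1
  apply hij
  apply h.inj
  rw [← h.zinv j]
  exact eq_inv_of_mul_eq_one_left h1

theorem Hyp.mul_ne (h : Hyp P z) {i j : Fin 5} (hij : i ≠ j) (k : Fin 5) : z i * z j ≠ z k := by
  intro h1
  by_cases hik : i = k
  · subst hik
    exact h.ne_one j (mul_eq_left.1 h1)
  by_cases hjk : j = k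
  · subst hjk
    exact h.ne_one i (mul_eq_right.1 h1)
  obtain ⟨l, m, hn⟩ := ext3 i j k hij hik hjk
  obtain ⟨n1, n2, n3, n4, n5, n6, n7, n8, n9, n10⟩ := nd hn
  obtain ⟨p, hp, σ, hσ, e1, e2, e3⟩ := h.exP n1 n2 n5 n1 n3 n6
  have h2 : p * (z i * z j) * p⁻¹ = (p * z i * p⁻¹) * (p * z j * p⁻¹) := by group
  rw [h1, hσ, hσ, hσ, e1, e2, e3, h1] at h2
  exact n8 (h.inj h2.symm)

/-- disjoint pairs have different products -/
theorem Hyp.mul_ne_mul (h : Hyp P z) {i j k l m : Fin 5} (hn : [i, j, k, l, m].Nodup) :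
    z i * z j ≠ z k * z l := by
  intro h1
  have h2 := h.prod' hn
  rw [mul_assoc (z i * z j), h1] at h2
  have h3 : z k * z l * (z k * z l) * z m = z m := by
    rw [← mul_assoc, mul_assoc (z k), h.comm l k, ← mul_assoc, h.sq, one_mul, h.sq, one_mul]
  exact h.ne_one m (h3.symm.trans h2)

theorem Hyp.mem_V (h : Hyp P z) {v : G} (hv : v ∈ V z) :
    v = 1 ∨ (∃ i, v = z i) ∨ ∃ i j, i ≠ j ∧ v = z i * z j := by
  induction hv using closure_induction_left with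
  | one => exact Or.inl rfl
  | @mul_left x hx y hy ih =>
    obtain ⟨a, rfl⟩ := hx
    rcases ih with rfl | ⟨i, rfl⟩ | ⟨i, j, hij, rfl⟩
    · exact Or.inr (Or.inl ⟨a, mul_one _⟩)
    · by_cases hai : a = i
      · subst hai
        exact Or.inl (h.sq _)
      · exact Or.inr (Or.inr ⟨a, i, hai, rfl⟩)
    · by_cases hai : a = i
      · subst hai
        exact Or.inr (Or.inl ⟨j, by rw [← mul_assoc, h.sq, one_mul]⟩)
      by_cases haj : a = j
      · subst haj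
        exact Or.inr (Or.inl ⟨i, by rw [h.comm i a, ← mul_assoc, h.sq, one_mul]⟩)
      obtain ⟨l, m, hn⟩ := ext3 a i j hai haj hij
      exact Or.inr (Or.inr ⟨l, m, (nd hn).2.2.2.2.2.2.2.2.2, by rw [← mul_assoc]; exact h.three hn⟩)
  | @inv_mul_cancel x hx y hy ih =>
    obtain ⟨a, rfl⟩ := hx
    rw [h.zinv]
    rcases ih with rfl | ⟨i, rfl⟩ | ⟨i, j, hij, rfl⟩
    · exact Or.inr (Or.inl ⟨a, mul_one _⟩)
    · by_cases hai : a = i
      · subst hai
        exact Or.inl (h.sq _)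
      · exact Or.inr (Or.inr ⟨a, i, hai, rfl⟩)
    · by_cases hai : a = i
      · subst hai
        exact Or.inr (Or.inl ⟨j, by rw [← mul_assoc, h.sq, one_mul]⟩)
      by_cases haj : a = j
      · subst haj
        exact Or.inr (Or.inl ⟨i, by rw [h.comm i a, ← mul_assoc, h.sq, one_mul]⟩)
      obtain ⟨l, m, hn⟩ := ext3 a i j hai haj hij
      exact Or.inr (Or.inr ⟨l, m, (nd hn).2.2.2.2.2.2.2.2.2, by rw [← mul_assoc]; exact h.three hn⟩)

theorem Hyp.comm_V (h : Hyp P z) {v w : G} (hv : v ∈ V z) (hw : w ∈ V z) : v * w = w * v := by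
  have h0 : V z ≤ centralizer (Set.range z) := by
    rw [V, closure_le]
    rintro _ ⟨i, rfl⟩
    rw [SetLike.mem_coe, mem_centralizer_iff]
    rintro _ ⟨j, rfl⟩
    exact h.comm j i
  have h1 : _root_.Subgroup.closure (Set.range z) ≤ centralizer (V z : Set G) := by
    rw [closure_le]
    rintro _ ⟨i, rfl⟩
    rw [SetLike.mem_coe, mem_centralizer_iff]
    intro y hy
    exact (mem_centralizer_iff.1 (h0 hy) (z i) ⟨i, rfl⟩).symm
  exact (mem_centralizer_iff.1 (h1 hv) w hw).symm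

theorem Hyp.V_le_C (h : Hyp P z) (i : Fin 5) : V z ≤ C z i := fun v hv =>
  mem_C.2 (by rw [h.comm_V hv (z_mem i)]; group)

theorem mem_cV {x : G} : x ∈ centralizer (V z : Set G) ↔ ∀ i, x * z i * x⁻¹ = z i := by
  constructor
  · intro hx i
    have := mem_centralizer_iff.1 hx (z i) (z_mem i)
    rw [← this]; group
  · intro hx
    rw [V, centralizer_closure, mem_centralizer_iff]
    rintro _ ⟨i, rfl⟩
    calc z i * x = (x * z i * x⁻¹) * x := by rw [hx i]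
      _ = x * z i := by group

/-! ### Conjugation by the elements of `P` -/

/-- `p` moves the points as `σ` does. -/
def Act (z : Fin 5 → G) (p : G) (σ : Perm (Fin 5)) : Prop := ∀ i, p * z i * p⁻¹ = z (σ i)

theorem Act.inv {p : G} {σ : Perm (Fin 5)} (h : Act z p σ) : Act z p⁻¹ σ⁻¹ := by
  intro i
  have h1 := h (σ⁻¹ i)
  rw [show σ (σ⁻¹ i) = i from σ.apply_symm_apply i] at h1
  rw [← h1]; group

theorem Act.mul {p q : G} {σ τ : Perm (Fin 5)} (hp : Act z p σ) (hq : Act z q τ) : Act z (p * q) (σ * τ) := by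
  intro i
  have : p * q * z i * (p * q)⁻¹ = p * (q * z i * q⁻¹) * p⁻¹ := by group
  rw [this, hq, hp]; rfl

theorem Act.one : Act z 1 1 := fun i => by simp

theorem Act.pow {p : G} {σ : Perm (Fin 5)} (h : Act z p σ) (n : ℕ) : Act z (p ^ n) (σ ^ n) := by
  induction n with
  | zero => simpa using Act.one
  | succ n ih => rw [pow_succ, pow_succ]; exact ih.mul h

theorem Hyp.perm_eq (h : Hyp P z) {p : G} {σ τ : Perm (Fin 5)} (h1 : Act z p σ) (h2 : Act z p τ) : σ = τ := by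
  ext i
  rw [h.inj ((h1 i).symm.trans (h2 i))]

theorem Hyp.act_one (h : Hyp P z) {σ : Perm (Fin 5)} (h1 : Act z (1 : G) σ) : σ = 1 := h.perm_eq h1 Act.one

theorem Act.mapV {p v : G} {σ : Perm (Fin 5)} (h : Act z p σ) (hv : v ∈ V z) : p * v * p⁻¹ ∈ V z := by
  induction hv using closure_induction with
  | mem x hx =>
    obtain ⟨i, rfl⟩ := hx
    rw [h i]
    exact z_mem _
  | one => simp
  | mul x y _ _ hx hy =>
    have : p * (x * y) * p⁻¹ = (p * x * p⁻¹) * (p * y * p⁻¹) := by group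
    rw [this]; exact mul_mem hx hy
  | inv x _ hx =>
    have : p * x⁻¹ * p⁻¹ = (p * x * p⁻¹)⁻¹ := by group
    rw [this]; exact inv_mem hx

theorem Act.mapC {p x : G} {σ : Perm (Fin 5)} (h : Act z p σ) {i : Fin 5} (hx : x ∈ C z i) :
    p * x * p⁻¹ ∈ C z (σ i) := by
  rw [mem_C] at hx ⊢
  rw [← h i]
  calc p * x * p⁻¹ * (p * z i * p⁻¹) * (p * x * p⁻¹)⁻¹ = p * (x * z i * x⁻¹) * p⁻¹ := by group
    _ = p * z i * p⁻¹ := by rw [hx]

theorem map_eq_of {A B : Subgroup G} {p : G} (h1 : ∀ x ∈ A, p * x * p⁻¹ ∈ B)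
    (h2 : ∀ x ∈ B, p⁻¹ * x * p⁻¹⁻¹ ∈ A) : A.map (MulAut.conj p).toMonoidHom = B := by
  ext y
  rw [mem_map]
  constructor
  · rintro ⟨x, hx, rfl⟩
    exact h1 x hx
  · intro hy
    exact ⟨_, h2 y hy, by simp only [_root_.MulEquiv.toMonoidHom_eq_coe, _root_.inv_inv, _root_.MonoidHom.coe_coe, _root_.MulAut.conj_apply]; group⟩

theorem o2_conj {A B : Subgroup G} {p : G} (h1 : ∀ x ∈ A, p * x * p⁻¹ ∈ B)
    (h2 : ∀ x ∈ B, p⁻¹ * x * p⁻¹⁻¹ ∈ A) {x : G} (hx : x ∈ o2 A) : p * x * p⁻¹ ∈ o2 B := by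
  rw [← map_eq_of h1 h2, o2_map _ (MulAut.conj p).injective]
  exact ⟨x, hx, rfl⟩

theorem Act.mapC' {p x : G} {σ : Perm (Fin 5)} (h : Act z p σ) {i : Fin 5} (hx : x ∈ C z (σ i)) :
    p⁻¹ * x * p⁻¹⁻¹ ∈ C z i := by
  have := h.inv.mapC hx
  rwa [show σ⁻¹ (σ i) = i from σ.symm_apply_apply i] at this

theorem Act.mapQ {p x : G} {σ : Perm (Fin 5)} (h : Act z p σ) {i : Fin 5} (hx : x ∈ Q z i) :
    p * x * p⁻¹ ∈ Q z (σ i) :=
  o2_conj (fun _ hx => h.mapC hx) (fun _ hx => h.mapC' hx) hx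

end Cfsg.Agent.Omega.NOne.BetaTwo.Basic

end

-- merged: Cfsg.Agent.Mrg.Omega.NOne.BetaTwo.Four
section

/-!
# NO-1, type (beta), `q = 2`: the action of `Q_i` on the five points
-/

set_option autoImplicit false
set_option Elab.async false

namespace Cfsg.Agent.Omega.NOne.BetaTwo.Four

open Subgroup Equiv Cfsg Cfsg.Agent.MinSimple.VModule Cfsg.Agent.MinSimple.Basic
open Cfsg.Agent.Omega.NOne.BetaTwo.Basic
open Cfsg.Agent.ZN (o2 o2_map)

universe u

theorem pow8 : ∀ σ : Perm (Fin 5), σ ^ 8 = 1 → σ ^ 4 = 1 := by (set_option synthInstance.maxSize 9000 in open scoped Cfsg.Agent.Lib.FastPerm in decide +kernel)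

theorem pow4 {σ : Perm (Fin 5)} {n : ℕ} (h : σ ^ 2 ^ n = 1) : σ ^ 4 = 1 := by
  have h1 : orderOf σ ∣ 2 ^ n := orderOf_dvd_of_pow_eq_one h
  have h2 : orderOf σ ∣ 120 := by
    have := _root_.orderOf_dvd_natCard σ
    rwa [Nat.card_eq_fintype_card, Fintype.card_perm, Fintype.card_fin] at this
  obtain ⟨k, hk, hk2⟩ := (Nat.dvd_prime_pow Nat.prime_two).1 h1
  have h3 : k ≤ 3 := by
    by_contra h4
    have h5 : 2 ^ 4 ∣ orderOf σ := by rw [hk2]; exact pow_dvd_pow 2 (by omega)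
    have := h5.trans h2
    norm_num at this
  apply pow8
  apply orderOf_dvd_iff_pow_eq_one.1
  rw [hk2]
  exact pow_dvd_pow 2 h3

variable {G : Type u} [Group G] [Finite G] {P : Subgroup G} {z : Fin 5 → G}

/-- `V = ⟨z_i⟩` is not in `Q₀`, `S ≤ P ∩ C₀`. -/
structure Dat (S : Sylow 2 G) (P : Subgroup G) (z : Fin 5 → G) : Prop extends Hyp P z where
  SP : (S : Subgroup G) ≤ P
  SC : (S : Subgroup G) ≤ C z 0
  c2 : C z 0 ⊓ centralizer (Q z 0 : Set G) ≤ Q z 0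
  notV : ¬ V z ≤ Q z 0

variable {S : Sylow 2 G}

theorem Dat.Q0 (h : Dat S P z) : Q z 0 ≤ (S : Subgroup G) :=
  o2_le_of_sylow S.isPGroup' (not_dvd_relIndex S h.SC)

theorem Dat.exAct (h : Dat S P z) {p : G} (hp : p ∈ P) : ∃ σ, Act z p σ := h.act p hp

/-- some `p` in `P` moves `0` to `i` -/
theorem Dat.to (h : Dat S P z) (i : Fin 5) : ∃ p ∈ P, ∃ σ, Act z p σ ∧ σ 0 = i := by
  obtain ⟨p, hp, σ, hσ, h0⟩ := h.exP1 0 i
  exact ⟨p, hp, σ, hσ, h0⟩

theorem Dat.Q_eq (h : Dat S P z) {p : G} {σ : Perm (Fin 5)} (hσ : Act z p σ) (i : Fin 5) {x : G} :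
    x ∈ Q z (σ i) ↔ p⁻¹ * x * p ∈ Q z i := by
  constructor
  · intro hx
    have := hσ.inv.mapQ hx
    rw [show σ⁻¹ (σ i) = i from σ.symm_apply_apply i] at this
    simpa using this
  · intro hx
    have := hσ.mapQ hx
    have e : p * (p⁻¹ * x * p) * p⁻¹ = x := by group
    rwa [e] at this

theorem Dat.QP (h : Dat S P z) (i : Fin 5) : Q z i ≤ P := by
  obtain ⟨p, hp, σ, hσ, h0⟩ := h.to i
  intro x hx
  rw [← h0, h.Q_eq hσ] at hx
  have := mul_mem (mul_mem hp (h.SP (h.Q0 hx))) (inv_mem hp)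
  have e : p * (p⁻¹ * x * p) * p⁻¹ = x := by group
  rwa [e] at this

theorem QC (i : Fin 5) : Q z i ≤ C z i := o2_le _

theorem Q_pgroup (i : Fin 5) : IsPGroup 2 (Q z i) := o2_isPGroup _

/-- `C_i` normalises `Q_i` -/
theorem Qn {i : Fin 5} {c x : G} (hc : c ∈ C z i) (hx : x ∈ Q z i) : c * x * c⁻¹ ∈ Q z i :=
  (mem_normalizer_iff.1 (le_normalizer_o2 (C z i) hc) x).1 hx

theorem Dat.char2 (h : Dat S P z) (i : Fin 5) : C z i ⊓ centralizer (Q z i : Set G) ≤ Q z i := by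
  obtain ⟨p, hp, σ, hσ, rfl⟩ := h.to i
  rintro x ⟨hx, hx2⟩
  rw [h.Q_eq hσ]
  apply h.c2
  refine ⟨?_, ?_⟩
  · have := hσ.mapC' hx
    simpa only [_root_.Fin.isValue, _root_.Subgroup.coe_toSubmonoid, _root_.SetLike.mem_coe, _root_.inv_inv] using this
  · refine mem_centralizer_iff.2 fun y hy => ?_
    have := mem_centralizer_iff.1 hx2 _ (hσ.mapQ hy)
    calc y * (p⁻¹ * x * p) = p⁻¹ * ((p * y * p⁻¹) * x) * p := by group
      _ = p⁻¹ * (x * (p * y * p⁻¹)) * p := by rw [this]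
      _ = p⁻¹ * x * p * y := by group

theorem Dat.notVi (h : Dat S P z) (i : Fin 5) : ¬ V z ≤ Q z i := by
  obtain ⟨p, hp, σ, hσ, rfl⟩ := h.to i
  intro h1
  apply h.notV
  intro v hv
  have := (h.Q_eq hσ 0).1 (h1 (hσ.mapV hv))
  have e : p⁻¹ * (p * v * p⁻¹) * p = v := by group
  rwa [e] at this

/-- the permutation induced by an element of `Q_i` -/
theorem Dat.perm (h : Dat S P z) {i : Fin 5} {q : G} (hq : q ∈ Q z i) :
    ∃ σ, Act z q σ ∧ σ i = i ∧ (σ = 1 ∨ (σ * σ = 1 ∧ ∀ j, j ≠ i → σ j ≠ j)) := by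
  have key : ∀ {q : G} {σ : Perm (Fin 5)}, q ∈ Q z i → Act z q σ → σ ^ 4 = 1 := by
    intro q σ hq hσ
    obtain ⟨k, hk⟩ := (Q_pgroup i) ⟨q, hq⟩
    have hk' : q ^ 2 ^ k = 1 := congrArg Subtype.val hk
    apply pow4 (n := k)
    apply h.toHyp.act_one
    rw [← hk']
    exact hσ.pow _
  obtain ⟨σ, hσ⟩ := h.exAct (h.QP i hq)
  have hi : σ i = i := by
    apply h.inj
    rw [← hσ i]
    exact mem_C.1 (QC i hq)
  refine ⟨σ, hσ, hi, perm_i hi (key hq hσ) ?_⟩
  intro τ hτ hτi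
  obtain ⟨p, hp, hpτ⟩ := h.alt τ hτ
  have hpC : p ∈ C z i := mem_C.2 (by rw [hpτ, hτi])
  exact key (mul_mem hq (Qn hpC (inv_mem hq))) (hσ.mul ((Act.mul hpτ hσ.inv).mul (Act.inv hpτ)))

theorem Dat.not_Qcent (h : Dat S P z) (i : Fin 5) : ¬ Q z i ≤ centralizer (V z : Set G) := by
  intro h1
  exact h.notVi i ((le_inf (h.V_le_C i) (le_centralizer_iff.1 h1)).trans (h.char2 i))

/-- a subgroup of `Q_i` normalised by `P ∩ C_i`, not in `C(V)`, induces the regular four group -/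
theorem Dat.exN (h : Dat S P z) {i : Fin 5} {N : Subgroup G} (hN : N ≤ Q z i)
    (hn : ∀ p ∈ P, p ∈ C z i → ∀ x ∈ N, p * x * p⁻¹ ∈ N) (h1 : ¬ N ≤ centralizer (V z : Set G))
    {j k l m : Fin 5} (hnd : [i, j, k, l, m].Nodup) :
    ∃ q ∈ N, ∃ σ, Act z q σ ∧ σ i = i ∧ σ j = k ∧ σ k = j ∧ σ l = m ∧ σ m = l := by
  obtain ⟨n1, n2, n3, n4, n5, n6, n7, n8, n9, n10⟩ := nd hnd
  obtain ⟨q, hq, hq1⟩ := SetLike.not_le_iff_exists.1 h1
  obtain ⟨σ, hσ, hi, h2⟩ := h.perm (hN hq)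
  rcases h2 with rfl | ⟨h2, h3⟩
  · exact absurd (mem_cV.2 hσ) hq1
  have ha : σ j ≠ i := fun h4 => n1 (σ.injective (h4.trans hi.symm)).symm
  obtain ⟨p, hp, τ, hτ, e1, e2, e3⟩ := h.exP n1 ha.symm (h3 j n1.symm).symm n1 n2 n5
  have hpC : p ∈ C z i := mem_C.2 (by rw [hτ, e1])
  have hτi : τ⁻¹ i = i := by rw [Perm.inv_eq_iff_eq]; exact e1.symm
  have hτj : τ⁻¹ j = j := by rw [Perm.inv_eq_iff_eq]; exact e2.symm
  have hτk : τ⁻¹ k = σ j := by rw [Perm.inv_eq_iff_eq]; exact e3.symm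
  have hρ : Act z (p * q * p⁻¹) (τ * σ * τ⁻¹) := (Act.mul hτ hσ).mul (Act.inv hτ)
  set ρ := τ * σ * τ⁻¹ with hρdef
  have r1 : ρ i = i := by rw [hρdef, Perm.mul_apply, Perm.mul_apply, hτi, hi, e1]
  have r2 : ρ j = k := by rw [hρdef, Perm.mul_apply, Perm.mul_apply, hτj, e3]
  have r4 : ρ * ρ = 1 := by
    rw [hρdef]
    calc τ * σ * τ⁻¹ * (τ * σ * τ⁻¹) = τ * (σ * σ) * τ⁻¹ := by group
      _ = 1 := by rw [h2]; group
  have r3 : ρ k = j := by rw [← r2, ← Perm.mul_apply, r4]; rfl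
  have r5 : ∀ a, a ≠ i → ρ a ≠ a := by
    intro a ha h5
    have h6 : σ (τ⁻¹ a) = τ⁻¹ a := by
      apply τ.injective
      rw [show τ (τ⁻¹ a) = a from τ.apply_symm_apply a]
      exact h5
    refine h3 (τ⁻¹ a) ?_ h6
    intro h7
    apply ha
    rw [← hτi] at h7
    exact τ⁻¹.injective h7
  refine ⟨p * q * p⁻¹, hn p hp hpC q hq, ρ, hρ, r1, r2, r3, ?_, ?_⟩
  · rcases five i j k l m (ρ l) hnd with h8 | h8 | h8 | h8 | h8
    · exact absurd (ρ.injective (h8.trans r1.symm)) n3.symm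
    · exact absurd (ρ.injective (h8.trans r3.symm)) n8.symm
    · exact absurd (ρ.injective (h8.trans r2.symm)) n6.symm
    · exact absurd h8 (r5 l n3.symm)
    · exact h8
  · rcases five i j k l m (ρ m) hnd with h8 | h8 | h8 | h8 | h8
    · exact absurd (ρ.injective (h8.trans r1.symm)) n4.symm
    · exact absurd (ρ.injective (h8.trans r3.symm)) n9.symm
    · exact absurd (ρ.injective (h8.trans r2.symm)) n7.symm
    · exact h8
    · exact absurd h8 (r5 m n4.symm)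

theorem Dat.exQ (h : Dat S P z) {i j k l m : Fin 5} (hnd : [i, j, k, l, m].Nodup) :
    ∃ q ∈ Q z i, ∃ σ, Act z q σ ∧ σ i = i ∧ σ j = k ∧ σ k = j ∧ σ l = m ∧ σ m = l :=
  h.exN le_rfl (fun _ _ hc _ hx => Qn hc hx) (h.not_Qcent i) hnd

/-! ### `E_i = V ∩ Q_i` -/

theorem Dat.zz_mem (h : Dat S P z) {i j k : Fin 5} (h1 : i ≠ j) (h2 : i ≠ k) (h3 : j ≠ k) :
    z j * z k ∈ Q z i := by
  obtain ⟨l, m, hnd⟩ := ext3 i j k h1 h2 h3
  obtain ⟨q, hq, σ, hσ, -, e1, e2, -, -⟩ := h.exQ hnd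
  have h4 : q * (z j * q⁻¹ * (z j)⁻¹) ∈ Q z i :=
    mul_mem hq (Qn (h.V_le_C i (z_mem j)) (inv_mem hq))
  have h5 : q * (z j * q⁻¹ * (z j)⁻¹) = z j * z k := by
    have : q * (z j * q⁻¹ * (z j)⁻¹) = (q * z j * q⁻¹) * (z j)⁻¹ := by group
    rw [this, hσ, e1, h.zinv, h.comm]
  rwa [h5] at h4

theorem Dat.z_self (h : Dat S P z) (i : Fin 5) : z i ∈ Q z i := by
  have h1 : zpowers (z i) ≤ o2 (C z i) := by
    refine le_o2 ?_ ?_ ?_
    · rw [zpowers_le]; exact h.V_le_C i (z_mem i)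
    · intro x
      obtain ⟨x, n, rfl⟩ := x
      refine ⟨1, Subtype.ext ?_⟩
      change (z i ^ n) ^ 2 ^ 1 = 1
      rw [← zpow_natCast, ← zpow_mul, mul_comm, zpow_mul]
      simp [pow_two, h.sq]
    · intro c hc
      rw [mem_normalizer_iff]
      have hcz : ∀ x ∈ zpowers (z i), c * x * c⁻¹ = x := by
        rintro _ ⟨n, rfl⟩
        simp only
        rw [← conj_zpow, mem_C.1 hc]
      intro x
      constructor
      · intro hx; rw [hcz x hx]; exact hx
      · intro hx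
        have := hcz _ hx
        have h2 : c * x * c⁻¹ = x := by
          have h3 : c * (c * x * c⁻¹) * c⁻¹ = c * x * c⁻¹ := this
          have h4 : c * x * c⁻¹ = x := by
            have := mul_right_cancel h3
            exact mul_left_cancel this
          exact h4
        rwa [h2] at hx
  exact h1 (mem_zpowers _)

theorem Dat.z_not (h : Dat S P z) {i j : Fin 5} (h1 : i ≠ j) : z j ∉ Q z i := by
  intro h2
  apply h.notVi i
  rw [V, closure_le]
  rintro _ ⟨k, rfl⟩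
  by_cases hik : i = k
  · subst hik; exact h.z_self i
  by_cases hjk : j = k
  · subst hjk; exact h2
  have := mul_mem h2 (h.zz_mem h1 hik hjk)
  rwa [← mul_assoc, h.sq, one_mul] at this

/-- the elements of `V ∩ Q_i` -/
theorem Dat.mem_E (h : Dat S P z) {i : Fin 5} {v : G} (hv : v ∈ V z) (hvQ : v ∈ Q z i) :
    v = 1 ∨ v = z i ∨ ∃ j k, i ≠ j ∧ i ≠ k ∧ j ≠ k ∧ v = z j * z k := by
  rcases h.mem_V hv with rfl | ⟨j, rfl⟩ | ⟨j, k, hjk, rfl⟩
  · exact Or.inl rfl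
  · by_cases hij : i = j
    · subst hij; exact Or.inr (Or.inl rfl)
    · exact absurd hvQ (h.z_not hij)
  · by_cases hij : i = j
    · subst hij
      exfalso
      have := mul_mem (inv_mem (h.z_self i)) hvQ
      rw [inv_mul_cancel_left] at this
      exact h.z_not hjk this
    by_cases hik : i = k
    · subst hik
      exfalso
      have := mul_mem hvQ (inv_mem (h.z_self i))
      rw [mul_inv_cancel_right] at this
      exact h.z_not (Ne.symm hjk) this
    exact Or.inr (Or.inr ⟨j, k, hij, hik, hjk, rfl⟩)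

end Cfsg.Agent.Omega.NOne.BetaTwo.Four

end

-- merged: Cfsg.Agent.Mrg.Omega.NOne.BetaTwo.DOne
section

/-!
# NO-1, type (beta), `q = 2`: steps (2) - (4): `Q_i* = ⟨(V ∩ Q_i)^{C_i}⟩` and `D_i = C_{Q_i}(Q_i*)`
-/

set_option autoImplicit false
set_option Elab.async false

namespace Cfsg.Agent.Omega.NOne.BetaTwo.DOne

open Subgroup Equiv Cfsg Cfsg.Agent.MinSimple.VModule Cfsg.Agent.MinSimple.Basic
open Cfsg.Agent.Omega.NOne.BetaTwo.Basic Cfsg.Agent.Omega.NOne.BetaTwo.Four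
open Cfsg.Agent.Omega.NOne.LemmaT (exists_pow_eq_one exists_pow_comm)
open Cfsg.Agent.ZN (o2 o2_map)

universe u

variable {G : Type u} [Group G]

/-! ### A stability lemma -/

/-- the elements of `C` centralising `F` and moving the elements of `R` by elements of `F` -/
def stab (C R F : Subgroup G) : Subgroup G where
  carrier := {x | x ∈ C ∧ (∀ f ∈ F, x * f = f * x) ∧ ∀ r ∈ R, x * r * x⁻¹ * r⁻¹ ∈ F}
  one_mem' := ⟨one_mem _, fun f _ => by simp, fun r _ => by simp⟩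
  mul_mem' := by
    rintro x y ⟨hx, hxf, hxr⟩ ⟨hy, hyf, hyr⟩
    refine ⟨mul_mem hx hy, fun f hf => ?_, fun r hr => ?_⟩
    · rw [mul_assoc, hyf f hf, ← mul_assoc, hxf f hf, mul_assoc]
    · have h2 : x * y * r * (x * y)⁻¹ * r⁻¹ =
          (x * (y * r * y⁻¹ * r⁻¹) * x⁻¹) * (x * r * x⁻¹ * r⁻¹) := by group
      rw [h2, hxf _ (hyr r hr), mul_inv_cancel_right]
      exact mul_mem (hyr r hr) (hxr r hr)
  inv_mem' := by
    rintro x ⟨hx, hxf, hxr⟩
    have hxf' : ∀ f ∈ F, x⁻¹ * f = f * x⁻¹ := fun f hf => by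
      have := hxf f hf
      calc x⁻¹ * f = x⁻¹ * (f * x) * x⁻¹ := by group
        _ = x⁻¹ * (x * f) * x⁻¹ := by rw [this]
        _ = f * x⁻¹ := by group
    refine ⟨inv_mem hx, hxf', fun r hr => ?_⟩
    have h2 : x⁻¹ * r * x⁻¹⁻¹ * r⁻¹ = x⁻¹ * (x * r * x⁻¹ * r⁻¹)⁻¹ * x := by group
    rw [h2, hxf' _ (inv_mem (hxr r hr)), inv_mul_cancel_right]
    exact inv_mem (hxr r hr)

theorem stab_le [Finite G] {C F : Subgroup G} (hC : C ⊓ centralizer (o2 C : Set G) ≤ o2 C)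
    (hF : IsPGroup 2 F) (hn : ∀ c ∈ C, ∀ f ∈ F, c * f * c⁻¹ ∈ F) : stab C (o2 C) F ≤ o2 C := by
  refine le_o2 (fun x hx => hx.1) ?_ ?_
  · rintro ⟨x, hx, hxF, hxr⟩
    obtain ⟨k, hk⟩ := exists_pow_comm hF hxF hxr
    have h2 : x ^ 2 ^ k ∈ o2 C := hC ⟨pow_mem hx _, mem_centralizer_iff.2 fun r hr => (hk r hr).symm⟩
    obtain ⟨l, hl⟩ := exists_pow_eq_one (o2_isPGroup C)
    refine ⟨k + l, Subtype.ext ?_⟩
    change x ^ 2 ^ (k + l) = 1
    rw [pow_add, pow_mul]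
    exact hl _ h2
  · have key : ∀ c ∈ C, ∀ x ∈ stab C (o2 C) F, c * x * c⁻¹ ∈ stab C (o2 C) F := by
      rintro c hc x ⟨hx, hxf, hxr⟩
      refine ⟨mul_mem (mul_mem hc hx) (inv_mem hc), fun f hf => ?_, fun r hr => ?_⟩
      · have h1 := hn c⁻¹ (inv_mem hc) f hf
        rw [inv_inv] at h1
        have h2 := hxf _ h1
        calc c * x * c⁻¹ * f = c * (x * (c⁻¹ * f * c)) * c⁻¹ := by group
          _ = c * ((c⁻¹ * f * c) * x) * c⁻¹ := by rw [h2]
          _ = f * (c * x * c⁻¹) := by group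
      · have hr' : c⁻¹ * r * c ∈ o2 C := by
          have := (mem_normalizer_iff.1 (inv_mem (le_normalizer_o2 C hc)) r).1 hr
          rwa [inv_inv] at this
        have h3 := hn c hc _ (hxr _ hr')
        have h5 : c * x * c⁻¹ * r * (c * x * c⁻¹)⁻¹ * r⁻¹ =
            c * (x * (c⁻¹ * r * c) * x⁻¹ * (c⁻¹ * r * c)⁻¹) * c⁻¹ := by group
        rw [h5]
        exact h3
    intro c hc
    rw [mem_normalizer_iff]
    intro x
    refine ⟨key c hc x, fun hx => ?_⟩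
    have h6 := key c⁻¹ (inv_mem hc) _ hx
    have e : c⁻¹ * (c * x * c⁻¹) * c⁻¹⁻¹ = x := by group
    rwa [e] at h6

/-! ### Definitions -/

/-- the subgroup generated by the `C`-conjugates of the elements of `A` -/
def nc (C : Subgroup G) (A : Set G) : Subgroup G := _root_.Subgroup.closure {x | ∃ c ∈ C, ∃ a ∈ A, x = c * a * c⁻¹}

theorem le_nc (C : Subgroup G) {A : Set G} {a : G} (ha : a ∈ A) : a ∈ nc C A :=
  subset_closure ⟨1, one_mem _, a, ha, by group⟩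

theorem conj_mem_nc {C : Subgroup G} {A : Set G} {c x : G} (hc : c ∈ C) (hx : x ∈ nc C A) :
    c * x * c⁻¹ ∈ nc C A := by
  induction hx using closure_induction with
  | mem x hx =>
    obtain ⟨d, hd, a, ha, rfl⟩ := hx
    exact subset_closure ⟨c * d, mul_mem hc hd, a, ha, by group⟩
  | one => simp
  | mul x y _ _ hx hy =>
    have : c * (x * y) * c⁻¹ = (c * x * c⁻¹) * (c * y * c⁻¹) := by group
    rw [this]; exact mul_mem hx hy
  | inv x _ hx =>
    have : c * x⁻¹ * c⁻¹ = (c * x * c⁻¹)⁻¹ := by group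
    rw [this]; exact inv_mem hx

theorem nc_le {C : Subgroup G} {A : Set G} {B : Subgroup G}
    (h : ∀ c ∈ C, ∀ a ∈ A, c * a * c⁻¹ ∈ B) : nc C A ≤ B := by
  rw [nc, closure_le]
  rintro _ ⟨c, hc, a, ha, rfl⟩
  exact h c hc a ha

/-- `Q_i* = ⟨(V ∩ Q_i)^{C_i}⟩` -/
def Qs (z : Fin 5 → G) (i : Fin 5) : Subgroup G := nc (C z i) (V z ⊓ Q z i : Subgroup G)

/-- `L_i = ⟨V^{C_i}⟩` -/
def L (z : Fin 5 → G) (i : Fin 5) : Subgroup G := nc (C z i) (V z : Set G)

/-- `D_i = C_{Q_i}(Q_i*)` -/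
def D (z : Fin 5 → G) (i : Fin 5) : Subgroup G := Q z i ⊓ centralizer (Qs z i : Set G)

/-- `R = O₂(C_G(V))` -/
def R (z : Fin 5 → G) : Subgroup G := o2 (centralizer (V z : Set G))

variable {P : Subgroup G} {z : Fin 5 → G} [Finite G]

theorem Qs_le (i : Fin 5) : Qs z i ≤ Q z i := nc_le fun _ hc _ ha => Qn hc ha.2

theorem E_le_Qs {i : Fin 5} {v : G} (hv : v ∈ V z) (hvQ : v ∈ Q z i) : v ∈ Qs z i :=
  le_nc _ (show v ∈ ((V z ⊓ Q z i : Subgroup G) : Set G) from ⟨hv, hvQ⟩)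

theorem Qsn {i : Fin 5} {c x : G} (hc : c ∈ C z i) (hx : x ∈ Qs z i) : c * x * c⁻¹ ∈ Qs z i :=
  conj_mem_nc hc hx

theorem Ln {i : Fin 5} {c x : G} (hc : c ∈ C z i) (hx : x ∈ L z i) : c * x * c⁻¹ ∈ L z i :=
  conj_mem_nc hc hx

theorem R_le : R z ≤ centralizer (V z : Set G) := o2_le _

theorem mapnc {p : G} {A B : Subgroup G} {X Y : Set G} (h1 : ∀ x ∈ A, p * x * p⁻¹ ∈ B)
    (h2 : ∀ x ∈ X, p * x * p⁻¹ ∈ Y) {x : G} (hx : x ∈ nc A X) : p * x * p⁻¹ ∈ nc B Y := by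
  induction hx using closure_induction with
  | mem x hx =>
    obtain ⟨c, hc, a, ha, rfl⟩ := hx
    exact subset_closure ⟨p * c * p⁻¹, h1 c hc, p * a * p⁻¹, h2 a ha, by group⟩
  | one => simp
  | mul x y _ _ hx hy =>
    have : p * (x * y) * p⁻¹ = (p * x * p⁻¹) * (p * y * p⁻¹) := by group
    rw [this]; exact mul_mem hx hy
  | inv x _ hx =>
    have : p * x⁻¹ * p⁻¹ = (p * x * p⁻¹)⁻¹ := by group
    rw [this]; exact inv_mem hx

theorem _root_.Cfsg.Agent.Omega.NOne.BetaTwo.Basic.Act.mapQs {p x : G} {σ : Perm (Fin 5)} (h : Act z p σ)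
    {i : Fin 5} (hx : x ∈ Qs z i) : p * x * p⁻¹ ∈ Qs z (σ i) :=
  mapnc (fun _ hx => h.mapC hx)
    (fun x (hx : x ∈ V z ⊓ Q z i) => show p * x * p⁻¹ ∈ V z ⊓ Q z (σ i) from ⟨h.mapV hx.1, h.mapQ hx.2⟩) hx

theorem _root_.Cfsg.Agent.Omega.NOne.BetaTwo.Basic.Act.mapD {p x : G} {σ : Perm (Fin 5)} (h : Act z p σ)
    {i : Fin 5} (hx : x ∈ D z i) : p * x * p⁻¹ ∈ D z (σ i) := by
  refine ⟨h.mapQ hx.1, mem_centralizer_iff.2 fun y hy => ?_⟩
  have h1 := h.inv.mapQs hy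
  rw [show σ⁻¹ (σ i) = i from σ.symm_apply_apply i, inv_inv] at h1
  have h2 := mem_centralizer_iff.1 hx.2 _ h1
  calc y * (p * x * p⁻¹) = p * ((p⁻¹ * y * p) * x) * p⁻¹ := by group
    _ = p * (x * (p⁻¹ * y * p)) * p⁻¹ := by rw [h2]
    _ = p * x * p⁻¹ * y := by group

/-! ### Step (2) -/

variable {S : Sylow 2 G}

/-- `[Q_i, Q_i*] ≤ ⟨z_i⟩` -/
theorem _root_.Cfsg.Agent.Omega.NOne.BetaTwo.Four.Dat.mod_E (h : Dat S P z) {i : Fin 5} {x e : G}
    (hx : x ∈ Q z i) (he : e ∈ V z) (heQ : e ∈ Q z i) :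
    x * e * x⁻¹ = e ∨ x * e * x⁻¹ = z i * e := by
  obtain ⟨σ, hσ, hi, h1⟩ := h.perm hx
  rcases h1 with rfl | ⟨h1, h2⟩
  · left
    have := mem_centralizer_iff.1 (mem_cV.2 hσ) e he
    rw [← this]; group
  rcases h.mem_E he heQ with rfl | rfl | ⟨j, k, hij, hik, hjk, rfl⟩
  · left; group
  · left; exact mem_C.1 (QC i hx)
  obtain ⟨l, m, hnd⟩ := ext3 i j k hij hik hjk
  obtain ⟨n1, n2, n3, n4, n5, h88⟩ := nd hnd
  revert h88; rintro ⟨n6, n7, n8, n9, n10⟩
  have h3 : x * (z j * z k) * x⁻¹ = z (σ j) * z (σ k) := by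
    rw [← hσ, ← hσ]; group
  have hσσ : ∀ a, σ (σ a) = a := fun a => by rw [← Perm.mul_apply, h1]; rfl
  rw [h3]
  rcases five i j k l m (σ j) hnd with h8 | h8 | h8 | h8 | h8
  · exact absurd (σ.injective (h8.trans hi.symm)) hij.symm
  · exact absurd h8 (h2 j hij.symm)
  · left
    have : σ k = j := by rw [← h8, hσσ]
    rw [h8, this, h.comm]
  · right
    have h9 : σ k = m := by
      have hl : σ l = j := by rw [← h8, hσσ]
      rcases five i j k l m (σ k) hnd with h9 | h9 | h9 | h9 | h9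
      · exact absurd (σ.injective (h9.trans hi.symm)) hik.symm
      · exact absurd (σ.injective (h9.trans hl.symm)) n8
      · exact absurd h9 (h2 k hik.symm)
      · exact absurd (σ.injective (h9.trans h8.symm)) n5.symm
      · exact h9
    rw [h8, h9, ← mul_assoc]
    exact (h.three hnd).symm
  · right
    have h9 : σ k = l := by
      have hl : σ m = j := by rw [← h8, hσσ]
      rcases five i j k l m (σ k) hnd with h9 | h9 | h9 | h9 | h9
      · exact absurd (σ.injective (h9.trans hi.symm)) hik.symm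
      · exact absurd (σ.injective (h9.trans hl.symm)) n9
      · exact absurd h9 (h2 k hik.symm)
      · exact h9
      · exact absurd (σ.injective (h9.trans h8.symm)) n5.symm
    rw [h8, h9, ← mul_assoc, h.comm m l]
    exact (h.three hnd).symm

theorem _root_.Cfsg.Agent.Omega.NOne.BetaTwo.Four.Dat.zc (h : Dat S P z) {i : Fin 5} {x : G} (hx : x ∈ C z i) :
    x * z i = z i * x := by
  have := mem_C.1 hx
  calc x * z i = (x * z i * x⁻¹) * x := by group
    _ = z i * x := by rw [this]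

theorem _root_.Cfsg.Agent.Omega.NOne.BetaTwo.Four.Dat.mod (h : Dat S P z) {i : Fin 5} {x y : G}
    (hx : x ∈ Q z i) (hy : y ∈ Qs z i) : x * y * x⁻¹ = y ∨ x * y * x⁻¹ = z i * y := by
  induction hy using closure_induction generalizing x with
  | mem y hy =>
    obtain ⟨c, hc, e, he, rfl⟩ := hy
    have h1 : c⁻¹ * x * c ∈ Q z i := by
      have := Qn (inv_mem hc) hx
      rwa [inv_inv] at this
    have h2 : x * (c * e * c⁻¹) * x⁻¹ = c * ((c⁻¹ * x * c) * e * (c⁻¹ * x * c)⁻¹) * c⁻¹ := by group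
    rcases h.mod_E h1 he.1 he.2 with h3 | h3
    · left; rw [h2, h3]
    · right
      rw [h2, h3]
      have := h.zc hc
      calc c * (z i * e) * c⁻¹ = (c * z i) * e * c⁻¹ := by group
        _ = z i * (c * e * c⁻¹) := by rw [this]; group
  | one => left; group
  | mul y w hy hw ihy ihw =>
    have e : x * (y * w) * x⁻¹ = (x * y * x⁻¹) * (x * w * x⁻¹) := by group
    have hyz : y * z i = z i * y := h.zc (QC i (Qs_le i hy))
    rw [e]
    rcases ihy hx with h1 | h1 <;> rcases ihw hx with h2 | h2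
    · left; rw [h1, h2]
    · right; rw [h1, h2, ← mul_assoc, hyz, mul_assoc]
    · right; rw [h1, h2, mul_assoc]
    · left; rw [h1, h2, mul_assoc, ← mul_assoc y, hyz, mul_assoc, ← mul_assoc (z i), h.sq, one_mul]
  | inv y hy ih =>
    have e : x * y⁻¹ * x⁻¹ = (x * y * x⁻¹)⁻¹ := by group
    have hyz : y * z i = z i * y := h.zc (QC i (Qs_le i hy))
    rw [e]
    rcases ih hx with h1 | h1
    · left; rw [h1]
    · right
      rw [h1, ← hyz, mul_inv_rev, h.zinv]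

/-- elements of `P` normalise `V` -/
theorem _root_.Cfsg.Agent.Omega.NOne.BetaTwo.Four.Dat.Vn (h : Dat S P z) {p v : G} (hp : p ∈ P)
    (hv : v ∈ V z) : p * v * p⁻¹ ∈ V z := by
  obtain ⟨σ, hσ⟩ := h.exAct hp
  exact hσ.mapV hv

theorem _root_.Cfsg.Agent.Omega.NOne.BetaTwo.Four.Dat.Qs_not (h : Dat S P z) (i : Fin 5) :
    ¬ Qs z i ≤ centralizer (V z : Set G) := by
  intro h1
  apply h.notVi i
  refine le_trans ?_ (stab_le (h.char2 i) (F := Qs z i) ?_ ?_)
  · intro v hv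
    refine ⟨h.V_le_C i hv, fun f hf => mem_centralizer_iff.1 (h1 hf) v hv, fun q hq => ?_⟩
    have h2 : v * q * v⁻¹ * q⁻¹ = v * (q * v⁻¹ * q⁻¹) := by group
    refine E_le_Qs ?_ (mul_mem (Qn (h.V_le_C i hv) hq) (inv_mem hq))
    rw [h2]
    exact mul_mem hv (h.Vn (h.QP i hq) (inv_mem hv))
  · exact (Q_pgroup i).to_le (Qs_le i)
  · exact fun c hc f hf => Qsn hc hf

theorem _root_.Cfsg.Agent.Omega.NOne.BetaTwo.Four.Dat.exQs (h : Dat S P z) {i j k l m : Fin 5}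
    (hnd : [i, j, k, l, m].Nodup) :
    ∃ q ∈ Qs z i, ∃ σ, Act z q σ ∧ σ i = i ∧ σ j = k ∧ σ k = j ∧ σ l = m ∧ σ m = l :=
  h.exN (Qs_le i) (fun _ _ hc _ hx => Qsn hc hx) (h.Qs_not i) hnd

/-! ### `D_i` -/

/-- an element of `Q_i` centralising `V ∩ Q_i` centralises `V` -/
theorem _root_.Cfsg.Agent.Omega.NOne.BetaTwo.Four.Dat.cV_of_E (h : Dat S P z) {i : Fin 5} {q : G}
    (hq : q ∈ Q z i) (h0 : ∀ v ∈ V z, v ∈ Q z i → v * q = q * v) : q ∈ centralizer (V z : Set G) := by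
  obtain ⟨σ, hσ, hi, h1⟩ := h.perm hq
  rcases h1 with rfl | ⟨h1, h2⟩
  · exact mem_cV.2 hσ
  exfalso
  obtain ⟨j, hj⟩ := ne1 i
  have n2 : σ j ≠ i := fun h4 => hj (σ.injective (h4.trans hi.symm)).symm
  have n3 : σ j ≠ j := h2 j hj.symm
  obtain ⟨l, m, hnd⟩ := ext3 i j (σ j) hj n2.symm n3.symm
  obtain ⟨-, -, n3, n4, n5, h88⟩ := nd hnd
  revert h88; rintro ⟨n6, n7, n8, n9, n10⟩
  have hσσ : ∀ a, σ (σ a) = a := fun a => by rw [← Perm.mul_apply, h1]; rfl
  have hl : σ l = m := by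
    rcases five i j (σ j) l m (σ l) hnd with h9 | h9 | h9 | h9 | h9
    · exact absurd (σ.injective (h9.trans hi.symm)) n3.symm
    · have : σ j = l := by rw [← h9, hσσ]
      exact absurd this n8
    · exact absurd (σ.injective h9) n6.symm
    · exact absurd h9 (h2 l n3.symm)
    · exact h9
  have h3 : q * (z j * z l) * q⁻¹ = z (σ j) * z m := by
    rw [← hσ j, ← hl, ← hσ l]; group
  have h4 := h0 (z j * z l) (mul_mem (z_mem _) (z_mem _)) (h.zz_mem hj n3 n6)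
  have h5 : q * (z j * z l) * q⁻¹ = z j * z l := by rw [← h4]; group
  refine h.mul_ne_mul (i := j) (j := l) (k := σ j) (l := m) (m := i) ?_ (h5.symm.trans h3)
  simp only [List.nodup_cons, List.mem_cons, List.not_mem_nil, not_or, or_false]
  exact ⟨⟨n6, n5, n7, hj.symm⟩, ⟨n8.symm, n10, n3.symm⟩, ⟨n9, n2⟩, n4.symm, by simp⟩

theorem _root_.Cfsg.Agent.Omega.NOne.BetaTwo.Four.Dat.D_cV (h : Dat S P z) {i : Fin 5} {d : G}
    (hd : d ∈ D z i) : d ∈ centralizer (V z : Set G) :=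
  h.cV_of_E hd.1 fun v hv hvQ => mem_centralizer_iff.1 hd.2 v (E_le_Qs hv hvQ)

theorem Dn {i : Fin 5} {c x : G} (hc : c ∈ C z i) (hx : x ∈ D z i) : c * x * c⁻¹ ∈ D z i := by
  refine ⟨Qn hc hx.1, mem_centralizer_iff.2 fun y hy => ?_⟩
  have h1 := Qsn (inv_mem hc) hy
  rw [inv_inv] at h1
  have h2 := mem_centralizer_iff.1 hx.2 _ h1
  calc y * (c * x * c⁻¹) = c * ((c⁻¹ * y * c) * x) * c⁻¹ := by group
    _ = c * (x * (c⁻¹ * y * c)) * c⁻¹ := by rw [h2]
    _ = c * x * c⁻¹ * y := by group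

/-- `[L_i, D_i] = 1` -/
theorem _root_.Cfsg.Agent.Omega.NOne.BetaTwo.Four.Dat.D_L (h : Dat S P z) (i : Fin 5) :
    L z i ≤ centralizer (D z i : Set G) := by
  refine nc_le fun c hc v hv => mem_centralizer_iff.2 fun d hd => ?_
  have h1 := Dn (inv_mem hc) hd
  rw [inv_inv] at h1
  have h2 := mem_centralizer_iff.1 (h.D_cV h1) v hv
  calc d * (c * v * c⁻¹) = c * ((c⁻¹ * d * c) * v) * c⁻¹ := by group
    _ = c * (v * (c⁻¹ * d * c)) * c⁻¹ := by rw [← h2]
    _ = c * v * c⁻¹ * d := by group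

theorem _root_.Cfsg.Agent.Omega.NOne.BetaTwo.Four.Dat.D_V (h : Dat S P z) {i : Fin 5} {d : G}
    (hd : d ∈ D z i) (hdV : d ∈ V z) : d = 1 ∨ d = z i := by
  rcases h.mem_E hdV hd.1 with rfl | rfl | ⟨j, k, hij, hik, hjk, rfl⟩
  · exact Or.inl rfl
  · exact Or.inr rfl
  exfalso
  obtain ⟨l, m, hnd⟩ := ext3 i j k hij hik hjk
  obtain ⟨n1, n2, n3, n4, n5, n6, n7, n8, n9, n10⟩ := nd hnd
  have hnd' : [i, j, l, k, m].Nodup := by
    simp only [List.nodup_cons, List.mem_cons, List.not_mem_nil, not_or, or_false]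
    exact ⟨⟨n1, n3, n2, n4⟩, ⟨n6, n5, n7⟩, ⟨n8.symm, n10⟩, n9, by simp⟩
  obtain ⟨q, hq, σ, hσ, e1, e2, e3, e4, e5⟩ := h.exQs hnd'
  have h1 := mem_centralizer_iff.1 hd.2 q hq
  have h2 : q * (z j * z k) * q⁻¹ = z l * z m := by rw [← e2, ← e4, ← hσ, ← hσ]; group
  have h3 : q * (z j * z k) * q⁻¹ = z j * z k := by rw [h1]; group
  refine h.mul_ne_mul (i := j) (j := k) (k := l) (l := m) (m := i) ?_ (h3.symm.trans h2)
  simp only [List.nodup_cons, List.mem_cons, List.not_mem_nil, not_or, or_false]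
  exact ⟨⟨n5, n6, n7, n1.symm⟩, ⟨n8, n9, n2.symm⟩, ⟨n10, n3.symm⟩, n4.symm, by simp⟩

/-! ### Step (3) -/

/-- the characteristic 2 hypothesis for the normalisers of `2`-groups normalised by `S` -/
def Char2 (S : Sylow 2 G) : Prop := ∀ N : Subgroup G, IsPGroup 2 N → N ≠ ⊥ →
  (S : Subgroup G) ≤ normalizer (N : Set G) →
  normalizer (N : Set G) ⊓ centralizer (o2 (normalizer (N : Set G)) : Set G) ≤ o2 (normalizer (N : Set G))

theorem _root_.Cfsg.Agent.Omega.NOne.BetaTwo.Four.Dat.D_le_all (h : Dat S P z) {i j : Fin 5} (hij : i ≠ j)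
    {x : G} (hx : x ∈ D z i) (hxj : x ∈ D z j) (k : Fin 5) : x ∈ D z k := by
  by_cases hik : i = k
  · subst hik; exact hx
  by_cases hjk : j = k
  · subst hjk; exact hxj
  obtain ⟨l, m, hnd⟩ := ext3 i j k hij hik hjk
  obtain ⟨q, hq, σ, hσ, e1, e2, e3, e4, e5⟩ := h.exQs hnd
  have h1 := mem_centralizer_iff.1 hx.2 q hq
  have h2 := hσ.mapD hxj
  rw [e2] at h2
  have h3 : q * x * q⁻¹ = x := by rw [h1]; group
  rwa [h3] at h2

theorem _root_.Cfsg.Agent.Omega.NOne.BetaTwo.Four.Dat.D_inf (h : Dat S P z) (hc : Char2 S) {i j : Fin 5}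
    (hij : i ≠ j) {x : G} (hx : x ∈ D z i) (hxj : x ∈ D z j) : x = 1 := by
  by_contra hx1
  set N : Subgroup G := ⨅ k, D z k with hN
  have hxN : x ∈ N := by rw [hN, mem_iInf]; exact h.D_le_all hij hx hxj
  have hN0 : N ≤ D z 0 := iInf_le _ 0
  have hNp : IsPGroup 2 N := (Q_pgroup 0).to_le (hN0.trans inf_le_left)
  have hN1 : N ≠ ⊥ := fun h1 => hx1 (by rw [h1] at hxN; exact mem_bot.1 hxN)
  have key : ∀ p ∈ P, ∀ y ∈ N, p * y * p⁻¹ ∈ N := by
    intro p hp y hy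
    obtain ⟨σ, hσ⟩ := h.exAct hp
    rw [hN, mem_iInf] at hy ⊢
    intro k
    have := hσ.mapD (hy (σ⁻¹ k))
    rwa [show σ (σ⁻¹ k) = k from σ.apply_symm_apply k] at this
  have hPN : P ≤ normalizer (N : Set G) := by
    intro p hp
    rw [mem_normalizer_iff]
    intro y
    refine ⟨key p hp y, fun hy => ?_⟩
    have := key p⁻¹ (inv_mem hp) _ hy
    have e : p⁻¹ * (p * y * p⁻¹) * p⁻¹⁻¹ = y := by group
    rwa [e] at this
  have hLN : L z 0 ≤ normalizer (N : Set G) := by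
    have : L z 0 ≤ centralizer (N : Set G) := (h.D_L 0).trans (centralizer_le hN0)
    exact this.trans (centralizer_le_normalizer _)
  have hSN : (S : Subgroup G) ≤ normalizer (N : Set G) := h.SP.trans hPN
  have hH := hc N hNp hN1 hSN
  set H := normalizer (N : Set G) with hHdef
  have hoS : o2 H ≤ (S : Subgroup G) := o2_le_of_sylow S.isPGroup' (not_dvd_relIndex S hSN)
  have hz0 : z 0 ∈ o2 H := by
    apply hH
    refine ⟨hPN (h.QP 0 (h.z_self 0)), mem_centralizer_iff.2 fun y hy => ?_⟩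
    exact h.zc (h.SC (hoS hy))
  have hVo : V z ≤ o2 H := by
    rw [V, closure_le]
    rintro _ ⟨k, rfl⟩
    obtain ⟨p, hp, σ, hσ, h0⟩ := h.to k
    have := (mem_normalizer_iff.1 (le_normalizer_o2 H (hPN hp)) (z 0)).1 hz0
    rwa [hσ, h0] at this
  apply h.notV
  have hVL : V z ≤ L z 0 := fun v hv => le_nc _ hv
  have h1 : V z ≤ o2 (L z 0) := by
    refine (le_inf hVo hVL).trans (le_o2 inf_le_right ((o2_isPGroup H).to_le inf_le_left) ?_)
    intro l hl
    have hlH := hLN hl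
    rw [mem_normalizer_iff]
    intro y
    constructor
    · rintro ⟨hy1, hy2⟩
      exact ⟨(mem_normalizer_iff.1 (le_normalizer_o2 H hlH) y).1 hy1,
        (L z 0).mul_mem ((L z 0).mul_mem hl hy2) ((L z 0).inv_mem hl)⟩
    · rintro ⟨hy1, hy2⟩
      refine ⟨(mem_normalizer_iff.1 (le_normalizer_o2 H hlH) y).2 hy1, ?_⟩
      have := (L z 0).mul_mem ((L z 0).mul_mem ((L z 0).inv_mem hl) hy2) hl
      have e : l⁻¹ * (l * y * l⁻¹) * l = y := by group
      rwa [e] at this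
  have hLC : L z 0 ≤ C z 0 := nc_le fun c hc v hv => mul_mem (mul_mem hc (h.V_le_C 0 hv)) (inv_mem hc)
  refine h1.trans (le_o2 ((o2_le _).trans hLC) (o2_isPGroup _) ?_)
  intro c hc
  apply Cfsg.Agent.ZN.normalizer_le_normalizer_o2
  rw [mem_normalizer_iff]
  intro y
  refine ⟨fun hy => Ln hc hy, fun hy => ?_⟩
  have := Ln (inv_mem hc) hy
  have e : c⁻¹ * (c * y * c⁻¹) * c⁻¹⁻¹ = y := by group
  rwa [e] at this

end Cfsg.Agent.Omega.NOne.BetaTwo.DOne

end

-- merged: Cfsg.Agent.Mrg.Omega.NO1.BetaPlus.Abs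
section

section


/-!
# THEOREM BETA for type (γ): steps (2)-(4), abstract (helper914)

`R i` : the points of `V`, `op i j` : opposite points, `QQ (R i) = O₂(N_G(R i))`.  The image of `QQ (R i)`
on `V` is `U' × U''`, given by two additive functions `α, β : QQ (R i) → F`.
Output: `Bp.pre`, the structure `Beta.Pre` of `Beta/End.lean` for a family of pairwise opposite points,
and `Bp.result`.
-/

set_option autoImplicit false
set_option linter.unusedSectionVars false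

namespace Cfsg.Agent.Omega.NO1.BetaPlus

open Subgroup Cfsg
open Cfsg.Agent.ZN (o2 o2_map le_normalizer_o2)
open Cfsg.Agent.Omega.NOne.BetaTwo.DOne (nc le_nc conj_mem_nc nc_le mapnc stab_le)
open Cfsg.Agent.Omega.NOne.BetaTwo.Basic (o2_conj)

universe u

variable {G : Type u} [Group G]

/-- `Q(R) = O₂(N_G(R))` -/
abbrev QQ (R : Subgroup G) : Subgroup G := o2 (normalizer (R : Set G))

/-- `g` moves `A` to `B` -/
def Mv (g : G) (A B : Subgroup G) : Prop := ∀ x, x ∈ A ↔ g * x * g⁻¹ ∈ B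

namespace Mv

variable {g h : G} {A B C D : Subgroup G}

theorem inv (hg : Mv g A B) : Mv g⁻¹ B A := by
  intro x
  have := hg (g⁻¹ * x * g⁻¹⁻¹)
  have e : g * (g⁻¹ * x * g⁻¹⁻¹) * g⁻¹ = x := by group
  rw [e] at this
  exact this.symm

theorem mul (hg : Mv g B C) (hh : Mv h A B) : Mv (g * h) A C := by
  intro x
  rw [hh x, hg (h * x * h⁻¹)]
  have e : g * (h * x * h⁻¹) * g⁻¹ = g * h * x * (g * h)⁻¹ := by group
  rw [e]

theorem nor (hg : Mv g A B) {c : G} (hc : c ∈ normalizer (A : Set G)) :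
    g * c * g⁻¹ ∈ normalizer (B : Set G) := by
  rw [mem_normalizer_iff]
  intro y
  have h1 := hg.inv y
  have h2 := mem_normalizer_iff.1 hc (g⁻¹ * y * g⁻¹⁻¹)
  have h3 := hg (c * (g⁻¹ * y * g⁻¹⁻¹) * c⁻¹)
  have e : g * (c * (g⁻¹ * y * g⁻¹⁻¹) * c⁻¹) * g⁻¹ = g * c * g⁻¹ * y * (g * c * g⁻¹)⁻¹ := by group
  rw [e] at h3
  exact (h1.trans h2).trans h3

theorem QQ [Finite G] (hg : Mv g A B) : Mv g (BetaPlus.QQ A) (BetaPlus.QQ B) := by
  intro x
  constructor
  · exact fun hx => o2_conj (fun c hc => hg.nor hc) (fun c hc => hg.inv.nor hc) hx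
  · intro hx
    have := o2_conj (p := g⁻¹) (fun c hc => hg.inv.nor hc) (fun c hc => by
      rw [inv_inv]; exact hg.nor hc) hx
    have e : g⁻¹ * (g * x * g⁻¹) * g⁻¹⁻¹ = x := by group
    rwa [e] at this

theorem inf (h1 : Mv g A B) (h2 : Mv g C D) : Mv g (A ⊓ C) (B ⊓ D) := by
  intro x
  rw [mem_inf, mem_inf, h1 x, h2 x]

theorem of_mem (hg : g ∈ A) : Mv g A A := by
  intro x
  exact ⟨fun hx => mul_mem (mul_mem hg hx) (inv_mem hg), fun hx => by
    have := mul_mem (mul_mem (inv_mem hg) hx) hg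
    have e : g⁻¹ * (g * x * g⁻¹) * g = x := by group
    rwa [e] at this⟩

theorem of_nor (hg : g ∈ normalizer (A : Set G)) : Mv g A A := mem_normalizer_iff.1 hg

theorem mem_nor (hg : Mv g A A) : g ∈ normalizer (A : Set G) := mem_normalizer_iff.2 hg

theorem of_comm (hg : ∀ a ∈ A, g * a = a * g) : Mv g A A := by
  intro x
  constructor
  · intro hx
    rw [hg x hx, mul_inv_cancel_right]; exact hx
  · intro hx
    have h1 := hg _ hx
    have h2 : g * x * g⁻¹ = x := by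
      have h3 : g * (g * x * g⁻¹) = g * x := by
        rw [h1]; group
      exact mul_left_cancel h3
    rwa [h2] at hx

theorem cen (hg : Mv g A B) : Mv g (centralizer (A : Set G)) (centralizer (B : Set G)) := by
  intro x
  rw [mem_centralizer_iff, mem_centralizer_iff]
  constructor
  · intro hx b hb
    have h1 : g⁻¹ * b * g⁻¹⁻¹ ∈ A := (hg.inv b).1 hb
    have h2 := hx _ h1
    calc b * (g * x * g⁻¹) = g * ((g⁻¹ * b * g⁻¹⁻¹) * x) * g⁻¹ := by group
      _ = g * (x * (g⁻¹ * b * g⁻¹⁻¹)) * g⁻¹ := by rw [h2]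
      _ = g * x * g⁻¹ * b := by group
  · intro hx a ha
    have h1 : g * a * g⁻¹ ∈ B := (hg a).1 ha
    have h2 := hx _ h1
    calc a * x = g⁻¹ * ((g * a * g⁻¹) * (g * x * g⁻¹)) * g := by group
      _ = g⁻¹ * ((g * x * g⁻¹) * (g * a * g⁻¹)) * g := by rw [h2]
      _ = x * a := by group

end Mv

/-- The input. -/
structure Bp (F : Type) [Field F] (M V : Subgroup G) {I : Type*} (R : I → Subgroup G)
    (op : I → I → Prop) : Prop where
  comm : ∀ a ∈ V, ∀ b ∈ V, a * b = b * a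
  sq : ∀ a ∈ V, a * a = 1
  M_V : ∀ m ∈ M, Mv m V V
  R_le : ∀ i, R i ≤ V
  RQ : ∀ i, ∀ r ∈ R i, ∀ y ∈ QQ (R i), r * y = y * r
  ne : ∀ i, R i ≠ ⊥
  cardR : ∀ i, Nat.card (R i) = Nat.card F
  three : ∃ t : F, t ≠ 0 ∧ t ≠ 1
  disj : ∀ i j, op i j → R i ⊓ R j = ⊥
  symm : ∀ i j, op i j → op j i
  conn : ∀ i k, ∃ c, op i c ∧ op c k
  perm : ∀ m ∈ M, ∀ i, ∃ j, Mv m (R i) (R j)
  tran : ∀ i j k, op i j → op i k → ∃ y ∈ QQ (R i), Mv y (R j) (R k)
  Q_M : ∀ i, QQ (R i) ≤ M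
  V_Q : ∀ i, ¬ V ≤ QQ (R i)
  char2 : ∀ i, centralizer (QQ (R i) : Set G) ≤ QQ (R i)
  EQ : ∀ i, ∀ e ∈ V ⊓ QQ (R i), ∀ y ∈ QQ (R i), e⁻¹ * y⁻¹ * e * y ∈ R i
  EQs : ∀ i, ∀ y ∈ QQ (R i), y ∉ centralizer (V : Set G) → ∀ r ∈ R i,
    ∃ e ∈ V ⊓ QQ (R i), e⁻¹ * y⁻¹ * e * y = r
  cenR : ∀ i, ∀ v ∈ V, (∀ y ∈ QQ (R i), v * y = y * v) → v ∈ R i
  cardE : ∀ i, (centralizer (V : Set G)).relIndex (QQ (R i)) = (R i).relIndex (V ⊓ QQ (R i))
  irr : ∀ i, ∀ N : Subgroup G, N ≤ QQ (R i) → (∀ m ∈ M, Mv m (R i) (R i) → ∀ y ∈ N, m * y * m⁻¹ ∈ N) →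
    ¬ N ≤ centralizer (V : Set G) → ∀ y ∈ QQ (R i), ∃ n ∈ N, y⁻¹ * n ∈ centralizer (V : Set G)
  meet : ∀ N : Subgroup G, IsPGroup 2 N → N ≤ M → (∀ m ∈ M, ∀ y ∈ N, m * y * m⁻¹ ∈ N) →
    N ⊓ V = ⊥ → N = ⊥
  alt : ∀ i j, op i j → ∀ b : G → G, (∀ y ∈ QQ (R i), b y ∈ V ⊓ QQ (R i)) →
    (∀ y ∈ QQ (R i), ∀ y' ∈ QQ (R i), b (y * y') * (b y * b y')⁻¹ ∈ R i) →
    (∀ y ∈ QQ (R i), b y * y = y * b y) →
    (∀ y ∈ QQ (R i), y ∈ centralizer (V : Set G) → b y ∈ R i) →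
    ∃ r ∈ R j, ∀ y ∈ QQ (R i), b y * (y⁻¹ * r⁻¹ * y * r)⁻¹ ∈ R i
  half : ∀ i j, op i j → ∃ α β : G → F,
    (∀ y ∈ QQ (R i), ∀ y' ∈ QQ (R i), α (y * y') = α y + α y' ∧ β (y * y') = β y + β y') ∧
    (∀ y ∈ QQ (R i), y ∈ centralizer (V : Set G) ↔ α y = 0 ∧ β y = 0) ∧
    (∀ a b, ∃ y ∈ QQ (R i), α y = a ∧ β y = b) ∧
    (∀ y ∈ QQ (R i), α y ≠ 0 → β y ≠ 0 → ∃ k, op j k ∧ Mv y (R j) (R k)) ∧
    (∃ s ∈ M, Mv s (R i) (R i) ∧ Mv s (R j) (R j) ∧
      ∀ y ∈ QQ (R i), (α (s * y * s⁻¹) = 0 ↔ β y = 0) ∧ (β (s * y * s⁻¹) = 0 ↔ α y = 0))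

namespace Bp

variable {F : Type} [Field F] {M V : Subgroup G} {I : Type*} {R : I → Subgroup G} {op : I → I → Prop}

/-- `Q* = ⟨(V ∩ Q)^{N(R)}⟩` -/
def S (V R : Subgroup G) : Subgroup G := nc (normalizer (R : Set G)) ((V ⊓ QQ R : Subgroup G) : Set G)

/-- `D = C_Q(Q*)` -/
def D (V R : Subgroup G) : Subgroup G := QQ R ⊓ centralizer (S V R : Set G)

variable [Finite G]

theorem _root_.Cfsg.Agent.Omega.NO1.BetaPlus.Mv.S {g : G} {V A B : Subgroup G} (hV : Mv g V V)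
    (hg : Mv g A B) : Mv g (Bp.S V A) (Bp.S V B) := by
  intro x
  constructor
  · intro hx
    exact mapnc (fun c hc => hg.nor hc) (fun y hy => ((hV.inf hg.QQ) y).1 hy) hx
  · intro hx
    have := mapnc (p := g⁻¹) (fun c hc => hg.inv.nor hc)
      (fun y hy => ((hV.inv.inf hg.inv.QQ) y).1 hy) hx
    have e : g⁻¹ * (g * x * g⁻¹) * g⁻¹⁻¹ = x := by group
    rwa [e] at this

theorem _root_.Cfsg.Agent.Omega.NO1.BetaPlus.Mv.D {g : G} {V A B : Subgroup G} (hV : Mv g V V)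
    (hg : Mv g A B) : Mv g (Bp.D V A) (Bp.D V B) := hg.QQ.inf (Mv.S hV hg).cen

theorem S_nor {R : Subgroup G} {c x : G} (hc : c ∈ normalizer (R : Set G)) (hx : x ∈ S V R) :
    c * x * c⁻¹ ∈ S V R := conj_mem_nc hc hx

theorem Q_nor {R : Subgroup G} {c x : G} (hc : c ∈ normalizer (R : Set G)) (hx : x ∈ QQ R) :
    c * x * c⁻¹ ∈ QQ R := ((Mv.of_nor hc).QQ x).1 hx

theorem S_le {R : Subgroup G} : S V R ≤ QQ R := nc_le fun _ hc _ ha => Q_nor hc ha.2

theorem E_le {R : Subgroup G} : V ⊓ QQ R ≤ S V R := fun _ ha => le_nc _ ha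

theorem D_nor {R : Subgroup G} {c x : G} (hc : c ∈ normalizer (R : Set G)) (hx : x ∈ D V R) :
    c * x * c⁻¹ ∈ D V R := by
  refine ⟨Q_nor hc hx.1, mem_centralizer_iff.2 fun y hy => ?_⟩
  have h1 := S_nor (inv_mem hc) hy
  rw [inv_inv] at h1
  have h2 := mem_centralizer_iff.1 hx.2 _ h1
  calc y * (c * x * c⁻¹) = c * ((c⁻¹ * y * c) * x) * c⁻¹ := by group
    _ = c * (x * (c⁻¹ * y * c)) * c⁻¹ := by rw [h2]
    _ = c * x * c⁻¹ * y := by group

variable (h : Bp F M V R op)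
include h

theorem V_cen {v : G} (hv : v ∈ V) : v ∈ centralizer (V : Set G) :=
  mem_centralizer_iff.2 fun w hw => h.comm w hw v hv

theorem cV_nor (i : I) {c : G} (hc : c ∈ centralizer (V : Set G)) : c ∈ normalizer (R i : Set G) :=
  (Mv.of_comm fun a ha => (mem_centralizer_iff.1 hc a (h.R_le i ha)).symm).mem_nor

theorem R_pgroup (i : I) : IsPGroup 2 (R i) := by
  rintro ⟨x, hx⟩
  refine ⟨1, Subtype.ext ?_⟩
  show x ^ 2 ^ 1 = 1
  rw [pow_one, pow_two]
  exact h.sq x (h.R_le i hx)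

theorem R_Q (i : I) : R i ≤ QQ (R i) :=
  Cfsg.Agent.ZN.le_o2 le_normalizer (h.R_pgroup i) le_rfl

theorem Q_V (i : I) {y : G} (hy : y ∈ QQ (R i)) : Mv y V V := h.M_V y (h.Q_M i hy)

/-- `R i` is central in `QQ (R i)` -/
theorem Q_N (i : I) {y : G} (hy : y ∈ QQ (R i)) : y ∈ normalizer (R i : Set G) :=
  Cfsg.Agent.ZN.o2_le _ hy

theorem SQ (i : I) {n y : G} (hn : n ∈ S V (R i)) (hy : y ∈ QQ (R i)) :
    n⁻¹ * y⁻¹ * n * y ∈ R i := by
  induction hn using closure_induction generalizing y with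
  | mem n hn =>
    obtain ⟨c, hc, e, he, rfl⟩ := hn
    have h1 : c⁻¹ * y * c ∈ QQ (R i) := by
      have := Q_nor (inv_mem hc) hy
      rwa [inv_inv] at this
    have h2 := h.EQ i e he _ h1
    have h3 := (mem_normalizer_iff.1 hc _).1 h2
    have e1 : c * (e⁻¹ * (c⁻¹ * y * c)⁻¹ * e * (c⁻¹ * y * c)) * c⁻¹ =
        (c * e * c⁻¹)⁻¹ * y⁻¹ * (c * e * c⁻¹) * y := by group
    rwa [e1] at h3
  | one =>
    have : (1 : G)⁻¹ * y⁻¹ * 1 * y = 1 := by group
    rw [this]; exact one_mem _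
  | mul a b ha hb iha ihb =>
    have h1 := iha hy
    have h2 := ihb hy
    have h3 := h.RQ i _ h1 b (S_le hb)
    have e1 : (a * b)⁻¹ * y⁻¹ * (a * b) * y = (a⁻¹ * y⁻¹ * a * y) * (b⁻¹ * y⁻¹ * b * y) := by
      calc (a * b)⁻¹ * y⁻¹ * (a * b) * y = b⁻¹ * ((a⁻¹ * y⁻¹ * a * y) * (y⁻¹ * b * y)) := by group
        _ = b⁻¹ * ((a⁻¹ * y⁻¹ * a * y) * b) * (b⁻¹ * y⁻¹ * b * y) := by group
        _ = b⁻¹ * (b * (a⁻¹ * y⁻¹ * a * y)) * (b⁻¹ * y⁻¹ * b * y) := by rw [h3]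
        _ = _ := by group
    rw [e1]
    exact mul_mem h1 h2
  | inv a ha iha =>
    have h1 := iha hy
    have h3 := h.RQ i _ h1 a (S_le ha)
    have e1 : a⁻¹⁻¹ * y⁻¹ * a⁻¹ * y = a * (a⁻¹ * y⁻¹ * a * y)⁻¹ * a⁻¹ := by group
    have e2 : a * (a⁻¹ * y⁻¹ * a * y)⁻¹ * a⁻¹ = (a⁻¹ * y⁻¹ * a * y)⁻¹ := by
      have : a * (a⁻¹ * y⁻¹ * a * y)⁻¹ = (a⁻¹ * y⁻¹ * a * y)⁻¹ * a := by
        rw [eq_inv_mul_iff_mul_eq, ← mul_assoc, h3, mul_inv_cancel_right]
      rw [this, mul_inv_cancel_right]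
    rw [e1, e2]
    exact inv_mem h1

theorem S_sq (i : I) {n : G} (hn : n ∈ S V (R i)) : n * n ∈ R i := by
  induction hn using closure_induction with
  | mem n hn =>
    obtain ⟨c, hc, e, he, rfl⟩ := hn
    have : c * e * c⁻¹ * (c * e * c⁻¹) = c * (e * e) * c⁻¹ := by group
    rw [this, h.sq e he.1, mul_one, mul_inv_cancel]
    exact one_mem _
  | one => rw [one_mul]; exact one_mem _
  | mul a b ha hb iha ihb =>
    have h1 := h.SQ i hb (S_le ha)
    have h2 := h.RQ i _ h1 b (S_le hb)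
    have h3 := h.RQ i _ ihb _ (S_le hb)
    have e1 : a * b * (a * b) = (a * a) * (b * ((b⁻¹ * a⁻¹ * b * a) * b)) := by group
    rw [e1, h2]
    have e2 : b * (b * (b⁻¹ * a⁻¹ * b * a)) = (b * b) * (b⁻¹ * a⁻¹ * b * a) := by group
    rw [e2]
    exact mul_mem iha (mul_mem ihb h1)
  | inv a ha iha =>
    have : a⁻¹ * a⁻¹ = (a * a)⁻¹ := by group
    rw [this]; exact inv_mem iha

theorem S_not (i : I) : ¬ S V (R i) ≤ centralizer (V : Set G) := by
  intro h1
  apply h.V_Q i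
  have hC : normalizer (R i : Set G) ⊓ centralizer (QQ (R i) : Set G) ≤ QQ (R i) :=
    inf_le_right.trans (h.char2 i)
  refine le_trans ?_ (stab_le hC (F := S V (R i)) ?_ ?_)
  · intro v hv
    have hvN := h.cV_nor i (h.V_cen hv)
    refine ⟨hvN, fun f hf => mem_centralizer_iff.1 (h1 hf) v hv, fun q hq => ?_⟩
    refine E_le ⟨?_, ?_⟩
    · have h2 : v * q * v⁻¹ * q⁻¹ = v * (q * v⁻¹ * q⁻¹) := by group
      rw [h2]
      exact V.mul_mem hv ((h.Q_V i hq _).1 (V.inv_mem hv))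
    · exact (QQ (R i)).mul_mem (Q_nor hvN hq) ((QQ (R i)).inv_mem hq)
  · exact (Cfsg.Agent.ZN.isPGroup_o2 _).to_le S_le
  · exact fun c hc f hf => S_nor hc hf

/-- `QQ (R i) = Q* (QQ (R i) ∩ C(V))` -/
theorem cover (i : I) {y : G} (hy : y ∈ QQ (R i)) :
    ∃ n ∈ S V (R i), y⁻¹ * n ∈ centralizer (V : Set G) :=
  h.irr i (S V (R i)) S_le (fun _ _ hmR _ hy => S_nor hmR.mem_nor hy) (h.S_not i) y hy

/-! ### Step (3) -/

theorem D_V (i : I) {y : G} (hy : y ∈ D V (R i)) : y ∈ centralizer (V : Set G) := by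
  by_contra hcon
  obtain ⟨⟨r, hr⟩, hr1⟩ := (ne_bot_iff_exists_ne_one).1 (h.ne i)
  obtain ⟨e, he, hee⟩ := h.EQs i y hy.1 hcon r hr
  have h1 := mem_centralizer_iff.1 hy.2 e (E_le he)
  apply hr1
  apply Subtype.ext
  show r = 1
  rw [← hee]
  calc e⁻¹ * y⁻¹ * e * y = e⁻¹ * y⁻¹ * (e * y) := by group
    _ = e⁻¹ * y⁻¹ * (y * e) := by rw [h1]
    _ = 1 := by group

theorem V_cS (i : I) {v : G} (hv : v ∈ V) (hc : v ∈ centralizer (S V (R i) : Set G)) : v ∈ R i := by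
  refine h.cenR i v hv fun y hy => ?_
  obtain ⟨n, hn, hc'⟩ := h.cover i hy
  have h1 : n * v = v * n := mem_centralizer_iff.1 hc n hn
  have h2 : v * (y⁻¹ * n) = (y⁻¹ * n) * v := mem_centralizer_iff.1 hc' v hv
  have h3 : v * y⁻¹ = y⁻¹ * v := by
    have : v * y⁻¹ * n = y⁻¹ * v * n := by
      rw [mul_assoc v, h2, mul_assoc y⁻¹ v, ← h1, mul_assoc]
    exact mul_right_cancel this
  calc v * y = y * (y⁻¹ * v) * y := by group
    _ = y * (v * y⁻¹) * y := by rw [h3]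
    _ = y * v := by group

/-- `Q*` is transitive on the points opposite to `i`. -/
theorem tranS {i j k : I} (hij : op i j) (hik : op i k) : ∃ n ∈ S V (R i), Mv n (R j) (R k) := by
  obtain ⟨y, hy, hm⟩ := h.tran i j k hij hik
  obtain ⟨n, hn, hc⟩ := h.cover i hy
  refine ⟨n, hn, ?_⟩
  have h1 : Mv (y⁻¹ * n) (R j) (R j) := Mv.of_nor (h.cV_nor j hc)
  have h2 := hm.mul h1
  have e : y * (y⁻¹ * n) = n := by group
  rwa [e] at h2

theorem D_all {i j : I} (hij : op i j) {x : G} (hi : x ∈ D V (R i)) (hj : x ∈ D V (R j)) (k : I) :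
    x ∈ centralizer (S V (R k) : Set G) := by
  have step : ∀ a b c, op a b → op a c → x ∈ centralizer (S V (R a) : Set G) →
      x ∈ centralizer (S V (R b) : Set G) → x ∈ centralizer (S V (R c) : Set G) := by
    intro a b c hab hac ha hb
    obtain ⟨n, hn, hm⟩ := h.tranS hab hac
    have h1 := (Mv.S (h.Q_V a (S_le hn)) hm).cen x
    have h2 : n * x * n⁻¹ = x := by
      rw [mem_centralizer_iff.1 ha n hn]; group
    rw [h2] at h1
    exact h1.1 hb
  obtain ⟨c, hic, hck⟩ := h.conn i k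
  have hc := step i j c hij hic hi.2 hj.2
  exact step c i k (h.symm _ _ hic) hck hc hi.2

theorem D_inf {i j : I} (hij : op i j) {x : G} (hi : x ∈ D V (R i)) (hj : x ∈ D V (R j)) : x = 1 := by
  set B : Subgroup G := o2 (M ⊓ centralizer (V : Set G)) ⊓ ⨅ k, centralizer (S V (R k) : Set G) with hB
  have hDB : ∀ k, D V (R k) ≤ o2 (M ⊓ centralizer (V : Set G)) := by
    intro k
    refine Cfsg.Agent.ZN.le_o2 (fun d hd => ⟨h.Q_M k hd.1, h.D_V k hd⟩)
      ((Cfsg.Agent.ZN.isPGroup_o2 _).to_le (inf_le_left : D V (R k) ≤ QQ (R k))) ?_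
    intro c hc
    have hcN := h.cV_nor k hc.2
    refine Mv.mem_nor fun x => ⟨fun hx => D_nor hcN hx, fun hx => ?_⟩
    have := D_nor (inv_mem hcN) hx
    have e : c⁻¹ * (c * x * c⁻¹) * c⁻¹⁻¹ = x := by group
    rwa [e] at this
  have hxB : x ∈ B := by
    exact mem_inf.2 ⟨hDB i hi, mem_iInf.2 fun k => h.D_all hij hi hj k⟩
  have hMC : ∀ m ∈ M, Mv m (M ⊓ centralizer (V : Set G)) (M ⊓ centralizer (V : Set G)) := by
    intro m hm
    exact (Mv.of_mem hm).inf (h.M_V m hm).cen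
  have hBbot : B = ⊥ := by
    refine h.meet B ((Cfsg.Agent.ZN.isPGroup_o2 _).to_le inf_le_left)
      (inf_le_left.trans ((Cfsg.Agent.ZN.o2_le _).trans inf_le_left)) ?_ ?_
    · intro m hm y hy
      obtain ⟨hy1, hy2⟩ := mem_inf.1 hy
      rw [mem_iInf] at hy2
      refine mem_inf.2 ⟨o2_conj (fun c hc => (hMC m hm c).1 hc) (fun c hc => ((hMC m hm).inv c).1 hc) hy1,
        mem_iInf.2 fun k => ?_⟩
      obtain ⟨k', hk'⟩ := h.perm m⁻¹ (inv_mem hm) k
      have h1 : Mv m (S V (R k')) (S V (R k)) := by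
        have := Mv.S (h.M_V m⁻¹ (inv_mem hm)).inv hk'.inv
        rwa [inv_inv] at this
      exact (h1.cen y).1 (hy2 k')
    · rw [eq_bot_iff]
      intro v hv
      obtain ⟨hv1, hvV⟩ := mem_inf.1 hv
      have hv2 := mem_iInf.1 (mem_inf.1 hv1).2
      have h1 := h.V_cS i hvV (hv2 i)
      have h2 := h.V_cS j hvV (hv2 j)
      have h3 : v ∈ R i ⊓ R j := ⟨h1, h2⟩
      rwa [h.disj i j hij] at h3
  rw [hBbot] at hxB
  exact mem_bot.1 hxB

theorem D_comm {i j : I} (hij : op i j) {a b : G} (ha : a ∈ D V (R i)) (hb : b ∈ D V (R j)) :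
    a * b = b * a := by
  have h1 : a * b * a⁻¹ * b⁻¹ ∈ D V (R j) :=
    mul_mem (D_nor (h.cV_nor j (h.D_V i ha)) hb) (inv_mem hb)
  have h2 : a * b * a⁻¹ * b⁻¹ ∈ D V (R i) := by
    have : a * b * a⁻¹ * b⁻¹ = a * (b * a⁻¹ * b⁻¹) := by group
    rw [this]
    exact mul_mem ha (D_nor (h.cV_nor i (h.D_V j hb)) (inv_mem ha))
  have h3 := h.D_inf hij h2 h1
  calc a * b = (a * b * a⁻¹ * b⁻¹) * (b * a) := by group
    _ = b * a := by rw [h3, one_mul]

end Bp

end Cfsg.Agent.Omega.NO1.BetaPlus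

end

section


/-!
# THEOREM BETA for type (γ): step (4), and the structure `Beta.Pre` (helper914)
-/

set_option autoImplicit false
set_option linter.unusedSectionVars false

namespace Cfsg.Agent.Omega.NO1.BetaPlus

open Subgroup Cfsg
open Cfsg.Agent.ZN (o2 o2_map le_normalizer_o2)
open Cfsg.Agent.Omega.NOne.BetaTwo.DOne (nc le_nc conj_mem_nc nc_le mapnc stab_le)

universe u

variable {G : Type u} [Group G] [Finite G]

namespace Bp

variable {F : Type} [Field F] [Finite F] {M V : Subgroup G} {I : Type*} {R : I → Subgroup G}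
  {op : I → I → Prop} (h : Bp F M V R op)
include h

section four

variable {i j : I} (hij : op i j) {α β : G → F}
  (hadd : ∀ y ∈ QQ (R i), ∀ y' ∈ QQ (R i), α (y * y') = α y + α y' ∧ β (y * y') = β y + β y')
  (hker : ∀ y ∈ QQ (R i), y ∈ centralizer (V : Set G) ↔ α y = 0 ∧ β y = 0)
  (hsur : ∀ a b, ∃ y ∈ QQ (R i), α y = a ∧ β y = b)
  (hmov : ∀ y ∈ QQ (R i), α y ≠ 0 → β y ≠ 0 → ∃ k, op j k ∧ Mv y (R j) (R k))

/-- surjectivity on `Q*` -/
theorem surS (hadd : ∀ y ∈ QQ (R i), ∀ y' ∈ QQ (R i), α (y * y') = α y + α y' ∧ β (y * y') = β y + β y')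
    (hker : ∀ y ∈ QQ (R i), y ∈ centralizer (V : Set G) ↔ α y = 0 ∧ β y = 0)
    (hsur : ∀ a b, ∃ y ∈ QQ (R i), α y = a ∧ β y = b) (a b : F) :
    ∃ y ∈ S V (R i), α y = a ∧ β y = b := by
  obtain ⟨y, hy, ha, hb⟩ := hsur a b
  obtain ⟨n, hn, hc⟩ := h.cover i hy
  have h1 := (hker _ (mul_mem (inv_mem hy) (S_le hn))).1 hc
  have h2 := hadd y hy _ (mul_mem (inv_mem hy) (S_le hn))
  have e : y * (y⁻¹ * n) = n := by group
  rw [e, h1.1, h1.2, add_zero, add_zero] at h2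
  exact ⟨n, hn, h2.1.trans ha, h2.2.trans hb⟩

/-- a function which is additive on `S` and onto has kernel of index `|F|` -/
theorem card_ker {S : Subgroup G} {f : G → F} (hf : ∀ y ∈ S, ∀ y' ∈ S, f (y * y') = f y + f y')
    (hs : ∀ a, ∃ y ∈ S, f y = a) (K : Subgroup G) (hK : K ≤ S) (hKf : ∀ y ∈ K, f y = 0)
    {r : ℕ} (hr : Nat.card S ≤ Nat.card K * Nat.card F) {y : G} (hy : y ∈ S) (hy0 : f y = 0) :
    y ∈ K := by
  let φ : S →* Multiplicative F :=
    { toFun := fun x => Multiplicative.ofAdd (f x)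
      map_one' := by
        have := hf 1 (one_mem _) 1 (one_mem _)
        rw [one_mul] at this
        have h0 : f 1 = 0 := left_eq_add.1 this
        rw [OneMemClass.coe_one, h0]; rfl
      map_mul' := fun x z => by
        rw [Subgroup.coe_mul, hf x x.2 z z.2]; rfl }
  have hφ : Function.Surjective φ := by
    intro a
    obtain ⟨y, hy, ha⟩ := hs (Multiplicative.toAdd a)
    exact ⟨⟨y, hy⟩, by show Multiplicative.ofAdd (f y) = a; rw [ha]; rfl⟩
  have h1 : Nat.card S = Nat.card φ.ker * Nat.card F := by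
    have h2 := φ.ker.card_mul_index
    have h3 : φ.ker.index = Nat.card F := by
      rw [index_ker, MonoidHom.range_eq_top.2 hφ]
      exact (Nat.card_congr Subgroup.topEquiv.toEquiv).trans (Nat.card_congr Multiplicative.toAdd)
    rw [h3] at h2
    exact h2.symm
  have hF : 0 < Nat.card F := Nat.card_pos
  have h2 : Nat.card φ.ker ≤ Nat.card K := by
    rw [h1] at hr
    exact Nat.le_of_mul_le_mul_right hr hF
  have h3 : K.subgroupOf S ≤ φ.ker := by
    intro x hx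
    rw [mem_subgroupOf] at hx
    rw [MonoidHom.mem_ker]
    show Multiplicative.ofAdd (f x) = 1
    rw [hKf _ hx]; rfl
  have h4 : Nat.card (K.subgroupOf S) = Nat.card K :=
    Nat.card_congr (subgroupOfEquivOfLe hK).toEquiv
  have h5 : K.subgroupOf S = φ.ker := eq_of_le_of_card_ge h3 (by rw [h4]; exact h2)
  have h6 : (⟨y, hy⟩ : S) ∈ φ.ker := by
    rw [MonoidHom.mem_ker]
    show Multiplicative.ofAdd (f y) = 1
    rw [hy0]; rfl
  rw [← h5, mem_subgroupOf] at h6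
  exact h6

/-- the commutator with `c` has kernel of index at most `|R i|` in `Q*` -/
theorem card_com {c : G} (hc : ∀ y ∈ S V (R i), c⁻¹ * y⁻¹ * c * y ∈ R i) :
    Nat.card (S V (R i)) ≤ Nat.card ↥(S V (R i) ⊓ centralizer ({c} : Set G)) * Nat.card F := by
  let ψ : S V (R i) →* R i :=
    { toFun := fun y => ⟨(y : G)⁻¹ * c⁻¹ * y * c, by
        have h1 := inv_mem (hc (y : G) y.2)
        have e : (c⁻¹ * (y : G)⁻¹ * c * (y : G))⁻¹ = (y : G)⁻¹ * c⁻¹ * y * c := by group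
        rw [e] at h1
        exact h1⟩
      map_one' := by
        apply Subtype.ext
        show ((1 : S V (R i)) : G)⁻¹ * c⁻¹ * ((1 : S V (R i)) : G) * c = 1
        rw [OneMemClass.coe_one]; group
      map_mul' := fun y z => by
        apply Subtype.ext
        show ((y * z : S V (R i)) : G)⁻¹ * c⁻¹ * ((y * z : S V (R i)) : G) * c =
          ((y : G)⁻¹ * c⁻¹ * y * c) * ((z : G)⁻¹ * c⁻¹ * z * c)
        rw [Subgroup.coe_mul]
        have h3 : (y : G)⁻¹ * c⁻¹ * y * c ∈ R i := by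
          have h1 := inv_mem (hc (y : G) y.2)
          have e : (c⁻¹ * (y : G)⁻¹ * c * (y : G))⁻¹ = (y : G)⁻¹ * c⁻¹ * y * c := by group
          rwa [e] at h1
        have h4 := h.RQ i _ h3 z (S_le z.2)
        calc ((y : G) * z)⁻¹ * c⁻¹ * (y * z) * c
            = (z : G)⁻¹ * (((y : G)⁻¹ * c⁻¹ * y * c) * (c⁻¹ * z * c)) := by group
          _ = (z : G)⁻¹ * (((y : G)⁻¹ * c⁻¹ * y * c) * z) * ((z : G)⁻¹ * c⁻¹ * z * c) := by group
          _ = (z : G)⁻¹ * ((z : G) * ((y : G)⁻¹ * c⁻¹ * y * c)) * ((z : G)⁻¹ * c⁻¹ * z * c) := by rw [h4]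
          _ = _ := by group }
  have h1 : Nat.card (S V (R i)) = Nat.card ψ.ker * Nat.card ψ.range := by
    have h2 := ψ.ker.card_mul_index
    rw [index_ker] at h2
    exact h2.symm
  have h2 : Nat.card ψ.range ≤ Nat.card F := by
    rw [← h.cardR i]
    exact Subgroup.card_le_card_group _
  have h3 : Nat.card ψ.ker = Nat.card ↥(S V (R i) ⊓ centralizer ({c} : Set G)) := by
    have h4 : ψ.ker = (S V (R i) ⊓ centralizer ({c} : Set G)).subgroupOf (S V (R i)) := by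
      ext y
      rw [MonoidHom.mem_ker, mem_subgroupOf, mem_inf, mem_centralizer_singleton_iff]
      constructor
      · intro hy
        refine ⟨y.2, ?_⟩
        have h5 : (y : G)⁻¹ * c⁻¹ * y * c = 1 := congrArg Subtype.val hy
        have e : (y : G) * c = c * y * ((y : G)⁻¹ * c⁻¹ * y * c) := by group
        rw [e, h5, mul_one]
      · rintro ⟨-, hy⟩
        apply Subtype.ext
        show (y : G)⁻¹ * c⁻¹ * y * c = 1
        rw [mul_assoc, hy]; group
    rw [h4]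
    exact Nat.card_congr (subgroupOfEquivOfLe inf_le_left).toEquiv
  rw [h1, h3]
  exact Nat.mul_le_mul_left _ h2

include hij hadd hker hsur hmov

/-- an element of `D j` centralised by a `y` with `α y, β y ≠ 0` is `1` -/
theorem eq_one_of_comm {c y : G} (hc : c ∈ D V (R j)) (hy : y ∈ QQ (R i)) (ha : α y ≠ 0)
    (hb : β y ≠ 0) (hcy : c * y = y * c) : c = 1 := by
  obtain ⟨k, hjk, hm⟩ := hmov y hy ha hb
  refine h.D_inf hjk hc ?_
  have h1 := (Mv.D (h.Q_V i hy) hm c).1 hc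
  have h2 : y * c * y⁻¹ = c := by rw [← hcy, mul_inv_cancel_right]
  rwa [h2] at h1

/-- Step (4a), first part. -/
theorem four_a1 {c : G} (hc : c ∈ D V (R j)) (hX : ∀ y ∈ S V (R i), c⁻¹ * y⁻¹ * c * y ∈ R i) :
    (∀ y ∈ S V (R i), α y = 0 → c * y = y * c) ∨ (∀ y ∈ S V (R i), β y = 0 → c * y = y * c) := by
  by_cases hc1 : c = 1
  · left; intro y _ _; rw [hc1, one_mul, mul_one]
  set K := S V (R i) ⊓ centralizer ({c} : Set G) with hK
  have hKm : ∀ y, y ∈ K ↔ y ∈ S V (R i) ∧ c * y = y * c := by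
    intro y
    rw [hK, mem_inf, mem_centralizer_singleton_iff]
    exact and_congr_right fun _ => eq_comm
  have h1 : ∀ y ∈ K, α y = 0 ∨ β y = 0 := by
    intro y hy
    by_contra hcon
    push Not at hcon
    exact hc1 (h.eq_one_of_comm hij hadd hker hsur hmov hc (S_le ((hKm y).1 hy).1) hcon.1 hcon.2
      ((hKm y).1 hy).2)
  have h2 := h.card_com hX
  have hS : ∀ a b, ∃ y ∈ S V (R i), α y = a ∧ β y = b := h.surS hadd hker hsur
  -- `K` is in one of the two kernels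
  have h3 : (∀ y ∈ K, α y = 0) ∨ (∀ y ∈ K, β y = 0) := by
    by_contra hcon
    push Not at hcon
    obtain ⟨⟨y, hy, hya⟩, ⟨z, hz, hzb⟩⟩ := hcon
    have hyb := (h1 y hy).resolve_left hya
    have hza := (h1 z hz).resolve_right hzb
    have h4 := hadd y (S_le ((hKm y).1 hy).1) z (S_le ((hKm z).1 hz).1)
    rcases h1 _ (mul_mem hy hz) with h5 | h5
    · rw [h4.1, hza, add_zero] at h5; exact hya h5
    · rw [h4.2, hyb, zero_add] at h5; exact hzb h5
  rcases h3 with h3 | h3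
  · left
    intro y hy hy0
    have := card_ker h (S := S V (R i)) (f := α)
      (fun y hy y' hy' => (hadd y (S_le hy) y' (S_le hy')).1)
      (fun a => by obtain ⟨y, hy, ha, -⟩ := hS a 0; exact ⟨y, hy, ha⟩) K inf_le_left h3 (r := 0) h2 hy hy0
    exact ((hKm y).1 this).2
  · right
    intro y hy hy0
    have := card_ker h (S := S V (R i)) (f := β)
      (fun y hy y' hy' => (hadd y (S_le hy) y' (S_le hy')).2)
      (fun a => by obtain ⟨y, hy, -, ha⟩ := hS 0 a; exact ⟨y, hy, ha⟩) K inf_le_left h3 (r := 0) h2 hy hy0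
    exact ((hKm y).1 this).2

/-- Step (4a). -/
theorem four_a {s : G} (hs : s ∈ M) (hsi : Mv s (R i) (R i)) (hsj : Mv s (R j) (R j))
    (hsw : ∀ y ∈ QQ (R i), (α (s * y * s⁻¹) = 0 ↔ β y = 0) ∧ (β (s * y * s⁻¹) = 0 ↔ α y = 0))
    {c : G} (hc : c ∈ D V (R j)) (hX : ∀ y ∈ S V (R i), c⁻¹ * y⁻¹ * c * y ∈ R i) : c = 1 := by
  have hS : ∀ a b, ∃ y ∈ S V (R i), α y = a ∧ β y = b := h.surS hadd hker hsur
  -- the group `X`
  have hmul : ∀ c c' : G, c ∈ D V (R j) → (∀ y ∈ S V (R i), c⁻¹ * y⁻¹ * c * y ∈ R i) →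
      c' ∈ D V (R j) → (∀ y ∈ S V (R i), c'⁻¹ * y⁻¹ * c' * y ∈ R i) →
      ∀ y ∈ S V (R i), (c * c')⁻¹ * y⁻¹ * (c * c') * y ∈ R i := by
    intro c c' hc hX hc' hX' y hy
    have h1 := hX y hy
    have h2 := hX' y hy
    have h3 := mem_centralizer_iff.1 (h.D_V j hc') _ (h.R_le i h1)
    have e : (c * c')⁻¹ * y⁻¹ * (c * c') * y = (c⁻¹ * y⁻¹ * c * y) * (c'⁻¹ * y⁻¹ * c' * y) := by
      calc (c * c')⁻¹ * y⁻¹ * (c * c') * y
          = c'⁻¹ * ((c⁻¹ * y⁻¹ * c * y) * (y⁻¹ * c' * y)) := by group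
        _ = c'⁻¹ * ((c⁻¹ * y⁻¹ * c * y) * c') * (c'⁻¹ * y⁻¹ * c' * y) := by group
        _ = c'⁻¹ * (c' * (c⁻¹ * y⁻¹ * c * y)) * (c'⁻¹ * y⁻¹ * c' * y) := by rw [h3]
        _ = _ := by group
    rw [e]
    exact mul_mem h1 h2
  -- one alternative for all elements of `X`
  have hall : (∀ c ∈ D V (R j), (∀ y ∈ S V (R i), c⁻¹ * y⁻¹ * c * y ∈ R i) →
      ∀ y ∈ S V (R i), α y = 0 → c * y = y * c) ∨
      (∀ c ∈ D V (R j), (∀ y ∈ S V (R i), c⁻¹ * y⁻¹ * c * y ∈ R i) →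
      ∀ y ∈ S V (R i), β y = 0 → c * y = y * c) := by
    by_contra hcon
    push Not at hcon
    obtain ⟨⟨c1, hc1, hX1, y1, hy1, ha1, hn1⟩, ⟨c2, hc2, hX2, y2, hy2, hb2, hn2⟩⟩ := hcon
    have k1 := (h.four_a1 hij hadd hker hsur hmov hc1 hX1).resolve_left fun hh => hn1 (hh y1 hy1 ha1)
    have k2 := (h.four_a1 hij hadd hker hsur hmov hc2 hX2).resolve_right fun hh => hn2 (hh y2 hy2 hb2)
    rcases h.four_a1 hij hadd hker hsur hmov (mul_mem hc1 hc2) (hmul c1 c2 hc1 hX1 hc2 hX2) with k3 | k3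
    · apply hn1
      have e1 := k3 y1 hy1 ha1
      have e2 := k2 y1 hy1 ha1
      have : c1 * y1 * c2 = y1 * c1 * c2 := by
        calc c1 * y1 * c2 = c1 * (y1 * c2) := by group
          _ = c1 * (c2 * y1) := by rw [e2]
          _ = c1 * c2 * y1 := by group
          _ = y1 * (c1 * c2) := e1
          _ = _ := by group
      exact mul_right_cancel this
    · apply hn2
      have e1 := k3 y2 hy2 hb2
      have e2 := k1 y2 hy2 hb2
      have : c1 * (c2 * y2) = c1 * (y2 * c2) := by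
        calc c1 * (c2 * y2) = c1 * c2 * y2 := by group
          _ = y2 * (c1 * c2) := e1
          _ = (y2 * c1) * c2 := by group
          _ = (c1 * y2) * c2 := by rw [e2]
          _ = _ := by group
      exact mul_left_cancel this
  -- conjugation by `s`
  have hsV := h.M_V s hs
  have hsS : Mv s (S V (R i)) (S V (R i)) := Mv.S hsV hsi
  have hsD : Mv s (D V (R j)) (D V (R j)) := Mv.D hsV hsj
  have hcs : s⁻¹ * c * s ∈ D V (R j) := by
    have := (hsD.inv c).1 hc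
    rwa [inv_inv] at this
  have hys : ∀ y ∈ S V (R i), s⁻¹ * y * s ∈ S V (R i) := by
    intro y hy
    have := (hsS.inv y).1 hy
    rwa [inv_inv] at this
  have hXs : ∀ y ∈ S V (R i), (s⁻¹ * c * s)⁻¹ * y⁻¹ * (s⁻¹ * c * s) * y ∈ R i := by
    intro y hy
    have h1 := hX _ ((hsS y).1 hy)
    have h2 := (hsi.inv _).1 h1
    have e : s⁻¹ * (c⁻¹ * (s * y * s⁻¹)⁻¹ * c * (s * y * s⁻¹)) * s⁻¹⁻¹ =
      (s⁻¹ * c * s)⁻¹ * y⁻¹ * (s⁻¹ * c * s) * y := by group
    rwa [e] at h2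
  have back : ∀ y, (s⁻¹ * c * s) * (s⁻¹ * y * s) = (s⁻¹ * y * s) * (s⁻¹ * c * s) → c * y = y * c := by
    intro y hy
    calc c * y = s * ((s⁻¹ * c * s) * (s⁻¹ * y * s)) * s⁻¹ := by group
      _ = s * ((s⁻¹ * y * s) * (s⁻¹ * c * s)) * s⁻¹ := by rw [hy]
      _ = y * c := by group
  have hboth : (∀ y ∈ S V (R i), α y = 0 → c * y = y * c) ∧
      (∀ y ∈ S V (R i), β y = 0 → c * y = y * c) := by
    rcases hall with hall | hall
    · refine ⟨hall c hc hX, fun y hy hb => back y (hall _ hcs hXs _ (hys y hy) ?_)⟩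
      have h1 := (hsw _ (S_le (hys y hy))).2
      have e : s * (s⁻¹ * y * s) * s⁻¹ = y := by group
      rw [e] at h1
      exact h1.1 hb
    · refine ⟨fun y hy ha => back y (hall _ hcs hXs _ (hys y hy) ?_), hall c hc hX⟩
      have h1 := (hsw _ (S_le (hys y hy))).1
      have e : s * (s⁻¹ * y * s) * s⁻¹ = y := by group
      rw [e] at h1
      exact h1.1 ha
  obtain ⟨y, hy, ha, hb⟩ := hS 1 1
  obtain ⟨z, hz, hza, hzb⟩ := hS 0 1
  have hzy : β (z⁻¹ * y) = 0 := by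
    have h1 := (hadd z (S_le hz) _ (mul_mem (inv_mem (S_le hz)) (S_le hy))).2
    have e : z * (z⁻¹ * y) = y := by group
    rw [e, hb, hzb] at h1
    exact left_eq_add.1 h1
  have c1 := hboth.1 z hz hza
  have c2 := hboth.2 _ (mul_mem (inv_mem hz) hy) hzy
  refine h.eq_one_of_comm hij hadd hker hsur hmov hc (S_le hy) (by rw [ha]; exact one_ne_zero)
    (by rw [hb]; exact one_ne_zero) ?_
  calc c * y = (c * z) * (z⁻¹ * y) := by group
    _ = z * (c * (z⁻¹ * y)) := by rw [c1]; group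
    _ = z * ((z⁻¹ * y) * c) := by rw [c2]
    _ = y * c := by group

end four

/-- Step (4a), final form. -/
theorem step_a {i j : I} (hij : op i j) {c : G} (hc : c ∈ D V (R j))
    (hX : ∀ y ∈ S V (R i), c⁻¹ * y⁻¹ * c * y ∈ R i) : c = 1 := by
  obtain ⟨α, β, hadd, hker, hsur, hmov, s, hs, hsi, hsj, hsw⟩ := h.half i j hij
  exact h.four_a hij hadd hker hsur hmov hs hsi hsj hsw hc hX

/-- Step (4b). -/
theorem D_Q {i j : I} (hij : op i j) {d : G} (hd : d ∈ D V (R j)) (hdi : d ∈ QQ (R i)) : d = 1 := by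
  refine h.step_a hij hd fun y hy => ?_
  have h1 := inv_mem (h.SQ i hy hdi)
  have e : (y⁻¹ * d⁻¹ * y * d)⁻¹ = d⁻¹ * y⁻¹ * d * y := by group
  rwa [e] at h1

/-- Step (4c). -/
theorem D_c {i j : I} (hij : op i j) {d : G} (hd : d ∈ D V (R j)) {n : G} (hn : n ∈ S V (R i))
    (hnV : n ∈ centralizer (V : Set G)) : d * n = n * d := by
  have h1 : d * n * d⁻¹ * n⁻¹ ∈ D V (R j) := by
    have : d * n * d⁻¹ * n⁻¹ = d * (n * d⁻¹ * n⁻¹) := by group
    rw [this]
    exact mul_mem hd (D_nor (h.cV_nor j hnV) (inv_mem hd))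
  have h2 : d * n * d⁻¹ * n⁻¹ ∈ QQ (R i) :=
    mul_mem (S_le (S_nor (h.cV_nor i (h.D_V j hd)) hn)) (inv_mem (S_le hn))
  have h3 := h.D_Q hij h1 h2
  calc d * n = (d * n * d⁻¹ * n⁻¹) * (n * d) := by group
    _ = n * d := by rw [h3, one_mul]

/-- Step (4d). -/
theorem D_sq (j : I) {d : G} (hd : d ∈ D V (R j)) : d * d = 1 := by
  obtain ⟨i, hji, -⟩ := h.conn j j
  have hij := h.symm _ _ hji
  obtain ⟨α, β, hadd, hker, hsur, hmov, s, hs, hsi, hsj, hsw⟩ := h.half i j hij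
  obtain ⟨t, ht0, ht1⟩ := h.three
  have hS : ∀ a b, ∃ y ∈ S V (R i), α y = a ∧ β y = b := h.surS hadd hker hsur
  have hdV := h.D_V j hd
  have hdN := h.cV_nor i hdV
  have hinv : ∀ y ∈ QQ (R i), (α y ≠ 0 → α y⁻¹ ≠ 0) ∧ (β y ≠ 0 → β y⁻¹ ≠ 0) := by
    intro y hy
    have h1 := hadd y hy y⁻¹ (inv_mem hy)
    have h0 := (hker 1 (one_mem _)).1 (one_mem _)
    rw [mul_inv_cancel, h0.1, h0.2] at h1
    exact ⟨fun ha hb => ha (by rw [hb, add_zero] at h1; exact h1.1.symm),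
      fun ha hb => ha (by rw [hb, add_zero] at h1; exact h1.2.symm)⟩
  -- elements with `α y, β y ≠ 0`
  have step1 : ∀ y ∈ S V (R i), α y ≠ 0 → β y ≠ 0 → (d * d)⁻¹ * y⁻¹ * (d * d) * y ∈ R i := by
    intro y hy ha hb
    have hyQ := S_le hy
    obtain ⟨k, hjk, hm⟩ := hmov y⁻¹ (inv_mem hyQ) ((hinv y hyQ).1 ha) ((hinv y hyQ).2 hb)
    have hu : y⁻¹ * d * y ∈ D V (R k) := by
      have := (Mv.D (h.Q_V i (inv_mem hyQ)) hm d).1 hd
      rwa [inv_inv] at this
    have hcom := h.D_comm hjk hd hu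
    have hcS : d⁻¹ * (y⁻¹ * d * y) ∈ S V (R i) := by
      have e : d⁻¹ * (y⁻¹ * d * y) = (d⁻¹ * y⁻¹ * d⁻¹⁻¹) * y := by group
      rw [e]
      exact mul_mem (S_nor (inv_mem hdN) (inv_mem hy)) hy
    have h1 := h.S_sq i hcS
    have e : (d * d)⁻¹ * y⁻¹ * (d * d) * y = d⁻¹ * (y⁻¹ * d * y) * (d⁻¹ * (y⁻¹ * d * y)) := by
      have hcom' : d⁻¹ * (y⁻¹ * d * y) = (y⁻¹ * d * y) * d⁻¹ := by
        rw [inv_mul_eq_iff_eq_mul, ← mul_assoc, hcom, mul_inv_cancel_right]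
      calc (d * d)⁻¹ * y⁻¹ * (d * d) * y = d⁻¹ * (d⁻¹ * (y⁻¹ * d * y)) * (y⁻¹ * d * y) := by group
        _ = d⁻¹ * ((y⁻¹ * d * y) * d⁻¹) * (y⁻¹ * d * y) := by rw [hcom']
        _ = _ := by group
    rw [e]
    exact h1
  have step0 : ∀ y ∈ S V (R i), y ∈ centralizer (V : Set G) →
      (d * d)⁻¹ * y⁻¹ * (d * d) * y ∈ R i := by
    intro y hy hyV
    have h1 := h.D_c hij (mul_mem hd hd) hy hyV
    have e : (d * d)⁻¹ * y⁻¹ * (d * d) * y = (d * d)⁻¹ * y⁻¹ * ((d * d) * y) := by group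
    rw [e, h1]
    have e2 : (d * d)⁻¹ * y⁻¹ * (y * (d * d)) = 1 := by group
    rw [e2]
    exact one_mem _
  have stepm : ∀ y ∈ S V (R i), ∀ z ∈ S V (R i), (d * d)⁻¹ * y⁻¹ * (d * d) * y ∈ R i →
      (d * d)⁻¹ * z⁻¹ * (d * d) * z ∈ R i →
      (d * d)⁻¹ * (y * z)⁻¹ * (d * d) * (y * z) ∈ R i := by
    intro y hy z hz h1 h2
    have h3 := h.RQ i _ h1 z (S_le hz)
    have e : (d * d)⁻¹ * (y * z)⁻¹ * (d * d) * (y * z) =
        ((d * d)⁻¹ * z⁻¹ * (d * d) * z) * ((d * d)⁻¹ * y⁻¹ * (d * d) * y) := by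
      calc (d * d)⁻¹ * (y * z)⁻¹ * (d * d) * (y * z)
          = ((d * d)⁻¹ * z⁻¹ * (d * d)) * (((d * d)⁻¹ * y⁻¹ * (d * d) * y) * z) := by group
        _ = ((d * d)⁻¹ * z⁻¹ * (d * d)) * (z * ((d * d)⁻¹ * y⁻¹ * (d * d) * y)) := by rw [h3]
        _ = _ := by group
    rw [e]
    exact mul_mem h2 h1
  refine h.step_a hij (mul_mem hd hd) fun y hy => ?_
  by_cases ha : α y = 0
  · by_cases hb : β y = 0
    · exact step0 y hy ((hker y (S_le hy)).2 ⟨ha, hb⟩)
    · -- `y = z (z⁻¹ y)`, `α z = 1`, `β z = x ≠ 0, β y`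
      obtain ⟨x, hx0, hx1⟩ : ∃ x : F, x ≠ 0 ∧ x ≠ β y := by
        by_cases h1 : β y = 1
        · exact ⟨t, ht0, by rw [h1]; exact ht1⟩
        · exact ⟨1, one_ne_zero, fun h2 => h1 h2.symm⟩
      obtain ⟨z, hz, hza, hzb⟩ := hS 1 x
      have h1 := hadd z (S_le hz) _ (mul_mem (inv_mem (S_le hz)) (S_le hy))
      have e : z * (z⁻¹ * y) = y := by group
      rw [e, hza, hzb, ha] at h1
      have h2 := stepm z hz (z⁻¹ * y) (mul_mem (inv_mem hz) hy)
        (step1 z hz (by rw [hza]; exact one_ne_zero) (by rw [hzb]; exact hx0))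
        (step1 _ (mul_mem (inv_mem hz) hy)
          (fun h3 => by rw [h3, add_zero] at h1; exact one_ne_zero h1.1.symm)
          (fun h3 => by rw [h3, add_zero] at h1; exact hx1 h1.2.symm))
      rwa [e] at h2
  · by_cases hb : β y = 0
    · obtain ⟨x, hx0, hx1⟩ : ∃ x : F, x ≠ 0 ∧ x ≠ α y := by
        by_cases h1 : α y = 1
        · exact ⟨t, ht0, by rw [h1]; exact ht1⟩
        · exact ⟨1, one_ne_zero, fun h2 => h1 h2.symm⟩
      obtain ⟨z, hz, hza, hzb⟩ := hS x 1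
      have h1 := hadd z (S_le hz) _ (mul_mem (inv_mem (S_le hz)) (S_le hy))
      have e : z * (z⁻¹ * y) = y := by group
      rw [e, hza, hzb, hb] at h1
      have h2 := stepm z hz (z⁻¹ * y) (mul_mem (inv_mem hz) hy)
        (step1 z hz (by rw [hza]; exact hx0) (by rw [hzb]; exact one_ne_zero))
        (step1 _ (mul_mem (inv_mem hz) hy)
          (fun h3 => by rw [h3, add_zero] at h1; exact hx1 h1.1.symm)
          (fun h3 => by rw [h3, add_zero] at h1; exact one_ne_zero h1.2.symm))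
      rwa [e] at h2
    · exact step1 y hy ha hb

/-! ### The structure `Beta.Pre` -/

/-- `Beta.Pre` for a family of pairwise opposite points, `D_k` given. -/
theorem pre_of {J : Type*} (ι : J → I) (hι : ∀ a b, a ≠ b → op (ι a) (ι b))
    (hk : ∀ i j : J, i ≠ j → ∀ d ∈ QQ (R (ι j)) ⊓ centralizer (S V (R (ι j)) : Set G),
      ∀ y ∈ S V (R (ι i)), (y⁻¹ * d⁻¹ * y * d) * (y⁻¹ * d⁻¹ * y * d) = 1) :
    Beta.Pre V (fun a => R (ι a)) (fun a => QQ (R (ι a))) (fun a => S V (R (ι a))) where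
  V_comm := h.comm
  V_sq := h.sq
  R_le a := h.R_le _
  R_Q a := h.R_Q _
  RQ a := h.RQ _
  ne a := h.ne _
  two a := Cfsg.Agent.ZN.isPGroup_o2 _
  Q_V a y hy := (h.Q_V _ hy).mem_nor
  nor a c hc y hy := Q_nor hc hy
  max a N hN hle hn := Cfsg.Agent.ZN.le_o2 hle hN fun c hc => by
    refine Mv.mem_nor fun x => ⟨fun hx => hn c hc x hx, fun hx => ?_⟩
    have := hn c⁻¹ (inv_mem hc) _ hx
    have e : c⁻¹ * (c * x * c⁻¹) * c⁻¹⁻¹ = x := by group
    rwa [e] at this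
  char2 a := h.char2 _
  EQs a := h.EQs _
  cenR a := h.cenR _
  cardE a := h.cardE _
  alt a b hab := h.alt _ _ (hι a b hab)
  S_cen a y hy := by
    rw [S, nc, centralizer_closure, mem_centralizer_iff]
    rintro _ ⟨c, hc, e, he, rfl⟩
    exact hy c hc e he
  S_nor a c hc n hn := S_nor hc hn
  S_le a := S_le
  E_le a := E_le
  SQ a n hn y hy := h.SQ _ hn hy
  S_sq a n hn := h.S_sq _ hn
  cover a y hy := h.cover _ hy
  D_V a y hy := h.D_V _ hy
  D_comm a b hab x hx y hy := h.D_comm (hι a b hab) hx hy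
  D_Q a b hab d hd hdi := h.D_Q (hι a b hab) hd hdi
  D_c a b hab d hd n hn hnV := h.D_c (hι a b hab) hd hn hnV
  D_sq a d hd := h.D_sq _ hd
  D_k := hk

/-- `Beta.Pre` for one point. -/
theorem pre1 (i : I) : Beta.Pre V (fun _ : Unit => R i) (fun _ => QQ (R i)) (fun _ => S V (R i)) :=
  h.pre_of (fun _ : Unit => i) (fun a b hab => absurd rfl hab) (fun a b hab => absurd rfl hab)

/-- `D_k` (helper410's form of (6)). -/
theorem D_k {i j : I} (hij : op i j) {d : G} (hd : d ∈ D V (R j)) {y : G} (hy : y ∈ S V (R i)) :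
    (y⁻¹ * d⁻¹ * y * d) * (y⁻¹ * d⁻¹ * y * d) = 1 := by
  have hdV := h.D_V j hd
  have hdN := h.cV_nor i hdV
  set k := y⁻¹ * d⁻¹ * y * d with hk
  have hks : k ∈ S V (R i) := by
    have e : k = y⁻¹ * (d⁻¹ * y * d⁻¹⁻¹) := by rw [hk]; group
    rw [e]
    exact mul_mem (inv_mem hy) (S_nor (inv_mem hdN) hy)
  -- `k` commutes with `S ∩ C(V)`
  have hkc : ∀ c ∈ S V (R i), c ∈ centralizer (V : Set G) → k * c = c * k := by
    intro c hc hcV
    have h1 : y⁻¹ * c⁻¹ * y * c ∈ R i := h.SQ i hy (S_le hc)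
    have h2 := mem_centralizer_iff.1 hdV _ (h.R_le i h1)
    have h3 := h.D_c hij hd hc hcV
    have h4 := h.RQ i _ h1 _ (S_le hks)
    have h5 : y⁻¹ * c⁻¹ * y * c = (y * k)⁻¹ * c⁻¹ * (y * k) * c := by
      have e1 : y⁻¹ * c⁻¹ * y * c = d⁻¹ * (y⁻¹ * c⁻¹ * y * c) * d := by
        rw [mul_assoc d⁻¹, h2]; group
      have e2 : d⁻¹ * c * d = c := by
        rw [mul_assoc, ← h3]; group
      have e3 : y * k = d⁻¹ * y * d := by rw [hk]; group
      have e4 : d⁻¹ * (y⁻¹ * c⁻¹ * y * c) * d =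
          (d⁻¹ * y * d)⁻¹ * (d⁻¹ * c * d)⁻¹ * (d⁻¹ * y * d) * (d⁻¹ * c * d) := by group
      rw [e1, e4, e2, e3]
    have h6 : (y * k)⁻¹ * c⁻¹ * (y * k) * c =
        (y⁻¹ * c⁻¹ * y * c) * (k⁻¹ * c⁻¹ * k * c) := by
      calc (y * k)⁻¹ * c⁻¹ * (y * k) * c
          = k⁻¹ * ((y⁻¹ * c⁻¹ * y * c) * (c⁻¹ * k * c)) := by group
        _ = k⁻¹ * ((y⁻¹ * c⁻¹ * y * c) * k * (k⁻¹ * c⁻¹ * k * c)) := by group
        _ = k⁻¹ * (k * (y⁻¹ * c⁻¹ * y * c) * (k⁻¹ * c⁻¹ * k * c)) := by rw [h4]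
        _ = _ := by group
    rw [h6] at h5
    have h7 : k⁻¹ * c⁻¹ * k * c = 1 := by
      have := h5.symm
      rwa [mul_eq_left] at this
    have h8 : k * c = c * k * (k⁻¹ * c⁻¹ * k * c) := by group
    rw [h8, h7, mul_one]
  obtain ⟨e, he, hec⟩ := (h.pre1 i).F_le (i := ()) hks hkc
  have heS : e ∈ S V (R i) := E_le he
  have heD : e⁻¹ * k ∈ D V (R i) := ⟨S_le (mul_mem (inv_mem heS) hks), hec⟩
  have h1 := h.D_sq i heD
  have h2 := mem_centralizer_iff.1 hec e heS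
  calc k * k = e * ((e⁻¹ * k) * e) * (e⁻¹ * k) := by group
    _ = e * (e * (e⁻¹ * k)) * (e⁻¹ * k) := by rw [← h2]
    _ = (e * e) * ((e⁻¹ * k) * (e⁻¹ * k)) := by group
    _ = 1 := by rw [h1, h.sq e he.1, one_mul]

/-- `Beta.Pre` for a family of pairwise opposite points. -/
theorem pre {J : Type*} (ι : J → I) (hι : ∀ a b, a ≠ b → op (ι a) (ι b)) :
    Beta.Pre V (fun a => R (ι a)) (fun a => QQ (R (ι a))) (fun a => S V (R (ι a))) :=
  h.pre_of ι hι fun a b hab _ hd _ hy => h.D_k (hι a b hab) hd hy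

/-- **THEOREM BETA for type (γ)**: `Q = O₂(N_G(R))` is semi-extraspecial with centre `R`. -/
theorem result (i : I) : QQ (R i) = S V (R i) ∧
    QQ (R i) ⊓ centralizer (QQ (R i) : Set G) = R i ∧
    (∀ x ∈ QQ (R i), ∀ y ∈ QQ (R i), x⁻¹ * y⁻¹ * x * y ∈ R i) ∧ (∀ x ∈ QQ (R i), x * x ∈ R i) ∧
    (∀ y ∈ QQ (R i), y ∉ R i → ∀ r ∈ R i, ∃ n ∈ QQ (R i), n⁻¹ * y⁻¹ * n * y = r) := by
  obtain ⟨j, hij, -⟩ := h.conn i i
  have hji := h.symm _ _ hij
  have hp := h.pre (J := Bool) (fun b => if b then i else j) (by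
    intro a b hab
    cases a <;> cases b <;> simp_all)
  exact hp.result (fun b => ⟨!b, by cases b <;> simp⟩) true

/-- `D = R` -/
theorem D_eq (i : I) : D V (R i) = R i := by
  obtain ⟨h1, h2, -⟩ := h.result i
  have e : D V (R i) = QQ (R i) ⊓ centralizer (S V (R i) : Set G) := rfl
  rw [e, ← h1, h2]

end Bp

end Cfsg.Agent.Omega.NO1.BetaPlus

end

end

-- merged: Cfsg.Agent.Mrg.Omega.NO1.Tens.Group
section

section


/-!
# Type (γ) of the leaf N1: from `PlusQ F N V` to the matrices (helper914)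

`D.v X ∈ V` has matrix `X`; `D.act g X = e (g v(X) g⁻¹)` for `g ∈ N`; `D.R0`, `D.R3` : the points `F E₁₁`, `F E₂₂`;
`D.conj m` : the coordinates conjugated by `m ∈ N`.
-/

set_option autoImplicit false
set_option linter.unusedSectionVars false

namespace Cfsg.Agent.Omega.NO1.PlusQ

open Subgroup Cfsg Matrix
open Cfsg.Agent.Omega.NO1.Tens
open Cfsg.Agent.Omega.NO1.BetaPlus (Mv QQ)

universe u

variable {G : Type u} [Group G] {F : Type} [Field F] {N V : Subgroup G}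

variable (D : PlusQ F N V)

theorem e_one : D.e 1 = 0 := by
  have := D.mul 1 (one_mem _) 1 (one_mem _)
  rw [one_mul] at this
  exact left_eq_add.1 this

theorem e_inj {x y : G} (hx : x ∈ V) (hy : y ∈ V) (h : D.e x = D.e y) : x = y := by
  have h1 := D.mul (x * y⁻¹) (mul_mem hx (inv_mem hy)) y hy
  rw [inv_mul_cancel_right, h] at h1
  have h2 := D.ker _ (mul_mem hx (inv_mem hy)) (right_eq_add.1 h1)
  exact mul_inv_eq_one.1 h2

theorem e_inv {x : G} (hx : x ∈ V) : D.e x⁻¹ = - D.e x := by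
  have h1 := D.mul x hx x⁻¹ (inv_mem hx)
  rw [mul_inv_cancel, D.e_one] at h1
  exact (neg_eq_of_add_eq_zero_right h1.symm).symm

/-- the element of `V` with matrix `X` -/
noncomputable def v (X : M2 F) : G := (D.surj X).choose

theorem v_mem (X : M2 F) : D.v X ∈ V := (D.surj X).choose_spec.1

@[simp] theorem e_v (X : M2 F) : D.e (D.v X) = X := (D.surj X).choose_spec.2

theorem v_e {w : G} (hw : w ∈ V) : D.v (D.e w) = w := D.e_inj (D.v_mem _) hw (D.e_v _)

theorem v_add (X Y : M2 F) : D.v (X + Y) = D.v X * D.v Y :=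
  D.e_inj (D.v_mem _) (mul_mem (D.v_mem _) (D.v_mem _)) (by
    rw [D.mul _ (D.v_mem _) _ (D.v_mem _), D.e_v, D.e_v, D.e_v])

theorem v_zero : D.v 0 = 1 := D.e_inj (D.v_mem _) (one_mem _) (by rw [D.e_v, D.e_one])

theorem v_inj {X Y : M2 F} (h : D.v X = D.v Y) : X = Y := by
  rw [← D.e_v X, h, D.e_v]

/-- the action of `g ∈ N` on the matrices -/
noncomputable def act (g : G) (X : M2 F) : M2 F := D.e (g * D.v X * g⁻¹)

variable {D}

section act

variable (hN : ∀ m ∈ N, Mv m V V)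
include hN

theorem v_act {g : G} (hg : g ∈ N) (X : M2 F) : D.v (D.act g X) = g * D.v X * g⁻¹ :=
  D.v_e ((hN g hg _).1 (D.v_mem X))

theorem act_e {g : G} (hg : g ∈ N) {w : G} (hw : w ∈ V) : D.act g (D.e w) = D.e (g * w * g⁻¹) := by
  have _ := hN g hg
  rw [act, D.v_e hw]

theorem act_mul {g h : G} (hg : g ∈ N) (hh : h ∈ N) (X : M2 F) :
    D.act (g * h) X = D.act g (D.act h X) := by
  have _ := hg
  have e : g * h * D.v X * (g * h)⁻¹ = g * (h * D.v X * h⁻¹) * g⁻¹ := by group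
  rw [act, act, v_act hN hh, e]

theorem act_inv_act {g : G} (hg : g ∈ N) (X : M2 F) : D.act g⁻¹ (D.act g X) = X := by
  rw [← act_mul hN (inv_mem hg) hg, inv_mul_cancel, act]
  have e : 1 * D.v X * (1 : G)⁻¹ = D.v X := by group
  rw [e, D.e_v]

theorem act_act_inv {g : G} (hg : g ∈ N) (X : M2 F) : D.act g (D.act g⁻¹ X) = X := by
  have := act_inv_act hN (inv_mem hg) (D := D) X
  rwa [inv_inv] at this

theorem act_add {g : G} (hg : g ∈ N) (X Y : M2 F) : D.act g (X + Y) = D.act g X + D.act g Y := by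
  have e : g * (D.v X * D.v Y) * g⁻¹ = (g * D.v X * g⁻¹) * (g * D.v Y * g⁻¹) := by group
  rw [act, D.v_add, e, D.mul _ ((hN g hg _).1 (D.v_mem X)) _ ((hN g hg _).1 (D.v_mem Y))]
  rfl

theorem act_pow {g : G} (hg : g ∈ N) (n : ℕ) (X : M2 F) : (D.act g)^[n] X = D.act (g ^ n) X := by
  induction n generalizing X with
  | zero =>
    rw [Function.iterate_zero, id, pow_zero, act]
    have e : 1 * D.v X * (1 : G)⁻¹ = D.v X := by group
    rw [e, D.e_v]
  | succ n ih => rw [Function.iterate_succ_apply, ih, pow_succ, act_mul hN (pow_mem hg n) hg]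

theorem lift_act (A B : SL F) : ∃ h ∈ N, ∀ X, D.act h X = Tens.act A B X := by
  have _ := hN
  obtain ⟨h, hh, h1⟩ := D.lift A B
  exact ⟨h, hh, fun X => by rw [act, h1 _ (D.v_mem X), D.e_v]; rfl⟩

theorem nm {g : G} (hg : g ∈ N) : Nm (D.act g) (D.act g⁻¹) := by
  have key : ∀ g ∈ N, ∀ A B : SL F, ∃ A' B' : SL F, ∀ X,
      D.act g (Tens.act A B X) = Tens.act A' B' (D.act g X) := by
    intro g hg A B
    obtain ⟨h, hh, h1⟩ := lift_act hN (D := D) A B
    obtain ⟨A', B', h2⟩ := D.norm g hg h hh A B (fun v hv => by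
      have := h1 (D.e v)
      rw [act_e hN hh hv] at this
      exact this)
    refine ⟨A', B', fun X => ?_⟩
    have h3 := h2 _ (D.v_mem (D.act g X))
    rw [D.e_v] at h3
    rw [← h1, ← act_mul hN hg hh]
    have h4 : D.act (g * h) X = D.act (g * h * g⁻¹) (D.act g X) := by
      rw [← act_mul hN (mul_mem (mul_mem hg hh) (inv_mem hg)) hg]
      congr 1; group
    rw [h4]
    exact h3
  exact ⟨act_add hN hg, act_inv_act hN hg, act_act_inv hN hg, key g hg, key g⁻¹ (inv_mem hg)⟩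

theorem act_one_iff {g : G} (hg : g ∈ N) : (∀ X, D.act g X = X) ↔ g ∈ centralizer (V : Set G) := by
  rw [mem_centralizer_iff]
  constructor
  · intro h w hw
    have h1 := h (D.e w)
    rw [act_e hN hg hw] at h1
    have h2 := D.e_inj ((hN g hg _).1 hw) hw h1
    calc w * g = (g * w * g⁻¹) * g := by rw [h2]
      _ = g * w := by group
  · intro h X
    have h1 := h (D.v X) (D.v_mem X)
    rw [act, ← h1, mul_inv_cancel_right, D.e_v]

end act

/-! ### The two base points -/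

variable (D)

/-- the point `0 = F E₁₁` -/
def R0 : Subgroup G where
  carrier := {w | w ∈ V ∧ ∃ c, D.e w = e0 c}
  one_mem' := ⟨one_mem _, 0, by rw [D.e_one, e0_zero]⟩
  mul_mem' := by
    rintro x y ⟨hx, c, hc⟩ ⟨hy, d, hd⟩
    exact ⟨mul_mem hx hy, c + d, by rw [D.mul x hx y hy, hc, hd, e0_add]⟩
  inv_mem' := by
    rintro x ⟨hx, c, hc⟩
    refine ⟨inv_mem hx, -c, ?_⟩
    rw [D.e_inv hx, hc]
    apply ext2 <;> simp [e0]

/-- the point `∞ = F E₂₂` -/
def R3 : Subgroup G where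
  carrier := {w | w ∈ V ∧ ∃ c, D.e w = e3 c}
  one_mem' := ⟨one_mem _, 0, by rw [D.e_one, e3_zero]⟩
  mul_mem' := by
    rintro x y ⟨hx, c, hc⟩ ⟨hy, d, hd⟩
    exact ⟨mul_mem hx hy, c + d, by rw [D.mul x hx y hy, hc, hd, e3_add]⟩
  inv_mem' := by
    rintro x ⟨hx, c, hc⟩
    refine ⟨inv_mem hx, -c, ?_⟩
    rw [D.e_inv hx, hc]
    apply ext2 <;> simp [e3]

variable {D}

theorem mem_R0 {w : G} : w ∈ D.R0 ↔ w ∈ V ∧ ∃ c, D.e w = e0 c := Iff.rfl

theorem mem_R3 {w : G} : w ∈ D.R3 ↔ w ∈ V ∧ ∃ c, D.e w = e3 c := Iff.rfl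

theorem v_e0 (c : F) : D.v (e0 c) ∈ D.R0 := ⟨D.v_mem _, c, D.e_v _⟩

theorem v_e3 (c : F) : D.v (e3 c) ∈ D.R3 := ⟨D.v_mem _, c, D.e_v _⟩

theorem R0_le : D.R0 ≤ V := fun _ hw => hw.1

theorem card_R0 : Nat.card D.R0 = Nat.card F := by
  refine Nat.card_congr (Equiv.ofBijective (fun w : D.R0 => D.e w 0 0) ⟨?_, ?_⟩)
  · rintro ⟨x, hx, c, hc⟩ ⟨y, hy, d, hd⟩ hxy
    apply Subtype.ext
    refine D.e_inj hx hy ?_
    have h1 : D.e x 0 0 = D.e y 0 0 := hxy
    rw [hc, hd] at h1 ⊢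
    simp [e0] at h1
    rw [h1]
  · intro c
    exact ⟨⟨D.v (e0 c), v_e0 c⟩, by simp [e0]⟩

theorem _root_.Cfsg.Agent.Omega.NO1.BetaPlus.Mv.of_le [Finite G] {g : G} {A B : Subgroup G}
    (h : ∀ a ∈ A, g * a * g⁻¹ ∈ B) (hc : Nat.card B ≤ Nat.card A) : Mv g A B := by
  have h1 : A.map (MulAut.conj g).toMonoidHom ≤ B := by
    rintro _ ⟨a, ha, rfl⟩
    exact h a ha
  have h2 : Nat.card (A.map (MulAut.conj g).toMonoidHom) = Nat.card A :=
    Nat.card_congr (A.equivMapOfInjective _ (MulAut.conj g).injective).toEquiv.symm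
  have h3 : A.map (MulAut.conj g).toMonoidHom = B := eq_of_le_of_card_ge h1 (by rw [h2]; exact hc)
  intro x
  refine ⟨fun hx => h x hx, fun hx => ?_⟩
  rw [← h3] at hx
  obtain ⟨a, ha, hax⟩ := hx
  have : g * a * g⁻¹ = g * x * g⁻¹ := hax
  have h4 : a = x := by
    have := mul_right_cancel this
    exact mul_left_cancel this
  rwa [← h4]

section

variable [Finite G] (hN : ∀ m ∈ N, Mv m V V)
include hN

/-- `g` normalises `R0` iff it fixes the point `0` -/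
theorem fix_iff {g : G} (hg : g ∈ N) : Mv g D.R0 D.R0 ↔ ∀ x, ∃ y, D.act g (e0 x) = e0 y := by
  constructor
  · intro h x
    obtain ⟨-, y, hy⟩ := (h _).1 (v_e0 x)
    exact ⟨y, hy⟩
  · intro h
    refine Mv.of_le ?_ le_rfl
    rintro w ⟨hw, c, hc⟩
    refine ⟨(hN g hg w).1 hw, ?_⟩
    obtain ⟨y, hy⟩ := h c
    exact ⟨y, by rw [← hy, ← hc, act_e hN hg hw]⟩

end

/-- The coordinates conjugated by `m ∈ N`. -/
noncomputable def conj (D : PlusQ F N V) (hN : ∀ m ∈ N, Mv m V V) (m : G) (hm : m ∈ N) : PlusQ F N V where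
  e x := D.e (m⁻¹ * x * m)
  mul v hv w hw := by
    have h1 : m⁻¹ * v * m ∈ V := by
      have := ((hN m hm).inv v).1 hv; rwa [inv_inv] at this
    have h2 : m⁻¹ * w * m ∈ V := by
      have := ((hN m hm).inv w).1 hw; rwa [inv_inv] at this
    rw [← D.mul _ h1 _ h2]
    congr 1; group
  surj X := ⟨m * D.v X * m⁻¹, (hN m hm _).1 (D.v_mem X), by
    have e : m⁻¹ * (m * D.v X * m⁻¹) * m = D.v X := by group
    rw [e, D.e_v]⟩
  ker v hv h := by
    have h1 : m⁻¹ * v * m ∈ V := by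
      have := ((hN m hm).inv v).1 hv; rwa [inv_inv] at this
    have h2 := D.ker _ h1 h
    have e : v = m * (m⁻¹ * v * m) * m⁻¹ := by group
    rw [e, h2]; group
  lift A B := by
    obtain ⟨g, hg, h⟩ := D.lift A B
    refine ⟨m * g * m⁻¹, mul_mem (mul_mem hm hg) (inv_mem hm), fun v hv => ?_⟩
    have h1 : m⁻¹ * v * m ∈ V := by
      have := ((hN m hm).inv v).1 hv; rwa [inv_inv] at this
    rw [← h _ h1]
    congr 1; group
  norm g hg h hh A B hAB := by
    have key : ∀ v ∈ V, D.e ((m⁻¹ * h * m) * v * (m⁻¹ * h * m)⁻¹) = A.1 * D.e v * B.1.transpose := by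
      intro v hv
      have h1 := hAB (m * v * m⁻¹) ((hN m hm _).1 hv)
      have e1 : m⁻¹ * (h * (m * v * m⁻¹) * h⁻¹) * m = (m⁻¹ * h * m) * v * (m⁻¹ * h * m)⁻¹ := by group
      have e2 : m⁻¹ * (m * v * m⁻¹) * m = v := by group
      rw [e1, e2] at h1
      exact h1
    obtain ⟨A', B', h2⟩ := D.norm (m⁻¹ * g * m) (mul_mem (mul_mem (inv_mem hm) hg) hm) (m⁻¹ * h * m)
      (mul_mem (mul_mem (inv_mem hm) hh) hm) A B key
    refine ⟨A', B', fun v hv => ?_⟩
    have h1 : m⁻¹ * v * m ∈ V := by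
      have := ((hN m hm).inv v).1 hv; rwa [inv_inv] at this
    rw [← h2 _ h1]
    congr 1; group
  swap := by
    obtain ⟨s, hs, h⟩ := D.swap
    refine ⟨m * s * m⁻¹, mul_mem (mul_mem hm hs) (inv_mem hm), fun g hg A hA => ?_⟩
    have key : ∀ v ∈ V, D.e ((m⁻¹ * g * m) * v * (m⁻¹ * g * m)⁻¹) = A.1 * D.e v := by
      intro v hv
      have h1 := hA (m * v * m⁻¹) ((hN m hm _).1 hv)
      have e1 : m⁻¹ * (g * (m * v * m⁻¹) * g⁻¹) * m = (m⁻¹ * g * m) * v * (m⁻¹ * g * m)⁻¹ := by group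
      have e2 : m⁻¹ * (m * v * m⁻¹) * m = v := by group
      rw [e1, e2] at h1
      exact h1
    obtain ⟨B, h2⟩ := h (m⁻¹ * g * m) (mul_mem (mul_mem (inv_mem hm) hg) hm) A key
    refine ⟨B, fun v hv => ?_⟩
    have h1 : m⁻¹ * v * m ∈ V := by
      have := ((hN m hm).inv v).1 hv; rwa [inv_inv] at this
    rw [← h2 _ h1]
    congr 1; group

theorem conj_e (hN : ∀ m ∈ N, Mv m V V) {m : G} (hm : m ∈ N) (x : G) :
    (D.conj hN m hm).e x = D.e (m⁻¹ * x * m) := rfl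

theorem conj_v (hN : ∀ m ∈ N, Mv m V V) {m : G} (hm : m ∈ N) (X : M2 F) :
    (D.conj hN m hm).v X = m * D.v X * m⁻¹ := by
  refine (D.conj hN m hm).e_inj (v_mem _ _) ((hN m hm _).1 (D.v_mem X)) ?_
  rw [e_v, conj_e]
  have e : m⁻¹ * (m * D.v X * m⁻¹) * m = D.v X := by group
  rw [e, D.e_v]

theorem conj_R0 (hN : ∀ m ∈ N, Mv m V V) {m : G} (hm : m ∈ N) : Mv m D.R0 (D.conj hN m hm).R0 := by
  intro x
  rw [mem_R0, mem_R0, conj_e]
  have e : m⁻¹ * (m * x * m⁻¹) * m = x := by group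
  rw [e, hN m hm x]

end Cfsg.Agent.Omega.NO1.PlusQ

end

section


/-!
# Type (γ) of the leaf N1: the action of `Q = O₂(N_G(R))` on `V` (helper914)

`Cx D` : `V ≰ Q`, `C_G(Q) ≤ Q ≤ N`, `Q = QQ D.R0`.
* `Cx.U` : every `y ∈ Q` acts as `act (up a) (up b)`; `Cx.U_surj` : all pairs occur;
* `Cx.mem_E` : `V ∩ Q = {v | (e v) 1 1 = 0}`.
-/

set_option autoImplicit false
set_option linter.unusedSectionVars false

namespace Cfsg.Agent.Omega.NO1.PlusQ

open Subgroup Cfsg Matrix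
open Cfsg.Agent.Omega.NO1.Tens
open Cfsg.Agent.Omega.NO1.BetaPlus (Mv QQ)
open Cfsg.Agent.ZN (o2)

universe u

variable {G : Type u} [Group G] {F : Type} [Field F] {N V : Subgroup G}

theorem comm (D : PlusQ F N V) {a b : G} (ha : a ∈ V) (hb : b ∈ V) : a * b = b * a :=
  D.e_inj (mul_mem ha hb) (mul_mem hb ha) (by rw [D.mul a ha b hb, D.mul b hb a ha, add_comm])

variable [CharP F 2]

theorem sq (D : PlusQ F N V) {a : G} (ha : a ∈ V) : a * a = 1 :=
  D.ker _ (mul_mem ha ha) (by rw [D.mul a ha a ha]; ext i j; exact CharTwo.add_self_eq_zero _)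

theorem T2_act_comp {γ : M2 F → M2 F} (h : T2 γ) (A B : SL F) : T2 (fun X => Tens.act A B (γ X)) := by
  constructor
  · intro C
    obtain ⟨C', hC⟩ := h.1 C
    refine ⟨B * C' * B⁻¹, fun X => ?_⟩
    show Tens.act A B (γ (Tens.act C 1 X)) = _
    rw [hC, act_act, act_act]; congr 1 <;> group
  · intro C
    obtain ⟨C', hC⟩ := h.2 C
    refine ⟨A * C' * A⁻¹, fun X => ?_⟩
    show Tens.act A B (γ (Tens.act 1 C X)) = _
    rw [hC, act_act, act_act]; congr 1 <;> group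

section

variable {D : PlusQ F N V} (hN : ∀ m ∈ N, Mv m V V) {t : F} (ht0 : t ≠ 0) (ht1 : t ≠ 1)
include hN ht0 ht1

theorem exists_T2 : ∃ s ∈ N, T2 (D.act s) := by
  obtain ⟨s, hs, h⟩ := D.swap
  refine ⟨s, hs, ?_⟩
  have hm := nm (D := D) hN hs
  have half : ∀ A : SL F, ∃ B : SL F, ∀ X, D.act s (Tens.act A 1 X) = Tens.act 1 B (D.act s X) := by
    intro A
    obtain ⟨g, hg, hgA⟩ := lift_act (D := D) hN A 1
    obtain ⟨B, hB⟩ := h g hg A (fun v hv => by
      have h1 := hgA (D.e v)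
      rw [act_e hN hg hv] at h1
      rw [h1]; simp [Tens.act])
    refine ⟨B, fun X => ?_⟩
    have h1 := hB _ (D.v_mem (D.act s X))
    rw [D.e_v] at h1
    rw [← hgA, ← act_mul hN hs hg]
    have h2 : D.act (s * g) X = D.act (s * g * s⁻¹) (D.act s X) := by
      rw [← act_mul hN (mul_mem (mul_mem hs hg) (inv_mem hs)) hs]
      congr 1; group
    rw [h2]
    show D.e _ = _
    rw [h1]; simp [Tens.act]
  rcases hm.dich ht0 ht1 with hT | hT
  · exfalso
    obtain ⟨A', hA'⟩ := hT.1 (up 1)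
    obtain ⟨B', hB'⟩ := half (up 1)
    have h3 : ∀ X, Tens.act A' 1 X = Tens.act 1 B' X := fun X => by
      have := hA' (D.act s⁻¹ X)
      rw [hB', hm.right] at this
      exact this.symm
    have h4 := (act_unique h3).1
    refine up_one_ne (F := F) (act_eq_one (A := up 1) (B := 1) fun X => hm.inj ?_).1
    rw [hA', h4, act_one]
  · exact hT

/-- An element of `N` which fixes the two base points and interchanges the factors. -/
theorem exists_swap : ∃ s ∈ N, T2 (D.act s) ∧ (∀ x, ∃ y, D.act s (e0 x) = e0 y) ∧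
    (∀ x, ∃ y, D.act s (e3 x) = e3 y) := by
  obtain ⟨s, hs, hT⟩ := exists_T2 (D := D) hN ht0 ht1
  have hm := nm (D := D) hN hs
  obtain ⟨A, B, c, hc⟩ := exists_e0 (hm.det_eq_zero ht0 ht1 (det_e0 1))
  obtain ⟨a, ha, haA⟩ := lift_act (D := D) hN A⁻¹ B⁻¹
  have hs1 : a * s ∈ N := mul_mem ha hs
  have h1 : ∀ X, D.act (a * s) X = Tens.act A⁻¹ B⁻¹ (D.act s X) := fun X => by
    rw [act_mul hN ha hs, haA]
  have hT1 : T2 (D.act (a * s)) := by
    have := T2_act_comp hT A⁻¹ B⁻¹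
    have e : D.act (a * s) = fun X => Tens.act A⁻¹ B⁻¹ (D.act s X) := funext h1
    rwa [e]
  have hm1 := nm (D := D) hN hs1
  have h0 : ∀ x, ∃ y, D.act (a * s) (e0 x) = e0 y :=
    hm1.fix0 ht0 ht1 one_ne_zero (d := c) (by rw [h1, hc, Tens.act_inv_act])
  obtain ⟨b, d, hbd⟩ := hm1.opp ht0 ht1 h0
  obtain ⟨w, hw, hwA⟩ := lift_act (D := D) hN (up b) (up d)
  have h2 : ∀ X, D.act (w * (a * s)) X = Tens.act (up b) (up d) (D.act (a * s) X) := fun X => by
    rw [act_mul hN hw hs1, hwA]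
  refine ⟨w * (a * s), mul_mem hw hs1, ?_, ?_, ?_⟩
  · have := T2_act_comp hT1 (up b) (up d)
    have e : D.act (w * (a * s)) = fun X => Tens.act (up b) (up d) (D.act (a * s) X) := funext h2
    rwa [e]
  · intro x
    obtain ⟨y, hy⟩ := h0 x
    exact ⟨y, by rw [h2, hy, act_up_e0]⟩
  · intro x
    obtain ⟨y, hy⟩ := hbd x
    exact ⟨y, by rw [h2, hy, act_up_up]⟩

end

/-- The context at the base point. -/
structure Cx (D : PlusQ F N V) : Prop where
  hN : ∀ m ∈ N, Mv m V V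
  V_Q : ¬ V ≤ QQ D.R0
  char2 : centralizer (QQ D.R0 : Set G) ≤ QQ D.R0
  Q_N : QQ D.R0 ≤ N
  three : ∃ t : F, t ≠ 0 ∧ t ≠ 1

namespace Cx

variable [Finite G] {D : PlusQ F N V} (h : Cx D)
include h

theorem Q_fix {y : G} (hy : y ∈ QQ D.R0) : ∀ x, ∃ z, D.act y (e0 x) = e0 z :=
  (fix_iff h.hN (h.Q_N hy)).1 (Mv.of_nor (Cfsg.Agent.ZN.o2_le _ hy))

theorem mv_Q {g : G} (hg : g ∈ N) (h0 : ∀ x, ∃ z, D.act g (e0 x) = e0 z) {y : G} (hy : y ∈ QQ D.R0) :
    g * y * g⁻¹ ∈ QQ D.R0 := (((fix_iff h.hN hg).2 h0).QQ y).1 hy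

theorem exists_order {y : G} (hy : y ∈ QQ D.R0) : ∃ k : ℕ, ∀ X, (D.act y)^[2 ^ k] X = X := by
  obtain ⟨k, hk⟩ := Cfsg.Agent.Omega.NOne.LemmaT.exists_pow_eq_one
    (Cfsg.Agent.ZN.isPGroup_o2 (normalizer (D.R0 : Set G)))
  refine ⟨k, fun X => ?_⟩
  rw [act_pow h.hN (h.Q_N hy), hk y hy, act]
  have e : 1 * D.v X * (1 : G)⁻¹ = D.v X := by group
  rw [e, D.e_v]

/-- `[y, t] ∈ U₀` for `y ∈ Q` and a torus element `t` -/
theorem htor {y : G} (hy : y ∈ QQ D.R0) (l m : Fˣ) : ∃ a b, ∀ X,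
    D.act y (Tens.act (tor l) (tor m) X) = Tens.act (up a * tor l) (up b * tor m) (D.act y X) := by
  have hyN := h.Q_N hy
  have hm := nm (D := D) h.hN hyN
  obtain ⟨t, ht, htA⟩ := lift_act (D := D) h.hN (tor l) (tor m)
  obtain ⟨A, B, hAB⟩ := hm.nor (tor l) (tor m)
  have ht0 : ∀ x, ∃ z, D.act t⁻¹ (e0 x) = e0 z := by
    have h1 : ∀ x, ∃ z, D.act t (e0 x) = e0 z := fun x => ⟨l * m * x, by rw [htA, act_tor_e0]⟩
    exact (fix_iff h.hN (inv_mem ht)).1 ((fix_iff h.hN ht).2 h1).inv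
  have ht0' : ∀ x, ∃ z, D.act t (e0 x) = e0 z := fun x => ⟨l * m * x, by rw [htA, act_tor_e0]⟩
  -- `c = y t y⁻¹ t⁻¹ ∈ Q`
  set c := y * t * y⁻¹ * t⁻¹ with hc
  have hcQ : c ∈ QQ D.R0 := by
    have e : c = y * (t * y⁻¹ * t⁻¹) := by rw [hc]; group
    rw [e]
    exact mul_mem hy (h.mv_Q ht ht0' (inv_mem hy))
  have hcA : ∀ X, D.act c X = Tens.act (A * (tor l)⁻¹) (B * (tor m)⁻¹) X := by
    intro X
    have hct : D.act (c * t * y) (D.act y⁻¹ (Tens.act (tor l)⁻¹ (tor m)⁻¹ X)) = D.act c X := by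
      rw [act_mul h.hN (mul_mem (h.Q_N hcQ) ht) hyN, act_act_inv h.hN hyN,
        act_mul h.hN (h.Q_N hcQ) ht, htA, Tens.act_act_inv]
    rw [← hct]
    have e : c * t * y = y * t := by rw [hc]; group
    rw [e, act_mul h.hN hyN ht, htA, hAB, hm.right, act_act]
  obtain ⟨k, hk⟩ := h.exists_order hcQ
  have hcA' : D.act c = Tens.act (A * (tor l)⁻¹) (B * (tor m)⁻¹) := funext hcA
  obtain ⟨d, hd⟩ := h.Q_fix hcQ 1
  rw [hcA'] at hk hd
  obtain ⟨u1, u2⟩ := two_L one_ne_zero hd hk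
  refine ⟨(A * (tor l)⁻¹).1 0 1, (B * (tor m)⁻¹).1 0 1, fun X => ?_⟩
  rw [← u1, ← u2, inv_mul_cancel_right, inv_mul_cancel_right, hAB]

variable [Finite F]

/-- **`Q` induces a subgroup of `U₀`.** -/
theorem U {y : G} (hy : y ∈ QQ D.R0) : ∃ a b, ∀ X, D.act y X = Tens.act (up a) (up b) X := by
  obtain ⟨t, ht0, ht1⟩ := h.three
  have hyN := h.Q_N hy
  have hm := nm (D := D) h.hN hyN
  obtain ⟨k, hk⟩ := h.exists_order hy
  rcases hm.dich ht0 ht1 with hT | hT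
  · exact hm.mem_U ht0 ht1 hT (h.Q_fix hy) hk fun l => h.htor hy l l⁻¹
  · exfalso
    obtain ⟨B', hB'⟩ := hT.1 (tor (Units.mk0 t ht0))
    obtain ⟨a, b, hab⟩ := h.htor hy (Units.mk0 t ht0) 1
    rw [tor_one] at hab
    have h1 : ∀ X, Tens.act 1 B' X = Tens.act (up a * tor (Units.mk0 t ht0)) (up b * 1) X := fun X => by
      have := hab (D.act y⁻¹ X)
      rw [hB', hm.right] at this
      exact this
    have h2 := (act_unique h1).1
    have h3 := congrArg (fun A : SL F => A.1 0 0) h2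
    have h4 : (up a * tor (Units.mk0 t ht0)).1 = (up a).1 * (tor (Units.mk0 t ht0)).1 := rfl
    simp only [h4, up_val, tor_val, Matrix.mul_apply, Fin.sum_univ_two] at h3
    simp at h3
    exact ht1 h3.symm

/-- the pairs which occur -/
theorem U_surj (a b : F) : ∃ y ∈ QQ D.R0, ∀ X, D.act y X = Tens.act (up a) (up b) X := by
  obtain ⟨t, ht0, ht1⟩ := h.three
  -- a nontrivial pair
  obtain ⟨y, hy, a0, b0, hyA, hne⟩ : ∃ y ∈ QQ D.R0, ∃ a0 b0 : F,
      (∀ X, D.act y X = Tens.act (up a0) (up b0) X) ∧ ¬ (a0 = 0 ∧ b0 = 0) := by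
    by_contra hcon
    push Not at hcon
    apply h.V_Q
    refine le_trans ?_ h.char2
    intro v hv
    rw [mem_centralizer_iff]
    intro y hy
    obtain ⟨a0, b0, hyA⟩ := h.U hy
    obtain ⟨ha, hb⟩ := hcon y hy a0 b0 hyA
    have h1 : ∀ X, D.act y X = X := fun X => by rw [hyA, ha, hb, up_zero, act_one]
    exact (mem_centralizer_iff.1 ((act_one_iff h.hN (h.Q_N hy)).1 h1) v hv).symm
  -- the swap
  obtain ⟨s, hs, hsT, hs0, hs3⟩ := exists_swap (D := D) h.hN ht0 ht1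
  have hms := nm (D := D) h.hN hs
  obtain ⟨a1, ha1⟩ := hms.un2_left hsT hs0 a0
  obtain ⟨b1, hb1⟩ := hms.un2_right hsT hs0 b0
  have hys : s * y * s⁻¹ ∈ QQ D.R0 := h.mv_Q hs hs0 hy
  have hysA : ∀ X, D.act (s * y * s⁻¹) X = Tens.act (up b1) (up a1) X := by
    intro X
    rw [act_mul h.hN (mul_mem hs (h.Q_N hy)) (inv_mem hs), act_mul h.hN hs (h.Q_N hy), hyA, act_split,
      ha1, hb1, hms.right, act_act, one_mul, mul_one]
  have ha01 : a0 ≠ 0 → a1 ≠ 0 := by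
    intro ha h1
    apply ha
    rw [h1, up_zero] at ha1
    have h2 : ∀ X, Tens.act (up a0) 1 X = X := fun X => hms.inj (by rw [ha1, act_one])
    have h3 := (act_eq_one h2).1
    rw [← up_zero] at h3
    exact up_inj h3
  have hb01 : b0 ≠ 0 → b1 ≠ 0 := by
    intro ha h1
    apply ha
    rw [h1, up_zero] at hb1
    have h2 : ∀ X, Tens.act 1 (up b0) X = X := fun X => hms.inj (by rw [hb1, act_one])
    have h3 := (act_eq_one h2).2
    rw [← up_zero] at h3
    exact up_inj h3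
  have hadd : ∀ a b a' b' : F, (∃ y ∈ QQ D.R0, ∀ X, D.act y X = Tens.act (up a) (up b) X) →
      (∃ y ∈ QQ D.R0, ∀ X, D.act y X = Tens.act (up a') (up b') X) →
      ∃ y ∈ QQ D.R0, ∀ X, D.act y X = Tens.act (up (a + a')) (up (b + b')) X := by
    rintro a b a' b' ⟨y, hy, hyA⟩ ⟨z, hz, hzA⟩
    refine ⟨y * z, mul_mem hy hz, fun X => ?_⟩
    rw [act_mul h.hN (h.Q_N hy) (h.Q_N hz), hyA, hzA, act_act, up_add, up_add]
  have htor : ∀ (l m : Fˣ) (a b : F), (∃ y ∈ QQ D.R0, ∀ X, D.act y X = Tens.act (up a) (up b) X) →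
      ∃ y ∈ QQ D.R0, ∀ X, D.act y X = Tens.act (up (l * l * a)) (up (m * m * b)) X := by
    rintro l m a b ⟨y, hy, hyA⟩
    obtain ⟨t, ht, htA⟩ := lift_act (D := D) h.hN (tor l) (tor m)
    have ht0' : ∀ x, ∃ z, D.act t (e0 x) = e0 z := fun x => ⟨l * m * x, by rw [htA, act_tor_e0]⟩
    refine ⟨t * y * t⁻¹, h.mv_Q ht ht0' hy, fun X => ?_⟩
    rw [act_mul h.hN (mul_mem ht (h.Q_N hy)) (inv_mem ht), act_mul h.hN ht (h.Q_N hy), hyA, htA,
      tor_act_up]
    congr 1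
    rw [← htA, act_act_inv h.hN ht]
  rcases not_and_or.1 hne with h0 | h0
  · exact irr ht0 ht1 hadd htor ⟨y, hy, hyA⟩ h0 ⟨_, hys, hysA⟩ (ha01 h0) a b
  · exact irr ht0 ht1 hadd htor ⟨_, hys, hysA⟩ (hb01 h0) ⟨y, hy, hyA⟩ h0 a b

/-- `v ∈ N_G(R)` -/
theorem V_nor {v : G} (hv : v ∈ V) : v ∈ normalizer (D.R0 : Set G) :=
  (Mv.of_comm fun a ha => D.comm hv (R0_le ha)).mem_nor

/-- `[v,y] ∈ V ∩ Q` -/
theorem com_mem {v y : G} (hv : v ∈ V) (hy : y ∈ QQ D.R0) : y * v * y⁻¹ * v⁻¹ ∈ V ⊓ QQ D.R0 := by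
  refine ⟨V.mul_mem ((h.hN y (h.Q_N hy) v).1 hv) (V.inv_mem hv), ?_⟩
  have e : y * v * y⁻¹ * v⁻¹ = y * (v * y⁻¹ * v⁻¹) := by group
  rw [e]
  exact (QQ D.R0).mul_mem hy (((Mv.of_nor (h.V_nor hv)).QQ _).1 ((QQ D.R0).inv_mem hy))

theorem e_com {v y : G} (hv : v ∈ V) (hy : y ∈ QQ D.R0) :
    D.e (y * v * y⁻¹ * v⁻¹) = D.act y (D.e v) - D.e v := by
  rw [D.mul _ ((h.hN y (h.Q_N hy) v).1 hv) _ (inv_mem hv), D.e_inv hv, act_e h.hN (h.Q_N hy) hv,
    sub_eq_add_neg]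

theorem com_v (X : M2 F) {y : G} (hy : y ∈ QQ D.R0) : D.v (D.act y X - X) ∈ QQ D.R0 := by
  have h1 := (h.com_mem (D.v_mem X) hy).2
  have h2 := h.e_com (D.v_mem X) hy
  rw [D.e_v] at h2
  rw [← h2, D.v_e (h.com_mem (D.v_mem X) hy).1]
  exact h1

theorem e1_mem (c : F) : D.v (e1 c) ∈ QQ D.R0 := by
  obtain ⟨y, hy, hyA⟩ := h.U_surj c 0
  have h1 := h.com_v (e3 1) hy
  have e : D.act y (e3 1) - e3 1 = e1 c := by
    rw [hyA, act_up]; apply ext2 <;> simp [e1, e3]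
  rwa [e] at h1

theorem e2_mem (c : F) : D.v (e2 c) ∈ QQ D.R0 := by
  obtain ⟨y, hy, hyA⟩ := h.U_surj 0 c
  have h1 := h.com_v (e3 1) hy
  have e : D.act y (e3 1) - e3 1 = e2 c := by
    rw [hyA, act_up]; apply ext2 <;> simp [e2, e3]
  rwa [e] at h1

theorem e0_mem (c : F) : D.v (e0 c) ∈ QQ D.R0 := by
  obtain ⟨y, hy, hyA⟩ := h.U_surj c 0
  have h1 := h.com_v (e2 1) hy
  have e : D.act y (e2 1) - e2 1 = e0 c := by
    rw [hyA, act_up]; apply ext2 <;> simp [e0, e2]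
  rwa [e] at h1

theorem perp_le {v : G} (hv : v ∈ V) (h0 : D.e v 1 1 = 0) : v ∈ QQ D.R0 := by
  have e : D.e v = e0 (D.e v 0 0) + e1 (D.e v 0 1) + e2 (D.e v 1 0) := by
    conv_lhs => rw [e_sum (D.e v), h0, e3_zero, add_zero]
  have e' : v = D.v (e0 (D.e v 0 0)) * D.v (e1 (D.e v 0 1)) * D.v (e2 (D.e v 1 0)) := by
    rw [← D.v_add, ← D.v_add, ← e, D.v_e hv]
  rw [e']
  exact mul_mem (mul_mem (h.e0_mem _) (h.e1_mem _)) (h.e2_mem _)

/-- `V ∩ Q = R^⊥` -/
theorem mem_E {v : G} (hv : v ∈ V) : v ∈ QQ D.R0 ↔ D.e v 1 1 = 0 := by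
  refine ⟨fun hvQ => ?_, h.perp_le hv⟩
  by_contra hne
  apply h.V_Q
  intro w hw
  by_cases hw0 : D.e w 1 1 = 0
  · exact h.perp_le hw hw0
  -- a torus element maps `v` to an element with the same last entry as `w`
  have hl : (D.e v 1 1) * (D.e w 1 1)⁻¹ ≠ 0 := mul_ne_zero hne (inv_ne_zero hw0)
  obtain ⟨t, ht, htA⟩ := lift_act (D := D) h.hN (tor (Units.mk0 _ hl)) (tor 1)
  have ht0' : ∀ x, ∃ z, D.act t (e0 x) = e0 z := fun x => ⟨_ , by rw [htA, act_tor_e0]⟩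
  have h1 := h.mv_Q ht ht0' hvQ
  have h2 : t * v * t⁻¹ ∈ V := (h.hN t ht v).1 hv
  have h3 : D.e (t * v * t⁻¹) 1 1 = D.e w 1 1 := by
    rw [← act_e h.hN ht hv, htA, act_tor]
    simp only [_root_.Fin.isValue, _root_.Units.mk0_mul, _root_.Units.val_mul, _root_.Units.val_mk0, _root_.Units.val_one, _root_.mul_one, _root_.inv_one, _root_.mul_inv_rev, _root_.Units.val_inv_eq_inv_val, _root_.inv_inv, _root_.Matrix.of_apply, _root_.Matrix.cons_val', _root_.Matrix.cons_val_one, _root_.Matrix.cons_val_fin_one]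
    field_simp
  have h4 : (t * v * t⁻¹)⁻¹ * w ∈ QQ D.R0 := by
    refine h.perp_le (mul_mem (inv_mem h2) hw) ?_
    rw [D.mul _ (inv_mem h2) _ hw, D.e_inv h2]
    simp [h3]
  have h5 := mul_mem h1 h4
  have e : t * v * t⁻¹ * ((t * v * t⁻¹)⁻¹ * w) = w := by group
  rwa [e] at h5

end Cx

end Cfsg.Agent.Omega.NO1.PlusQ

end

section


/-!
# Type (γ) of the leaf N1: all points (helper914)

`D.RA A B = {v | e v ∈ act A B (F E₁₁)}`, `D.R i j = D.RA (rep i) (rep j)` for `i j : Option F`.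
-/

set_option autoImplicit false
set_option linter.unusedSectionVars false

namespace Cfsg.Agent.Omega.NO1.PlusQ

open Subgroup Cfsg Matrix
open Cfsg.Agent.Omega.NO1.Tens
open Cfsg.Agent.Omega.NO1.BetaPlus (Mv QQ)
open Cfsg.Agent.ZN (o2)

universe u

variable {G : Type u} [Group G] {F : Type} [Field F] {N V : Subgroup G}

/-- the point `act A B (F E₁₁)` -/
def RA (D : PlusQ F N V) (A B : SL F) : Subgroup G where
  carrier := {w | w ∈ V ∧ ∃ c, D.e w = Tens.act A B (e0 c)}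
  one_mem' := ⟨one_mem _, 0, by rw [D.e_one, e0_zero, act_zero]⟩
  mul_mem' := by
    rintro x y ⟨hx, c, hc⟩ ⟨hy, d, hd⟩
    exact ⟨mul_mem hx hy, c + d, by rw [D.mul x hx y hy, hc, hd, e0_add, Tens.act_add]⟩
  inv_mem' := by
    rintro x ⟨hx, c, hc⟩
    refine ⟨inv_mem hx, -c, ?_⟩
    have e : (e0 (-c) : M2 F) = - e0 c := by apply ext2 <;> simp [e0]
    rw [D.e_inv hx, hc, e]
    simp [Tens.act]

variable {D : PlusQ F N V}

theorem mem_RA {A B : SL F} {w : G} : w ∈ D.RA A B ↔ w ∈ V ∧ ∃ c, D.e w = Tens.act A B (e0 c) := Iff.rfl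

theorem RA_one : D.RA 1 1 = D.R0 := by
  ext w
  rw [mem_RA, mem_R0]
  simp [Tens.act]

theorem RA_Bo (A B : SL F) {T T' : SL F} (hT : Bo T) (hT' : Bo T') : D.RA (A * T) (B * T') = D.RA A B := by
  ext w
  rw [mem_RA, mem_RA]
  refine and_congr_right fun hw => ⟨?_, ?_⟩
  · rintro ⟨c, hc⟩
    exact ⟨T.1 0 0 * T'.1 0 0 * c, hc.trans (by rw [← act_act, act_Bo hT hT'])⟩
  · rintro ⟨c, hc⟩
    refine ⟨(T.1 0 0 * T'.1 0 0)⁻¹ * c, hc.trans ?_⟩
    rw [← act_act, act_Bo hT hT', ← mul_assoc, mul_inv_cancel₀ (mul_ne_zero hT.ne hT'.ne), one_mul]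

theorem RA_le (A B : SL F) : D.RA A B ≤ V := fun _ h => h.1

variable [CharP F 2]

theorem RA_wy : D.RA wy wy = D.R3 := by
  ext w
  rw [mem_RA, mem_R3]
  simp only [act_wy_e0]

/-- the points -/
def R (D : PlusQ F N V) (i j : Option F) : Subgroup G := D.RA (rep i) (rep j)

theorem R_none : D.R none none = D.R0 := RA_one

theorem R_zero : D.R (some 0) (some 0) = D.R3 := by rw [R, rep_zero, RA_wy]

theorem exists_R (A B : SL F) : ∃ i j T T', Bo T ∧ Bo T' ∧ A = rep i * T ∧ B = rep j * T' ∧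
    D.RA A B = D.R i j := by
  obtain ⟨i, T, hT, e⟩ := exists_rep A
  obtain ⟨j, T', hT', e'⟩ := exists_rep B
  exact ⟨i, j, T, T', hT, hT', e, e', by rw [e, e', RA_Bo _ _ hT hT']; rfl⟩

section

variable (hN : ∀ m ∈ N, Mv m V V)
include hN

/-- `m` acts as `(A, B)` -/
theorem exists_lift (A B : SL F) : ∃ m ∈ N, ∀ X, D.act m X = Tens.act A B X := lift_act hN A B

theorem act_inv_of {m : G} (hm : m ∈ N) {A B : SL F} (h : ∀ X, D.act m X = Tens.act A B X) (X : M2 F) :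
    D.act m⁻¹ X = Tens.act A⁻¹ B⁻¹ X := by
  apply (nm (D := D) hN hm).inj
  rw [act_act_inv hN hm, h, Tens.act_act_inv]

/-- the coordinates moved by `m`, which acts as `(A, B)` -/
theorem conj_RA {m : G} (hm : m ∈ N) {A B : SL F} (h : ∀ X, D.act m X = Tens.act A B X) (C E : SL F) :
    (D.conj hN m hm).RA C E = D.RA (A * C) (B * E) := by
  ext w
  rw [mem_RA, mem_RA, conj_e]
  refine and_congr_right fun hw => ?_
  have h1 : D.e (m⁻¹ * w * m) = Tens.act A⁻¹ B⁻¹ (D.e w) := by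
    rw [← act_inv_of hN hm h, act_e hN (inv_mem hm) hw, inv_inv]
  rw [h1]
  refine exists_congr fun c => ?_
  rw [← act_act]
  constructor
  · intro h2; rw [← h2, Tens.act_act_inv]
  · intro h2; rw [h2, Tens.act_inv_act]

theorem conj_e_eq {m : G} (hm : m ∈ N) {A B : SL F} (h : ∀ X, D.act m X = Tens.act A B X) {w : G} (hw : w ∈ V) :
    (D.conj hN m hm).e w = Tens.act A⁻¹ B⁻¹ (D.e w) := by
  rw [conj_e, ← act_inv_of hN hm h, act_e hN (inv_mem hm) hw, inv_inv]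

theorem conj_act {m : G} (hm : m ∈ N) {A B : SL F} (h : ∀ X, D.act m X = Tens.act A B X) {g : G} (hg : g ∈ N)
    (X : M2 F) : (D.conj hN m hm).act g X = Tens.act A⁻¹ B⁻¹ (D.act g (Tens.act A B X)) := by
  have h1 : g * (m * D.v X * m⁻¹) * g⁻¹ ∈ V := (hN g hg _).1 ((hN m hm _).1 (D.v_mem X))
  rw [act, conj_v, conj_e_eq hN hm h h1, ← act_e hN hg ((hN m hm _).1 (D.v_mem X)),
    ← act_e hN hm (D.v_mem X), D.e_v, h]

end

end Cfsg.Agent.Omega.NO1.PlusQ

end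

end

-- merged: Cfsg.Agent.Mrg.Omega.NO1.Tens.Loc
section

section


/-!
# Type (γ) of the leaf N1: the facts of THEOREM BETA at the base point (helper914)
-/

set_option autoImplicit false
set_option linter.unusedSectionVars false

namespace Cfsg.Agent.Omega.NO1.PlusQ

open Subgroup Cfsg Matrix
open Cfsg.Agent.Omega.NO1.Tens
open Cfsg.Agent.Omega.NO1.BetaPlus (Mv QQ)
open Cfsg.Agent.ZN (o2)

universe u

variable {G : Type u} [Group G] {F : Type} [Field F] {N V : Subgroup G}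

/-- the first coordinate of `y ∈ Q` -/
noncomputable def al (D : PlusQ F N V) (y : G) : F := D.act y (e3 1) 0 1

/-- the second coordinate of `y ∈ Q` -/
noncomputable def be (D : PlusQ F N V) (y : G) : F := D.act y (e3 1) 1 0

variable {D : PlusQ F N V} [CharP F 2]

theorem al_be {y : G} {a b : F} (h : ∀ X, D.act y X = Tens.act (up a) (up b) X) : D.al y = a ∧ D.be y = b := by
  constructor
  · rw [al, h, act_up]; simp [e3]
  · rw [be, h, act_up]; simp [e3]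

theorem R0_inf_R3 : D.R0 ⊓ D.R3 = ⊥ := by
  rw [eq_bot_iff]
  rintro w ⟨⟨hw, c, hc⟩, -, d, hd⟩
  rw [mem_bot]
  refine D.ker w hw ?_
  rw [hc] at hd
  have := congrArg (fun X : M2 F => X 0 0) hd
  simp [e0, e3] at this
  rw [hc, this, e0_zero]

namespace Cx

variable [Finite G] (h : Cx D)
include h

variable [Finite F]

theorem act_y {y : G} (hy : y ∈ QQ D.R0) (X : M2 F) : D.act y X = Tens.act (up (D.al y)) (up (D.be y)) X := by
  obtain ⟨a, b, hab⟩ := h.U hy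
  obtain ⟨e1, e2⟩ := al_be hab
  rw [e1, e2, hab]

theorem al_mul {y y' : G} (hy : y ∈ QQ D.R0) (hy' : y' ∈ QQ D.R0) :
    D.al (y * y') = D.al y + D.al y' ∧ D.be (y * y') = D.be y + D.be y' := by
  refine al_be (D := D) fun X => ?_
  rw [act_mul h.hN (h.Q_N hy) (h.Q_N hy'), h.act_y hy, h.act_y hy', act_act, up_add, up_add]

theorem al_inv {y : G} (hy : y ∈ QQ D.R0) : D.al y⁻¹ = D.al y ∧ D.be y⁻¹ = D.be y := by
  refine al_be (D := D) fun X => ?_
  apply (nm (D := D) h.hN (h.Q_N hy)).inj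
  rw [act_act_inv h.hN (h.Q_N hy), h.act_y hy, act_up_up]

theorem mem_C_iff {y : G} (hy : y ∈ QQ D.R0) : y ∈ centralizer (V : Set G) ↔ D.al y = 0 ∧ D.be y = 0 := by
  rw [← act_one_iff (D := D) h.hN (h.Q_N hy)]
  constructor
  · intro h1
    exact al_be (D := D) fun X => by rw [h1, up_zero, act_one]
  · rintro ⟨e1, e2⟩ X
    rw [h.act_y hy, e1, e2, up_zero, act_one]

theorem al_surj (a b : F) : ∃ y ∈ QQ D.R0, D.al y = a ∧ D.be y = b := by
  obtain ⟨y, hy, hyA⟩ := h.U_surj a b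
  exact ⟨y, hy, al_be hyA⟩

theorem RQ {r : G} (hr : r ∈ D.R0) {y : G} (hy : y ∈ QQ D.R0) : r * y = y * r := by
  obtain ⟨hrV, c, hc⟩ := hr
  have h1 : y * r * y⁻¹ = r := by
    refine D.e_inj ((h.hN y (h.Q_N hy) r).1 hrV) hrV ?_
    rw [← act_e h.hN (h.Q_N hy) hrV, hc, h.act_y hy, act_up_e0]
  calc r * y = (y * r * y⁻¹) * y := by rw [h1]
    _ = y * r := by group

/-- `[v, y]` in coordinates -/
theorem e_com' {v y : G} (hv : v ∈ V) (hy : y ∈ QQ D.R0) :
    D.e (v⁻¹ * y⁻¹ * v * y) = Tens.act (up (D.al y)) (up (D.be y)) (D.e v) - D.e v := by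
  have h1 : y⁻¹ * v * y⁻¹⁻¹ ∈ V := (h.hN _ (inv_mem (h.Q_N hy)) v).1 hv
  have e : v⁻¹ * y⁻¹ * v * y = v⁻¹ * (y⁻¹ * v * y⁻¹⁻¹) := by group
  rw [e, D.mul _ (inv_mem hv) _ h1, D.e_inv hv, ← act_e h.hN (inv_mem (h.Q_N hy)) hv,
    h.act_y (inv_mem hy), (h.al_inv hy).1, (h.al_inv hy).2]
  abel

theorem com_V {v y : G} (hv : v ∈ V) (hy : y ∈ QQ D.R0) : v⁻¹ * y⁻¹ * v * y ∈ V := by
  have h1 : y⁻¹ * v * y⁻¹⁻¹ ∈ V := (h.hN _ (inv_mem (h.Q_N hy)) v).1 hv
  have e : v⁻¹ * y⁻¹ * v * y = v⁻¹ * (y⁻¹ * v * y⁻¹⁻¹) := by group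
  rw [e]; exact mul_mem (inv_mem hv) h1

theorem com_perp (a b : F) {X : M2 F} (hX : X 1 1 = 0) :
    Tens.act (up a) (up b) X - X = e0 (a * X 1 0 + b * X 0 1) := by
  have _ := h
  rw [act_up]
  apply ext2 <;> simp only [e0, hX, _root_.Fin.isValue, _root_.MulZeroClass.mul_zero, _root_.add_zero, _root_.Matrix.sub_apply, _root_.Matrix.of_apply, _root_.Matrix.cons_val', _root_.Matrix.cons_val_zero, _root_.Matrix.cons_val_fin_one, _root_.Matrix.cons_val_one, _root_.sub_self]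
  ring

theorem EQ {e : G} (he : e ∈ V ⊓ QQ D.R0) {y : G} (hy : y ∈ QQ D.R0) : e⁻¹ * y⁻¹ * e * y ∈ D.R0 := by
  exact ⟨h.com_V he.1 hy, D.al y * D.e e 1 0 + D.be y * D.e e 0 1, by
    rw [h.e_com' he.1 hy, h.com_perp _ _ ((h.mem_E he.1).1 he.2)]⟩

theorem EQs {y : G} (hy : y ∈ QQ D.R0) (hyV : y ∉ centralizer (V : Set G)) {r : G} (hr : r ∈ D.R0) :
    ∃ e ∈ V ⊓ QQ D.R0, e⁻¹ * y⁻¹ * e * y = r := by
  rw [h.mem_C_iff hy, not_and_or] at hyV
  obtain ⟨hrV, c, hc⟩ := hr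
  rcases hyV with h0 | h0
  · refine ⟨D.v (e2 (c / D.al y)), ⟨D.v_mem _, h.e2_mem _⟩, ?_⟩
    refine D.e_inj (h.com_V (D.v_mem _) hy) hrV ?_
    rw [h.e_com' (D.v_mem _) hy, D.e_v, h.com_perp _ _ (by simp [e2]), hc]
    congr 1
    simp [e2]
    rw [mul_div_cancel₀ _ h0]
  · refine ⟨D.v (e1 (c / D.be y)), ⟨D.v_mem _, h.e1_mem _⟩, ?_⟩
    refine D.e_inj (h.com_V (D.v_mem _) hy) hrV ?_
    rw [h.e_com' (D.v_mem _) hy, D.e_v, h.com_perp _ _ (by simp [e1]), hc]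
    congr 1
    simp [e1]
    rw [mul_div_cancel₀ _ h0]

theorem cenR {v : G} (hv : v ∈ V) (hc : ∀ y ∈ QQ D.R0, v * y = y * v) : v ∈ D.R0 := by
  refine ⟨hv, ?_⟩
  have key : ∀ a b, Tens.act (up a) (up b) (D.e v) = D.e v := by
    intro a b
    obtain ⟨y, hy, hyA⟩ := h.U_surj a b
    rw [← hyA, act_e h.hN (h.Q_N hy) hv, ← hc y hy, mul_inv_cancel_right]
  refine ⟨D.e v 0 0, eq_e0_of_fixed ?_ ?_⟩
  · have := key 1 0; rwa [up_zero] at this
  · have := key 0 1; rwa [up_zero] at this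

theorem cardQ : (centralizer (V : Set G)).relIndex (QQ D.R0) = Nat.card (F × F) :=
  Beta.Inst.relIndex_eq_card (fun y => (D.al y, D.be y))
    (fun x hx y hy => by
      obtain ⟨e1, e2⟩ := h.al_mul hx hy
      exact Prod.ext e1 e2)
    (fun a => by
      obtain ⟨y, hy, e1, e2⟩ := h.al_surj a.1 a.2
      exact ⟨y, hy, Prod.ext e1 e2⟩)
    (fun x hx => by
      rw [h.mem_C_iff hx, Prod.mk_eq_zero])

theorem cardE' : D.R0.relIndex (V ⊓ QQ D.R0) = Nat.card (F × F) :=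
  Beta.Inst.relIndex_eq_card (fun y => (D.e y 0 1, D.e y 1 0))
    (fun x hx y hy => by
      rw [D.mul x hx.1 y hy.1]; rfl)
    (fun a => ⟨D.v (e1 a.1 + e2 a.2), ⟨D.v_mem _, by
      rw [D.v_add]; exact mul_mem (h.e1_mem _) (h.e2_mem _)⟩, by simp [e1, e2]⟩)
    (fun x hx => by
      rw [Prod.mk_eq_zero, mem_R0]
      have h11 := (h.mem_E hx.1).1 hx.2
      constructor
      · rintro ⟨h1, h2⟩
        exact ⟨hx.1, D.e x 0 0, by apply ext2 <;> simp [e0, h1, h2, h11]⟩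
      · rintro ⟨-, c, hc⟩
        rw [hc]; simp [e0])

theorem cardE : (centralizer (V : Set G)).relIndex (QQ D.R0) = D.R0.relIndex (V ⊓ QQ D.R0) := by
  rw [h.cardQ, h.cardE']

theorem VE : V ≤ (V ⊓ QQ D.R0) ⊔ D.R3 := by
  intro v hv
  have e' : v = D.v (D.e v - e3 (D.e v 1 1)) * D.v (e3 (D.e v 1 1)) := by
    rw [← D.v_add, sub_add_cancel, D.v_e hv]
  rw [e']
  refine mul_mem (mem_sup_left (mem_inf.2 ⟨D.v_mem _, (h.mem_E (D.v_mem _)).2 ?_⟩)) (mem_sup_right (v_e3 _))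
  rw [D.e_v]
  simp [e3]

/-- the swap at the two base points -/
theorem swap : ∃ s ∈ N, Mv s D.R0 D.R0 ∧ Mv s D.R3 D.R3 ∧ T2 (D.act s) ∧ (∀ x, ∃ y, D.act s (e0 x) = e0 y) ∧
    ∀ y ∈ QQ D.R0, ∃ a b, (a = 0 ↔ D.al y = 0) ∧ (b = 0 ↔ D.be y = 0) ∧
      D.al (s * y * s⁻¹) = b ∧ D.be (s * y * s⁻¹) = a := by
  obtain ⟨t, ht0, ht1⟩ := h.three
  obtain ⟨s, hs, hsT, hs0, hs3⟩ := exists_swap (D := D) h.hN ht0 ht1
  have hms := nm (D := D) h.hN hs
  refine ⟨s, hs, (fix_iff h.hN hs).2 hs0, ?_, hsT, hs0, ?_⟩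
  · refine Mv.of_le ?_ le_rfl
    rintro w ⟨hw, c, hc⟩
    obtain ⟨y, hy⟩ := hs3 c
    exact ⟨(h.hN s hs w).1 hw, y, by rw [← hy, ← hc, act_e h.hN hs hw]⟩
  · intro y hy
    obtain ⟨a1, ha1⟩ := hms.un2_left hsT hs0 (D.al y)
    obtain ⟨b1, hb1⟩ := hms.un2_right hsT hs0 (D.be y)
    have hysA : ∀ X, D.act (s * y * s⁻¹) X = Tens.act (up b1) (up a1) X := by
      intro X
      rw [act_mul h.hN (mul_mem hs (h.Q_N hy)) (inv_mem hs), act_mul h.hN hs (h.Q_N hy), h.act_y hy, act_split,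
        ha1, hb1, hms.right, act_act, one_mul, mul_one]
    refine ⟨a1, b1, ⟨fun h1 => ?_, fun h1 => ?_⟩, ⟨fun h1 => ?_, fun h1 => ?_⟩, al_be hysA⟩
    · rw [h1, up_zero] at ha1
      have h2 : ∀ X, Tens.act (up (D.al y)) 1 X = X := fun X => hms.inj (by rw [ha1, act_one])
      have h3 := (act_eq_one h2).1
      rw [← up_zero] at h3
      exact up_inj h3
    · rw [h1, up_zero] at ha1
      have h2 : ∀ X, Tens.act 1 (up a1) X = X := fun X => by
        have := ha1 (D.act s⁻¹ X)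
        rw [act_one, hms.right] at this
        exact this.symm
      have h3 := (act_eq_one h2).2
      rw [← up_zero] at h3
      exact up_inj h3
    · rw [h1, up_zero] at hb1
      have h2 : ∀ X, Tens.act 1 (up (D.be y)) X = X := fun X => hms.inj (by rw [hb1, act_one])
      have h3 := (act_eq_one h2).2
      rw [← up_zero] at h3
      exact up_inj h3
    · rw [h1, up_zero] at hb1
      have h2 : ∀ X, Tens.act (up b1) 1 X = X := fun X => by
        have := hb1 (D.act s⁻¹ X)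
        rw [act_one, hms.right] at this
        exact this.symm
      have h3 := (act_eq_one h2).1
      rw [← up_zero] at h3
      exact up_inj h3

theorem irr {W : Subgroup G} (hW : W ≤ QQ D.R0)
    (hn : ∀ m ∈ N, Mv m D.R0 D.R0 → ∀ y ∈ W, m * y * m⁻¹ ∈ W) (hne : ¬ W ≤ centralizer (V : Set G))
    {y : G} (hy : y ∈ QQ D.R0) : ∃ n ∈ W, y⁻¹ * n ∈ centralizer (V : Set G) := by
  obtain ⟨t, ht0, ht1⟩ := h.three
  obtain ⟨y0, hy0, hy0C⟩ := SetLike.not_le_iff_exists.1 hne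
  have hy0Q := hW hy0
  rw [h.mem_C_iff hy0Q, not_and_or] at hy0C
  obtain ⟨s, hs, hsR, hsR3, hsT, hs0, hsy⟩ := h.swap
  obtain ⟨a1, b1, ha1, hb1, e1, e2⟩ := hsy y0 hy0Q
  have hadd : ∀ a b a' b' : F, (∃ y ∈ W, D.al y = a ∧ D.be y = b) → (∃ y ∈ W, D.al y = a' ∧ D.be y = b') →
      ∃ y ∈ W, D.al y = a + a' ∧ D.be y = b + b' := by
    rintro a b a' b' ⟨y, hy, rfl, rfl⟩ ⟨z, hz, rfl, rfl⟩
    exact ⟨y * z, mul_mem hy hz, h.al_mul (hW hy) (hW hz)⟩
  have htor : ∀ (l m : Fˣ) (a b : F), (∃ y ∈ W, D.al y = a ∧ D.be y = b) →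
      ∃ y ∈ W, D.al y = l * l * a ∧ D.be y = m * m * b := by
    rintro l m a b ⟨y, hy, rfl, rfl⟩
    obtain ⟨t, ht, htA⟩ := lift_act (D := D) h.hN (tor l) (tor m)
    have ht0' : ∀ x, ∃ z, D.act t (e0 x) = e0 z := fun x => ⟨l * m * x, by rw [htA, act_tor_e0]⟩
    refine ⟨t * y * t⁻¹, hn t ht ((fix_iff h.hN ht).2 ht0') y hy, al_be fun X => ?_⟩
    rw [act_mul h.hN (mul_mem ht (h.Q_N (hW hy))) (inv_mem ht), act_mul h.hN ht (h.Q_N (hW hy)), h.act_y (hW hy),
      htA, tor_act_up]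
    congr 1
    rw [← htA, act_act_inv h.hN ht]
  have hysW : s * y0 * s⁻¹ ∈ W := hn s hs hsR y0 hy0
  have key : ∃ n ∈ W, D.al n = D.al y ∧ D.be n = D.be y := by
    rcases hy0C with h0 | h0
    · exact Tens.irr ht0 ht1 (W := fun a b => ∃ y ∈ W, D.al y = a ∧ D.be y = b) hadd htor
        (a0 := D.al y0) (b0 := D.be y0) (a1 := b1) (b1 := a1) ⟨y0, hy0, rfl, rfl⟩ h0
        ⟨_, hysW, e1, e2⟩ (fun h1 => h0 (ha1.1 h1)) _ _
    · exact Tens.irr ht0 ht1 (W := fun a b => ∃ y ∈ W, D.al y = a ∧ D.be y = b) hadd htor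
        (a0 := b1) (b0 := a1) (a1 := D.al y0) (b1 := D.be y0) ⟨_, hysW, e1, e2⟩ (fun h1 => h0 (hb1.1 h1))
        ⟨y0, hy0, rfl, rfl⟩ h0 _ _
  obtain ⟨n, hn', en1, en2⟩ := key
  refine ⟨n, hn', ?_⟩
  rw [h.mem_C_iff (mul_mem (inv_mem hy) (hW hn')), (h.al_mul (inv_mem hy) (hW hn')).1,
    (h.al_mul (inv_mem hy) (hW hn')).2, (h.al_inv hy).1, (h.al_inv hy).2, en1, en2]
  exact ⟨CharTwo.add_self_eq_zero _, CharTwo.add_self_eq_zero _⟩

theorem mod_R {v w : G} (hv : v ∈ V ⊓ QQ D.R0) (hw : w ∈ V ⊓ QQ D.R0) :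
    v * w⁻¹ ∈ D.R0 ↔ D.e v 0 1 = D.e w 0 1 ∧ D.e v 1 0 = D.e w 1 0 := by
  have h1 := (h.mem_E hv.1).1 hv.2
  have h2 := (h.mem_E hw.1).1 hw.2
  rw [mem_R0, D.mul _ hv.1 _ (inv_mem hw.1), D.e_inv hw.1]
  constructor
  · rintro ⟨-, c, hc⟩
    have e1 := congrArg (fun X : M2 F => X 0 1) hc
    have e2 := congrArg (fun X : M2 F => X 1 0) hc
    simp only [e0, _root_.Fin.isValue, _root_.Matrix.add_apply, _root_.Matrix.neg_apply, _root_.Matrix.of_apply, _root_.Matrix.cons_val', _root_.Matrix.cons_val_one, _root_.Matrix.cons_val_fin_one, _root_.Matrix.cons_val_zero] at e1 e2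
    exact ⟨by linear_combination e1, by linear_combination e2⟩
  · rintro ⟨e1, e2⟩
    refine ⟨mul_mem hv.1 (inv_mem hw.1), D.e v 0 0 - D.e w 0 0, ?_⟩
    apply ext2 <;> simp [e0, e1, e2, h1, h2]
    ring

theorem alt (b : G → G) (hb : ∀ y ∈ QQ D.R0, b y ∈ V ⊓ QQ D.R0)
    (hadd : ∀ y ∈ QQ D.R0, ∀ y' ∈ QQ D.R0, b (y * y') * (b y * b y')⁻¹ ∈ D.R0)
    (hcomm : ∀ y ∈ QQ D.R0, b y * y = y * b y)
    (hC : ∀ y ∈ QQ D.R0, y ∈ centralizer (V : Set G) → b y ∈ D.R0) :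
    ∃ r ∈ D.R3, ∀ y ∈ QQ D.R0, b y * (y⁻¹ * r⁻¹ * y * r)⁻¹ ∈ D.R0 := by
  have hadd' : ∀ y ∈ QQ D.R0, ∀ y' ∈ QQ D.R0, D.e (b (y * y')) 0 1 = D.e (b y) 0 1 + D.e (b y') 0 1 ∧
      D.e (b (y * y')) 1 0 = D.e (b y) 1 0 + D.e (b y') 1 0 := by
    intro y hy y' hy'
    have h1 := (h.mod_R (hb _ (mul_mem hy hy')) (mul_mem (hb y hy) (hb y' hy'))).1 (hadd y hy y' hy')
    rw [D.mul _ (hb y hy).1 _ (hb y' hy').1] at h1
    exact h1
  have hC' : ∀ y ∈ QQ D.R0, y ∈ centralizer (V : Set G) → D.e (b y) 0 1 = 0 ∧ D.e (b y) 1 0 = 0 := by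
    intro y hy hyC
    obtain ⟨-, c, hc⟩ := hC y hy hyC
    rw [hc]; simp [e0]
  -- well defined
  have hwd : ∀ y ∈ QQ D.R0, ∀ y' ∈ QQ D.R0, D.al y = D.al y' → D.be y = D.be y' →
      D.e (b y) 0 1 = D.e (b y') 0 1 ∧ D.e (b y) 1 0 = D.e (b y') 1 0 := by
    intro y hy y' hy' e1 e2
    have h1 : y * y'⁻¹ ∈ centralizer (V : Set G) := by
      rw [h.mem_C_iff (mul_mem hy (inv_mem hy')), (h.al_mul hy (inv_mem hy')).1,
        (h.al_mul hy (inv_mem hy')).2, (h.al_inv hy').1, (h.al_inv hy').2, e1, e2]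
      exact ⟨CharTwo.add_self_eq_zero _, CharTwo.add_self_eq_zero _⟩
    have h2 := hadd' (y * y'⁻¹) (mul_mem hy (inv_mem hy')) y' hy'
    rw [inv_mul_cancel_right] at h2
    obtain ⟨h3, h4⟩ := hC' _ (mul_mem hy (inv_mem hy')) h1
    rw [h3, h4, zero_add, zero_add] at h2
    exact h2
  choose Y hYQ hY using h.al_surj
  have key : ∀ y ∈ QQ D.R0, D.e (b y) 0 1 = D.e (b (Y (D.al y) (D.be y))) 0 1 ∧
      D.e (b y) 1 0 = D.e (b (Y (D.al y) (D.be y))) 1 0 :=
    fun y hy => hwd y hy _ (hYQ _ _) (hY _ _).1.symm (hY _ _).2.symm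
  have hfg : ∀ a b' a' b'', D.e (b (Y (a + a') (b' + b''))) 0 1 = D.e (b (Y a b')) 0 1 + D.e (b (Y a' b'')) 0 1 ∧
      D.e (b (Y (a + a') (b' + b''))) 1 0 = D.e (b (Y a b')) 1 0 + D.e (b (Y a' b'')) 1 0 := by
    intro a b' a' b''
    obtain ⟨h1, h2⟩ := hadd' _ (hYQ a b') _ (hYQ a' b'')
    obtain ⟨h3, h4⟩ := h.al_mul (hYQ a b') (hYQ a' b'')
    rw [(hY a b').1, (hY a' b'').1] at h3
    rw [(hY a b').2, (hY a' b'').2] at h4
    obtain ⟨h5, h6⟩ := key _ (mul_mem (hYQ a b') (hYQ a' b''))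
    rw [h3, h4] at h5 h6
    rw [← h5, ← h6]
    exact ⟨h1, h2⟩
  obtain ⟨l, hl⟩ := Tens.alt (f := fun a b' => D.e (b (Y a b')) 0 1) (g := fun a b' => D.e (b (Y a b')) 1 0)
    (fun a b' a' b'' => (hfg a b' a' b'').1) (fun a b' a' b'' => (hfg a b' a' b'').2) (by
      intro a b'
      have h1 := hcomm _ (hYQ a b')
      have h2 : D.e ((b (Y a b'))⁻¹ * (Y a b')⁻¹ * b (Y a b') * (Y a b')) = 0 := by
        have e : (b (Y a b'))⁻¹ * (Y a b')⁻¹ * b (Y a b') * (Y a b') = 1 := by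
          rw [mul_assoc _ (b (Y a b')), h1]; group
        rw [e, D.e_one]
      rw [h.e_com' (hb _ (hYQ a b')).1 (hYQ a b'), h.com_perp _ _ ((h.mem_E (hb _ (hYQ a b')).1).1 (hb _ (hYQ a b')).2),
        (hY a b').1, (hY a b').2] at h2
      exact e0_inj (h2.trans e0_zero.symm))
  refine ⟨D.v (e3 l), v_e3 l, fun y hy => ?_⟩
  have hr : y⁻¹ * (D.v (e3 l))⁻¹ * y * D.v (e3 l) ∈ V := by
    have h1 : y⁻¹ * (D.v (e3 l))⁻¹ * y⁻¹⁻¹ ∈ V := (h.hN _ (inv_mem (h.Q_N hy)) _).1 (inv_mem (D.v_mem _))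
    rw [inv_inv] at h1
    exact mul_mem h1 (D.v_mem _)
  have hre : D.e (y⁻¹ * (D.v (e3 l))⁻¹ * y * D.v (e3 l)) =
      e3 l - Tens.act (up (D.al y)) (up (D.be y)) (e3 l) := by
    have h1 : y⁻¹ * (D.v (e3 l))⁻¹ * y⁻¹⁻¹ ∈ V := (h.hN _ (inv_mem (h.Q_N hy)) _).1 (inv_mem (D.v_mem _))
    have e : y⁻¹ * (D.v (e3 l))⁻¹ * y * D.v (e3 l) = (y⁻¹ * (D.v (e3 l))⁻¹ * y⁻¹⁻¹) * D.v (e3 l) := by group
    rw [e, D.mul _ h1 _ (D.v_mem _), ← act_e h.hN (inv_mem (h.Q_N hy)) (inv_mem (D.v_mem _)),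
      h.act_y (inv_mem hy), (h.al_inv hy).1, (h.al_inv hy).2, D.e_inv (D.v_mem _), D.e_v]
    simp only [Tens.act, _root_.mul_neg, _root_.neg_mul]
    abel
  have hrQ : y⁻¹ * (D.v (e3 l))⁻¹ * y * D.v (e3 l) ∈ QQ D.R0 := by
    rw [h.mem_E hr, hre, act_up]; simp [e3]
  rw [h.mod_R (hb y hy) ⟨hr, hrQ⟩, hre, act_up]
  obtain ⟨h1, h2⟩ := key y hy
  obtain ⟨h3, h4⟩ := hl (D.al y) (D.be y)
  rw [h1, h2, h3, h4]
  simp only [e3, _root_.Fin.isValue, _root_.Matrix.of_apply, _root_.Matrix.cons_val', _root_.Matrix.cons_val_zero, _root_.Matrix.cons_val_fin_one, _root_.Matrix.cons_val_one, _root_.MulZeroClass.mul_zero, _root_.add_zero, _root_.zero_add, _root_.Matrix.sub_apply, _root_.zero_sub]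
  constructor
  · rw [CharTwo.neg_eq, mul_comm]
  · rw [CharTwo.neg_eq, mul_comm]

end Cx

end Cfsg.Agent.Omega.NO1.PlusQ

end

section


/-!
# Type (γ) of the leaf N1: the structure `Bp` of THEOREM BETA (helper914)
-/

set_option autoImplicit false
set_option linter.unusedSectionVars false

namespace Cfsg.Agent.Omega.NO1.PlusQ

open Subgroup Cfsg Matrix
open Cfsg.Agent.Omega.NO1.Tens
open Cfsg.Agent.Omega.NO1.BetaPlus (Mv QQ Bp)
open Cfsg.Agent.ZN (o2)

universe u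

variable {G : Type u} [Group G] {F : Type} [Field F] {N V : Subgroup G}

variable {D : PlusQ F N V} [CharP F 2]

/-- `g` moves the points as `(A, B)` -/
theorem mv_RA (hN : ∀ m ∈ N, Mv m V V) {g : G} (hg : g ∈ N) {A B : SL F}
    (h : ∀ X, D.act g X = Tens.act A B X) (C E : SL F) : Mv g (D.RA C E) (D.RA (A * C) (B * E)) := by
  intro w
  rw [mem_RA, mem_RA, ← hN g hg w]
  refine and_congr_right fun hw => exists_congr fun c => ?_
  rw [← act_e hN hg hw, h, ← act_act]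
  constructor
  · intro h1; rw [h1]
  · intro h1; exact act_inj h1

theorem not_Bo_of_ne {i k : Option F} (hik : i ≠ k) {A T T' : SL F} (hA : A = rep i * T) (hT : Bo T)
    (hT' : Bo T') : ¬ Bo (A⁻¹ * (rep k * T')) := by
  intro hB
  apply hik
  apply rep_inj
  have h1 := (hT.mul hB).mul hT'.inv
  have e : T * (A⁻¹ * (rep k * T')) * T'⁻¹ = (rep i)⁻¹ * rep k := by rw [hA]; group
  rwa [e] at h1

theorem not_Bo_dn {a : F} (ha : a ≠ 0) : ¬ Bo (wy⁻¹ * (up a * wy) : SL F) := by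
  intro h
  apply ha
  rw [wy_inv] at h
  have e : (wy * (up a * wy) : SL F).1 = wy.1 * ((up a).1 * wy.1) := rfl
  rw [Bo, e, wy_val, up_val] at h
  simp only [Matrix.mul_apply, Fin.sum_univ_two] at h
  simpa using h

namespace Cx

theorem conj (h : Cx D) {m : G} (hm : m ∈ N) [Finite G] : Cx (D.conj h.hN m hm) := by
  have hR := conj_R0 (D := D) h.hN hm
  have hQ := hR.QQ
  refine ⟨h.hN, fun hle => h.V_Q fun v hv => ?_, fun x hx => ?_, fun x hx => ?_, h.three⟩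
  · exact (hQ v).2 (hle ((h.hN m hm v).1 hv))
  · have h1 := (hQ.inv.cen x).1 hx
    exact (hQ.inv x).2 (h.char2 h1)
  · have h1 := h.Q_N ((hQ.inv x).1 hx)
    exact ((Mv.of_mem hm).inv x).2 h1

variable [Finite G]

/-- two opposite points -/
theorem two (h : Cx D) {i k j l : Option F} (hik : i ≠ k) (hjl : j ≠ l) :
    ∃ (D' : PlusQ F N V) (m : G) (A B T T' S S' : SL F), Cx D' ∧ D'.R0 = D.R i j ∧ D'.R3 = D.R k l ∧
      (∀ C E, D'.RA C E = D.RA (A * C) (B * E)) ∧ Bo T ∧ Bo T' ∧ Bo S ∧ Bo S' ∧ A = rep i * T ∧ B = rep j * T' ∧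
      A * wy = rep k * S ∧ B * wy = rep l * S' ∧ m ∈ N ∧ (∀ X, D.act m X = Tens.act A B X) ∧
      (∀ w ∈ V, D'.e w = Tens.act A⁻¹ B⁻¹ (D.e w)) ∧
      ∀ g ∈ N, ∀ X, D'.act g X = Tens.act A⁻¹ B⁻¹ (D.act g (Tens.act A B X)) := by
  obtain ⟨A, T, S, hT, hS, eA, eA'⟩ := exists_pair' hik
  obtain ⟨B, T', S', hT', hS', eB, eB'⟩ := exists_pair' hjl
  obtain ⟨m, hm, hmA⟩ := lift_act (D := D) h.hN A B
  have key := conj_RA h.hN hm hmA
  refine ⟨D.conj h.hN m hm, m, A, B, T, T', S, S', h.conj hm, ?_, ?_, key, hT, hT', hS, hS', eA, eB, eA', eB',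
    hm, hmA, fun w hw => conj_e_eq h.hN hm hmA hw, fun g hg X => conj_act h.hN hm hmA hg X⟩
  · rw [← RA_one, key, mul_one, mul_one, eA, eB, RA_Bo _ _ hT hT']; rfl
  · rw [← RA_wy, key, eA', eB', RA_Bo _ _ hS hS']; rfl

theorem exists_ne' (i k : Option F) (h : Cx D) : ∃ c : Option F, i ≠ c ∧ c ≠ k := by
  obtain ⟨t, ht0, ht1⟩ := h.three
  match i, k with
  | none, none => exact ⟨some 0, by simp, by simp⟩
  | none, some b =>
    by_cases hb : b = 0
    · exact ⟨some 1, by simp, by simp [hb]⟩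
    · exact ⟨some 0, by simp, by simpa using fun h => hb h.symm⟩
  | some a, none =>
    by_cases ha : a = 0
    · exact ⟨some 1, by simp [ha], by simp⟩
    · exact ⟨some 0, by simpa using ha, by simp⟩
  | some a, some b => exact ⟨none, by simp, by simp⟩

/-- single points -/
theorem one (h : Cx D) (i j : Option F) : ∃ (D' : PlusQ F N V) (k l : Option F), i ≠ k ∧ j ≠ l ∧ Cx D' ∧
    D'.R0 = D.R i j ∧ D'.R3 = D.R k l := by
  obtain ⟨k, hk, -⟩ := exists_ne' i i h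
  obtain ⟨l, hl, -⟩ := exists_ne' j j h
  obtain ⟨D', m, A, B, T, T', S, S', h1, h2, h3, -⟩ := h.two hk hl
  exact ⟨D', k, l, hk, hl, h1, h2, h3⟩

theorem perm (h : Cx D) {g : G} (hg : g ∈ N) (i j : Option F) : ∃ k l, Mv g (D.R i j) (D.R k l) := by
  obtain ⟨t, ht0, ht1⟩ := h.three
  obtain ⟨a, ha, haA⟩ := lift_act (D := D) h.hN (rep i) (rep j)
  have hag : g * a ∈ N := mul_mem hg ha
  obtain ⟨A, B, c, hc⟩ := exists_e0 ((nm (D := D) h.hN hag).det_eq_zero ht0 ht1 (det_e0 1))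
  obtain ⟨b, hb, hbA⟩ := lift_act (D := D) h.hN A B
  have hmem : b⁻¹ * (g * a) ∈ N := mul_mem (inv_mem hb) hag
  have h0 : D.act (b⁻¹ * (g * a)) (e0 1) = e0 c := by
    rw [act_mul h.hN (inv_mem hb) hag, hc, act_inv_of h.hN hb hbA, Tens.act_inv_act]
  have h1 := (fix_iff h.hN hmem).2 ((nm (D := D) h.hN hmem).fix0 ht0 ht1 one_ne_zero h0)
  have h2 := mv_RA h.hN ha haA 1 1
  have h3 := mv_RA h.hN hb hbA 1 1
  rw [mul_one, mul_one, RA_one] at h2 h3
  have h4 := (h3.mul h1).mul h2.inv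
  have e : b * (b⁻¹ * (g * a)) * a⁻¹ = g := by group
  rw [e] at h4
  obtain ⟨k, l, -, -, -, -, -, -, e2⟩ := exists_R (D := D) A B
  rw [e2] at h4
  exact ⟨k, l, h4⟩

variable [Finite F]

theorem mv_R3 (h : Cx D) {y : G} (hy : y ∈ QQ D.R0) :
    Mv y D.R3 (D.RA (up (D.al y) * wy) (up (D.be y) * wy)) := by
  rw [← RA_wy]
  exact mv_RA h.hN (h.Q_N hy) (h.act_y hy) _ _

theorem tran (h : Cx D) {i j i1 j1 i2 j2 : Option F} (h1 : i ≠ i1) (h2 : j ≠ j1) (h3 : i ≠ i2) (h4 : j ≠ j2) :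
    ∃ y ∈ QQ (D.R i j), Mv y (D.R i1 j1) (D.R i2 j2) := by
  obtain ⟨D', m, A, B, T, h88⟩ := h.two h1 h2
  revert h88; rintro ⟨T', S, S', hD, eR0, h88⟩
  revert h88; rintro ⟨eR3, hRA, hT, hT', hS, h88⟩
  revert h88; rintro ⟨hS', eA, eB, eA', eB', -⟩
  obtain ⟨a, U, hU, eU⟩ := big (not_Bo_of_ne h3 eA hT Bo.one)
  obtain ⟨b, U', hU', eU'⟩ := big (not_Bo_of_ne h4 eB hT' Bo.one)
  obtain ⟨y, hy, hya, hyb⟩ := hD.al_surj a b
  refine ⟨y, by rwa [← eR0], ?_⟩
  have h5 := hD.mv_R3 hy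
  rw [hya, hyb, eR3, ← RA_Bo _ _ hU hU', ← eU, ← eU', hRA] at h5
  rw [mul_inv_cancel_left, mul_inv_cancel_left, mul_one, mul_one] at h5
  exact h5

/-- the points moved by `y ∈ Q` with both coordinates `≠ 0` -/
theorem half_mv (h : Cx D) {i j k l : Option F} {A B S S' : SL F} (hS : Bo S) (hS' : Bo S') (eA' : A * wy = rep k * S)
    (eB' : B * wy = rep l * S') {D' : PlusQ F N V} (hD : Cx D') (eR3 : D'.R3 = D.R k l)
    (hRA : ∀ C E, D'.RA C E = D.RA (A * C) (B * E)) {y : G} (hy : y ∈ QQ D'.R0) (ha : D'.al y ≠ 0)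
    (hb : D'.be y ≠ 0) : ∃ k' l', k ≠ k' ∧ l ≠ l' ∧ Mv y (D.R k l) (D.R k' l') := by
  have _ := h
  have h5 := hD.mv_R3 hy
  rw [eR3, hRA] at h5
  obtain ⟨k', l', U, U', hU, hU', e1, e2, e3⟩ := exists_R (D := D) (A * (up (D'.al y) * wy)) (B * (up (D'.be y) * wy))
  rw [e3] at h5
  refine ⟨k', l', ?_, ?_, h5⟩
  · rintro rfl
    apply not_Bo_dn ha
    have h6 : wy⁻¹ * (up (D'.al y) * wy) = S⁻¹ * U := by
      have h7 : A = rep k * S * wy⁻¹ := by rw [← eA', mul_inv_cancel_right]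
      rw [h7] at e1
      have h8 : rep k * (S * (wy⁻¹ * (up (D'.al y) * wy))) = rep k * U := by
        rw [← e1]; group
      have h9 := mul_left_cancel h8
      rw [← h9, inv_mul_cancel_left]
    rw [h6]
    exact hS.inv.mul hU
  · rintro rfl
    apply not_Bo_dn hb
    have h6 : wy⁻¹ * (up (D'.be y) * wy) = S'⁻¹ * U' := by
      have h7 : B = rep l * S' * wy⁻¹ := by rw [← eB', mul_inv_cancel_right]
      rw [h7] at e2
      have h8 : rep l * (S' * (wy⁻¹ * (up (D'.be y) * wy))) = rep l * U' := by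
        rw [← e2]; group
      have h9 := mul_left_cancel h8
      rw [← h9, inv_mul_cancel_left]
    rw [h6]
    exact hS'.inv.mul hU'

end Cx

/-- opposite points -/
def Op (p q : Option F × Option F) : Prop := p.1 ≠ q.1 ∧ p.2 ≠ q.2

/-- **The structure `Bp`.** -/
theorem bp [Finite G] [Finite F] (h : Cx D) (meet : ∀ W : Subgroup G, IsPGroup 2 W → W ≤ N →
    (∀ m ∈ N, ∀ y ∈ W, m * y * m⁻¹ ∈ W) → W ⊓ V = ⊥ → W = ⊥) :
    Bp F N V (fun p : Option F × Option F => D.R p.1 p.2) Op where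
  comm a ha b hb := D.comm ha hb
  sq a ha := D.sq ha
  M_V := h.hN
  R_le p := RA_le _ _
  RQ p r hr y hy := by
    obtain ⟨D', k, l, hk, hl, hD, e0, e3⟩ := h.one p.1 p.2
    rw [← e0] at hr hy
    exact hD.RQ hr hy
  ne p := by
    obtain ⟨D', k, l, hk, hl, hD, e0, e3⟩ := h.one p.1 p.2
    intro h1
    have h2 : Nat.card D'.R0 = 1 := by rw [e0, h1]; exact Subgroup.card_bot
    rw [card_R0] at h2
    have := (Nat.card_eq_one_iff_unique.1 h2).1
    exact one_ne_zero (Subsingleton.elim (1 : F) 0)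
  cardR p := by
    obtain ⟨D', k, l, hk, hl, hD, e0, e3⟩ := h.one p.1 p.2
    rw [← card_R0 (D := D'), e0]
  three := h.three
  disj p q hpq := by
    obtain ⟨D', m, A, B, T, T', S, S', hD, eR0, eR3, -⟩ := h.two hpq.1 hpq.2
    rw [← eR0, ← eR3]; exact R0_inf_R3
  symm p q hpq := ⟨hpq.1.symm, hpq.2.symm⟩
  conn p q := by
    obtain ⟨c, h1, h2⟩ := Cx.exists_ne' p.1 q.1 h
    obtain ⟨d, h3, h4⟩ := Cx.exists_ne' p.2 q.2 h
    exact ⟨(c, d), ⟨h1, h3⟩, h2, h4⟩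
  perm m hm p := by
    obtain ⟨k, l, h1⟩ := h.perm hm p.1 p.2
    exact ⟨(k, l), h1⟩
  tran p q r hpq hpr := h.tran hpq.1 hpq.2 hpr.1 hpr.2
  Q_M p := by
    obtain ⟨D', k, l, hk, hl, hD, e0, e3⟩ := h.one p.1 p.2
    rw [← e0]; exact hD.Q_N
  V_Q p := by
    obtain ⟨D', k, l, hk, hl, hD, e0, e3⟩ := h.one p.1 p.2
    rw [← e0]; exact hD.V_Q
  char2 p := by
    obtain ⟨D', k, l, hk, hl, hD, e0, e3⟩ := h.one p.1 p.2
    rw [← e0]; exact hD.char2
  EQ p e he y hy := by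
    obtain ⟨D', k, l, hk, hl, hD, e0, e3⟩ := h.one p.1 p.2
    rw [← e0] at he hy ⊢; exact hD.EQ he hy
  EQs p y hy hyV r hr := by
    obtain ⟨D', k, l, hk, hl, hD, e0, e3⟩ := h.one p.1 p.2
    rw [← e0] at hy hr ⊢; exact hD.EQs hy hyV hr
  cenR p v hv hc := by
    obtain ⟨D', k, l, hk, hl, hD, e0, e3⟩ := h.one p.1 p.2
    rw [← e0] at hc ⊢; exact hD.cenR hv hc
  cardE p := by
    obtain ⟨D', k, l, hk, hl, hD, e0, e3⟩ := h.one p.1 p.2
    rw [← e0]; exact hD.cardE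
  irr p W hW hn hne y hy := by
    obtain ⟨D', k, l, hk, hl, hD, e0, e3⟩ := h.one p.1 p.2
    rw [← e0] at hW hn hy; exact hD.irr hW hn hne hy
  meet := meet
  alt p q hpq b hb hadd hcomm hC := by
    obtain ⟨D', m, A, B, T, T', S, S', hD, eR0, eR3, -⟩ := h.two hpq.1 hpq.2
    rw [← eR0] at hb hadd hcomm hC ⊢
    rw [← eR3]
    exact hD.alt b hb hadd hcomm hC
  half p q hpq := by
    obtain ⟨D', m, A, B, T, T', S, S', hD, eR0, eR3, hRA, hT, hT', hS, hS', eA, eB, eA', eB', -⟩ := h.two hpq.1 hpq.2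
    rw [← eR0]
    refine ⟨D'.al, D'.be, fun y hy y' hy' => hD.al_mul hy hy', fun y hy => hD.mem_C_iff hy, hD.al_surj,
      fun y hy ha hb => ?_, ?_⟩
    · obtain ⟨k', l', h1, h2, h3⟩ := h.half_mv (i := p.1) (j := p.2) hS hS' eA' eB' hD eR3 hRA hy ha hb
      exact ⟨(k', l'), ⟨h1, h2⟩, h3⟩
    · obtain ⟨s, hs, hsR, hsR3, -, -, hsy⟩ := hD.swap
      refine ⟨s, hs, hsR, by rw [← eR3]; exact hsR3, fun y hy => ?_⟩
      obtain ⟨a, b, h1, h2, h3, h4⟩ := hsy y hy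
      rw [h3, h4]
      exact ⟨h2, h1⟩

end Cfsg.Agent.Omega.NO1.PlusQ

end

section


/-!
# Type (γ) of the leaf N1: the Sylow group, fields of `All.NOne.Core` (helper983)

`S` a Sylow 2-subgroup of `G` with `S ≤ N`, `S ≤ N_G(R₀)`.
* `Cx.s_triv`, `Cx.s_quo`, `Cx.s_two`, `Cx.s_cenE`, `Cx.s_bas`, `Cx.s_ns`;
* `Cx.s_swap` : `S` contains an element interchanging the factors.
-/

set_option autoImplicit false
set_option linter.unusedSectionVars false

namespace Cfsg.Agent.Omega.NO1.PlusQ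

open Subgroup Cfsg Matrix
open Cfsg.Agent.Omega.NO1.Tens
open Cfsg.Agent.Omega.NO1.BetaPlus (Mv QQ)
open Cfsg.Agent.ZN (o2)

universe u

variable {G : Type u} [Group G] {F : Type} [Field F] {N V : Subgroup G}

/-- the coordinates of `All.NOne.Core` -/
noncomputable def cE (D : PlusQ F N V) (a : F) (b : F × F) (d : F) : G := D.v !![a, b.1; b.2, d]

theorem e_cE (D : PlusQ F N V) (a : F) (b : F × F) (d : F) : D.e (D.cE a b d) = !![a, b.1; b.2, d] := D.e_v _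

theorem cE_mem (D : PlusQ F N V) (a : F) (b : F × F) (d : F) : D.cE a b d ∈ V := D.v_mem _

variable {D : PlusQ F N V}

section

variable (hN : ∀ m ∈ N, Mv m V V)
include hN

theorem conj_eq_iff {x : G} (hx : x ∈ N) {v w : G} (hv : v ∈ V) (hw : w ∈ V) :
    x * v * x⁻¹ = w ↔ D.act x (D.e v) = D.e w := by
  rw [act_e hN hx hv]
  exact ⟨fun h => by rw [h], fun h => D.e_inj ((hN x hx v).1 hv) hw h⟩

theorem e_comm_one {x : G} (hx : x ∈ N) (X : M2 F) :
    D.e (x * D.v X * x⁻¹ * (D.v X)⁻¹) = D.act x X - X := by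
  rw [D.mul _ ((hN x hx _).1 (D.v_mem X)) _ (inv_mem (D.v_mem X)), D.e_inv (D.v_mem X), D.e_v, sub_eq_add_neg]
  rfl

end

namespace Cx

variable [CharP F 2] [Finite G] [Finite F] (h : Cx D)
include h

section twoel

variable {x : G} (hx : x ∈ N) (hxR : x ∈ normalizer (D.R0 : Set G)) {k : ℕ} (hk : x ^ 2 ^ k = 1)
include hx hxR hk

theorem x_ord (X : M2 F) : (D.act x)^[2 ^ k] X = X := by
  have _ := hxR
  rw [act_pow h.hN hx, hk, act]
  have e : 1 * D.v X * (1 : G)⁻¹ = D.v X := by group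
  rw [e, D.e_v]

theorem x_triv (h1 : ∀ v ∈ V, x * v * x⁻¹ * v⁻¹ ∈ QQ D.R0) : x ∈ centralizer (D.R0 : Set G) := by
  obtain ⟨t, ht0, ht1⟩ := h.three
  have h0 := (fix_iff h.hN hx).1 (Mv.of_nor hxR)
  have hm := nm (D := D) h.hN hx
  have h2 : ∀ X, D.act x X 1 1 = X 1 1 := by
    intro X
    have h3 := h1 _ (D.v_mem X)
    have h4 : x * D.v X * x⁻¹ * (D.v X)⁻¹ ∈ V := mul_mem ((h.hN x hx _).1 (D.v_mem X)) (inv_mem (D.v_mem X))
    rw [h.mem_E h4, e_comm_one (D := D) h.hN hx, Matrix.sub_apply] at h3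
    exact sub_eq_zero.1 h3
  have h3 := hm.triv ht0 ht1 h0 (h.x_ord hx hxR hk) h2
  rw [mem_centralizer_iff]
  rintro r ⟨hr, c, hc⟩
  have h4 : x * r * x⁻¹ = r := by
    rw [conj_eq_iff (D := D) h.hN hx hr hr, hc]
    exact h3 c
  calc r * x = x * r * x⁻¹ * x := by rw [h4]
    _ = x * r := by group

theorem x_e0 (h1 : x ∈ centralizer (D.R0 : Set G)) (c : F) : D.act x (e0 c) = e0 c := by
  have _ := hk
  have h2 := (mem_centralizer_iff.1 h1) _ (v_e0 (D := D) c)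
  have h3 : x * D.v (e0 c) * x⁻¹ = D.v (e0 c) := by rw [← h2]; group
  rw [conj_eq_iff (D := D) h.hN hx (D.v_mem _) (D.v_mem _), D.e_v] at h3
  exact h3

theorem x_quo (h1 : x ∈ centralizer (D.R0 : Set G)) : ∀ v ∈ V, x * v * x⁻¹ * v⁻¹ ∈ QQ D.R0 := by
  obtain ⟨t, ht0, ht1⟩ := h.three
  have h0 := (fix_iff h.hN hx).1 (Mv.of_nor hxR)
  have hm := nm (D := D) h.hN hx
  have h2 := hm.quo ht0 ht1 h0 (h.x_ord hx hxR hk) (h.x_e0 hx hxR hk h1)
  intro v hv
  have h4 : x * v * x⁻¹ * v⁻¹ ∈ V := mul_mem ((h.hN x hx _).1 hv) (inv_mem hv)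
  have h5 := e_comm_one (D := D) h.hN hx (D.e v)
  rw [D.v_e hv] at h5
  rw [h.mem_E h4, h5, Matrix.sub_apply, h2, sub_self]

theorem x_T1 (h1 : x ∈ centralizer (D.R0 : Set G)) (hT : T1 (D.act x)) :
    ∃ y ∈ QQ D.R0, x * y⁻¹ ∈ centralizer (V : Set G) := by
  obtain ⟨t, ht0, ht1⟩ := h.three
  have h0 := (fix_iff h.hN hx).1 (Mv.of_nor hxR)
  have hm := nm (D := D) h.hN hx
  obtain ⟨a, b, hab⟩ := hm.mem_U' ht0 ht1 h0 (h.x_ord hx hxR hk) hT (h.x_e0 hx hxR hk h1)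
  obtain ⟨y, hy, hyA⟩ := h.U_surj a b
  refine ⟨y, hy, ?_⟩
  have hyN := h.Q_N hy
  rw [← act_one_iff (D := D) h.hN (mul_mem hx (inv_mem hyN))]
  intro X
  rw [act_mul h.hN hx (inv_mem hyN), hab, ← hyA, act_act_inv h.hN hyN]

theorem x_cenE (h1 : ∀ a b, x * D.cE a b 0 = D.cE a b 0 * x) : x ∈ centralizer (V : Set G) := by
  obtain ⟨t, ht0, ht1⟩ := h.three
  have h0 := (fix_iff h.hN hx).1 (Mv.of_nor hxR)
  have hm := nm (D := D) h.hN hx
  rw [← act_one_iff (D := D) h.hN hx]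
  apply hm.cenE ht0 ht1 h0 (h.x_ord hx hxR hk)
  intro X hX
  have h2 : x * D.cE (X 0 0) (X 0 1, X 1 0) 0 * x⁻¹ = D.cE (X 0 0) (X 0 1, X 1 0) 0 := by rw [h1]; group
  rw [conj_eq_iff (D := D) h.hN hx (D.cE_mem _ _ _) (D.cE_mem _ _ _), D.e_cE] at h2
  have h3 : X = !![X 0 0, X 0 1; X 1 0, 0] := by apply ext2 <;> simp [hX]
  rw [h3]
  exact h2

end twoel

theorem T1_or_T2 {x : G} (hx : x ∈ N) : T1 (D.act x) ∨ T2 (D.act x) := by
  obtain ⟨t, ht0, ht1⟩ := h.three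
  exact (nm (D := D) h.hN hx).dich ht0 ht1

theorem act_comp {x y : G} (hx : x ∈ N) (hy : y ∈ N) : D.act (x * y) = fun X => D.act x (D.act y X) := by
  funext X
  exact act_mul h.hN hx hy X

theorem T1_one : T1 (D.act 1) := by
  have e : D.act 1 = fun X => X := by
    funext X
    have e1 : 1 * D.v X * (1 : G)⁻¹ = D.v X := by group
    rw [act, e1, D.e_v]
  rw [e]
  exact ⟨fun A => ⟨A, fun _ => rfl⟩, fun A => ⟨A, fun _ => rfl⟩⟩

theorem T1_sq_pow {x : G} (hx : x ∈ N) (n : ℕ) : T1 (D.act ((x * x) ^ n)) := by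
  induction n with
  | zero => rw [pow_zero]; exact h.T1_one
  | succ n ih =>
    rw [pow_succ, h.act_comp (pow_mem (mul_mem hx hx) n) (mul_mem hx hx)]
    refine T1_comp ih ?_
    rw [h.act_comp hx hx]
    rcases h.T1_or_T2 hx with hT | hT
    · exact T1_comp hT hT
    · exact T2_comp hT hT

theorem T2_conj {x n : G} (hx : x ∈ N) (hn : n ∈ N) (hT : T2 (D.act x)) : T2 (D.act (n⁻¹ * x * n)) := by
  obtain ⟨t, ht0, ht1⟩ := h.three
  have hm := nm (D := D) h.hN hn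
  have e : D.act (n⁻¹ * x * n) = fun X => D.act n⁻¹ (D.act x (D.act n X)) := by
    funext X
    rw [act_mul h.hN (mul_mem (inv_mem hn) hx) hn, act_mul h.hN (inv_mem hn) hx]
  rw [e]
  rcases h.T1_or_T2 hn with hn1 | hn2
  · exact T1_T2_comp (hm.T1_symm hn1) (T2_T1_comp hT hn1)
  · exact T2_T1_comp (hm.T2_symm hn2) (T2_comp hT hn2)

variable (S : Sylow 2 G) (hSN : (S : Subgroup G) ≤ N)
include hSN

/-- `S` interchanges the two factors. -/
theorem s_swap : ∃ s ∈ S, T2 (D.act s) := by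
  obtain ⟨t, ht0, ht1⟩ := h.three
  obtain ⟨s, hs, hT⟩ := exists_T2 (D := D) h.hN ht0 ht1
  -- the 2-part of `s`
  obtain ⟨k, m, hm, hn⟩ := Nat.exists_eq_two_pow_mul_odd (orderOf_pos s).ne'
  obtain ⟨j, hj⟩ := hm
  have hs' : s ^ m ∈ N := pow_mem hs m
  have hT' : T2 (D.act (s ^ m)) := by
    have e : s ^ m = s * (s * s) ^ j := by
      rw [hj, pow_succ', pow_mul, pow_two]
    rw [e, h.act_comp hs (pow_mem (mul_mem hs hs) j)]
    exact T2_T1_comp hT (h.T1_sq_pow hs j)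
  have hord : (s ^ m) ^ 2 ^ k = 1 := by
    rw [← pow_mul, mul_comm m, ← hn, pow_orderOf_eq_one]
  have hA : IsPGroup 2 (zpowers (s ^ m)) := by
    rw [IsPGroup.iff_orderOf]
    rintro ⟨y, hy⟩
    obtain ⟨i, rfl⟩ := mem_zpowers_iff.1 hy
    rw [orderOf_mk]
    have h1 : orderOf ((s ^ m) ^ i) ∣ 2 ^ k := by
      apply orderOf_dvd_of_pow_eq_one
      rw [← zpow_natCast, ← _root_.zpow_mul, mul_comm, _root_.zpow_mul, zpow_natCast, hord, _root_.one_zpow]
    obtain ⟨l, -, hl⟩ := (Nat.dvd_prime_pow Nat.prime_two).1 h1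
    exact ⟨l, hl⟩
  obtain ⟨n, hnN, hn'⟩ := All.NOne.exists_conj_sylow S hSN hA (zpowers_le.2 hs')
  exact ⟨_, hn' _ (mem_zpowers _), h.T2_conj hs' hnN hT'⟩

variable (hSR : (S : Subgroup G) ≤ normalizer (D.R0 : Set G))
include hSR

theorem s_ord {x : G} (hx : x ∈ S) : ∃ k : ℕ, x ^ 2 ^ k = 1 := by
  have _ := h
  have _ := hSN
  have _ := hSR
  obtain ⟨k, hk⟩ := S.isPGroup' ⟨x, hx⟩
  exact ⟨k, by simpa only [_root_.SubmonoidClass.mk_pow, _root_.OneMemClass.coe_one] using congrArg Subtype.val hk⟩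

theorem s_triv : ∀ x ∈ (S : Subgroup G), (∀ v ∈ V, x * v * x⁻¹ * v⁻¹ ∈ QQ D.R0) →
    x ∈ centralizer (D.R0 : Set G) := by
  intro x hx h1
  obtain ⟨k, hk⟩ := h.s_ord S hSN hSR hx
  exact h.x_triv (hSN hx) (hSR hx) hk h1

theorem s_quo : ∀ x ∈ (S : Subgroup G), x ∈ centralizer (D.R0 : Set G) →
    ∀ v ∈ V, x * v * x⁻¹ * v⁻¹ ∈ QQ D.R0 := by
  intro x hx h1
  obtain ⟨k, hk⟩ := h.s_ord S hSN hSR hx
  exact h.x_quo (hSN hx) (hSR hx) hk h1

theorem s_two : ∀ s ∈ (S : Subgroup G), s ∈ centralizer (D.R0 : Set G) → ∀ t ∈ (S : Subgroup G),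
    t ∈ centralizer (D.R0 : Set G) →
    (∃ y ∈ QQ D.R0, s * y⁻¹ ∈ centralizer (V : Set G)) ∨ (∃ y ∈ QQ D.R0, t * y⁻¹ ∈ centralizer (V : Set G)) ∨
      (∃ y ∈ QQ D.R0, s * t * y⁻¹ ∈ centralizer (V : Set G)) := by
  intro s hs hs1 t ht ht1
  obtain ⟨k, hk⟩ := h.s_ord S hSN hSR hs
  obtain ⟨l, hl⟩ := h.s_ord S hSN hSR ht
  obtain ⟨m, hm⟩ := h.s_ord S hSN hSR (mul_mem hs ht)
  rcases h.T1_or_T2 (hSN hs) with h1 | h1
  · exact Or.inl (h.x_T1 (hSN hs) (hSR hs) hk hs1 h1)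
  rcases h.T1_or_T2 (hSN ht) with h2 | h2
  · exact Or.inr (Or.inl (h.x_T1 (hSN ht) (hSR ht) hl ht1 h2))
  refine Or.inr (Or.inr (h.x_T1 (hSN (mul_mem hs ht)) (hSR (mul_mem hs ht)) hm (mul_mem hs1 ht1) ?_))
  rw [h.act_comp (hSN hs) (hSN ht)]
  exact T2_comp h1 h2

theorem s_cenE : ∀ s ∈ (S : Subgroup G), (∀ a b, s * D.cE a b 0 = D.cE a b 0 * s) →
    s ∈ centralizer (V : Set G) := by
  intro x hx h1
  obtain ⟨k, hk⟩ := h.s_ord S hSN hSR hx
  exact h.x_cenE (hSN hx) (hSR hx) hk h1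

theorem s_bas : ∀ c : F × F, c ≠ 0 → ∃ k, (k ∈ centralizer (D.R0 : Set G) ∨ k ∈ (S : Subgroup G)) ∧
    ∀ b : F × F, ∃ (a : F) (f f' : F),
      D.cE 0 b 0 = D.cE a 0 0 * D.cE 0 (f • c) 0 * (k * D.cE 0 (f' • c) 0 * k⁻¹) := by
  obtain ⟨t, ht0, ht1⟩ := h.three
  intro c hc
  by_cases hc1 : c.1 = 0
  · -- `c = (0, c₂)`
    have hc2 : c.2 ≠ 0 := fun hc2 => hc (Prod.ext hc1 hc2)
    obtain ⟨s, hs, hT⟩ := h.s_swap S hSN
    have h0 := (fix_iff h.hN (hSN hs)).1 (Mv.of_nor (hSR hs))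
    obtain ⟨a, P, hP, -, hsP⟩ := (nm (D := D) h.hN (hSN hs)).swap_e2 ht0 ht1 h0 hT
    refine ⟨s, Or.inr hs, fun b => ?_⟩
    obtain ⟨z, hz⟩ := hP.2 b.1
    refine ⟨a * P z, b.2 / c.2, z / c.2, ?_⟩
    have hv : s * D.cE 0 ((z / c.2) • c) 0 * s⁻¹ ∈ V := (h.hN s (hSN hs) _).1 (D.cE_mem _ _ _)
    refine D.e_inj (D.cE_mem _ _ _) (mul_mem (mul_mem (D.cE_mem _ _ _) (D.cE_mem _ _ _)) hv) ?_
    rw [D.mul _ (mul_mem (D.cE_mem _ _ _) (D.cE_mem _ _ _)) _ hv, D.mul _ (D.cE_mem _ _ _) _ (D.cE_mem _ _ _),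
      ← act_e h.hN (hSN hs) (D.cE_mem _ _ _)]
    have e1 : D.e (D.cE 0 ((z / c.2) • c) 0) = e2 z := by
      rw [D.e_cE]
      apply ext2 <;> simp [e2, hc1, hc2]
    rw [e1, hsP, hz, D.e_cE, D.e_cE, D.e_cE]
    apply ext2 <;> simp [e0, hc1, hc2, CharTwo.add_self_eq_zero, Tens.e1]
  by_cases hc2 : c.2 = 0
  · obtain ⟨s, hs, hT⟩ := h.s_swap S hSN
    have h0 := (fix_iff h.hN (hSN hs)).1 (Mv.of_nor (hSR hs))
    obtain ⟨a, P, hP, -, hsP⟩ := (nm (D := D) h.hN (hSN hs)).swap_e1 ht0 ht1 h0 hT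
    refine ⟨s, Or.inr hs, fun b => ?_⟩
    obtain ⟨z, hz⟩ := hP.2 b.2
    refine ⟨a * P z, b.1 / c.1, z / c.1, ?_⟩
    have hv : s * D.cE 0 ((z / c.1) • c) 0 * s⁻¹ ∈ V := (h.hN s (hSN hs) _).1 (D.cE_mem _ _ _)
    refine D.e_inj (D.cE_mem _ _ _) (mul_mem (mul_mem (D.cE_mem _ _ _) (D.cE_mem _ _ _)) hv) ?_
    rw [D.mul _ (mul_mem (D.cE_mem _ _ _) (D.cE_mem _ _ _)) _ hv, D.mul _ (D.cE_mem _ _ _) _ (D.cE_mem _ _ _),
      ← act_e h.hN (hSN hs) (D.cE_mem _ _ _)]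
    have e1' : D.e (D.cE 0 ((z / c.1) • c) 0) = e1 z := by
      rw [D.e_cE]
      apply ext2 <;> simp [Tens.e1, hc1, hc2]
    rw [e1', hsP, hz, D.e_cE, D.e_cE, D.e_cE]
    apply ext2 <;> simp [e0, e2, hc1, hc2, CharTwo.add_self_eq_zero]
  · -- the torus
    obtain ⟨k, hk, hkA⟩ := lift_act (D := D) h.hN (tor (Units.mk0 t ht0)) (tor (Units.mk0 t ht0)⁻¹)
    have hkR : k ∈ centralizer (D.R0 : Set G) := by
      rw [mem_centralizer_iff]
      rintro r ⟨hr, x, hx⟩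
      have h4 : k * r * k⁻¹ = r := by
        rw [conj_eq_iff (D := D) h.hN hk hr hr, hx, hkA, act_tor_e0]
        simp [ht0]
      calc r * k = k * r * k⁻¹ * k := by rw [h4]
        _ = k * r := by group
    refine ⟨k, Or.inl hkR, fun b => ?_⟩
    -- `b = f c + f' (t² c₁, t⁻² c₂)`
    have hdet : t ^ 2 + (t ^ 2)⁻¹ ≠ 0 := by
      intro h0
      have h1 : t ^ 2 = (t ^ 2)⁻¹ := CharTwo.add_eq_zero.1 h0
      have h2 : t ^ 2 * t ^ 2 = 1 := by
        nth_rewrite 1 [h1]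
        exact inv_mul_cancel₀ (pow_ne_zero 2 ht0)
      have h3 := eq_one_of_sq h2
      rw [pow_two] at h3
      exact ht1 (eq_one_of_sq h3)
    set w := t ^ 2 + (t ^ 2)⁻¹ with hw
    set p := b.1 / c.1 with hp
    set r := b.2 / c.2 with hr
    have hp1 : p * c.1 = b.1 := div_mul_cancel₀ _ hc1
    have hr1 : r * c.2 = b.2 := div_mul_cancel₀ _ hc2
    have ht2 : t ^ 2 ≠ 0 := pow_ne_zero 2 ht0
    refine ⟨0, ((t ^ 2)⁻¹ * p + t ^ 2 * r) / w, (p + r) / w, ?_⟩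
    have hv : k * D.cE 0 (((p + r) / w) • c) 0 * k⁻¹ ∈ V := (h.hN k hk _).1 (D.cE_mem _ _ _)
    refine D.e_inj (D.cE_mem _ _ _) (mul_mem (mul_mem (D.cE_mem _ _ _) (D.cE_mem _ _ _)) hv) ?_
    rw [D.mul _ (mul_mem (D.cE_mem _ _ _) (D.cE_mem _ _ _)) _ hv, D.mul _ (D.cE_mem _ _ _) _ (D.cE_mem _ _ _),
      ← act_e h.hN hk (D.cE_mem _ _ _), hkA, D.e_cE, D.e_cE, D.e_cE, D.e_cE, act_tor]
    have k1 : b.1 = ((t ^ 2)⁻¹ * p + t ^ 2 * r) / w * c.1 + t * t * ((p + r) / w * c.1) := by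
      have : ((t ^ 2)⁻¹ * p + t ^ 2 * r) / w + t * t * ((p + r) / w) = p := by
        have e3 : ((t ^ 2)⁻¹ * p + t ^ 2 * r) / w + t * t * ((p + r) / w) =
            ((t ^ 2)⁻¹ * p + t ^ 2 * r + t * t * (p + r)) / w := by ring
        rw [e3, div_eq_iff hdet, hw]
        have : t ^ 2 * r + t * t * r = 0 := by rw [← pow_two]; exact CharTwo.add_self_eq_zero _
        linear_combination this
      calc b.1 = p * c.1 := hp1.symm
        _ = (((t ^ 2)⁻¹ * p + t ^ 2 * r) / w + t * t * ((p + r) / w)) * c.1 := by rw [this]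
        _ = _ := by ring
    have k2 : b.2 = ((t ^ 2)⁻¹ * p + t ^ 2 * r) / w * c.2 + t⁻¹ * t⁻¹ * ((p + r) / w * c.2) := by
      have : ((t ^ 2)⁻¹ * p + t ^ 2 * r) / w + t⁻¹ * t⁻¹ * ((p + r) / w) = r := by
        have e3 : ((t ^ 2)⁻¹ * p + t ^ 2 * r) / w + t⁻¹ * t⁻¹ * ((p + r) / w) =
            ((t ^ 2)⁻¹ * p + t ^ 2 * r + t⁻¹ * t⁻¹ * (p + r)) / w := by ring
        rw [e3, div_eq_iff hdet, hw]
        have : (t ^ 2)⁻¹ * p + t⁻¹ * t⁻¹ * p = 0 := by
          rw [← mul_inv, ← pow_two]; exact CharTwo.add_self_eq_zero _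
        have e2 : t⁻¹ * t⁻¹ = (t ^ 2)⁻¹ := by rw [← mul_inv, ← pow_two]
        rw [e2] at this ⊢
        linear_combination this
      calc b.2 = r * c.2 := hr1.symm
        _ = (((t ^ 2)⁻¹ * p + t ^ 2 * r) / w + t⁻¹ * t⁻¹ * ((p + r) / w)) * c.2 := by rw [this]
        _ = _ := by ring
    apply ext2
    · simp only [_root_.Fin.isValue, _root_.Matrix.of_apply, _root_.Matrix.cons_val', _root_.Matrix.cons_val_zero, _root_.Matrix.cons_val_fin_one, _root_.Prod.fst_zero, _root_.Prod.snd_zero, _root_.Prod.smul_fst, _root_.smul_eq_mul, _root_.Prod.smul_snd, _root_.Matrix.of_add_of, _root_.Matrix.add_cons, _root_.Matrix.head_cons, _root_.add_zero, _root_.Matrix.tail_cons, _root_.zero_add, _root_.Matrix.empty_add_empty, _root_.Units.val_mk0, _root_.Units.val_inv_eq_inv_val, _root_.MulZeroClass.mul_zero, _root_.inv_inv, _root_.Matrix.cons_val_one, _root_.Matrix.add_apply]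
    · simpa only [_root_.Fin.isValue, _root_.Matrix.of_apply, _root_.Matrix.cons_val', _root_.Matrix.cons_val_one, _root_.Matrix.cons_val_fin_one, _root_.Matrix.cons_val_zero, _root_.Prod.fst_zero, _root_.Prod.snd_zero, _root_.Prod.smul_fst, _root_.smul_eq_mul, _root_.Prod.smul_snd, _root_.Matrix.of_add_of, _root_.Matrix.add_cons, _root_.Matrix.head_cons, _root_.add_zero, _root_.Matrix.tail_cons, _root_.zero_add, _root_.Matrix.empty_add_empty, _root_.Units.val_mk0, _root_.Units.val_inv_eq_inv_val, _root_.MulZeroClass.mul_zero, _root_.inv_inv, _root_.Matrix.add_apply] using k1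
    · simpa only [_root_.Fin.isValue, _root_.Matrix.of_apply, _root_.Matrix.cons_val', _root_.Matrix.cons_val_zero, _root_.Matrix.cons_val_fin_one, _root_.Matrix.cons_val_one, _root_.Prod.fst_zero, _root_.Prod.snd_zero, _root_.Prod.smul_fst, _root_.smul_eq_mul, _root_.Prod.smul_snd, _root_.Matrix.of_add_of, _root_.Matrix.add_cons, _root_.Matrix.head_cons, _root_.add_zero, _root_.Matrix.tail_cons, _root_.zero_add, _root_.Matrix.empty_add_empty, _root_.Units.val_mk0, _root_.Units.val_inv_eq_inv_val, _root_.MulZeroClass.mul_zero, _root_.inv_inv, _root_.Matrix.add_apply] using k2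
    · simp only [_root_.Fin.isValue, _root_.Matrix.of_apply, _root_.Matrix.cons_val', _root_.Matrix.cons_val_one, _root_.Matrix.cons_val_fin_one, _root_.Prod.fst_zero, _root_.Prod.snd_zero, _root_.Prod.smul_fst, _root_.smul_eq_mul, _root_.Prod.smul_snd, _root_.Matrix.of_add_of, _root_.Matrix.add_cons, _root_.Matrix.head_cons, _root_.add_zero, _root_.Matrix.tail_cons, _root_.zero_add, _root_.Matrix.empty_add_empty, _root_.Units.val_mk0, _root_.Units.val_inv_eq_inv_val, _root_.Matrix.cons_val_zero, _root_.MulZeroClass.mul_zero, _root_.inv_inv, _root_.Matrix.add_apply]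

theorem s_ns : ∀ b : F × F, b ≠ 0 → b.1 * b.2 ≠ 0 ∨ ∃ s ∈ (S : Subgroup G), ∀ a, ∃ (a' : F) (b' : F × F),
    s * D.cE a b 0 * s⁻¹ = D.cE a' b' 0 ∧ (b + b').1 * (b + b').2 ≠ 0 := by
  obtain ⟨t, ht0, ht1⟩ := h.three
  intro b hb
  by_cases hb1 : b.1 = 0
  · right
    have hb2 : b.2 ≠ 0 := fun hb2 => hb (Prod.ext hb1 hb2)
    obtain ⟨s, hs, hT⟩ := h.s_swap S hSN
    have h0 := (fix_iff h.hN (hSN hs)).1 (Mv.of_nor (hSR hs))
    have hm := nm (D := D) h.hN (hSN hs)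
    obtain ⟨a', P, hP, hP0, hsP⟩ := hm.swap_e2 ht0 ht1 h0 hT
    refine ⟨s, hs, fun a => ?_⟩
    obtain ⟨y, hy⟩ := h0 a
    refine ⟨y + a' * P b.2, (P b.2, 0), ?_, ?_⟩
    · rw [conj_eq_iff (D := D) h.hN (hSN hs) (D.cE_mem _ _ _) (D.cE_mem _ _ _), D.e_cE, D.e_cE]
      have e : (!![a, b.1; b.2, 0] : M2 F) = e0 a + e2 b.2 := by apply ext2 <;> simp [e0, e2, hb1]
      rw [e, hm.add, hy, hsP]
      apply ext2 <;> simp [e0, Tens.e1]
    · have h1 : P b.2 ≠ 0 := fun h1 => hb2 (hP.1 (h1.trans hP0.symm))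
      simp [hb1, h1, hb2]
  by_cases hb2 : b.2 = 0
  · right
    obtain ⟨s, hs, hT⟩ := h.s_swap S hSN
    have h0 := (fix_iff h.hN (hSN hs)).1 (Mv.of_nor (hSR hs))
    have hm := nm (D := D) h.hN (hSN hs)
    obtain ⟨a', P, hP, hP0, hsP⟩ := hm.swap_e1 ht0 ht1 h0 hT
    refine ⟨s, hs, fun a => ?_⟩
    obtain ⟨y, hy⟩ := h0 a
    refine ⟨y + a' * P b.1, (0, P b.1), ?_, ?_⟩
    · rw [conj_eq_iff (D := D) h.hN (hSN hs) (D.cE_mem _ _ _) (D.cE_mem _ _ _), D.e_cE, D.e_cE]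
      have e : (!![a, b.1; b.2, 0] : M2 F) = e0 a + e1 b.1 := by apply ext2 <;> simp [e0, Tens.e1, hb2]
      rw [e, hm.add, hy, hsP]
      apply ext2 <;> simp [e0, e2]
    · have h1 : P b.1 ≠ 0 := fun h1 => hb1 (hP.1 (h1.trans hP0.symm))
      simp [hb1, h1, hb2]
  · exact Or.inl (mul_ne_zero hb1 hb2)

end Cx

end Cfsg.Agent.Omega.NO1.PlusQ

end

end

private theorem dce_df2b4eb4945f : _root_.True := by
  try have : _root_.True := by simp only [_root_.Cfsg.Agent.Omega.NO1.PlusQ.al.eq_1]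
  try have : _root_.True := by simp only [_root_.Cfsg.Agent.Omega.NOne.BetaTwo.Basic.C.eq_1]
  try have : _root_.True := by simp only [_root_.Cfsg.Agent.Omega.NO1.PlusQ.act.eq_1]
  try have : _root_.True := by simp only [_root_.Cfsg.Agent.Omega.NOne.BetaTwo.DOne.nc.eq_1]
  try have : _root_.True := by simp only [_root_.Cfsg.Agent.Omega.NO1.PlusQ.R.eq_1]
  try have : _root_.True := by simp only [_root_.Cfsg.Agent.Omega.NO1.BetaPlus.Bp.S.eq_1]
  try have : _root_.True := by simp only [_root_.Cfsg.Agent.Omega.NOne.BetaTwo.Basic.V.eq_1]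
  try have : _root_.True := by simp only [_root_.Cfsg.Agent.Omega.NO1.PlusQ.be.eq_1]
  exact _root_.True.intro
end

-- part: Mrg/Omega/NO1/Beta/Plug
section
prune_inst 0xd00021044122020000180512b0001c4696000590002c0000400005420488af0045008961bc2035021000aa44003c004003880040000000000000000001180080000802040040a000000080010080000000000000000000000000000000000000000000000
set_option linter.all false
open scoped Cfsg.Agent.FastGrp

-- merged: Cfsg.Agent.Mrg.Omega.NO1.Beta.Apply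
section

/-!
# THEOREM BETA, part F: the application

`Sy d O S Z` : `d` coordinates on `V = O₄⁻(q)`, `S ≤ M` a Sylow 2-subgroup, `Z = Ω₁(Z(S)) ≤ V`, the relevant local
subgroups are of characteristic 2, `V ≰ O₂(C(Z))`.  Then (`Sy.main`) after moving the coordinates, `S` fixes `R₀`,
`Z ≤ R₀` and `Hyp d O` holds: `V ≰ O₂(N(R₀))`.
-/

set_option autoImplicit false
set_option linter.unusedVariables false
set_option linter.unusedSectionVars false

open Subgroup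
open scoped Pointwise

namespace Cfsg.Agent.Omega.NO1.Beta.Inst

open Co (u l h w u_zero u_mul u_inv one_ne_u act_one act_one_iff)

variable {G : Type*} [Group G]

section sylow

variable [Finite G] (S : Sylow 2 G)

/-- 2-elements of `L ≥ S` are conjugate into `S`. -/
theorem exists_conj_mem {L : Subgroup G} (hS : (S : Subgroup G) ≤ L) {g : G} (hg : g ∈ L) {n : ℕ}
    (hn : g ^ 2 ^ n = 1) : ∃ l ∈ L, l * g * l⁻¹ ∈ (S : Subgroup G) := by
  have : Fact (Nat.Prime 2) := ⟨Nat.prime_two⟩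
  let g' : L := ⟨g, hg⟩
  have h1 : IsPGroup 2 (zpowers g') := by
    rw [IsPGroup.iff_card]
    have h2 : orderOf g' ∣ 2 ^ n := orderOf_dvd_of_pow_eq_one (Subtype.ext (by simpa only [_root_.SubmonoidClass.coe_pow, _root_.OneMemClass.coe_one] using hn))
    obtain ⟨k, -, hk⟩ := (Nat.dvd_prime_pow Nat.prime_two).mp h2
    exact ⟨k, by rw [Nat.card_zpowers, hk]⟩
  obtain ⟨P, hP⟩ := h1.exists_le_sylow
  obtain ⟨l, hl⟩ := MulAction.exists_smul_eq L P (S.subtype hS)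
  refine ⟨l, l.2, ?_⟩
  have h3 : l * g' * l⁻¹ ∈ ((l • P : Sylow 2 L) : Subgroup L) := by
    rw [Sylow.coe_subgroup_smul]
    exact Subgroup.smul_mem_pointwise_smul g' (MulAut.conj l) _ (hP (mem_zpowers g'))
  rw [hl] at h3
  exact h3

/-- a normal 2-subgroup of `L ≥ S` lies in `S` -/
theorem le_sylow {L N : Subgroup G} (hS : (S : Subgroup G) ≤ L) (hN : IsPGroup 2 N)
    (hn : ∀ c ∈ L, ∀ y ∈ N, c * y * c⁻¹ ∈ N) : N ≤ S := by
  have h1 : (S : Subgroup G) ≤ normalizer (N : Set G) := by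
    intro s hs
    rw [mem_normalizer_iff]
    intro y
    refine ⟨fun hy => hn s (hS hs) y hy, fun hy => ?_⟩
    have := hn s⁻¹ (inv_mem (hS hs)) _ hy
    have e : s⁻¹ * (s * y * s⁻¹) * s⁻¹⁻¹ = y := by group
    rwa [e] at this
  have h2 : IsPGroup 2 ↥((S : Subgroup G) ⊔ N) := S.isPGroup'.to_sup_of_normal_right' hN h1
  have h3 := S.is_maximal' h2 le_sup_left
  calc N ≤ (S : Subgroup G) ⊔ N := le_sup_right
    _ = S := h3

end sylow

variable {K : Type*} [Field K] {σ : K ≃+* K} {M V : Subgroup G} [CharP K 2]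

/-! ### the number of points is odd -/

theorem two_dvd_card [Finite K] : 2 ∣ Nat.card K := by
  have h1 : addOrderOf (1 : K) = 2 := CharP.eq K (by
    have := CharP.addOrderOf_one K
    infer_instance) inferInstance
  rw [← h1]
  exact addOrderOf_dvd_natCard 1

theorem card_Pt_eq [Finite G] [Finite K] (d : Co K σ M V) : Nat.card (Pt d) = Nat.card K + 1 := by
  classical
  apply le_antisymm _ (Hyp.card_Pt d)
  choose k hk hka using fun a : K => d.exists_act (u a)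
  obtain ⟨m, hm, hmR⟩ := Co.Roo_eq d
  let f : Option K → Pt d := fun o => match o with
    | none => ⟨d.R0, 1, M.one_mem, by rw [cj_one]⟩
    | some a => ⟨cj (k a) d.Roo, k a * m, M.mul_mem (hk a) hm, by rw [cj_mul, hmR]⟩
  have hf : Function.Surjective f := by
    rintro ⟨R, g, hg, rfl⟩
    by_cases h0 : cj g d.R0 = d.R0
    · exact ⟨none, Subtype.ext h0.symm⟩
    · obtain ⟨κ, hκ⟩ := d.two_trans hg h0
      exact ⟨some κ, Subtype.ext (hκ _ (hk κ) (hka κ)).symm⟩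
  have h1 := Nat.card_le_card_of_surjective f hf
  rwa [Finite.card_option] at h1

/-- the action of `S ≤ M` on the points -/
@[instance_reducible] def actPt (d : Co K σ M V) {S : Subgroup G} (hS : S ≤ M) : MulAction S (Pt d) where
  smul s i := ⟨cj (s : G) i.1, by
    obtain ⟨g, hg, he⟩ := i.2
    exact ⟨s * g, M.mul_mem (hS s.2) hg, by rw [cj_mul, he]⟩⟩
  one_smul i := Subtype.ext (cj_one _)
  mul_smul s t i := Subtype.ext (cj_mul _ _ _)

/-- `S` fixes a point -/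
theorem exists_fixed_pt [Finite G] [Finite K] (d : Co K σ M V) {S : Subgroup G} (hS : S ≤ M)
    (h2 : IsPGroup 2 S) : ∃ (g : G) (hg : g ∈ M), ∀ s ∈ S, cj s (d.mv g hg).R0 = (d.mv g hg).R0 := by
  have : Fact (Nat.Prime 2) := ⟨Nat.prime_two⟩
  let _ := actPt d hS
  have h1 : ¬ 2 ∣ Nat.card (Pt d) := by
    rw [card_Pt_eq]
    have := two_dvd_card (K := K)
    omega
  obtain ⟨i, hi⟩ := h2.nonempty_fixed_point_of_prime_not_dvd_card (Pt d) h1
  obtain ⟨g, hg, he⟩ := i.2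
  refine ⟨g, hg, fun s hs => ?_⟩
  rw [d.mv_R0 hg, ← he]
  have h3 := hi ⟨s, hs⟩
  exact congrArg Subtype.val h3

/-! ### `S` covers `U₀` -/

/-- the elements inducing elements of `U₀` -/
def Wg (d : Co K σ M V) : Subgroup G where
  carrier := {g | g ∈ M ∧ ∃ a, d.Act g (u a).1}
  one_mem' := ⟨M.one_mem, 0, by rw [u_zero]; exact act_one⟩
  mul_mem' := by
    rintro y y' ⟨hy, a, hya⟩ ⟨hy', b, hyb⟩
    exact ⟨M.mul_mem hy hy', a + b, by rw [← u_mul]; exact hya.mulS hyb hy'⟩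
  inv_mem' := by
    rintro y ⟨hy, a, hya⟩
    exact ⟨M.inv_mem hy, a, by rw [← u_inv]; exact hya.inv hy⟩

/-- the stabiliser of `R₀` in `M` normalises `Wg` -/
theorem norm_Wg [Finite G] (d : Co K σ M V) {s g : G} (hs : s ∈ M) (hsR : cj s d.R0 = d.R0) (hg : g ∈ Wg d) :
    s * g * s⁻¹ ∈ Wg d := by
  obtain ⟨hgM, a, ha⟩ := hg
  have hM : s * g * s⁻¹ ∈ M := M.mul_mem (M.mul_mem hs hgM) (M.inv_mem hs)
  obtain ⟨B, hB⟩ := d.conj_act hs hgM ha
  refine ⟨hM, ?_⟩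
  -- `B² = 1`
  have h2 : d.Act (g * g) (1 : Matrix.SpecialLinearGroup (Fin 2) K).1 := by
    have := ha.mulS ha hgM
    rwa [u_mul, CharTwo.add_self_eq_zero, u_zero] at this
  have h3 : g * g ∈ centralizer (V : Set G) := (act_one_iff (M.mul_mem hgM hgM)).mp h2
  have h4 := d.cen_conj hs h3
  have hM2 : s * (g * g) * s⁻¹ ∈ M := M.mul_mem (M.mul_mem hs (M.mul_mem hgM hgM)) (M.inv_mem hs)
  have h5 : d.Act (s * (g * g) * s⁻¹) (1 : Matrix.SpecialLinearGroup (Fin 2) K).1 :=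
    (act_one_iff hM2).mpr h4
  have h6 := hB.mulS hB hM
  have e : s * g * s⁻¹ * (s * g * s⁻¹) = s * (g * g) * s⁻¹ := by group
  rw [e] at h6
  have h7 : B * B = 1 := d.act_faithful h6 h5 hM2
  -- `B` fixes `R₀`
  have h8 : B.1 1 0 = 0 := by
    obtain ⟨v, hv, x1, y1, z1⟩ := d.exists_v 1 0 0 (map_one σ) (map_zero σ)
    have f1 : v ∈ d.R0 := ⟨hv, y1, z1⟩
    have f2 : s * g * s⁻¹ * v * (s * g * s⁻¹)⁻¹ ∈ d.R0 := by
      have g1 : s⁻¹ * v * s ∈ d.R0 := by
        rw [← mem_cj, hsR]; exact f1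
      have g2 := d.fix_of_mem_R0 g1 hgM ha
      have e : s * g * s⁻¹ * v * (s * g * s⁻¹)⁻¹ = s * (g * (s⁻¹ * v * s) * g⁻¹) * s⁻¹ := by group
      rw [e, g2]
      have e2 : s * (s⁻¹ * v * s) * s⁻¹ = v := by group
      rw [e2]; exact f1
    have f3 := hB.Z hv
    rw [f2.2.2, x1, y1, z1] at f3
    simp only [map_zero, mul_zero, mul_one, add_zero, zero_mul] at f3
    rcases mul_eq_zero.mp f3.symm with h | h
    · exact h
    · exact (map_eq_zero σ).mp h
  by_cases hB1 : B = 1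
  · exact ⟨0, by rw [u_zero, ← hB1]; exact hB⟩
  · rcases Co.invol_cases B h7 hB1 with ⟨b, hb, rfl⟩ | ⟨κ, b, hb, hBe⟩
    · exact ⟨b, hB⟩
    · exfalso
      have h9 := h8
      rw [hBe] at h9
      have e1 : (u κ * w : Matrix.SpecialLinearGroup (Fin 2) K)⁻¹ = w * u κ := by
        rw [inv_eq_iff_mul_eq_one]
        apply Subtype.ext
        simp only [Matrix.SpecialLinearGroup.coe_mul, Matrix.SpecialLinearGroup.coe_one]
        ext i j
        (revert i j; simp only [u, w, Matrix.mul_apply, Fin.sum_univ_two, CharTwo.add_self_eq_zero, _root_.Fin.forall_fin_succ, _root_.Matrix.cons_mul, _root_.Nat.succ_eq_add_one, Nat.reduceAdd, _root_.Matrix.vecMul_cons, _root_.Matrix.head_cons, _root_.one_smul, _root_.Matrix.tail_cons, _root_.Matrix.smul_cons, _root_.smul_eq_mul, _root_.mul_one, _root_.MulZeroClass.mul_zero, _root_.Matrix.smul_empty, _root_.Matrix.empty_vecMul, _root_.add_zero, _root_.Matrix.add_cons, _root_.zero_add,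 _root_.Matrix.empty_add_empty, _root_.zero_smul, _root_.Matrix.empty_mul, _root_.Equiv.symm_apply_apply, _root_.Matrix.of_apply, _root_.Matrix.cons_val', _root_.Matrix.cons_val_fin_one, Fin.isValue, _root_.Matrix.cons_val_zero, _root_.Matrix.cons_val_one, _root_.Matrix.cons_val_succ, _root_.IsEmpty.forall_iff, _root_.and_true, _root_.Matrix.one_apply_eq, _root_.one_mul, _root_.Fin.succ_zero_eq_one, _root_.ne_eq, _root_.zero_ne_one, _root_.not_false_eq_true, _root_.Matrix.one_apply_ne, _root_.and_self, _root_.Fin.succ_ne_zero, _root_.MulZeroClass.zero_mul, _root_.true_and])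
      rw [e1] at h9
      simp only [Matrix.SpecialLinearGroup.coe_mul] at h9
      simp [u, w, Matrix.mul_apply, Fin.sum_univ_two] at h9
      exact hb h9

/-- **`S` covers `U₀`** -/
theorem cover_S [Finite G] (d : Co K σ M V) (S : Sylow 2 G) (hS : (S : Subgroup G) ≤ M)
    (hR : ∀ s ∈ (S : Subgroup G), cj s d.R0 = d.R0) (a : K) :
    ∃ s ∈ (S : Subgroup G), d.Act s (u a).1 := by
  obtain ⟨g, hg, hga⟩ := d.exists_act (u a)
  -- a 2-element
  obtain ⟨m, n, hm, hmn⟩ : ∃ m n : ℕ, Odd m ∧ (g ^ m) ^ 2 ^ n = 1 := by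
    have h0 : orderOf g ≠ 0 := (orderOf_pos g).ne'
    obtain ⟨n, m, hm, he⟩ := Nat.exists_eq_two_pow_mul_odd h0
    refine ⟨m, n, hm, ?_⟩
    rw [← pow_mul, mul_comm m, ← he]
    exact pow_orderOf_eq_one g
  have hpow : ∀ k : ℕ, (u a : Matrix.SpecialLinearGroup (Fin 2) K) ^ (2 * k) = 1 := by
    intro k
    rw [pow_mul, pow_two, u_mul, CharTwo.add_self_eq_zero, u_zero, one_pow]
  have h1 : d.Act (g ^ m) (u a).1 := by
    obtain ⟨k, rfl⟩ := hm
    have := hga.pow hg (2 * k + 1)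
    rwa [pow_succ (u a), hpow k, one_mul] at this
  have h1M : g ^ m ∈ M := M.pow_mem hg m
  have h1W : g ^ m ∈ Wg d := ⟨h1M, a, h1⟩
  have hSW : (S : Subgroup G) ≤ normalizer (Wg d : Set G) := by
    intro s hs
    rw [mem_normalizer_iff]
    intro y
    refine ⟨fun hy => norm_Wg d (hS hs) (hR s hs) hy, fun hy => ?_⟩
    have := norm_Wg d (inv_mem (hS hs)) (hR s⁻¹ (inv_mem hs)) hy
    have e : s⁻¹ * (s * y * s⁻¹) * s⁻¹⁻¹ = y := by group
    rwa [e] at this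
  obtain ⟨l, hl, hlS⟩ := exists_conj_mem S (L := (S : Subgroup G) ⊔ Wg d) le_sup_left
    (mem_sup_right h1W) hmn
  rw [← SetLike.mem_coe, Subgroup.coe_mul_of_left_le_normalizer_right _ _ hSW, Set.mem_mul] at hl
  obtain ⟨s, hs, x, hx, rfl⟩ := hl
  obtain ⟨hxM, b, hxb⟩ := hx
  have h2 : x * g ^ m * x⁻¹ ∈ (S : Subgroup G) := by
    have h3 := (S : Subgroup G).mul_mem ((S : Subgroup G).mul_mem ((S : Subgroup G).inv_mem hs) hlS) hs
    have e : s⁻¹ * (s * x * g ^ m * (s * x)⁻¹) * s = x * g ^ m * x⁻¹ := by group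
    rwa [e] at h3
  refine ⟨_, h2, ?_⟩
  have h4 := (hxb.mulS h1 h1M).mulS (hxb.inv hxM) (M.inv_mem hxM)
  rw [u_inv, u_mul, u_mul] at h4
  have e : b + a + b = a := by
    have := CharTwo.add_self_eq_zero b
    linear_combination this
  rwa [e] at h4

/-! ### the application -/

/-- The hypotheses of the application: `O H = O₂(H)`, `Z = Ω₁(Z(S)) ≤ V`. -/
structure Sy (d : Co K σ M V) (O : Subgroup G → Subgroup G) (S Z : Subgroup G) : Prop where
  isO : IsO O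
  C_M : centralizer (V : Set G) ≤ M
  S_M : S ≤ M
  Z_V : Z ≤ V
  Z_S : ∀ z ∈ Z, ∀ s ∈ S, z * s = s * z
  Z_max : ∀ x ∈ S, x * x = 1 → (∀ s ∈ S, x * s = s * x) → x ∈ Z
  char2N : ∀ R : Subgroup G, R ≠ ⊥ → R ≤ V → S ≤ normalizer (R : Set G) →
    ∀ x ∈ normalizer (R : Set G), (∀ y ∈ O (normalizer (R : Set G)), x * y = y * x) →
      x ∈ O (normalizer (R : Set G))
  char2C : ∀ x ∈ centralizer (Z : Set G), (∀ y ∈ O (centralizer (Z : Set G)), x * y = y * x) →
    x ∈ O (centralizer (Z : Set G))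
  V_Qt : ¬ V ≤ O (centralizer (Z : Set G))

namespace Sy

variable {d : Co K σ M V} {O : Subgroup G → Subgroup G} {S : Sylow 2 G} {Z : Subgroup G}

theorem mv (H : Sy d O S Z) {g : G} (hg : g ∈ M) : Sy (d.mv g hg) O S Z :=
  ⟨H.isO, H.C_M, H.S_M, H.Z_V, H.Z_S, H.Z_max, H.char2N, H.char2C, H.V_Qt⟩

/-- `N ∩ V = 1` implies `N = 1` for normal 2-subgroups `N` of `M` -/
theorem meet [Finite G] (H : Sy d O S Z) (N : Subgroup G) (hN : IsPGroup 2 N) (hNM : N ≤ M)
    (hn : ∀ m ∈ M, ∀ y ∈ N, m * y * m⁻¹ ∈ N) (hNV : N ⊓ V = ⊥) : N = ⊥ := by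
  have : Fact (Nat.Prime 2) := ⟨Nat.prime_two⟩
  have hNS : N ≤ S := le_sylow S H.S_M hN hn
  by_contra hne
  obtain ⟨n0, hn0, hn1⟩ : ∃ n ∈ N, n ≠ 1 := by
    by_contra hcon
    push Not at hcon
    exact hne ((eq_bot_iff_forall _).2 hcon)
  obtain ⟨n, hnN, hn1, hnc⟩ := GTwoFour.Tools.exists_fixed_mod (Y := (S : Subgroup G)) (N := N)
    (M := ⊥) S.isPGroup' hNS (fun y hy n hn' => hn y (H.S_M hy) n hn')
    (fun y hy m hm => by rw [mem_bot] at hm ⊢; rw [hm]; group) ⟨n0, hn0, hn1⟩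
  have hcen : ∀ s ∈ (S : Subgroup G), n * s = s * n := by
    intro s hs
    have h1 := hnc s hs
    rw [mem_bot, commutatorElement_eq_one_iff_mul_comm] at h1
    exact h1.symm
  -- a power of `n` is an involution
  have hne1 : n ≠ 1 := fun h0 => hn1 (by rw [h0]; exact Subgroup.one_mem _)
  obtain ⟨k, hk⟩ := hN ⟨n, hnN⟩
  have hk' : n ^ 2 ^ k = 1 := by simpa only [_root_.SubmonoidClass.mk_pow, _root_.OneMemClass.coe_one] using congrArg Subtype.val hk
  have hex : ∃ k, n ^ 2 ^ k = 1 := ⟨k, hk'⟩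
  classical
  have hf := Nat.find_spec hex
  set j := Nat.find hex with hj
  have hj0 : j ≠ 0 := by
    intro h0
    rw [h0, pow_zero, pow_one] at hf
    exact hne1 hf
  obtain ⟨i, hi⟩ := Nat.exists_eq_succ_of_ne_zero hj0
  have hlt : n ^ 2 ^ i ≠ 1 := Nat.find_min hex (by omega)
  have hz : n ^ 2 ^ i ∈ Z := by
    apply H.Z_max _ (hNS (N.pow_mem hnN _))
    · rw [← pow_add, ← two_mul, ← pow_succ', ← Nat.succ_eq_add_one, ← hi]
      exact hf
    · intro s hs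
      exact (Commute.pow_left (hcen s hs) _)
  apply hlt
  have : n ^ 2 ^ i ∈ N ⊓ V := mem_inf.mpr ⟨N.pow_mem hnN _, H.Z_V hz⟩
  rw [hNV, mem_bot] at this
  exact this

/-- `Z ≤ R₀` if `S` fixes `R₀` -/
theorem Z_R0 [Finite G] (H : Sy d O S Z) (hR : ∀ s ∈ (S : Subgroup G), cj s d.R0 = d.R0) : Z ≤ d.R0 := by
  intro z hz
  apply d.mem_R0_of_fix (H.Z_V hz)
  intro a ha g hg hga
  obtain ⟨s, hs, hsa⟩ := cover_S d S H.S_M hR a
  rw [hga.eq hsa hg (H.S_M hs) (H.Z_V hz), ← H.Z_S z hz s hs, mul_inv_cancel_right]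

/-- **the main step**: `Hyp` holds at the point fixed by `S` -/
theorem hyp [Finite G] [Finite K] (H : Sy d O S Z) (hR : ∀ s ∈ (S : Subgroup G), cj s d.R0 = d.R0) :
    Hyp d O := by
  have hZR := H.Z_R0 hR
  set C : Subgroup G := centralizer (Z : Set G) with hC
  set Qt : Subgroup G := O C with hQt
  have hSC : (S : Subgroup G) ≤ C := by
    intro s hs
    rw [hC, mem_centralizer_iff]
    intro z hz
    exact H.Z_S z hz s hs
  have hVC : V ≤ C := by
    intro v hv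
    rw [hC, mem_centralizer_iff]
    intro z hz
    exact d.comm (H.Z_V hz) hv
  have hQtS : Qt ≤ S := le_sylow S hSC (H.isO.two C) (H.isO.nor C)
  have hQtM : Qt ≤ M := hQtS.trans H.S_M
  have hR0ne : d.R0 ≠ ⊥ := by
    intro h0
    obtain ⟨v, hv, x1, y1, z1⟩ := d.exists_v 1 0 0 (map_one σ) (map_zero σ)
    have h1 : v ∈ d.R0 := ⟨hv, y1, z1⟩
    rw [h0, mem_bot] at h1
    rw [h1, Co.X_one] at x1
    exact zero_ne_one x1
  have hSN : (S : Subgroup G) ≤ normalizer (d.R0 : Set G) := fun s hs => mem_normalizer_iff_cj.mpr (hR s hs)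
  have hnorC : ∀ c ∈ C, c ∈ normalizer (Qt : Set G) := by
    intro c hc
    rw [mem_normalizer_iff]
    intro y
    refine ⟨fun hy => H.isO.nor C c hc y hy, fun hy => ?_⟩
    have h1 := H.isO.nor C c⁻¹ (inv_mem hc) _ hy
    have e : c⁻¹ * (c * y * c⁻¹) * c⁻¹⁻¹ = y := by group
    rwa [e] at h1
  -- elements fixing `R₀` pointwise
  have hcen : ∀ g : G, (∀ v ∈ d.R0, g * v * g⁻¹ = v) → g ∈ C := by
    intro g hg
    rw [hC, mem_centralizer_iff]
    intro z hz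
    have h1 := hg z (hZR hz)
    calc z * g = (g * z * g⁻¹) * g := by rw [h1]
      _ = g * z := by group
  have hσ : σ ≠ RingEquiv.refl K := by
    obtain ⟨x, hx⟩ := d.nt
    intro h0
    apply hx
    rw [h0]; rfl
  -- `Qt` induces `U₀`
  have hact := d.cover (X := Qt) (T := {t : K | t * σ t = 1}) (H.isO.two C) hQtM
    (fun y hy => hR y (hQtS hy))
    (by
      intro hc
      apply H.V_Qt
      intro v hv
      apply H.char2C v (hVC hv)
      intro y hy
      exact mem_centralizer_iff.mp (hc hy) v hv)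
    (fun B hB hB0 => HermField.closed_eq_top' hσ d.inv B (fun t ht b hb => hB t ht b hb) hB0)
    (by
      rintro t ht rfl
      rw [Set.mem_ofPred_eq, zero_mul] at ht
      exact zero_ne_one ht)
    (fun g hg a ha => hnorC g (hcen g fun v hv => d.fix_of_mem_R0 hv hg ha))
    (fun t ht htT g hg hga => hnorC g (hcen g fun v hv => by
      apply d.ext (d.conj_mem' hg hv.1) hv.1
      · rw [d.h_X hga hv.1]
        have h1 : t * σ t = 1 := htT
        linear_combination d.X v * h1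
      · rw [d.h_Y hga hv.1, hv.2.1]; simp
      · rw [d.h_Z hga hv.1, hv.2.2]; simp))
  have hcenR : ∀ r ∈ d.R0, ∀ x ∈ Qt, x * r = r * x := by
    intro r hr x hx
    obtain ⟨a, ha⟩ := hact.1 x hx
    have h1 := d.fix_of_mem_R0 hr (hQtM hx) ha
    calc x * r = (x * r * x⁻¹) * x := by group
      _ = r * x := by rw [h1]
  refine ⟨H.isO, H.C_M, ?_, H.char2N _ hR0ne d.R0_le hSN, ?_⟩
  · exact (le_sylow S hSN (H.isO.two _) (H.isO.nor _)).trans H.S_M
  · intro hVQ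
    apply H.V_Qt
    refine App.le_of_le (C := C) (R := d.R0) hVC (H.isO.nor C) (H.isO.max C)
      (fun c hc hx => H.char2C c hc fun y hy => (hx y hy).symm) d.R0_le (fun r hr => d.sq hr.1) hcenR
      ?_ (H.isO.two (normalizer (d.R0 : Set G))) (H.isO.nor _) hVQ
    -- an involution `y` of `Z(Qt)` centralises `V`
    intro y hy hyc _ v hv
    obtain ⟨a, ha⟩ := hact.1 y hy
    obtain ⟨v1, hv1, x1, y1, z1⟩ := d.exists_v 0 0 1 (map_zero σ) (map_one σ)
    have h2 := d.conj_mem' (hQtM hy) hv1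
    have h3 : v1 * (y * v1 * y⁻¹) ∈ d.R0 := by
      apply d.mem_R0_of_fix (V.mul_mem hv1 h2)
      intro b hb g hg hgb
      obtain ⟨x, hx, hxb⟩ := hact.2 b
      rw [hgb.eq hxb hg (hQtM hx) (V.mul_mem hv1 h2)]
      -- `[v1, y]` is central in `Qt`
      have h4 : ∀ x ∈ Qt, x * (v1 * y * v1⁻¹) = (v1 * y * v1⁻¹) * x := by
        intro x hx
        have h5 : v1⁻¹ * x * v1 ∈ Qt := by
          have := H.isO.nor C v1⁻¹ (inv_mem (hVC hv1)) x hx
          rwa [inv_inv] at this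
        have h6 := hyc _ h5
        calc x * (v1 * y * v1⁻¹) = v1 * ((v1⁻¹ * x * v1) * y) * v1⁻¹ := by group
          _ = v1 * (y * (v1⁻¹ * x * v1)) * v1⁻¹ := by rw [h6]
          _ = (v1 * y * v1⁻¹) * x := by group
      have h7 : v1 * (y * v1 * y⁻¹) = (v1 * y * v1⁻¹) * y⁻¹ := by rw [d.inv_eq hv1]; group
      have h8 : x * ((v1 * y * v1⁻¹) * y⁻¹) = ((v1 * y * v1⁻¹) * y⁻¹) * x := by
        have h9 : x * y⁻¹ = y⁻¹ * x := by
          have := hyc x hx
          calc x * y⁻¹ = y⁻¹ * (y * x) * y⁻¹ := by group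
            _ = y⁻¹ * (x * y) * y⁻¹ := by rw [this]
            _ = y⁻¹ * x := by group
        calc x * ((v1 * y * v1⁻¹) * y⁻¹) = (x * (v1 * y * v1⁻¹)) * y⁻¹ := by group
          _ = ((v1 * y * v1⁻¹) * x) * y⁻¹ := by rw [h4 x hx]
          _ = (v1 * y * v1⁻¹) * (x * y⁻¹) := by group
          _ = (v1 * y * v1⁻¹) * (y⁻¹ * x) := by rw [h9]
          _ = _ := by group
      rw [h7, h8, mul_inv_cancel_right]
    have h4 := h3.2.1
    rw [d.Y_mul hv1 h2, d.u_Y ha hv1, y1, z1, mul_one, zero_add, zero_add] at h4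
    rw [h4, u_zero] at ha
    have h5 := (act_one_iff (hQtM hy)).mp ha
    exact mem_centralizer_iff.mp h5 v hv

/-- **THEOREM BETA, part F.** -/
theorem main [Finite G] [Finite K] (H : Sy d O S Z) :
    ∃ (g : G) (hg : g ∈ M), (S : Subgroup G) ≤ normalizer ((d.mv g hg).R0 : Set G) ∧
      Z ≤ (d.mv g hg).R0 ∧ Hyp (d.mv g hg) O := by
  obtain ⟨g, hg, hR⟩ := exists_fixed_pt d H.S_M S.isPGroup'
  exact ⟨g, hg, fun s hs => mem_normalizer_iff_cj.mpr (hR s hs), (H.mv hg).Z_R0 hR, (H.mv hg).hyp hR⟩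

end Sy

end Cfsg.Agent.Omega.NO1.Beta.Inst

end

-- merged: Cfsg.Agent.Mrg.Omega.NO1.BetaPlus.Meet
section

/-!
# `Q i ⊓ Q j ≤ V` for opposite points, type (γ) (helper914; helper198's proof of `Beta/Meet.lean` with `op`)
-/

set_option autoImplicit false
set_option linter.unusedSectionVars false

namespace Cfsg.Agent.Omega.NO1.BetaPlus

open Subgroup
open Cfsg.Agent.Omega.NO1.Beta.Meet (cj mem_cj conj_mem_cj cj_mul cj_inj cj_eq_of_comm cj_eq_of_mem
  mem_normalizer_of_cj cj_of_mem_normalizer exists_of_fpf swap_abs swap_abs')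

variable {G : Type*} [Group G] {I : Type*}

/-- The output of THEOREM BETA for type (γ), `op` = opposite. -/
structure Mo (V : Subgroup G) (R Q : I → Subgroup G) (op : I → I → Prop) : Prop where
  comm : ∀ a ∈ V, ∀ b ∈ V, a * b = b * a
  R_le : ∀ i, R i ≤ V
  R_Q : ∀ i, R i ≤ Q i
  RQ : ∀ i, ∀ r ∈ R i, ∀ y ∈ Q i, r * y = y * r
  QQ : ∀ i, ∀ y ∈ Q i, ∀ z ∈ Q i, y * z * y⁻¹ * z⁻¹ ∈ R i
  Qsq : ∀ i, ∀ y ∈ Q i, y * y ∈ R i
  cen : ∀ i, ∀ y ∈ Q i, (∀ z ∈ Q i, y * z = z * y) → y ∈ R i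
  Q_V : ∀ i, Q i ≤ normalizer (V : Set G)
  nor : ∀ i, ∀ c ∈ normalizer (R i : Set G), cj c (Q i) = Q i
  symm : ∀ {i j}, op i j → op j i
  conn : ∀ i k, ∃ c, op i c ∧ op c k
  fixj : ∀ i j, op i j → ∀ y ∈ Q i, cj y (R j) = R j → y ∈ centralizer (V : Set G)
  move : ∀ {k l}, op k l → ∀ {y}, y ∈ Q k → ∃ m, op k m ∧ cj y (R l) = R m ∧ cj y (Q l) = Q m
  Q_of_R : ∀ {k l m y}, y ∈ Q k → cj y (R l) = R m → cj y (Q l) = Q m
  tran : ∀ i j k, op i j → op i k → ∃ y ∈ Q i, cj y (R j) = R k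
  RQj : ∀ i j, op i j → R i ⊓ Q j = ⊥
  VE : ∀ i j, op i j → V ≤ (V ⊓ Q i) ⊔ R j

namespace Mo

variable {V : Subgroup G} {R Q : I → Subgroup G} {op : I → I → Prop} (M : Mo V R Q op)
include M

theorem V_le_C : V ≤ centralizer (V : Set G) := fun v hv => by
  rw [mem_centralizer_iff]
  intro w hw
  exact M.comm w hw v hv

theorem C_nor (i : I) {c : G} (hc : c ∈ centralizer (V : Set G)) : cj c (Q i) = Q i := by
  apply M.nor
  apply mem_normalizer_of_cj
  apply cj_eq_of_comm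
  intro x hx
  exact ((mem_centralizer_iff.mp hc) x (M.R_le i hx)).symm

theorem C_conj (i : I) {c x : G} (hc : c ∈ centralizer (V : Set G)) (hx : x ∈ Q i) : c * x * c⁻¹ ∈ Q i := by
  have := conj_mem_cj (c := c) hx
  rwa [M.C_nor i hc] at this

theorem Q_cent {i : I} {y : G} (hy : y ∈ Q i) {c : G} (hc : c ∈ centralizer (V : Set G)) :
    y * c * y⁻¹ ∈ centralizer (V : Set G) := by
  rw [mem_centralizer_iff] at hc ⊢
  intro v hv
  have h1 : y⁻¹ * v * y ∈ V := by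
    have := (mem_normalizer_iff.mp ((normalizer (V : Set G)).inv_mem (M.Q_V i hy)) v).mp hv
    rwa [inv_inv] at this
  have h2 := hc _ h1
  calc v * (y * c * y⁻¹) = y * ((y⁻¹ * v * y) * c) * y⁻¹ := by group
    _ = y * (c * (y⁻¹ * v * y)) * y⁻¹ := by rw [h2]
    _ = y * c * y⁻¹ * v := by group

theorem Q_V' {i : I} {y v : G} (hy : y ∈ Q i) (hv : v ∈ V) : y * v * y⁻¹ ∈ V :=
  (mem_normalizer_iff.mp (M.Q_V i hy) v).mp hv

theorem RQ' (i : I) {y : G} (hy : y ∈ Q i) : cj y (R i) = R i :=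
  cj_eq_of_comm fun x hx => (M.RQ i x hx y hy).symm

/-- `Q k ⊓ Q l` centralises `V` -/
theorem meet_le_C {k l : I} (h : op k l) {f : G} (hk : f ∈ Q k) (hl : f ∈ Q l) :
    f ∈ centralizer (V : Set G) := M.fixj k l h f hk (M.RQ' l hl)

/-- elements of `(Q k ⊓ Q l) V` -/
theorem mem_FF {k l : I} (h : op k l) {x : G} :
    x ∈ (Q k ⊓ Q l) ⊔ V ↔ ∃ f ∈ Q k ⊓ Q l, ∃ v ∈ V, f * v = x := by
  have hn : Q k ⊓ Q l ≤ normalizer (V : Set G) := fun f hf => M.Q_V k hf.1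
  have := Subgroup.coe_mul_of_left_le_normalizer_right (Q k ⊓ Q l) V hn
  rw [← SetLike.mem_coe, this, Set.mem_mul]
  rfl

theorem FF_le {k l m : I} (hl : op k l) (hm : op k m) : (Q k ⊓ Q m) ⊔ V ≤ (Q k ⊓ Q l) ⊔ V := by
  rw [sup_le_iff]
  refine ⟨?_, le_sup_right⟩
  intro f hf
  obtain ⟨y, hy, hyR⟩ := M.tran k l m hl hm
  have hyQ := M.Q_of_R hy hyR
  have h1 : y⁻¹ * f * y ∈ Q l := by rw [← mem_cj, hyQ]; exact hf.2
  have h2 : y⁻¹ * f * y ∈ Q k := (Q k).mul_mem ((Q k).mul_mem ((Q k).inv_mem hy) hf.1) hy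
  have h3 := M.QQ k _ hy _ h2
  rw [M.mem_FF hl]
  refine ⟨y⁻¹ * f * y, ⟨h2, h1⟩, _, M.R_le k h3, ?_⟩
  rw [← M.RQ k _ h3 _ h2]
  group

/-- the group `(Q k ⊓ Q l) V` does not depend on `k ≠ l` -/
theorem FF_all {i j k l : I} (h : op i j) (h' : op k l) : (Q k ⊓ Q l) ⊔ V ≤ (Q i ⊓ Q j) ⊔ V := by
  obtain ⟨c, hkc, hci⟩ := M.conn k i
  calc (Q k ⊓ Q l) ⊔ V ≤ (Q k ⊓ Q c) ⊔ V := M.FF_le hkc h'
    _ = (Q c ⊓ Q k) ⊔ V := by rw [inf_comm]
    _ ≤ (Q c ⊓ Q i) ⊔ V := M.FF_le hci (M.symm hkc)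
    _ = (Q i ⊓ Q c) ⊔ V := by rw [inf_comm]
    _ ≤ (Q i ⊓ Q j) ⊔ V := M.FF_le h (M.symm hci)

theorem FF_eq {i j k l : I} (h : op i j) (h' : op k l) : (Q k ⊓ Q l) ⊔ V = (Q i ⊓ Q j) ⊔ V :=
  le_antisymm (M.FF_all h h') (M.FF_all h' h)

/-- every `Q k` normalises `W := (Q i ⊓ Q j) V`, and acts trivially on `W / V` -/
theorem Q_W {i j : I} (h : op i j) {k : I} {y w : G} (hy : y ∈ Q k) (hw : w ∈ (Q i ⊓ Q j) ⊔ V) :
    y * w * y⁻¹ * w⁻¹ ∈ V := by
  obtain ⟨l, hl, -⟩ := M.conn k k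
  rw [← M.FF_eq h hl, M.mem_FF hl] at hw
  obtain ⟨f, hf, v, hv, rfl⟩ := hw
  have h1 := M.QQ k _ hy _ hf.1
  have hfC := M.meet_le_C hl hf.1 hf.2
  have h2 := M.Q_V' hy hv
  have h3 : (y * f * y⁻¹ * f⁻¹) * (f * ((y * v * y⁻¹) * v⁻¹) * f⁻¹) ∈ V := by
    refine V.mul_mem (M.R_le k h1) ?_
    have h4 : (y * v * y⁻¹) * v⁻¹ ∈ V := V.mul_mem h2 (V.inv_mem hv)
    have h5 := (mem_centralizer_iff.mp hfC) _ h4
    rw [← h5, mul_assoc, mul_inv_cancel, mul_one]
    exact h4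
  have h6 : y * (f * v) * y⁻¹ * (f * v)⁻¹ = (y * f * y⁻¹ * f⁻¹) * (f * ((y * v * y⁻¹) * v⁻¹) * f⁻¹) := by
    group
  rw [h6]; exact h3

theorem Q_W' {i j : I} (h : op i j) {k : I} {y w : G} (hy : y ∈ Q k) (hw : w ∈ (Q i ⊓ Q j) ⊔ V) :
    y * w * y⁻¹ ∈ (Q i ⊓ Q j) ⊔ V := by
  have h1 : V ≤ (Q i ⊓ Q j) ⊔ V := le_sup_right
  have h2 := mul_mem (h1 (M.Q_W h hy hw)) hw
  have h3 : y * w * y⁻¹ * w⁻¹ * w = y * w * y⁻¹ := by group
  rwa [h3] at h2

/-- `y ∈ Q k`, `b ∈ Q l ⊓ C(V)`: `[y, b] ∈ Q k ⊓ C(V)` -/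
theorem comm_mem {k l : I} {y b : G} (hy : y ∈ Q k) (hb : b ∈ Q l) (hbC : b ∈ centralizer (V : Set G)) :
    y * b * y⁻¹ * b⁻¹ ∈ Q k ∧ y * b * y⁻¹ * b⁻¹ ∈ centralizer (V : Set G) := by
  constructor
  · have h1 := M.C_conj k hbC ((Q k).inv_mem hy)
    have h2 : y * b * y⁻¹ * b⁻¹ = y * (b * y⁻¹ * b⁻¹) := by group
    rw [h2]
    exact (Q k).mul_mem hy h1
  · exact mul_mem (M.Q_cent hy hbC) (inv_mem hbC)

/-- two elements of the `Q k ⊓ C(V)` commute modulo `W` -/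
theorem comm_AA {i j : I} (h : op i j) {k l : I} (hkl : op k l) {a b : G} (ha : a ∈ Q k) (haC : a ∈ centralizer (V : Set G))
    (hb : b ∈ Q l) (hbC : b ∈ centralizer (V : Set G)) : a * b * a⁻¹ * b⁻¹ ∈ (Q i ⊓ Q j) ⊔ V := by
  have h1 := (M.comm_mem ha hb hbC).1
  have h2 : a * b * a⁻¹ * b⁻¹ ∈ Q l := (Q l).mul_mem (M.C_conj l haC hb) ((Q l).inv_mem hb)
  rw [← M.FF_eq h hkl]
  exact mem_sup_left (mem_inf.mpr ⟨h1, h2⟩)

/-- **the spread**: an element of `Q k ⊓ C(V)` which is congruent to an element of `Q l ⊓ C(V)` modulo `W` lies in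
`W` -/
theorem spread {i j : I} (h : op i j) {k l : I} (hkl : op k l) {c b : G} (hc : c ∈ Q k) (hb : b ∈ Q l)
    (hw : b⁻¹ * c ∈ (Q i ⊓ Q j) ⊔ V) : c ∈ (Q i ⊓ Q j) ⊔ V := by
  rw [← M.FF_eq h hkl] at hw ⊢
  rw [M.mem_FF hkl] at hw
  obtain ⟨f, hf, v, hv, hfv⟩ := hw
  have h1 : v ∈ (V ⊓ Q k) ⊔ R l := M.VE k l hkl hv
  have hn : V ⊓ Q k ≤ normalizer (R l : Set G) := by
    intro x hx
    apply mem_normalizer_of_cj
    apply cj_eq_of_comm
    intro r hr
    exact M.comm x hx.1 r (M.R_le l hr)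
  rw [← SetLike.mem_coe, Subgroup.coe_mul_of_left_le_normalizer_right _ _ hn, Set.mem_mul] at h1
  obtain ⟨e, he, r, hr, rfl⟩ := h1
  have he' : e ∈ V ⊓ Q k := he
  have hr' : r ∈ R l := hr
  have her : e * r = r * e := M.comm e he'.1 r (M.R_le l hr')
  have h2 : c * e⁻¹ = b * f * r := by
    have : c = b * (f * (e * r)) := by rw [hfv]; group
    rw [this, her]; group
  have h3 : c * e⁻¹ ∈ Q k ⊓ Q l := by
    refine mem_inf.mpr ⟨(Q k).mul_mem hc ((Q k).inv_mem he'.2), ?_⟩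
    rw [h2]
    exact (Q l).mul_mem ((Q l).mul_mem hb hf.2) (M.R_Q l hr')
  rw [M.mem_FF hkl]
  exact ⟨_, h3, e, he'.1, by group⟩

/-! ### matching elements -/

/-- `y ∈ Q i`, `y' ∈ Q j` and `y : j ↦ l`, `y' : i ↦ l`. For `a ∈ Q i ⊓ C(V)`, `b := [y', a]`: `[y, b] ≡ a` modulo `W`. -/
theorem match_comm {i j : I} (h : op i j) {y y' : G} (hy : y ∈ Q i) (hy' : y' ∈ Q j)
    (hm : cj y (R j) = cj y' (R i)) {a : G} (ha : a ∈ Q i) (haC : a ∈ centralizer (V : Set G)) :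
    y * (y' * a * y'⁻¹ * a⁻¹) * y⁻¹ * (y' * a * y'⁻¹ * a⁻¹)⁻¹ * a⁻¹ ∈ (Q i ⊓ Q j) ⊔ V := by
  obtain ⟨l, hl, hlR, hlQ⟩ := M.move h hy
  have hlQ' : cj y' (Q i) = Q l := M.Q_of_R hy' (hm.symm.trans hlR)
  set b := y' * a * y'⁻¹ * a⁻¹ with hbdef
  obtain ⟨hb, hbC⟩ := M.comm_mem hy' ha haC
  obtain ⟨ha2, ha2C⟩ := M.comm_mem hy hb hbC
  set a2 := y * b * y⁻¹ * b⁻¹ with ha2def
  -- `b a = y' a y'⁻¹ ∈ Q l`, `a2 b = y b y⁻¹ ∈ Q l`
  have h1 : b * a ∈ Q l := by
    have : b * a = y' * a * y'⁻¹ := by rw [hbdef]; group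
    rw [this, ← hlQ']; exact conj_mem_cj ha
  have h2 : a2 * b ∈ Q l := by
    have : a2 * b = y * b * y⁻¹ := by rw [ha2def]; group
    rw [this, ← hlQ]; exact conj_mem_cj hb
  have h3 : (a2 * b) * (b * a)⁻¹ ∈ Q l := mul_mem h2 (inv_mem h1)
  -- `(a2 b) (b a)⁻¹ = a2 b a⁻¹ b⁻¹`
  have h4 := M.comm_AA h (M.symm h) hb hbC ha haC
  have h5 : a2 * a⁻¹ ∈ Q i := mul_mem ha2 (inv_mem ha)
  have h6 : ((a2 * b) * (b * a)⁻¹)⁻¹ * (a2 * a⁻¹) ∈ (Q i ⊓ Q j) ⊔ V := by
    have : ((a2 * b) * (b * a)⁻¹)⁻¹ * (a2 * a⁻¹) = b * a * b⁻¹ * a⁻¹ := by group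
    rw [this]
    exact h4
  exact M.spread h hl h5 h3 h6

/-- an element of `Q i` that moves `R j` acts without fixed points on `(Q j ⊓ C(V)) W / W` -/
theorem fpf_one {i j : I} (h : op i j) {y : G} (hy : y ∈ Q i) (hmv : ∃ k, op j k ∧ cj y (R j) = R k)
    {b : G} (hb : b ∈ Q j)
    (hf : y * b * y⁻¹ * b⁻¹ ∈ (Q i ⊓ Q j) ⊔ V) : b ∈ (Q i ⊓ Q j) ⊔ V := by
  obtain ⟨m, hmj, hmR⟩ := hmv
  have hmQ := M.Q_of_R hy hmR
  have h1 : y * b * y⁻¹ ∈ Q m := by rw [← hmQ]; exact conj_mem_cj hb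
  have hbi : b ∈ Q j := hb
  refine M.spread h hmj hb h1 ?_
  -- `(y b y⁻¹)⁻¹ b = (y b y⁻¹)⁻¹ [y, b]⁻¹ (y b y⁻¹)`
  have h2 : (y * b * y⁻¹)⁻¹ * b = b⁻¹ * (y * b * y⁻¹ * b⁻¹)⁻¹ * b := by group
  rw [h2]
  have h3 := M.Q_W' h (inv_mem hb) (inv_mem hf)
  rwa [inv_inv] at h3

end Mo

/-- A torus element `t = (y y' y)(z z' z)`, `y, z ∈ Q i`, `y', z' ∈ Q j`. -/
structure ToO (V : Subgroup G) (R Q : I → Subgroup G) (op : I → I → Prop) (i j : I) (y y' z z' : G) : Prop where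
  hy : y ∈ Q i
  hz : z ∈ Q i
  hy' : y' ∈ Q j
  hz' : z' ∈ Q j
  ym : cj y (R j) = cj y' (R i)
  zm : cj z (R j) = cj z' (R i)
  ne : ∃ k, op j k ∧ cj (z⁻¹ * y) (R j) = R k
  /-- `t` centralises `R i` -/
  tR : ∀ r ∈ R i, (y * y' * y) * (z * z' * z) * r = r * ((y * y' * y) * (z * z' * z))
  /-- `t` is fixed point free on `(V ⊓ Q i) / R i` -/
  tE : ∀ e ∈ V ⊓ Q i, e⁻¹ * ((y * y' * y) * (z * z' * z) * e * ((y * y' * y) * (z * z' * z))⁻¹) ∈ R i → e ∈ R i
  /-- `t` is fixed point free on `Q i / (Q i ⊓ C(V))` -/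
  tU : ∀ u ∈ Q i, u⁻¹ * ((y * y' * y) * (z * z' * z) * u * ((y * y' * y) * (z * z' * z))⁻¹) ∈
    centralizer (V : Set G) → u ∈ centralizer (V : Set G)

namespace Mo

variable {V : Subgroup G} {R Q : I → Subgroup G} {op : I → I → Prop} (M : Mo V R Q op)
include M

/-- `n = y y' y` interchanges `Q i` and `Q j`, and induces `a ↦ [y', a]` on `(Q i ⊓ C(V)) W / W` -/
theorem swap {i j : I} (h : op i j) {y y' : G} (hy : y ∈ Q i) (hy' : y' ∈ Q j)
    (hm : cj y (R j) = cj y' (R i)) : cj (y * y' * y) (Q i) = Q j ∧ cj (y * y' * y) (Q j) = Q i ∧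
      cj (y * y' * y) (R i) = R j ∧ cj (y * y' * y) (R j) = R i := by
  obtain ⟨l, hl, hlR, hlQ⟩ := M.move h hy
  have hlR' : cj y' (R i) = R l := hm.symm.trans hlR
  have hlQ' : cj y' (Q i) = Q l := M.Q_of_R hy' hlR'
  -- `y R l = R j`, as `y² ∈ R i ≤ V`
  have hyy : y * y ∈ V := M.R_le i (M.Qsq i y hy)
  have hyyC := M.V_le_C hyy
  have hyyR : ∀ k, cj (y * y) (R k) = R k := fun k => cj_eq_of_comm fun x hx => M.comm _ hyy _ (M.R_le k hx)
  have hyyQ : ∀ k, cj (y * y) (Q k) = Q k := fun k => M.C_nor k hyyC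
  have hyy' : y' * y' ∈ V := M.R_le j (M.Qsq j y' hy')
  have hyyR' : ∀ k, cj (y' * y') (R k) = R k := fun k => cj_eq_of_comm fun x hx => M.comm _ hyy' _ (M.R_le k hx)
  have hyyQ' : ∀ k, cj (y' * y') (Q k) = Q k := fun k => M.C_nor k (M.V_le_C hyy')
  have h1 : cj y (Q l) = Q j := by rw [← hlQ, ← cj_mul]; exact hyyQ j
  have h2 : cj y (R l) = R j := by rw [← hlR, ← cj_mul]; exact hyyR j
  have h3 : cj y' (Q l) = Q i := by rw [← hlQ', ← cj_mul]; exact hyyQ' i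
  have h4 : cj y' (R l) = R i := by rw [← hlR', ← cj_mul]; exact hyyR' i
  refine ⟨?_, ?_, ?_, ?_⟩
  · rw [cj_mul, cj_mul, cj_eq_of_mem hy, hlQ', h1]
  · rw [cj_mul, cj_mul, hlQ, h3, cj_eq_of_mem hy]
  · rw [cj_mul, cj_mul, M.RQ' i hy, hlR', h2]
  · rw [cj_mul, cj_mul, hlR, h4, M.RQ' i hy]

theorem mem_nor_W {i j : I} (h : op i j) {k : I} {y : G} (hy : y ∈ Q k) :
    y ∈ normalizer (((Q i ⊓ Q j) ⊔ V : Subgroup G) : Set G) := by
  rw [mem_normalizer_iff]
  intro w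
  constructor
  · exact fun hw => M.Q_W' h hy hw
  · intro hw
    have h1 := M.Q_W' h ((Q k).inv_mem hy) hw
    have h2 : y⁻¹ * (y * w * y⁻¹) * y⁻¹⁻¹ = w := by group
    rwa [h2] at h1

end Mo

namespace Mo

variable {V : Subgroup G} {R Q : I → Subgroup G} {op : I → I → Prop} (M : Mo V R Q op)
include M

/-- `t` acts without fixed points on `(Q i ⊓ C(V)) W / W` -/
theorem tor_fpf {i j : I} (h : op i j) {y y' z z' : G} (T : ToO V R Q op i j y y' z z') {a : G} (ha : a ∈ Q i)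
    (haC : a ∈ centralizer (V : Set G))
    (hf : (y * y' * y) * (z * z' * z) * a * ((y * y' * y) * (z * z' * z))⁻¹ * a⁻¹ ∈ (Q i ⊓ Q j) ⊔ V) :
    a ∈ (Q i ⊓ Q j) ⊔ V := by
  set W : Subgroup G := (Q i ⊓ Q j) ⊔ V with hW
  let N : Subgroup G := normalizer (W : Set G)
  let N' : Subgroup ↥N := W.subgroupOf N
  have hVW : V ≤ W := le_sup_right
  have hRW : ∀ k, R k ≤ W := fun k => (M.R_le k).trans hVW
  have hN'n : N'.Normal := Subgroup.normal_subgroupOf_of_le_normalizer le_rfl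
  have hQN : ∀ {k : I} {x : G}, x ∈ Q k → x ∈ N := fun {k x} hx => M.mem_nor_W h hx
  let q : ↥N →* ↥N ⧸ N' := QuotientGroup.mk' N'
  have key : ∀ x x' : ↥N, (x : G) * (x' : G)⁻¹ ∈ W → q x = q x' := by
    intro x x' hx
    have h1 : q (x * x'⁻¹) = 1 := by
      have : (x * x'⁻¹) ∈ N' := by
        rw [mem_subgroupOf]; exact hx
      exact (QuotientGroup.eq_one_iff _).mpr this
    rw [map_mul, map_inv] at h1
    exact mul_inv_eq_one.mp h1
  have key' : ∀ x x' : ↥N, q x = q x' → (x : G) * (x' : G)⁻¹ ∈ W := by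
    intro x x' hx
    have h1 : q (x * x'⁻¹) = 1 := by rw [map_mul, map_inv, hx, mul_inv_cancel]
    have h2 := (QuotientGroup.eq_one_iff _).mp h1
    rw [mem_subgroupOf] at h2
    exact h2
  -- the elements
  obtain ⟨hb, hbC⟩ := M.comm_mem T.hz' ha haC
  set b := z' * a * z'⁻¹ * a⁻¹ with hbdef
  obtain ⟨ha3, ha3C⟩ := M.comm_mem T.hy hb hbC
  set a3 := y * b * y⁻¹ * b⁻¹ with ha3def
  have hm1 := M.match_comm h T.hz T.hz' T.zm ha haC
  rw [← hbdef] at hm1
  have hm2 := M.match_comm (M.symm h) T.hy' T.hy T.ym.symm hb hbC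
  rw [← ha3def, inf_comm (Q j) (Q i)] at hm2
  let Y : ↥N := ⟨y, hQN T.hy⟩
  let Y' : ↥N := ⟨y', hQN T.hy'⟩
  let Z : ↥N := ⟨z, hQN T.hz⟩
  let Z' : ↥N := ⟨z', hQN T.hz'⟩
  let A : ↥N := ⟨a, hQN ha⟩
  let B : ↥N := ⟨b, hQN hb⟩
  let A3 : ↥N := ⟨a3, hQN ha3⟩
  have e1 : q Z * q A = q A * q Z := by
    rw [← map_mul, ← map_mul]
    apply key
    have : (z * a) * (a * z)⁻¹ = z * a * z⁻¹ * a⁻¹ := by group
    change (z * a) * (a * z)⁻¹ ∈ W
    rw [this]; exact hRW i (M.QQ i z T.hz a ha)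
  have e2 : q Z' * q A = q B * q A * q Z' := by
    rw [← map_mul, ← map_mul, ← map_mul]
    apply congrArg
    apply Subtype.ext
    change z' * a = b * a * z'
    rw [hbdef]; group
  have e4 : q A * q B = q B * q A := by
    rw [← map_mul, ← map_mul]
    apply key
    have : (a * b) * (b * a)⁻¹ = a * b * a⁻¹ * b⁻¹ := by group
    change (a * b) * (b * a)⁻¹ ∈ W
    rw [this]; exact M.comm_AA h h ha haC hb hbC
  have e5 : q A * q A = 1 := by
    rw [← map_mul, ← map_one q]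
    apply key
    change (a * a) * (1 : G)⁻¹ ∈ W
    rw [inv_one, mul_one]; exact hRW i (M.Qsq i a ha)
  have e3 : q Z * q B = q A * q B * q Z := by
    rw [← map_mul, ← map_mul, ← map_mul]
    apply key
    have : (z * b) * (a * b * z)⁻¹ = a * (a⁻¹ * (z * b * z⁻¹ * b⁻¹ * a⁻¹) * a⁻¹⁻¹) * a⁻¹ := by group
    change (z * b) * (a * b * z)⁻¹ ∈ W
    rw [this]
    exact M.Q_W' h ha (M.Q_W' h (inv_mem ha) hm1)
  have r1 := swap_abs e1 e2 e3 e4 e5
  have f1 : q Y * q B = q A3 * q B * q Y := by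
    rw [← map_mul, ← map_mul, ← map_mul]
    apply congrArg
    apply Subtype.ext
    change y * b = a3 * b * y
    rw [ha3def]; group
  have f2 : q Y' * q A3 = q B * q A3 * q Y' := by
    rw [← map_mul, ← map_mul, ← map_mul]
    apply key
    have : (y' * a3) * (b * a3 * y')⁻¹ = y' * a3 * y'⁻¹ * a3⁻¹ * b⁻¹ := by group
    change (y' * a3) * (b * a3 * y')⁻¹ ∈ W
    rw [this]
    exact hm2
  have f3 : q Y' * q B = q B * q Y' := by
    rw [← map_mul, ← map_mul]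
    apply key
    have : (y' * b) * (b * y')⁻¹ = y' * b * y'⁻¹ * b⁻¹ := by group
    change (y' * b) * (b * y')⁻¹ ∈ W
    rw [this]; exact hRW j (M.QQ j y' T.hy' b hb)
  have f4 : q A3 * q B = q B * q A3 := by
    rw [← map_mul, ← map_mul]
    apply key
    have : (a3 * b) * (b * a3)⁻¹ = a3 * b * a3⁻¹ * b⁻¹ := by group
    change (a3 * b) * (b * a3)⁻¹ ∈ W
    rw [this]; exact M.comm_AA h h ha3 ha3C hb hbC
  have f5 : q B * q B = 1 := by
    rw [← map_mul, ← map_one q]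
    apply key
    change (b * b) * (1 : G)⁻¹ ∈ W
    rw [inv_one, mul_one]; exact hRW j (M.Qsq j b hb)
  have f6 : q Y * q A3 = q A3 * q Y := by
    rw [← map_mul, ← map_mul]
    apply key
    have : (y * a3) * (a3 * y)⁻¹ = y * a3 * y⁻¹ * a3⁻¹ := by group
    change (y * a3) * (a3 * y)⁻¹ ∈ W
    rw [this]; exact hRW i (M.QQ i y T.hy a3 ha3)
  have r2 := swap_abs' f1 f2 f3 f4 f5 f6
  -- `t a t⁻¹ ≡ a3`
  have r3 : q A3 = q A := by
    have g1 : q (((Y * Y' * Y) * (Z * Z' * Z)) * A * ((Y * Y' * Y) * (Z * Z' * Z))⁻¹) = q A := key _ _ hf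
    have g2 : (q Y * q Y' * q Y) * (q Z * q Z' * q Z) * q A =
        q A3 * ((q Y * q Y' * q Y) * (q Z * q Z' * q Z)) := by
      rw [mul_assoc, r1, ← mul_assoc, r2, mul_assoc]
    rw [map_mul, map_mul, map_mul, map_mul, map_mul, map_mul, map_mul, map_inv, map_mul, map_mul, map_mul,
      map_mul, map_mul, g2, mul_inv_cancel_right] at g1
    exact g1
  -- `[y, b] ≡ [z, b]`
  have r4 : q Y * q B * (q Y)⁻¹ = q Z * q B * (q Z)⁻¹ := by
    rw [f1, e3, r3]; group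
  have hyz : z⁻¹ * y ∈ Q i := mul_mem (inv_mem T.hz) T.hy
  have hbW : b ∈ W := by
    apply M.fpf_one h hyz T.ne hb
    have g1 : q ((Z⁻¹ * Y) * B * (Z⁻¹ * Y)⁻¹) = q B := by
      have : (q Z)⁻¹ * (q Y * q B * (q Y)⁻¹) * q Z = q B := by rw [r4]; group
      rw [← this]
      simp only [map_mul, map_inv]
      group
    exact key' _ _ g1
  -- `a ≡ [z, b] ≡ 1`
  have hB1 : q B = 1 := by
    rw [← map_one q]
    apply key
    change b * (1 : G)⁻¹ ∈ W
    rw [inv_one, mul_one]; exact hbW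
  have hA1 : q A = 1 := by
    rw [hB1, mul_one, mul_one] at e3
    have : q A * q Z = 1 * q Z := by rw [one_mul]; exact e3.symm
    exact mul_right_cancel this
  have := key' A 1 (by rw [hA1, map_one])
  change a * (1 : G)⁻¹ ∈ W at this
  rwa [inv_one, mul_one] at this

/-- the elements of `⟨Q i, Q j⟩` act trivially on `W / V` -/
theorem triv_mul {W : Subgroup G} (hVW : V ≤ W) {x x' : G} (hx : ∀ w ∈ W, x * w * x⁻¹ * w⁻¹ ∈ V)
    (hx' : ∀ w ∈ W, x' * w * x'⁻¹ * w⁻¹ ∈ V) : ∀ w ∈ W, (x * x') * w * (x * x')⁻¹ * w⁻¹ ∈ V := by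
  have _ := M.comm
  intro w hw
  have h1 := hx' w hw
  have h2 : x' * w * x'⁻¹ ∈ W := by
    have := W.mul_mem (hVW h1) hw
    have h3 : x' * w * x'⁻¹ * w⁻¹ * w = x' * w * x'⁻¹ := by group
    rwa [h3] at this
  have h4 := hx _ h2
  have h5 : (x * x') * w * (x * x')⁻¹ * w⁻¹ =
      (x * (x' * w * x'⁻¹) * x⁻¹ * (x' * w * x'⁻¹)⁻¹) * (x' * w * x'⁻¹ * w⁻¹) := by group
  rw [h5]
  exact V.mul_mem h4 h1

/-- **`Q i ⊓ Q j ≤ V`** -/
theorem meet_le [Finite G] {i j : I} (h : op i j) {y y' z z' : G} (T : ToO V R Q op i j y y' z z') :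
    Q i ⊓ Q j ≤ V := by
  set W : Subgroup G := (Q i ⊓ Q j) ⊔ V with hW
  set t : G := (y * y' * y) * (z * z' * z) with ht
  have hVW : V ≤ W := le_sup_right
  obtain ⟨s1, s2, -, -⟩ := M.swap h T.hy T.hy' T.ym
  obtain ⟨s3, s4, -, -⟩ := M.swap h T.hz T.hz' T.zm
  have tQi : cj t (Q i) = Q i := by rw [ht, cj_mul, s3, s2]
  have tQj : cj t (Q j) = Q j := by rw [ht, cj_mul, s4, s1]
  have tQi' : ∀ u ∈ Q i, t * u * t⁻¹ ∈ Q i := fun u hu => by
    have := conj_mem_cj (c := t) hu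
    rwa [tQi] at this
  have tQj' : ∀ u ∈ Q j, t * u * t⁻¹ ∈ Q j := fun u hu => by
    have := conj_mem_cj (c := t) hu
    rwa [tQj] at this
  have tV : t ∈ normalizer (V : Set G) := by
    have a1 := M.Q_V i T.hy
    have a2 := M.Q_V j T.hy'
    have a3 := M.Q_V i T.hz
    have a4 := M.Q_V j T.hz'
    exact mul_mem (mul_mem (mul_mem a1 a2) a1) (mul_mem (mul_mem a3 a4) a3)
  have tV' : ∀ v ∈ V, t * v * t⁻¹ ∈ V := fun v hv => (mem_normalizer_iff.mp tV v).mp hv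
  have tC' : ∀ c ∈ centralizer (V : Set G), t * c * t⁻¹ ∈ centralizer (V : Set G) := by
    intro c hc
    rw [mem_centralizer_iff] at hc ⊢
    intro v hv
    have h1 : t⁻¹ * v * t ∈ V := by
      have := (mem_normalizer_iff.mp ((normalizer (V : Set G)).inv_mem tV) v).mp hv
      rwa [inv_inv] at this
    have h2 := hc _ h1
    calc v * (t * c * t⁻¹) = t * ((t⁻¹ * v * t) * c) * t⁻¹ := by group
      _ = t * (c * (t⁻¹ * v * t)) * t⁻¹ := by rw [h2]
      _ = t * c * t⁻¹ * v := by group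
  have tW : ∀ w ∈ W, t * w * t⁻¹ * w⁻¹ ∈ V := by
    have b1 : ∀ w ∈ W, y * w * y⁻¹ * w⁻¹ ∈ V := fun w hw => M.Q_W h T.hy hw
    have b2 : ∀ w ∈ W, y' * w * y'⁻¹ * w⁻¹ ∈ V := fun w hw => M.Q_W h T.hy' hw
    have b3 : ∀ w ∈ W, z * w * z⁻¹ * w⁻¹ ∈ V := fun w hw => M.Q_W h T.hz hw
    have b4 : ∀ w ∈ W, z' * w * z'⁻¹ * w⁻¹ ∈ V := fun w hw => M.Q_W h T.hz' hw
    exact M.triv_mul hVW (M.triv_mul hVW (M.triv_mul hVW b1 b2) b1)
      (M.triv_mul hVW (M.triv_mul hVW b3 b4) b3)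
  have tR' : ∀ r ∈ R i, t * r * t⁻¹ = r := fun r hr => by
    have h0 : t * r = r * t := T.tR r hr
    rw [h0, mul_inv_cancel_right]
  -- `F := Q i ⊓ Q j` is abelian
  have hRQ : ∀ r ∈ R i, r ∈ Q j → r = 1 := fun r h1 h2 => by
    have : r ∈ R i ⊓ Q j := mem_inf.mpr ⟨h1, h2⟩
    rw [M.RQj i j h, mem_bot] at this
    exact this
  have hFab : ∀ f ∈ Q i ⊓ Q j, ∀ f' ∈ Q i ⊓ Q j, f * f' = f' * f := by
    intro f hf f' hf'
    have h1 := M.QQ i f hf.1 f' hf'.1
    have h2 := M.RQ j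
    have h3 : f * f' * f⁻¹ * f'⁻¹ ∈ Q j :=
      (Q j).mul_mem ((Q j).mul_mem ((Q j).mul_mem hf.2 hf'.2) ((Q j).inv_mem hf.2)) ((Q j).inv_mem hf'.2)
    have h4 := hRQ _ h1 h3
    have h5 : f * f' = (f * f' * f⁻¹ * f'⁻¹) * (f' * f) := by group
    rw [h5, h4, one_mul]
  -- fixed points of `t` on `F`
  have hfix : ∀ c ∈ Q i ⊓ Q j, t * c * t⁻¹ = c → c = 1 := by
    intro c hc hct
    let Kc : Subgroup G := centralizer ({c} : Set G)
    have memK : ∀ u, c * u = u * c → u ∈ Kc := fun u hu => mem_centralizer_singleton_iff.mpr (by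
      first | exact hu | exact hu.symm)
    have hRK : ∀ r ∈ R i, r ∈ Kc := fun r hr => memK r (M.RQ i r hr c hc.1).symm
    have hFK : ∀ f ∈ Q i ⊓ Q j, f ∈ Kc := fun f hf => memK f (hFab c hc f hf)
    have hD : ∀ u ∈ Q i, u⁻¹ * (t * u * t⁻¹) ∈ Kc := by
      intro u hu
      have h1 := M.QQ i c hc.1 u hu
      have h2 := tR' _ h1
      have h3 : c * (t * u * t⁻¹) * c⁻¹ = (c * u * c⁻¹ * u⁻¹) * (t * u * t⁻¹) := by
        have e1 : t * (c * u * c⁻¹ * u⁻¹) * t⁻¹ =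
            (t * c * t⁻¹) * (t * u * t⁻¹) * (t * c * t⁻¹)⁻¹ * (t * u * t⁻¹)⁻¹ := by group
        rw [e1, hct] at h2
        rw [← h2]; group
      apply memK
      have h4 : c * (u⁻¹ * (t * u * t⁻¹)) * c⁻¹ = u⁻¹ * (t * u * t⁻¹) := by
        have e2 : c * (u⁻¹ * (t * u * t⁻¹)) * c⁻¹ = (c * u * c⁻¹)⁻¹ * (c * (t * u * t⁻¹) * c⁻¹) := by group
        rw [e2, h3]; group
      calc c * (u⁻¹ * (t * u * t⁻¹)) = (c * (u⁻¹ * (t * u * t⁻¹)) * c⁻¹) * c := by group
        _ = u⁻¹ * (t * u * t⁻¹) * c := by rw [h4]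
    -- (i)
    have hE : ∀ e ∈ V ⊓ Q i, e ∈ Kc := by
      intro e he
      obtain ⟨g, hg, n, hn, rfl⟩ := exists_of_fpf (H := V ⊓ Q i) (N := R i) t
        (fun x hx => mem_inf.mpr ⟨tV' x hx.1, tQi' x hx.2⟩) (fun x hx => by rw [tR' x hx]; exact hx)
        (fun x hx n hn => by
          rw [M.comm x hx.1 n (M.R_le i hn), mul_inv_cancel_right]; exact hn) T.tE e he
      exact Kc.mul_mem (hD g hg.2) (hRK n hn)
    -- (ii)
    have hA : ∀ a ∈ Q i ⊓ centralizer (V : Set G), a ∈ Kc := by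
      intro a ha
      obtain ⟨g, hg, n, hn, rfl⟩ := exists_of_fpf (H := Q i ⊓ centralizer (V : Set G))
        (N := (Q i ⊓ centralizer (V : Set G)) ⊓ W) t
        (fun x hx => mem_inf.mpr ⟨tQi' x hx.1, tC' x hx.2⟩)
        (fun x hx => mem_inf.mpr ⟨mem_inf.mpr ⟨tQi' x hx.1.1, tC' x hx.1.2⟩, by
          have h1 := tW x hx.2
          have h2 : t * x * t⁻¹ = (t * x * t⁻¹ * x⁻¹) * x := by group
          rw [h2]; exact W.mul_mem (hVW h1) hx.2⟩)
        (fun x hx n hn => mem_inf.mpr ⟨mem_inf.mpr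
          ⟨(Q i).mul_mem ((Q i).mul_mem hx.1 hn.1.1) ((Q i).inv_mem hx.1),
            mul_mem (mul_mem hx.2 hn.1.2) (inv_mem hx.2)⟩, M.Q_W' h hx.1 hn.2⟩)
        (fun x hx hn => mem_inf.mpr ⟨hx, by
          apply M.tor_fpf h T hx.1 hx.2
          have h1 := M.Q_W' h hx.1 hn.2
          have h2 : x * (x⁻¹ * (t * x * t⁻¹)) * x⁻¹ = t * x * t⁻¹ * x⁻¹ := by group
          rw [h2] at h1
          exact h1⟩) a ha
      refine Kc.mul_mem (hD g hg.1) ?_
      obtain ⟨f, hf, v, hv, rfl⟩ := (M.mem_FF h).mp hn.2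
      have h3 : v ∈ Q i := by
        have h4 := (Q i).mul_mem ((Q i).inv_mem hf.1) hn.1.1
        rwa [inv_mul_cancel_left] at h4
      exact Kc.mul_mem (hFK f hf) (hE v (mem_inf.mpr ⟨hv, h3⟩))
    -- (iii)
    have hQ : ∀ u ∈ Q i, u ∈ Kc := by
      intro u hu
      obtain ⟨g, hg, n, hn, rfl⟩ := exists_of_fpf (H := Q i) (N := Q i ⊓ centralizer (V : Set G)) t
        tQi' (fun x hx => mem_inf.mpr ⟨tQi' x hx.1, tC' x hx.2⟩)
        (fun x hx n hn => mem_inf.mpr ⟨(Q i).mul_mem ((Q i).mul_mem hx hn.1) ((Q i).inv_mem hx),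
          M.Q_cent hx hn.2⟩)
        (fun x hx hn => mem_inf.mpr ⟨hx, T.tU x hx hn.2⟩) u hu
      exact Kc.mul_mem (hD g hg) (hA n hn)
    refine hRQ c (M.cen i c hc.1 fun u hu => ?_) hc.2
    have := mem_centralizer_singleton_iff.mp (hQ u hu)
    first | exact this | exact this.symm
  -- `F = [F, t] ≤ V`
  intro f hf
  have hfV : ∀ g ∈ Q i ⊓ Q j, g⁻¹ * (t * g * t⁻¹) ∈ V := by
    intro g hg
    have h1 := tW g (mem_sup_left hg)
    have h2 := M.meet_le_C h hg.1 hg.2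
    have h3 : g⁻¹ * (t * g * t⁻¹) = g⁻¹ * (t * g * t⁻¹ * g⁻¹) * g := by group
    rw [h3, mul_assoc, (mem_centralizer_iff.mp h2) _ h1, inv_mul_cancel_left]
    exact h1
  obtain ⟨g, hg, n, hn, rfl⟩ := exists_of_fpf (H := Q i ⊓ Q j) (N := ⊥) t
    (fun x hx => mem_inf.mpr ⟨tQi' x hx.1, tQj' x hx.2⟩)
    (fun x hx => by rw [mem_bot] at hx ⊢; rw [hx]; group)
    (fun x _ n hn => by rw [mem_bot] at hn ⊢; rw [hn]; group)
    (fun x hx hn => by
      rw [mem_bot] at hn ⊢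
      exact hfix x hx (by
        have := inv_mul_eq_one.mp hn
        exact this.symm)) f hf
  rw [mem_bot] at hn
  rw [hn, mul_one]
  exact hfV g hg


end Mo

end Cfsg.Agent.Omega.NO1.BetaPlus

end

-- merged: Cfsg.Agent.Mrg.Omega.NO1.Tens.MoInst
section

section


/-!
# Type (γ) of the leaf N1: `Q_p ∩ Q_q ≤ V` for opposite points (helper914)
-/

set_option autoImplicit false
set_option linter.unusedSectionVars false

namespace Cfsg.Agent.Omega.NO1.BetaPlus.Mv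

open Subgroup
open Cfsg.Agent.Omega.NO1.Beta.Meet (cj mem_cj)

theorem cj_eq {G : Type*} [Group G] {g : G} {A B : Subgroup G} (h : Mv g A B) : cj g A = B := by
  ext x
  rw [mem_cj, h]
  have e : g * (g⁻¹ * x * g) * g⁻¹ = x := by group
  rw [e]

theorem of_cj {G : Type*} [Group G] {g : G} {A B : Subgroup G} (h : cj g A = B) : Mv g A B := by
  intro x
  rw [← h, mem_cj]
  have e : g⁻¹ * (g * x * g⁻¹) * g = x := by group
  rw [e]

end Cfsg.Agent.Omega.NO1.BetaPlus.Mv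

namespace Cfsg.Agent.Omega.NO1.PlusQ

open Subgroup Cfsg Matrix
open Cfsg.Agent.Omega.NO1.Tens
open Cfsg.Agent.Omega.NO1.BetaPlus (Mv QQ Bp Mo ToO)
open Cfsg.Agent.Omega.NO1.Beta.Meet (cj mem_cj)
open Cfsg.Agent.ZN (o2)

universe u

variable {G : Type u} [Group G] {F : Type} [Field F] {N V : Subgroup G}

variable {D : PlusQ F N V} [CharP F 2] [Finite G]

theorem mv_mob (hN : ∀ m ∈ N, Mv m V V) {g : G} (hg : g ∈ N) {A B : SL F}
    (h : ∀ X, D.act g X = Tens.act A B X) (k l : Option F) : Mv g (D.R k l) (D.R (mob A k) (mob B l)) := by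
  obtain ⟨T, hT, e⟩ := mob_spec A k
  obtain ⟨T', hT', e'⟩ := mob_spec B l
  have h1 := mv_RA hN hg h (rep k) (rep l)
  rw [e, e', RA_Bo _ _ hT hT'] at h1
  exact h1

/-- the points are different -/
theorem R_disj {i j k l : Option F} (h : D.R i j ⊓ D.R k l ≠ ⊥) : i = k ∧ j = l := by
  obtain ⟨⟨w, hwm⟩, hw1⟩ := ne_bot_iff_exists_ne_one.1 h
  have hw1' : w ≠ 1 := fun e => hw1 (Subtype.ext e)
  obtain ⟨⟨hw, c, hc⟩, -, d, hd⟩ := hwm
  have hc0 : c ≠ 0 := by
    rintro rfl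
    rw [e0_zero, act_zero] at hc
    exact hw1' (D.ker w hw hc)
  have h1 : Tens.act ((rep k)⁻¹ * rep i) ((rep l)⁻¹ * rep j) (e0 c) = e0 d := by
    rw [← act_act, ← hc, hd, Tens.act_inv_act]
  rw [act_e0] at h1
  set P := (rep k)⁻¹ * rep i with hP
  set P' := (rep l)⁻¹ * rep j with hP'
  have h01 := congrArg (fun X : M2 F => X 0 1) h1
  have h10 := congrArg (fun X : M2 F => X 1 0) h1
  have h11 := congrArg (fun X : M2 F => X 1 1) h1
  simp only [e0, _root_.Fin.isValue, _root_.Matrix.of_apply, _root_.Matrix.cons_val', _root_.Matrix.cons_val_one, _root_.Matrix.cons_val_fin_one, _root_.Matrix.cons_val_zero, _root_.mul_eq_zero] at h01 h10 h11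
  have d1 := SL_det P
  have d2 := SL_det P'
  have hB : Bo P := by
    by_contra hB
    have hB' : P.1 1 0 ≠ 0 := hB
    have e1 : P'.1 0 0 = 0 := by
      rcases h10 with h | h
      · rcases h with h | h
        · exact absurd h hB'
        · exact absurd h hc0
      · exact h
    have e2 : P'.1 1 0 = 0 := by
      rcases h11 with h | h
      · rcases h with h | h
        · exact absurd h hB'
        · exact absurd h hc0
      · exact h
    rw [e1, e2] at d2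
    simp at d2
  have hB2 : Bo P' := by
    have hB' : P.1 1 0 = 0 := hB
    show P'.1 1 0 = 0
    rcases h01 with h | h
    · rcases h with h | h
      · rw [h, hB'] at d1
        simp at d1
      · exact absurd h hc0
    · exact h
  exact ⟨(rep_inj hB).symm, (rep_inj hB2).symm⟩

theorem R_ne_bot (i j : Option F) : D.R i j ≠ ⊥ := by
  intro h
  have h1 : D.v (Tens.act (rep i) (rep j) (e0 1)) ∈ D.R i j := ⟨D.v_mem _, 1, D.e_v _⟩
  rw [h, mem_bot] at h1
  have h2 : Tens.act (rep i) (rep j) (e0 1) = 0 := by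
    rw [← D.e_v (Tens.act (rep i) (rep j) (e0 1)), h1, D.e_one]
  exact e0_ne one_ne_zero (act_eq_zero h2)

theorem R_inj {i j k l : Option F} (h : D.R i j = D.R k l) : i = k ∧ j = l :=
  R_disj (D := D) (by rw [h, inf_idem]; exact R_ne_bot k l)

namespace Cx

variable [Finite F] (h : Cx D)
include h

/-- the action of `Q (i,j)` -/
theorem QU {i j : Option F} {y : G} (hy : y ∈ QQ (D.R i j)) :
    y ∈ N ∧ ∃ a b, ∀ X, D.act y X = Tens.act (ua i a) (ua j b) X := by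
  obtain ⟨m, hm, hmA⟩ := lift_act (D := D) h.hN (rep i) (rep j)
  have hD := h.conj hm
  have e0 : (D.conj h.hN m hm).R0 = D.R i j := by
    rw [← RA_one, conj_RA h.hN hm hmA, mul_one, mul_one]; rfl
  rw [← e0] at hy
  obtain ⟨a, b, hab⟩ := hD.U hy
  have hyN := hD.Q_N hy
  refine ⟨hyN, a, b, fun X => ?_⟩
  have h1 := hab (Tens.act (rep i)⁻¹ (rep j)⁻¹ X)
  rw [conj_act h.hN hm hmA hyN, Tens.act_act_inv] at h1
  have h2 := congrArg (Tens.act (rep i) (rep j)) h1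
  rw [Tens.act_act_inv, act_act, act_act] at h2
  exact h2

theorem QU_surj (i j : Option F) (a b : F) :
    ∃ y ∈ QQ (D.R i j), ∀ X, D.act y X = Tens.act (ua i a) (ua j b) X := by
  obtain ⟨m, hm, hmA⟩ := lift_act (D := D) h.hN (rep i) (rep j)
  have hD := h.conj hm
  have e0 : (D.conj h.hN m hm).R0 = D.R i j := by
    rw [← RA_one, conj_RA h.hN hm hmA, mul_one, mul_one]; rfl
  obtain ⟨y, hy, hab⟩ := hD.U_surj a b
  have hyN := hD.Q_N hy
  refine ⟨y, by rwa [← e0], fun X => ?_⟩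
  have h1 := hab (Tens.act (rep i)⁻¹ (rep j)⁻¹ X)
  rw [conj_act h.hN hm hmA hyN, Tens.act_act_inv] at h1
  have h2 := congrArg (Tens.act (rep i) (rep j)) h1
  rw [Tens.act_act_inv, act_act, act_act] at h2
  exact h2

/-- the elements of `Q ∞` -/
theorem dn_surj (a b : F) : ∃ y ∈ QQ D.R3, ∀ X, D.act y X = Tens.act (dn a) (dn b) X := by
  obtain ⟨y, hy, hab⟩ := h.QU_surj (some 0) (some 0) a b
  rw [R_zero] at hy
  refine ⟨y, hy, fun X => ?_⟩
  rw [hab, ua, ua, rep_zero, dn_eq, dn_eq]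

/-- **The structure `Mo`.** -/
theorem mo (meet : ∀ W : Subgroup G, IsPGroup 2 W → W ≤ N →
    (∀ m ∈ N, ∀ y ∈ W, m * y * m⁻¹ ∈ W) → W ⊓ V = ⊥ → W = ⊥) :
    Mo V (fun p : Option F × Option F => D.R p.1 p.2) (fun p => QQ (D.R p.1 p.2)) Op := by
  have B := bp h meet
  have hmove : ∀ {k l : Option F × Option F}, Op k l → ∀ {y}, y ∈ QQ (D.R k.1 k.2) →
      ∃ m : Option F × Option F, Op k m ∧ Mv y (D.R l.1 l.2) (D.R m.1 m.2) := by
    intro k l hkl y hy
    obtain ⟨hyN, a, b, hab⟩ := h.QU hy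
    refine ⟨(mob (ua k.1 a) l.1, mob (ua k.2 b) l.2), ⟨fun e => hkl.1 ?_, fun e => hkl.2 ?_⟩,
      mv_mob h.hN hyN hab _ _⟩
    · simp only at e
      exact mob_inj (ua k.1 a) (by rw [mob_ua_self]; exact e)
    · simp only at e
      exact mob_inj (ua k.2 b) (by rw [mob_ua_self]; exact e)
  refine
    { comm := B.comm
      R_le := B.R_le
      R_Q := B.R_Q
      RQ := B.RQ
      QQ := fun p y hy z hz => ?_
      Qsq := fun p y hy => (B.result p).2.2.2.1 y hy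
      cen := fun p y hy hc => ?_
      Q_V := fun p y hy => (B.Q_V p hy).mem_nor
      nor := fun p c hc => (Mv.of_nor hc).QQ.cj_eq
      symm := fun {p q} hpq => B.symm p q hpq
      conn := B.conn
      fixj := fun p q hpq y hy hc => ?_
      move := fun {k l} hkl {y} hy => ?_
      Q_of_R := fun {k l m y} hy hc => (Mv.of_cj hc).QQ.cj_eq
      tran := fun p q r hpq hpr => ?_
      RQj := fun p q hpq => ?_
      VE := fun p q hpq => ?_ }
  · have := (B.result p).2.2.1 y⁻¹ (inv_mem hy) z⁻¹ (inv_mem hz)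
    rwa [inv_inv, inv_inv] at this
  · rw [← (B.result p).2.1]
    exact ⟨hy, mem_centralizer_iff.2 fun z hz => (hc z hz).symm⟩
  · obtain ⟨hyN, a, b, hab⟩ := h.QU hy
    have h1 := mv_mob h.hN hyN hab q.1 q.2
    have h2 := R_inj (h1.cj_eq.symm.trans hc)
    have ha := ua_fix hpq.1.symm h2.1
    have hb := ua_fix hpq.2.symm h2.2
    rw [← act_one_iff (D := D) h.hN hyN]
    intro X
    rw [hab, ha, hb, ua_zero, ua_zero, act_one]
  · obtain ⟨m, h1, h2⟩ := hmove hkl hy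
    exact ⟨m, h1, h2.cj_eq, h2.QQ.cj_eq⟩
  · obtain ⟨y, hy, h1⟩ := B.tran p q r hpq hpr
    exact ⟨y, hy, h1.cj_eq⟩
  · obtain ⟨D', m, A, B', T, T', S, S', hD, eR0, eR3, -⟩ := h.two hpq.1.symm hpq.2.symm
    show D.R p.1 p.2 ⊓ QQ (D.R q.1 q.2) = ⊥
    rw [← eR0, ← eR3, eq_bot_iff]
    rintro w ⟨⟨hw, c, hc⟩, hwQ⟩
    rw [mem_bot]
    refine D'.ker w hw ?_
    have h1 := (hD.mem_E hw).1 hwQ
    rw [hc] at h1
    simp [e3] at h1
    rw [hc, h1, e3_zero]
  · obtain ⟨D', m, A, B', T, T', S, S', hD, eR0, eR3, -⟩ := h.two hpq.1 hpq.2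
    show V ≤ (V ⊓ QQ (D.R p.1 p.2)) ⊔ D.R q.1 q.2
    rw [← eR0, ← eR3]
    exact hD.VE

/-- **The torus** at the two base points. -/
theorem too : ∃ y y' z z', ToO V (fun p : Option F × Option F => D.R p.1 p.2)
    (fun p => QQ (D.R p.1 p.2)) Op (none, none) (some 0, some 0) y y' z z' := by
  obtain ⟨t, ht0, ht1⟩ := h.three
  set l : Fˣ := Units.mk0 t ht0 with hl
  have hlt : (l : F) = t := rfl
  obtain ⟨y, hy, hyA⟩ := h.U_surj (l : F) ((l⁻¹ : Fˣ) : F)
  obtain ⟨z, hz, hzA⟩ := h.U_surj 1 1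
  obtain ⟨y', hy', hyA'⟩ := h.dn_surj ((l⁻¹ : Fˣ) : F) (l : F)
  obtain ⟨z', hz', hzA'⟩ := h.dn_surj 1 1
  have hyN := h.Q_N hy
  have hzN := h.Q_N hz
  have hQ3 : QQ D.R3 ≤ N := by
    intro x hx
    rw [← R_zero] at hx
    exact (h.QU hx).1
  have hyN' := hQ3 hy'
  have hzN' := hQ3 hz'
  -- the torus element
  set w := (y * y' * y) * (z * z' * z) with hw
  have hwN : w ∈ N := mul_mem (mul_mem (mul_mem hyN hyN') hyN) (mul_mem (mul_mem hzN hzN') hzN)
  have htor := tor_eq l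
  have htor' := tor_eq l⁻¹
  rw [inv_inv] at htor'
  have hwA : ∀ X, D.act w X = Tens.act (tor l) (tor l⁻¹) X := by
    intro X
    rw [hw, act_mul h.hN (mul_mem (mul_mem hyN hyN') hyN) (mul_mem (mul_mem hzN hzN') hzN),
      act_mul h.hN (mul_mem hyN hyN') hyN, act_mul h.hN hyN hyN',
      act_mul h.hN (mul_mem hzN hzN') hzN, act_mul h.hN hzN hzN', hyA, hyA', hyA, hzA, hzA', hzA]
    simp only [act_act]
    rw [← htor, ← htor']
    congr 1 <;> group
  have hm0 : ∀ (a b : F), a ≠ 0 → b ≠ 0 → a * b = 1 → D.RA (up a * wy) (up b * wy) = D.RA (dn b) (dn a) := by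
    intro a b ha hb hab
    have e1 : up a * wy = dn b * ((dn b)⁻¹ * (up a * wy)) := by group
    have e2 : up b * wy = dn a * ((dn a)⁻¹ * (up b * wy)) := by group
    have key : ∀ a b : F, a * b = 1 → Bo ((dn b)⁻¹ * (up a * wy) : SL F) := by
      intro a b hab
      have e3 : (dn b : SL F)⁻¹ = dn b := by
        rw [dn_eq, _root_.mul_inv_rev, _root_.mul_inv_rev, inv_inv, up_inv]; group
      rw [e3]
      have e4 : (dn b * (up a * wy) : SL F).1 = (dn b).1 * ((up a).1 * wy.1) := rfl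
      rw [Bo, e4, dn_val, up_val, wy_val]
      simp only [Matrix.mul_apply, Fin.sum_univ_two]
      simp only [_root_.Fin.isValue, _root_.Matrix.of_apply, _root_.Matrix.cons_val', _root_.Matrix.cons_val_zero, _root_.Matrix.cons_val_fin_one, _root_.Matrix.cons_val_one, _root_.MulZeroClass.mul_zero, _root_.mul_one, _root_.zero_add]
      rw [mul_comm, hab]
      exact CharTwo.add_self_eq_zero 1
    rw [e1, e2, RA_Bo _ _ (key a b hab) (key b a (by rw [mul_comm]; exact hab))]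
  have hmd : ∀ {x : G} {a b : F}, x ∈ N → (∀ X, D.act x X = Tens.act (dn a) (dn b) X) →
      Mv x D.R0 (D.RA (dn a) (dn b)) := by
    intro x a b hx hxA
    have := mv_RA h.hN hx hxA 1 1
    rwa [RA_one, mul_one, mul_one] at this
  have hmu : ∀ {x : G} {a b : F}, x ∈ N → (∀ X, D.act x X = Tens.act (up a) (up b) X) →
      Mv x D.R3 (D.RA (up a * wy) (up b * wy)) := by
    intro x a b hx hxA
    have := mv_RA h.hN hx hxA wy wy
    rwa [RA_wy] at this
  have hl0 : ((l⁻¹ : Fˣ) : F) ≠ 0 := l⁻¹.ne_zero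
  have hll : (l : F) * ((l⁻¹ : Fˣ) : F) = 1 := by simp
  have hlne : (l : F) ≠ ((l⁻¹ : Fˣ) : F) := by
    intro e
    rw [← e] at hll
    exact ht1 (eq_one_of_sq hll)
  refine ⟨y, y', z, z', ?_⟩
  refine ⟨by rw [R_none]; exact hy, by rw [R_none]; exact hz, by rw [R_zero]; exact hy',
    by rw [R_zero]; exact hz', ?_, ?_, ?_, ?_, ?_, ?_⟩
  · show cj y (D.R (some 0) (some 0)) = cj y' (D.R none none)
    rw [R_zero, R_none, (hmu hyN hyA).cj_eq, (hmd hyN' hyA').cj_eq]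
    exact hm0 _ _ l.ne_zero hl0 hll
  · show cj z (D.R (some 0) (some 0)) = cj z' (D.R none none)
    rw [R_zero, R_none, (hmu hzN hzA).cj_eq, (hmd hzN' hzA').cj_eq]
    exact hm0 _ _ one_ne_zero one_ne_zero (mul_one 1)
  · -- `z⁻¹ y` moves `∞` to an opposite point
    have hzy : z⁻¹ * y ∈ QQ D.R0 := mul_mem (inv_mem hz) hy
    have ha : D.al (z⁻¹ * y) ≠ 0 := by
      rw [(h.al_mul (inv_mem hz) hy).1, (h.al_inv hz).1, (al_be hzA).1, (al_be hyA).1]
      intro e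
      exact ht1 (CharTwo.add_eq_zero.1 e).symm
    have hb : D.be (z⁻¹ * y) ≠ 0 := by
      rw [(h.al_mul (inv_mem hz) hy).2, (h.al_inv hz).2, (al_be hzA).2, (al_be hyA).2]
      intro e
      have e1 := CharTwo.add_eq_zero.1 e
      rw [← e1, mul_one] at hll
      exact ht1 hll
    obtain ⟨k', l', h1, h2, h3⟩ := h.half_mv (D' := D) (i := none) (j := none) (k := some 0) (l := some 0)
      (A := 1) (B := 1) (S := 1) (S' := 1) Bo.one Bo.one (by rw [rep_zero, one_mul, mul_one])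
      (by rw [rep_zero, one_mul, mul_one]) h R_zero.symm (fun C E => by rw [one_mul, one_mul]) hzy ha hb
    exact ⟨(k', l'), ⟨h1, h2⟩, h3.cj_eq⟩
  · show ∀ r ∈ D.R none none, w * r = r * w
    rw [R_none]
    rintro r ⟨hr, c, hc⟩
    have h1 : w * r * w⁻¹ = r := by
      refine D.e_inj ((h.hN w hwN r).1 hr) hr ?_
      rw [← act_e h.hN hwN hr, hc, hwA, act_tor_e0]
      simp
    calc w * r = (w * r * w⁻¹) * w := by group
      _ = r * w := by rw [h1]
  · show ∀ e ∈ V ⊓ QQ (D.R none none), e⁻¹ * (w * e * w⁻¹) ∈ D.R none none → e ∈ D.R none none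
    rw [R_none]
    rintro e ⟨heV, heQ⟩ ⟨-, c, hc⟩
    have hwe : w * e * w⁻¹ ∈ V := (h.hN w hwN e).1 heV
    rw [D.mul _ (inv_mem heV) _ hwe, D.e_inv heV, ← act_e h.hN hwN heV, hwA, act_tor] at hc
    have h01 := congrArg (fun X : M2 F => X 0 1) hc
    have h10 := congrArg (fun X : M2 F => X 1 0) hc
    simp only [e0, _root_.Units.val_inv_eq_inv_val, _root_.ne_eq, _root_.Units.ne_zero, _root_.not_false_eq_true, _root_.mul_inv_cancel₀, _root_.Fin.isValue, _root_.one_mul, _root_.inv_inv, _root_.inv_mul_cancel₀, _root_.Matrix.add_apply, _root_.Matrix.neg_apply, _root_.Matrix.of_apply, _root_.Matrix.cons_val', _root_.Matrix.cons_val_one, _root_.Matrix.cons_val_fin_one, _root_.Matrix.cons_val_zero] at h01 h10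
    have h11 := (h.mem_E heV).1 heQ
    have e1 : D.e e 0 1 = 0 := by
      have : ((l : F) * l + 1) * D.e e 0 1 = 0 := by
        have e2 : -D.e e 0 1 = D.e e 0 1 := CharTwo.neg_eq _
        rw [e2] at h01
        linear_combination h01
      rcases mul_eq_zero.1 this with h2 | h2
      · exact absurd (eq_one_of_sq (CharTwo.add_eq_zero.1 h2)) ht1
      · exact h2
    have e2 : D.e e 1 0 = 0 := by
      have hl1 : (l : F)⁻¹ * (l : F)⁻¹ = 1 → False := by
        intro h2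
        have h3 : (l : F)⁻¹ = 1 := eq_one_of_sq h2
        exact ht1 (inv_eq_one.1 h3)
      have : ((l : F)⁻¹ * (l : F)⁻¹ + 1) * D.e e 1 0 = 0 := by
        have e2 : -D.e e 1 0 = D.e e 1 0 := CharTwo.neg_eq _
        rw [e2] at h10
        linear_combination h10
      rcases mul_eq_zero.1 this with h2 | h2
      · exact absurd (CharTwo.add_eq_zero.1 h2) hl1
      · exact h2
    exact ⟨heV, D.e e 0 0, by apply ext2 <;> simp [e0, e1, e2, h11]⟩
  · show ∀ u ∈ QQ (D.R none none), u⁻¹ * (w * u * w⁻¹) ∈ centralizer (V : Set G) → u ∈ centralizer (V : Set G)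
    rw [R_none]
    intro u hu huC
    have hwR : Mv w D.R0 D.R0 := (fix_iff h.hN hwN).2 fun x => ⟨_, by rw [hwA, act_tor_e0]⟩
    have hwu : w * u * w⁻¹ ∈ QQ D.R0 := (hwR.QQ u).1 hu
    obtain ⟨e1, e2⟩ := al_be (D := D) (y := w * u * w⁻¹) (a := l * l * D.al u)
      (b := (l⁻¹ : Fˣ) * (l⁻¹ : Fˣ) * D.be u) fun X => by
        rw [act_mul h.hN (mul_mem hwN (h.Q_N hu)) (inv_mem hwN), act_mul h.hN hwN (h.Q_N hu), h.act_y hu,
          hwA, tor_act_up]
        congr 1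
        rw [← hwA, act_act_inv h.hN hwN]
    rw [h.mem_C_iff (mul_mem (inv_mem hu) hwu), (h.al_mul (inv_mem hu) hwu).1, (h.al_mul (inv_mem hu) hwu).2,
      (h.al_inv hu).1, (h.al_inv hu).2, e1, e2] at huC
    rw [h.mem_C_iff hu]
    constructor
    · have : ((l : F) * l + 1) * D.al u = 0 := by linear_combination huC.1
      rcases mul_eq_zero.1 this with h2 | h2
      · exact absurd (eq_one_of_sq (CharTwo.add_eq_zero.1 h2)) ht1
      · exact h2
    · have : (((l⁻¹ : Fˣ) : F) * ((l⁻¹ : Fˣ) : F) + 1) * D.be u = 0 := by linear_combination huC.2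
      rcases mul_eq_zero.1 this with h2 | h2
      · exfalso
        have h3 := eq_one_of_sq (CharTwo.add_eq_zero.1 h2)
        rw [h3, mul_one] at hll
        exact ht1 hll
      · exact h2

/-- **`Q_p ∩ Q_q ≤ V`** for opposite points -/
theorem meet_le (meet : ∀ W : Subgroup G, IsPGroup 2 W → W ≤ N →
    (∀ m ∈ N, ∀ y ∈ W, m * y * m⁻¹ ∈ W) → W ⊓ V = ⊥ → W = ⊥) {i j k l : Option F} (h1 : i ≠ k) (h2 : j ≠ l) :
    QQ (D.R i j) ⊓ QQ (D.R k l) ≤ V := by
  -- move the pair to the base points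
  obtain ⟨D', m, A, B, T, h88⟩ := h.two h1 h2
  revert h88; rintro ⟨T', S, S', hD, eR0, h88⟩
  revert h88; rintro ⟨eR3, -⟩
  obtain ⟨y, y', z, z', ht⟩ := hD.too
  have h3 := (hD.mo meet).meet_le (i := (none, none)) (j := (some 0, some 0)) ⟨by simp, by simp⟩ ht
  simp only [R_none, R_zero] at h3
  rwa [eR0, eR3] at h3

end Cx

end Cfsg.Agent.Omega.NO1.PlusQ

end

section


/-!
# Type (γ) of the leaf N1: the structure `Grid` (helper914)
-/

set_option autoImplicit false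
set_option linter.unusedSectionVars false

namespace Cfsg.Agent.Omega.NO1.PlusQ

open Subgroup Cfsg Matrix
open Cfsg.Agent.Omega.NO1.Tens
open Cfsg.Agent.Omega.NO1.BetaPlus (Mv QQ Bp Mo ToO)
open Cfsg.Agent.Omega.NO1.Beta.Meet (cj mem_cj)
open Cfsg.Agent.Omega.NO1.Gamma (Grid)
open Cfsg.Agent.ZN (o2)

universe u

variable {G : Type u} [Group G] {F : Type} [Field F] {N V : Subgroup G}

variable {D : PlusQ F N V} [CharP F 2] [Finite G]

namespace Cx

variable [Finite F] (h : Cx D)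
include h

theorem Bo_rel {i : Option F} {A T : SL F} (hT : Bo T) (e : A = rep i * T) : Bo (A⁻¹ * rep i) := by
  have e1 : A⁻¹ * rep i = T⁻¹ := by rw [e]; group
  rw [e1]; exact hT.inv

/-- the point `(i,j)` is orthogonal to `(i,l)` -/
theorem row_le (i j l : Option F) : D.R i j ≤ QQ (D.R i l) := by
  obtain ⟨k, hk, -⟩ := exists_ne' i i h
  obtain ⟨l', hl', -⟩ := exists_ne' l l h
  obtain ⟨D', m, A, B, T, h88⟩ :=
    h.two hk hl'
  revert h88; rintro ⟨T', S, S', hD, eR0, h88⟩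
  revert h88; rintro ⟨eR3, hRA, hT, hT', hS, h88⟩
  revert h88; rintro ⟨hS', eA, eB, eA', eB', h88⟩
  revert h88; rintro ⟨hm, hmA, he, -⟩
  rintro w ⟨hw, c, hc⟩
  rw [← eR0, hD.mem_E hw, he w hw, hc, act_act, act_e0]
  have h1 : (A⁻¹ * rep i).1 1 0 = 0 := h.Bo_rel hT eA
  simp only [h1, _root_.Fin.isValue, _root_.Matrix.SpecialLinearGroup.coe_mul, _root_.Matrix.SpecialLinearGroup.coe_inv, _root_.MulZeroClass.zero_mul, _root_.Matrix.of_apply, _root_.Matrix.cons_val', _root_.Matrix.cons_val_one, _root_.Matrix.cons_val_fin_one]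

theorem col_le (i k j : Option F) : D.R i j ≤ QQ (D.R k j) := by
  obtain ⟨k', hk, -⟩ := exists_ne' k k h
  obtain ⟨l', hl', -⟩ := exists_ne' j j h
  obtain ⟨D', m, A, B, T, h88⟩ :=
    h.two hk hl'
  revert h88; rintro ⟨T', S, S', hD, eR0, h88⟩
  revert h88; rintro ⟨eR3, hRA, hT, hT', hS, h88⟩
  revert h88; rintro ⟨hS', eA, eB, eA', eB', h88⟩
  revert h88; rintro ⟨hm, hmA, he, -⟩
  rintro w ⟨hw, c, hc⟩
  rw [← eR0, hD.mem_E hw, he w hw, hc, act_act, act_e0]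
  have h1 : (B⁻¹ * rep j).1 1 0 = 0 := h.Bo_rel hT' eB
  simp only [h1, _root_.Fin.isValue, _root_.Matrix.SpecialLinearGroup.coe_mul, _root_.Matrix.SpecialLinearGroup.coe_inv, _root_.MulZeroClass.mul_zero, _root_.Matrix.of_apply, _root_.Matrix.cons_val', _root_.Matrix.cons_val_one, _root_.Matrix.cons_val_fin_one]

/-- `E = R_ij R_il R_kj` -/
theorem EE {i j k l : Option F} (hk : k ≠ i) (hl : l ≠ j) :
    V ⊓ QQ (D.R i j) ≤ (D.R i j ⊔ D.R i l) ⊔ D.R k j := by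
  obtain ⟨D', m, A, B, T, h88⟩ :=
    h.two hk.symm hl.symm
  revert h88; rintro ⟨T', S, S', hD, eR0, h88⟩
  revert h88; rintro ⟨eR3, hRA, hT, hT', hS, h88⟩
  revert h88; rintro ⟨hS', eA, eB, eA', eB', h88⟩
  revert h88; rintro ⟨hm, hmA, he, -⟩
  have e1 : D'.RA 1 wy = D.R i l := by
    rw [hRA, mul_one, eA, eB', RA_Bo _ _ hT hS']; rfl
  have e2 : D'.RA wy 1 = D.R k j := by
    rw [hRA, mul_one, eA', eB, RA_Bo _ _ hS hT']; rfl
  rintro w ⟨hw, hwQ'⟩
  have hwQ : D'.e w 1 1 = 0 := (hD.mem_E hw).1 (by rw [eR0]; exact hwQ')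
  have e3 : w = D'.v (Tens.e0 (D'.e w 0 0)) * D'.v (Tens.e1 (D'.e w 0 1)) * D'.v (Tens.e2 (D'.e w 1 0)) := by
    rw [← D'.v_add, ← D'.v_add]
    conv_lhs => rw [← D'.v_e hw, e_sum (D'.e w), hwQ, e3_zero, add_zero]
  rw [e3, ← eR0, ← e1, ← e2]
  refine mul_mem (mem_sup_left (mul_mem (mem_sup_left (v_e0 _)) (mem_sup_right ⟨D'.v_mem _, D'.e w 0 1, ?_⟩)))
    (mem_sup_right ⟨D'.v_mem _, D'.e w 1 0, ?_⟩)
  · rw [D'.e_v, act_e0]
    apply ext2 <;> simp only [Tens.e1, wy_val, _root_.Fin.isValue, _root_.Matrix.of_apply, _root_.Matrix.cons_val', _root_.Matrix.cons_val_zero, _root_.Matrix.cons_val_fin_one, _root_.Matrix.SpecialLinearGroup.coe_one, _root_.Matrix.one_apply_eq, _root_.one_mul, _root_.MulZeroClass.mul_zero, _root_.Matrix.cons_val_one, _root_.mul_one, _root_.ne_eq, _root_.one_ne_zero, _root_.not_false_eq_true, _root_.Matrix.one_apply_ne, _root_.MulZeroClass.zero_mul]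
  · rw [D'.e_v, act_e0]
    apply ext2 <;> simp [Tens.e2, wy_val]

theorem VE' {i j k l : Option F} (hk : i ≠ k) (hl : j ≠ l) : V ≤ (V ⊓ QQ (D.R i j)) ⊔ D.R k l := by
  obtain ⟨D', m, A, B', T, h88⟩ := h.two hk hl
  revert h88; rintro ⟨T', S, S', hD, eR0, h88⟩
  revert h88; rintro ⟨eR3, -⟩
  rw [← eR0, ← eR3]
  exact hD.VE

/-- elements fixing the columns -/
theorem fixcol {i j : Option F} {x : G} (hx : x ∈ QQ (D.R i j)) (hc : ∀ l, cj x (D.R i l) = D.R i l) :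
    x ∈ N ∧ ∃ a, ∀ X, D.act x X = Tens.act (ua i a) 1 X := by
  obtain ⟨hxN, a, b, hab⟩ := h.QU hx
  obtain ⟨l, hl, -⟩ := exists_ne' j j h
  have h1 := (mv_mob h.hN hxN hab i l).cj_eq
  rw [hc l] at h1
  have hb := ua_fix hl.symm (R_inj h1).2.symm
  exact ⟨hxN, a, by rw [hb, ua_zero] at hab; exact hab⟩

theorem fixrow {i j : Option F} {x : G} (hx : x ∈ QQ (D.R i j)) (hc : ∀ k, cj x (D.R k j) = D.R k j) :
    x ∈ N ∧ ∃ b, ∀ X, D.act x X = Tens.act 1 (ua j b) X := by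
  obtain ⟨hxN, a, b, hab⟩ := h.QU hx
  obtain ⟨k, hk, -⟩ := exists_ne' i i h
  have h1 := (mv_mob h.hN hxN hab k j).cj_eq
  rw [hc k] at h1
  have ha := ua_fix hk.symm (R_inj h1).1.symm
  exact ⟨hxN, b, by rw [ha, ua_zero] at hab; exact hab⟩

theorem fixcol' {i : Option F} {x : G} (hxN : x ∈ N) {a : F} (hxA : ∀ X, D.act x X = Tens.act (ua i a) 1 X)
    (l : Option F) : cj x (D.R i l) = D.R i l := by
  have h1 := (mv_mob h.hN hxN hxA i l).cj_eq
  rwa [mob_ua_self, mob_one] at h1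

theorem fixrow' {j : Option F} {x : G} (hxN : x ∈ N) {b : F} (hxA : ∀ X, D.act x X = Tens.act 1 (ua j b) X)
    (k : Option F) : cj x (D.R k j) = D.R k j := by
  have h1 := (mv_mob h.hN hxN hxA k j).cj_eq
  rwa [mob_ua_self, mob_one] at h1

/-- root elements of the first factor in `⟨Q_kl⟩` -/
theorem gen₁ (A : SL F) (a : F) : ∃ g ∈ ⨆ k, ⨆ l, QQ (D.R k l), g ∈ N ∧
    ∀ X, D.act g X = Tens.act (A * up a * A⁻¹) 1 X := by
  obtain ⟨i, T, hT, e⟩ := exists_rep A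
  obtain ⟨g, hg, hgA⟩ := h.QU_surj i none (T.1 0 0 * T.1 0 0 * a) 0
  refine ⟨g, mem_iSup_of_mem i (mem_iSup_of_mem none hg), (h.QU hg).1, fun X => ?_⟩
  rw [hgA, conj_up_eq hT e, ua_zero]

theorem gen₂ (A : SL F) (a : F) : ∃ g ∈ ⨆ k, ⨆ l, QQ (D.R k l), g ∈ N ∧
    ∀ X, D.act g X = Tens.act 1 (A * up a * A⁻¹) X := by
  obtain ⟨i, T, hT, e⟩ := exists_rep A
  obtain ⟨g, hg, hgA⟩ := h.QU_surj none i 0 (T.1 0 0 * T.1 0 0 * a)
  refine ⟨g, mem_iSup_of_mem none (mem_iSup_of_mem i hg), (h.QU hg).1, fun X => ?_⟩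
  rw [hgA, conj_up_eq hT e, ua_zero]

theorem gen_mul {X1 X2 : Subgroup G} {A A' B B' : SL F} (hX : X1 = X2)
    (h1 : ∃ g ∈ X1, g ∈ N ∧ ∀ X, D.act g X = Tens.act A B X)
    (h2 : ∃ g ∈ X1, g ∈ N ∧ ∀ X, D.act g X = Tens.act A' B' X) :
    ∃ g ∈ X2, g ∈ N ∧ ∀ X, D.act g X = Tens.act (A * A') (B * B') X := by
  obtain ⟨g, hg, hgN, hgA⟩ := h1
  obtain ⟨g', hg', hgN', hgA'⟩ := h2
  subst hX
  exact ⟨g * g', mul_mem hg hg', mul_mem hgN hgN', fun X => by
    rw [act_mul h.hN hgN hgN', hgA, hgA', act_act]⟩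

/-- torus elements of the first factor -/
theorem gtor₁ (i : Option F) (l : Fˣ) : ∃ g ∈ ⨆ k, ⨆ l, QQ (D.R k l), g ∈ N ∧
    ∀ X, D.act g X = Tens.act (rep i * tor l * (rep i)⁻¹) 1 X := by
  have hu : ∀ a : F, ∃ g ∈ ⨆ k, ⨆ l, QQ (D.R k l), g ∈ N ∧
      ∀ X, D.act g X = Tens.act (rep i * up a * (rep i)⁻¹) 1 X := fun a => h.gen₁ _ a
  have hd : ∀ a : F, ∃ g ∈ ⨆ k, ⨆ l, QQ (D.R k l), g ∈ N ∧
      ∀ X, D.act g X = Tens.act (rep i * dn a * (rep i)⁻¹) 1 X := fun a => by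
    obtain ⟨g, h1, h2, h3⟩ := h.gen₁ (rep i * wy) a
    refine ⟨g, h1, h2, fun X => ?_⟩
    rw [h3, dn_eq]
    congr 1; group
  have h1 := h.gen_mul rfl (h.gen_mul rfl (h.gen_mul rfl (hu (l : F)) (hd ((l⁻¹ : Fˣ) : F))) (hu (l : F)))
    (h.gen_mul rfl (h.gen_mul rfl (hu 1) (hd 1)) (hu 1))
  obtain ⟨g, h2, h3, h4⟩ := h1
  refine ⟨g, h2, h3, fun X => ?_⟩
  rw [h4, ← tor_eq]
  congr 1
  · group
  · group

theorem gtor₂ (i : Option F) (l : Fˣ) : ∃ g ∈ ⨆ k, ⨆ l, QQ (D.R k l), g ∈ N ∧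
    ∀ X, D.act g X = Tens.act 1 (rep i * tor l * (rep i)⁻¹) X := by
  have hu : ∀ a : F, ∃ g ∈ ⨆ k, ⨆ l, QQ (D.R k l), g ∈ N ∧
      ∀ X, D.act g X = Tens.act 1 (rep i * up a * (rep i)⁻¹) X := fun a => h.gen₂ _ a
  have hd : ∀ a : F, ∃ g ∈ ⨆ k, ⨆ l, QQ (D.R k l), g ∈ N ∧
      ∀ X, D.act g X = Tens.act 1 (rep i * dn a * (rep i)⁻¹) X := fun a => by
    obtain ⟨g, h1, h2, h3⟩ := h.gen₂ (rep i * wy) a
    refine ⟨g, h1, h2, fun X => ?_⟩
    rw [h3, dn_eq]
    congr 1; group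
  have h1 := h.gen_mul rfl (h.gen_mul rfl (h.gen_mul rfl (hu (l : F)) (hd ((l⁻¹ : Fˣ) : F))) (hu (l : F)))
    (h.gen_mul rfl (h.gen_mul rfl (hu 1) (hd 1)) (hu 1))
  obtain ⟨g, h2, h3, h4⟩ := h1
  refine ⟨g, h2, h3, fun X => ?_⟩
  rw [h4, ← tor_eq]
  congr 1
  · group
  · group

theorem tor_ua (i : Option F) (l : Fˣ) (a : F) :
    rep i * tor l * (rep i)⁻¹ * ua i a * (rep i * tor l * (rep i)⁻¹)⁻¹ * (ua i a)⁻¹ =
      ua i ((l * l + 1) * a) := by
  have _ := h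
  rw [ua_inv, ua, ua]
  have e1 : rep i * tor l * (rep i)⁻¹ * (rep i * up a * (rep i)⁻¹) * (rep i * tor l * (rep i)⁻¹)⁻¹ *
      (rep i * up a * (rep i)⁻¹) = rep i * (tor l * up a * (tor l)⁻¹ * up a) * (rep i)⁻¹ := by group
  rw [e1, tor_up, mul_inv_cancel_right, ← up_add, add_mul, one_mul]

theorem tor₁ (i j : Option F) : ∃ g ∈ ⨆ k, ⨆ l, QQ (D.R k l), (∀ l, cj g (D.R i l) = D.R i l) ∧
    ∀ x ∈ QQ (D.R i j), (∀ l, cj x (D.R i l) = D.R i l) → ∃ z ∈ QQ (D.R i j), (∀ l, cj z (D.R i l) = D.R i l) ∧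
      x⁻¹ * (g * z * g⁻¹ * z⁻¹) ∈ centralizer (V : Set G) := by
  obtain ⟨t, ht0, ht1⟩ := h.three
  set l : Fˣ := Units.mk0 t ht0 with hl
  have hlt : (l : F) = t := rfl
  obtain ⟨g, hg, hgN, hgA⟩ := h.gtor₁ i l
  have hll : (l : F) * l + 1 ≠ 0 := fun e => ht1 (eq_one_of_sq (CharTwo.add_eq_zero.1 e))
  refine ⟨g, hg, fun m => ?_, fun x hx hxc => ?_⟩
  · have h1 := (mv_mob h.hN hgN hgA i m).cj_eq
    have h2 : mob (rep i * tor l * (rep i)⁻¹) i = i :=
      mob_eq (T := tor l) (by simp [Bo, tor_val]) (by group)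
    rwa [h2, mob_one] at h1
  · obtain ⟨hxN, a, hxA⟩ := h.fixcol hx hxc
    obtain ⟨z, hz, hzA⟩ := h.QU_surj i j (a / (l * l + 1)) 0
    rw [ua_zero] at hzA
    have hzN := (h.QU hz).1
    refine ⟨z, hz, fun m => h.fixcol' hzN hzA m, ?_⟩
    have hgz : g * z * g⁻¹ * z⁻¹ ∈ N := mul_mem (mul_mem (mul_mem hgN hzN) (inv_mem hgN)) (inv_mem hzN)
    rw [← act_one_iff (D := D) h.hN (mul_mem (inv_mem hxN) hgz)]
    intro X
    rw [act_mul h.hN (inv_mem hxN) hgz, act_mul h.hN (mul_mem (mul_mem hgN hzN) (inv_mem hgN)) (inv_mem hzN),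
      act_mul h.hN (mul_mem hgN hzN) (inv_mem hgN), act_mul h.hN hgN hzN, act_inv_of h.hN hxN hxA,
      act_inv_of h.hN hgN hgA, act_inv_of h.hN hzN hzA, hgA, hzA, act_act, act_act, act_act, act_act]
    have e1 : (ua i a)⁻¹ * (rep i * tor l * (rep i)⁻¹) * ua i (a / (l * l + 1)) *
        (rep i * tor l * (rep i)⁻¹)⁻¹ * (ua i (a / (l * l + 1)))⁻¹ = 1 := by
      have := h.tor_ua i l (a / (l * l + 1))
      rw [mul_div_cancel₀ _ hll] at this
      rw [mul_assoc, mul_assoc, mul_assoc, inv_mul_eq_one, ← this]; group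
    simp only [inv_one, mul_one]
    rw [e1, act_one]

theorem tor₂ (i j : Option F) : ∃ g ∈ ⨆ k, ⨆ l, QQ (D.R k l), (∀ k, cj g (D.R k j) = D.R k j) ∧
    ∀ x ∈ QQ (D.R i j), (∀ k, cj x (D.R k j) = D.R k j) → ∃ z ∈ QQ (D.R i j), (∀ k, cj z (D.R k j) = D.R k j) ∧
      x⁻¹ * (g * z * g⁻¹ * z⁻¹) ∈ centralizer (V : Set G) := by
  obtain ⟨t, ht0, ht1⟩ := h.three
  set l : Fˣ := Units.mk0 t ht0 with hl
  have hlt : (l : F) = t := rfl
  obtain ⟨g, hg, hgN, hgA⟩ := h.gtor₂ j l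
  have hll : (l : F) * l + 1 ≠ 0 := fun e => ht1 (eq_one_of_sq (CharTwo.add_eq_zero.1 e))
  refine ⟨g, hg, fun m => ?_, fun x hx hxc => ?_⟩
  · have h1 := (mv_mob h.hN hgN hgA m j).cj_eq
    have h2 : mob (rep j * tor l * (rep j)⁻¹) j = j :=
      mob_eq (T := tor l) (by simp [Bo, tor_val]) (by group)
    rwa [h2, mob_one] at h1
  · obtain ⟨hxN, a, hxA⟩ := h.fixrow hx hxc
    obtain ⟨z, hz, hzA⟩ := h.QU_surj i j 0 (a / (l * l + 1))
    rw [ua_zero] at hzA
    have hzN := (h.QU hz).1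
    refine ⟨z, hz, fun m => h.fixrow' hzN hzA m, ?_⟩
    have hgz : g * z * g⁻¹ * z⁻¹ ∈ N := mul_mem (mul_mem (mul_mem hgN hzN) (inv_mem hgN)) (inv_mem hzN)
    rw [← act_one_iff (D := D) h.hN (mul_mem (inv_mem hxN) hgz)]
    intro X
    rw [act_mul h.hN (inv_mem hxN) hgz, act_mul h.hN (mul_mem (mul_mem hgN hzN) (inv_mem hgN)) (inv_mem hzN),
      act_mul h.hN (mul_mem hgN hzN) (inv_mem hgN), act_mul h.hN hgN hzN, act_inv_of h.hN hxN hxA,
      act_inv_of h.hN hgN hgA, act_inv_of h.hN hzN hzA, hgA, hzA, act_act, act_act, act_act, act_act]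
    have e1 : (ua j a)⁻¹ * (rep j * tor l * (rep j)⁻¹) * ua j (a / (l * l + 1)) *
        (rep j * tor l * (rep j)⁻¹)⁻¹ * (ua j (a / (l * l + 1)))⁻¹ = 1 := by
      have := h.tor_ua j l (a / (l * l + 1))
      rw [mul_div_cancel₀ _ hll] at this
      rw [mul_assoc, mul_assoc, mul_assoc, inv_mul_eq_one, ← this]; group
    simp only [inv_one, mul_one]
    rw [e1, act_one]

/-- **The structure `Grid`.** -/
theorem grid (meet : ∀ W : Subgroup G, IsPGroup 2 W → W ≤ N →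
    (∀ m ∈ N, ∀ y ∈ W, m * y * m⁻¹ ∈ W) → W ⊓ V = ⊥ → W = ⊥) :
    Grid V (fun i j => D.R i j) (fun i j => QQ (D.R i j)) where
  comm a ha b hb := D.comm ha hb
  V_sq a ha := D.sq ha
  R_le i j := RA_le _ _
  ne i j := R_ne_bot i j
  row i j l := h.row_le i j l
  col i k j := h.col_le i k j
  disj i j k l hd := R_disj hd
  QQ i j := (h.mo meet).QQ (i, j)
  Qsq i j := (h.mo meet).Qsq (i, j)
  RQ i j := (h.mo meet).RQ (i, j)
  cen i j := (h.mo meet).cen (i, j)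
  Q_V i j := (h.mo meet).Q_V (i, j)
  conj y i j k l he := (Mv.of_cj he).QQ.cj_eq
  perm i j y hy := by
    obtain ⟨hyN, a, b, hab⟩ := h.QU hy
    exact ⟨mob (ua i a), mob (ua j b), mob_ua_self i a, mob_ua_self j b, fun k l =>
      (mv_mob h.hN hyN hab k l).cj_eq⟩
  fix i j k l hk hl y hy he := (h.mo meet).fixj (i, j) (k, l) ⟨hk.symm, hl.symm⟩ y hy he
  tran i j k l k' l' hk hk' hl hl' := by
    obtain ⟨y, hy, h1⟩ := h.tran hk.symm hl.symm hk'.symm hl'.symm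
    exact ⟨y, hy, h1.cj_eq⟩
  meet i j k l hk hl := h.meet_le meet hk.symm hl.symm
  RQj i j k l hk hl := (h.mo meet).RQj (i, j) (k, l) ⟨hk.symm, hl.symm⟩
  VE₁ i j l hjl := by
    obtain ⟨k, hk, -⟩ := exists_ne' i i h
    refine (h.VE' hk hjl).trans (sup_le_sup_left (le_inf (RA_le _ _) (h.col_le k i l)) _)
  VE₂ i k j hik := by
    obtain ⟨l, hl, -⟩ := exists_ne' j j h
    refine (h.VE' hik hl).trans (sup_le_sup_left (le_inf (RA_le _ _) (h.row_le k l j)) _)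
  VE i j k l hik hjl := (h.VE' hik hjl).trans (sup_le_sup_left (le_inf (RA_le _ _) (h.row_le k l l)) _)
  EE i j k l hk hl := h.EE hk hl
  threeI i k := by
    obtain ⟨c, h1, h2⟩ := exists_ne' i k h
    exact ⟨c, h1.symm, h2⟩
  threeJ i k := by
    obtain ⟨c, h1, h2⟩ := exists_ne' i k h
    exact ⟨c, h1.symm, h2⟩
  act₁ i j j' x hx hxc := by
    obtain ⟨hxN, a, hxA⟩ := h.fixcol hx hxc
    obtain ⟨y, hy, hyA⟩ := h.QU_surj i j' a 0
    rw [ua_zero] at hyA
    have hyN := (h.QU hy).1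
    refine ⟨y, hy, fun l => h.fixcol' hyN hyA l, ?_⟩
    rw [← act_one_iff (D := D) h.hN (mul_mem (inv_mem hyN) hxN)]
    intro X
    rw [act_mul h.hN (inv_mem hyN) hxN, hxA, act_inv_of h.hN hyN hyA, Tens.act_inv_act]
  act₂ j i i' x hx hxc := by
    obtain ⟨hxN, a, hxA⟩ := h.fixrow hx hxc
    obtain ⟨y, hy, hyA⟩ := h.QU_surj i' j 0 a
    rw [ua_zero] at hyA
    have hyN := (h.QU hy).1
    refine ⟨y, hy, fun l => h.fixrow' hyN hyA l, ?_⟩
    rw [← act_one_iff (D := D) h.hN (mul_mem (inv_mem hyN) hxN)]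
    intro X
    rw [act_mul h.hN (inv_mem hyN) hxN, hxA, act_inv_of h.hN hyN hyA, Tens.act_inv_act]
  tor₁ i j := h.tor₁ i j
  tor₂ i j := h.tor₂ i j

end Cx

end Cfsg.Agent.Omega.NO1.PlusQ

end

section


/-!
# Type (γ) of the leaf N1: `T1`, `T2` and products (helper914)
-/

set_option autoImplicit false
set_option linter.unusedSectionVars false

namespace Cfsg.Agent.Omega.NO1.Tens

variable {F : Type} [Field F] {γ δ : M2 F → M2 F}

theorem T12 (h : T1 γ) (h' : T2 δ) : T2 (fun X => γ (δ X)) := by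
  constructor
  · intro A
    obtain ⟨A', h1⟩ := h'.1 A
    obtain ⟨A'', h2⟩ := h.2 A'
    exact ⟨A'', fun X => by beta_reduce; rw [h1, h2]⟩
  · intro A
    obtain ⟨A', h1⟩ := h'.2 A
    obtain ⟨A'', h2⟩ := h.1 A'
    exact ⟨A'', fun X => by beta_reduce; rw [h1, h2]⟩

theorem T21 (h : T2 γ) (h' : T1 δ) : T2 (fun X => γ (δ X)) := by
  constructor
  · intro A
    obtain ⟨A', h1⟩ := h'.1 A
    obtain ⟨A'', h2⟩ := h.1 A'
    exact ⟨A'', fun X => by beta_reduce; rw [h1, h2]⟩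
  · intro A
    obtain ⟨A', h1⟩ := h'.2 A
    obtain ⟨A'', h2⟩ := h.2 A'
    exact ⟨A'', fun X => by beta_reduce; rw [h1, h2]⟩

theorem T22 (h : T2 γ) (h' : T2 δ) : T1 (fun X => γ (δ X)) := by
  constructor
  · intro A
    obtain ⟨A', h1⟩ := h'.1 A
    obtain ⟨A'', h2⟩ := h.2 A'
    exact ⟨A'', fun X => by beta_reduce; rw [h1, h2]⟩
  · intro A
    obtain ⟨A', h1⟩ := h'.2 A
    obtain ⟨A'', h2⟩ := h.1 A'
    exact ⟨A'', fun X => by beta_reduce; rw [h1, h2]⟩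

theorem T2_iter (h : T2 γ) (k : ℕ) : T2 (γ^[2 * k + 1]) := by
  induction k with
  | zero => simpa using h
  | succ k ih =>
    have e : γ^[2 * (k + 1) + 1] = fun X => γ^[2 * k + 1] (γ (γ X)) := by
      have e1 : 2 * (k + 1) + 1 = (2 * k + 1) + 1 + 1 := by ring
      rw [e1, Function.iterate_succ, Function.iterate_succ]; rfl
    rw [e]
    exact T21 ih (T22 h h)

end Cfsg.Agent.Omega.NO1.Tens

namespace Cfsg.Agent.Omega.NO1.PlusQ

open Subgroup Cfsg Matrix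
open Cfsg.Agent.Omega.NO1.Tens
open Cfsg.Agent.Omega.NO1.BetaPlus (Mv QQ)

universe u

variable {G : Type u} [Group G] {F : Type} [Field F] {N V : Subgroup G} {D : PlusQ F N V} [CharP F 2]

section

variable (hN : ∀ m ∈ N, Mv m V V) {t : F} (ht0 : t ≠ 0) (ht1 : t ≠ 1)
include hN

theorem act_one_eq (X : M2 F) : D.act 1 X = X := by
  have _ := hN
  rw [act]
  have e : 1 * D.v X * (1 : G)⁻¹ = D.v X := by group
  rw [e, D.e_v]

theorem act_conj {g s : G} (hg : g ∈ N) (hs : s ∈ N) : D.act (g * s * g⁻¹) = fun X =>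
    D.act g (D.act s (D.act g⁻¹ X)) := by
  funext X
  rw [act_mul hN (mul_mem hg hs) (inv_mem hg), act_mul hN hg hs]

include ht0 ht1

/-- conjugates of `T2`-elements -/
theorem T2_conj {g s : G} (hg : g ∈ N) (hs : s ∈ N) (h : T2 (D.act s)) : T2 (D.act (g * s * g⁻¹)) := by
  rw [act_conj hN hg hs]
  have hm := nm (D := D) hN hg
  rcases hm.dich ht0 ht1 with hT | hT
  · exact T12 hT (T21 h (hm.T1_symm hT))
  · exact T21 hT (T22 h (hm.T2_symm hT))

/-- `U₀` is normalised by the stabiliser of the point `0` -/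
theorem U_conj {g x : G} (hg : g ∈ N) (hx : x ∈ N) (h0 : ∀ x, ∃ y, D.act g (e0 x) = e0 y) {a b : F}
    (h : ∀ X, D.act x X = Tens.act (up a) (up b) X) :
    ∃ a' b', ∀ X, D.act (g * x * g⁻¹) X = Tens.act (up a') (up b') X := by
  have hm := nm (D := D) hN hg
  rcases hm.dich ht0 ht1 with hT | hT
  · obtain ⟨a', h1⟩ := hm.un1_left hT h0 a
    obtain ⟨b', h2⟩ := hm.un1_right hT h0 b
    refine ⟨a', b', fun X => ?_⟩
    rw [act_conj hN hg hx]
    show D.act g (D.act x (D.act g⁻¹ X)) = _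
    rw [h, act_split, h1, h2, hm.right, ← act_split]
  · obtain ⟨a', h1⟩ := hm.un2_left hT h0 a
    obtain ⟨b', h2⟩ := hm.un2_right hT h0 b
    refine ⟨b', a', fun X => ?_⟩
    rw [act_conj hN hg hx]
    show D.act g (D.act x (D.act g⁻¹ X)) = _
    rw [h, act_split, h1, h2, hm.right, ← act_split']

end

end Cfsg.Agent.Omega.NO1.PlusQ

end

end

-- merged: Cfsg.Agent.Mrg.Omega.NO1.Tens.App
section

/-!
# Type (γ) of the leaf N1: the application (helper914)

`Sy D S Z` : `S ≤ N` a Sylow 2-subgroup, `Z = Ω₁(Z(S)) ≤ V`, characteristic 2, `V ≰ O₂(C(Z))`, `|V : V ∩ O₂(C(Z))| ≥ 4`.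
Then, after moving the coordinates, `S` fixes `D.R0`, `Z ≤ D.R0` and `Cx D` holds (`Sy.main`).
-/

set_option autoImplicit false
set_option linter.unusedSectionVars false
set_option linter.unusedVariables false

namespace Cfsg.Agent.Omega.NO1.PlusQ

open Subgroup Cfsg Matrix
open Cfsg.Agent.Omega.NO1.Tens
open Cfsg.Agent.Omega.NO1.BetaPlus (Mv QQ)
open Cfsg.Agent.Omega.NO1.Beta.Meet (cj mem_cj cj_mul)
open Cfsg.Agent.Omega.NO1.Beta.Inst (exists_conj_mem le_sylow cj_one)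
open Cfsg.Agent.ZN (o2)
open scoped Pointwise

universe u

variable {G : Type u} [Group G] {F : Type} [Field F] {N V : Subgroup G} {D : PlusQ F N V} [CharP F 2]

/-! ### `S` fixes a point -/

section fixed

variable [Finite G] (hN : ∀ m ∈ N, Mv m V V) (three : ∃ t : F, t ≠ 0 ∧ t ≠ 1)
include hN three

theorem perm0 {g : G} (hg : g ∈ N) (i j : Option F) : ∃ k l, Mv g (D.R i j) (D.R k l) := by
  obtain ⟨t, ht0, ht1⟩ := three
  obtain ⟨a, ha, haA⟩ := lift_act (D := D) hN (rep i) (rep j)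
  have hag : g * a ∈ N := mul_mem hg ha
  obtain ⟨A, B, c, hc⟩ := exists_e0 ((nm (D := D) hN hag).det_eq_zero ht0 ht1 (det_e0 1))
  obtain ⟨b, hb, hbA⟩ := lift_act (D := D) hN A B
  have hmem : b⁻¹ * (g * a) ∈ N := mul_mem (inv_mem hb) hag
  have h0 : D.act (b⁻¹ * (g * a)) (e0 1) = e0 c := by
    rw [act_mul hN (inv_mem hb) hag, hc, act_inv_of hN hb hbA, Tens.act_inv_act]
  have h1 := (fix_iff hN hmem).2 ((nm (D := D) hN hmem).fix0 ht0 ht1 one_ne_zero h0)
  have h2 := mv_RA hN ha haA 1 1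
  have h3 := mv_RA hN hb hbA 1 1
  rw [mul_one, mul_one, RA_one] at h2 h3
  have h4 := (h3.mul h1).mul h2.inv
  have e : b * (b⁻¹ * (g * a)) * a⁻¹ = g := by group
  rw [e] at h4
  obtain ⟨k, l, -, -, -, -, -, -, e2⟩ := exists_R (D := D) A B
  rw [e2] at h4
  exact ⟨k, l, h4⟩

/-- the set of points -/
def Pt (D : PlusQ F N V) : Type _ := {R : Subgroup G // ∃ i j, R = D.R i j}

theorem card_Pt [Finite F] : Nat.card (Pt D) = (Nat.card F + 1) * (Nat.card F + 1) := by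
  have h1 : Function.Bijective (fun p : Option F × Option F => (⟨D.R p.1 p.2, p.1, p.2, rfl⟩ : Pt D)) := by
    constructor
    · rintro ⟨i, j⟩ ⟨k, l⟩ h
      have h2 := R_inj (congrArg Subtype.val h)
      exact Prod.ext h2.1 h2.2
    · rintro ⟨R, i, j, rfl⟩
      exact ⟨(i, j), rfl⟩
  have h2 : Nat.card (Option F × Option F) = Nat.card (Pt D) := Nat.card_congr (Equiv.ofBijective _ h1)
  rw [← h2, Nat.card_prod, Finite.card_option]

/-- the action of `S ≤ N` on the points -/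
@[instance_reducible] def actPt {S : Subgroup G} (hS : S ≤ N) : MulAction S (Pt D) where
  smul s i := ⟨cj (s : G) i.1, by
    obtain ⟨k, l, he⟩ := i.2
    obtain ⟨k', l', h1⟩ := perm0 (D := D) hN three (hS s.2) k l
    exact ⟨k', l', by rw [he, h1.cj_eq]⟩⟩
  one_smul i := Subtype.ext (cj_one _)
  mul_smul s t i := Subtype.ext (cj_mul _ _ _)

theorem exists_fixed [Finite F] {S : Subgroup G} (hS : S ≤ N) (h2 : IsPGroup 2 S) :
    ∃ i j, ∀ s ∈ S, cj s (D.R i j) = D.R i j := by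
  have : Fact (Nat.Prime 2) := ⟨Nat.prime_two⟩
  let _ := actPt (D := D) hN three hS
  have h1 : ¬ 2 ∣ Nat.card (Pt D) := by
    rw [card_Pt (D := D) hN three]
    have h3 := Beta.Inst.two_dvd_card (K := F)
    obtain ⟨k, hk⟩ := h3
    rw [hk]
    intro h4
    rcases (Nat.Prime.dvd_mul Nat.prime_two).1 h4 with h5 | h5 <;> omega
  have : Finite (Pt D) := by
    have : Finite (Subgroup G) := inferInstance
    exact inferInstanceAs (Finite {R : Subgroup G // ∃ i j, R = D.R i j})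
  obtain ⟨x, hx⟩ := h2.nonempty_fixed_point_of_prime_not_dvd_card (Pt D) h1
  obtain ⟨i, j, he⟩ := x.2
  refine ⟨i, j, fun s hs => ?_⟩
  rw [← he]
  have h3 := hx ⟨s, hs⟩
  exact congrArg Subtype.val h3

end fixed

/-! ### `S` covers `U₀` and contains a swap -/

section cover

variable [Finite G] (hN : ∀ m ∈ N, Mv m V V) {t : F} (ht0 : t ≠ 0) (ht1 : t ≠ 1)

/-- the elements inducing elements of `U₀` -/
def Wg (D : PlusQ F N V) (hN : ∀ m ∈ N, Mv m V V) : Subgroup G where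
  carrier := {g | g ∈ N ∧ ∃ a b, ∀ X, D.act g X = Tens.act (up a) (up b) X}
  one_mem' := ⟨one_mem _, 0, 0, fun X => by rw [up_zero, act_one, act_one_eq hN]⟩
  mul_mem' := by
    rintro x y ⟨hx, a, b, h1⟩ ⟨hy, c, d, h2⟩
    exact ⟨mul_mem hx hy, a + c, b + d, fun X => by rw [act_mul hN hx hy, h2, h1, act_act, up_add, up_add]⟩
  inv_mem' := by
    rintro x ⟨hx, a, b, h1⟩
    refine ⟨inv_mem hx, a, b, fun X => ?_⟩
    rw [act_inv_of hN hx h1, up_inv, up_inv]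

include hN

theorem odd_pow {g : G} (hg : g ∈ N) {a b : F} (h : ∀ X, D.act g X = Tens.act (up a) (up b) X) (k : ℕ) (X : M2 F) :
    D.act (g ^ (2 * k + 1)) X = Tens.act (up a) (up b) X := by
  rw [← act_pow hN hg]
  have h1 : ∀ X, (D.act g)^[2 * k] X = X := by
    intro X
    have h2 : (D.act g)^[2] = id := by
      funext X
      show D.act g (D.act g X) = X
      rw [h, h, act_up_up]
    rw [Function.iterate_mul, h2, Function.iterate_id]; rfl
  rw [Function.iterate_succ_apply, h1, h]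

theorem exists_odd (g : G) : ∃ k n : ℕ, (g ^ (2 * k + 1)) ^ 2 ^ n = 1 := by
  have _ := hN
  have h0 : orderOf g ≠ 0 := (orderOf_pos g).ne'
  obtain ⟨n, m, ⟨k, hk⟩, he⟩ := Nat.exists_eq_two_pow_mul_odd h0
  refine ⟨k, n, ?_⟩
  rw [← hk, ← pow_mul, mul_comm m, ← he]
  exact pow_orderOf_eq_one g

include ht0 ht1

/-- **`S` covers `U₀`.** -/
theorem cover_S (S : Sylow 2 G) (hS : (S : Subgroup G) ≤ N)
    (hR : ∀ s ∈ (S : Subgroup G), Mv s D.R0 D.R0) (a b : F) :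
    ∃ s ∈ (S : Subgroup G), ∀ X, D.act s X = Tens.act (up a) (up b) X := by
  obtain ⟨g, hg, hgA⟩ := lift_act (D := D) hN (up a) (up b)
  obtain ⟨k, n, hkn⟩ := exists_odd hN g
  have h1 := odd_pow hN hg hgA k
  have h1N : g ^ (2 * k + 1) ∈ N := pow_mem hg _
  have h1W : g ^ (2 * k + 1) ∈ Wg D hN := ⟨h1N, a, b, h1⟩
  have hconj : ∀ s ∈ (S : Subgroup G), ∀ y ∈ Wg D hN, s * y * s⁻¹ ∈ Wg D hN := by
    rintro s hs y ⟨hy, c, d, hcd⟩
    refine ⟨mul_mem (mul_mem (hS hs) hy) (inv_mem (hS hs)), ?_⟩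
    exact U_conj hN ht0 ht1 (hS hs) hy ((fix_iff hN (hS hs)).1 (hR s hs)) hcd
  have hSW : (S : Subgroup G) ≤ normalizer (Wg D hN : Set G) := by
    intro s hs
    rw [mem_normalizer_iff]
    intro y
    refine ⟨fun hy => hconj s hs y hy, fun hy => ?_⟩
    have := hconj s⁻¹ (inv_mem hs) _ hy
    have e : s⁻¹ * (s * y * s⁻¹) * s⁻¹⁻¹ = y := by group
    rwa [e] at this
  obtain ⟨l, hl, hlS⟩ := exists_conj_mem S (L := (S : Subgroup G) ⊔ Wg D hN) le_sup_left
    (mem_sup_right h1W) hkn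
  rw [← SetLike.mem_coe, Subgroup.coe_mul_of_left_le_normalizer_right _ _ hSW, Set.mem_mul] at hl
  obtain ⟨s, hs, x, hx, rfl⟩ := hl
  obtain ⟨hxN, c, d, hxA⟩ := hx
  have h2 : x * g ^ (2 * k + 1) * x⁻¹ ∈ (S : Subgroup G) := by
    have h3 := (S : Subgroup G).mul_mem ((S : Subgroup G).mul_mem ((S : Subgroup G).inv_mem hs) hlS) hs
    have e : s⁻¹ * (s * x * g ^ (2 * k + 1) * (s * x)⁻¹) * s = x * g ^ (2 * k + 1) * x⁻¹ := by group
    rwa [e] at h3
  refine ⟨_, h2, fun X => ?_⟩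
  rw [act_conj hN hxN h1N]
  show D.act x (D.act (g ^ (2 * k + 1)) (D.act x⁻¹ X)) = _
  rw [h1, act_inv_of hN hxN hxA, hxA, up_inv, up_inv, act_act, act_act, ← up_add, ← up_add, ← up_add, ← up_add]
  have e1 : ∀ c a : F, c + a + c = a := fun c a => by
    have := CharTwo.add_self_eq_zero c
    linear_combination this
  rw [e1, e1]

/-- **`S` contains an element interchanging the factors.** -/
theorem S_swap (S : Sylow 2 G) (hS : (S : Subgroup G) ≤ N) : ∃ s ∈ (S : Subgroup G), T2 (D.act s) := by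
  obtain ⟨g, hg, hgT⟩ := exists_T2 (D := D) hN ht0 ht1
  obtain ⟨k, n, hkn⟩ := exists_odd hN g
  have h1 : T2 (D.act (g ^ (2 * k + 1))) := by
    have h2 : D.act (g ^ (2 * k + 1)) = (D.act g)^[2 * k + 1] := funext fun X => (act_pow hN hg _ X).symm
    rw [h2]
    exact T2_iter hgT k
  have h1N : g ^ (2 * k + 1) ∈ N := pow_mem hg _
  obtain ⟨l, hl, hlS⟩ := exists_conj_mem S hS h1N hkn
  exact ⟨_, hlS, T2_conj hN ht0 ht1 hl h1N h1⟩

end cover

/-- The hypotheses of the application. -/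
structure Sy (D : PlusQ F N V) (S : Sylow 2 G) (Z : Subgroup G) : Prop where
  hN : ∀ m ∈ N, Mv m V V
  C_N : centralizer (V : Set G) ≤ N
  S_N : (S : Subgroup G) ≤ N
  Z_V : Z ≤ V
  Z_S : ∀ z ∈ Z, ∀ s ∈ (S : Subgroup G), z * s = s * z
  Z_max : ∀ x ∈ (S : Subgroup G), x * x = 1 → (∀ s ∈ (S : Subgroup G), x * s = s * x) → x ∈ Z
  char2N : ∀ R : Subgroup G, R ≠ ⊥ → R ≤ V → (S : Subgroup G) ≤ normalizer (R : Set G) →
    normalizer (R : Set G) ⊓ centralizer (QQ R : Set G) ≤ QQ R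
  char2C : centralizer (Z : Set G) ⊓ centralizer (o2 (centralizer (Z : Set G)) : Set G) ≤
    o2 (centralizer (Z : Set G))
  V_Qt : ¬ V ≤ o2 (centralizer (Z : Set G))
  four : 4 ≤ (V ⊓ o2 (centralizer (Z : Set G))).relIndex V
  three : ∃ t : F, t ≠ 0 ∧ t ≠ 1

namespace Sy

variable [Finite G] {S : Sylow 2 G} {Z : Subgroup G} (h : Sy D S Z)

theorem conj (h : Sy D S Z) {m : G} (hm : m ∈ N) : Sy (D.conj h.hN m hm) S Z :=
  ⟨h.hN, h.C_N, h.S_N, h.Z_V, h.Z_S, h.Z_max, h.char2N, h.char2C, h.V_Qt, h.four, h.three⟩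

include h

/-- after moving the coordinates `S` fixes the point `0` -/
theorem exists_fix [Finite F] : ∃ D' : PlusQ F N V, Sy D' S Z ∧ ∀ s ∈ (S : Subgroup G), Mv s D'.R0 D'.R0 := by
  obtain ⟨i, j, hij⟩ := exists_fixed (D := D) h.hN h.three h.S_N S.isPGroup'
  obtain ⟨m, hm, hmA⟩ := lift_act (D := D) h.hN (rep i) (rep j)
  refine ⟨D.conj h.hN m hm, h.conj hm, fun s hs => ?_⟩
  have e0 : (D.conj h.hN m hm).R0 = D.R i j := by
    rw [← RA_one, conj_RA h.hN hm hmA, mul_one, mul_one]; rfl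
  rw [e0]
  exact Mv.of_cj (hij s hs)

/-- `W ∩ V = 1` implies `W = 1` for normal 2-subgroups `W` of `N` -/
theorem meet (W : Subgroup G) (hW : IsPGroup 2 W) (hWN : W ≤ N)
    (hn : ∀ m ∈ N, ∀ y ∈ W, m * y * m⁻¹ ∈ W) (hWV : W ⊓ V = ⊥) : W = ⊥ := by
  have : Fact (Nat.Prime 2) := ⟨Nat.prime_two⟩
  have hNS : W ≤ S := le_sylow S h.S_N hW hn
  by_contra hne
  obtain ⟨n0, hn0, hn1⟩ : ∃ n ∈ W, n ≠ 1 := by
    by_contra hcon
    push Not at hcon
    exact hne ((eq_bot_iff_forall _).2 hcon)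
  obtain ⟨n, hnN, hn1, hnc⟩ := GTwoFour.Tools.exists_fixed_mod (Y := (S : Subgroup G)) (N := W)
    (M := ⊥) S.isPGroup' hNS (fun y hy n hn' => hn y (h.S_N hy) n hn')
    (fun y hy m hm => by rw [mem_bot] at hm ⊢; rw [hm]; group) ⟨n0, hn0, hn1⟩
  have hcen : ∀ s ∈ (S : Subgroup G), n * s = s * n := by
    intro s hs
    have h1 := hnc s hs
    rw [mem_bot, commutatorElement_eq_one_iff_mul_comm] at h1
    exact h1.symm
  have hne1 : n ≠ 1 := fun h0 => hn1 (by rw [h0]; exact Subgroup.one_mem _)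
  obtain ⟨k, hk⟩ := hW ⟨n, hnN⟩
  have hk' : n ^ 2 ^ k = 1 := by simpa only [_root_.SubmonoidClass.mk_pow, _root_.OneMemClass.coe_one] using congrArg Subtype.val hk
  have hex : ∃ k, n ^ 2 ^ k = 1 := ⟨k, hk'⟩
  classical
  have hf := Nat.find_spec hex
  set j := Nat.find hex with hj
  have hj0 : j ≠ 0 := by
    intro h0
    rw [h0, pow_zero, pow_one] at hf
    exact hne1 hf
  obtain ⟨i, hi⟩ := Nat.exists_eq_succ_of_ne_zero hj0
  have hlt : n ^ 2 ^ i ≠ 1 := Nat.find_min hex (by omega)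
  have hz : n ^ 2 ^ i ∈ Z := by
    apply h.Z_max _ (hNS (W.pow_mem hnN _))
    · rw [← pow_add, ← two_mul, ← pow_succ', ← Nat.succ_eq_add_one, ← hi]
      exact hf
    · intro s hs
      exact (Commute.pow_left (hcen s hs) _)
  apply hlt
  have : n ^ 2 ^ i ∈ W ⊓ V := mem_inf.mpr ⟨W.pow_mem hnN _, h.Z_V hz⟩
  rw [hWV, mem_bot] at this
  exact this

theorem Qt_S : o2 (centralizer (Z : Set G)) ≤ S := by
  refine le_sylow S (L := centralizer (Z : Set G)) ?_ (Cfsg.Agent.ZN.isPGroup_o2 _) ?_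
  · intro s hs
    rw [mem_centralizer_iff]
    intro z hz
    exact h.Z_S z hz s hs
  · intro c hc y hy
    exact (mem_normalizer_iff.1 (Cfsg.Agent.ZN.le_normalizer_o2 _ hc) y).1 hy

theorem Qt_nor {c : G} (hc : c ∈ centralizer (Z : Set G)) {y : G} (hy : y ∈ o2 (centralizer (Z : Set G))) :
    c * y * c⁻¹ ∈ o2 (centralizer (Z : Set G)) :=
  (mem_normalizer_iff.1 (Cfsg.Agent.ZN.le_normalizer_o2 _ hc) y).1 hy

theorem V_CZ : V ≤ centralizer (Z : Set G) := by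
  intro v hv
  rw [mem_centralizer_iff]
  exact fun z hz => D.comm (h.Z_V hz) hv

theorem S_CZ : (S : Subgroup G) ≤ centralizer (Z : Set G) := by
  intro s hs
  rw [mem_centralizer_iff]
  exact fun z hz => h.Z_S z hz s hs

variable (hR : ∀ s ∈ (S : Subgroup G), Mv s D.R0 D.R0)
include hR

/-- `Z ≤ R₀` -/
theorem Z_R0 : Z ≤ D.R0 := by
  obtain ⟨t, ht0, ht1⟩ := h.three
  intro z hz
  have key : ∀ a b, Tens.act (up a) (up b) (D.e z) = D.e z := by
    intro a b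
    obtain ⟨s, hs, hsA⟩ := cover_S h.hN ht0 ht1 S h.S_N hR a b
    rw [← hsA, act_e h.hN (h.S_N hs) (h.Z_V hz), ← h.Z_S z hz s hs, mul_inv_cancel_right]
  refine ⟨h.Z_V hz, D.e z 0 0, eq_e0_of_fixed ?_ ?_⟩
  · have := key 1 0; rwa [up_zero] at this
  · have := key 0 1; rwa [up_zero] at this

theorem fixS {s : G} (hs : s ∈ (S : Subgroup G)) : ∀ x, ∃ y, D.act s (e0 x) = e0 y :=
  (fix_iff h.hN (h.S_N hs)).1 (hR s hs)

/-- `T₁` centralises `R₀ ≥ Z` -/
theorem tor_CZ {t : G} (ht : t ∈ N) {l : Fˣ} (htA : ∀ X, D.act t X = Tens.act (tor l) (tor l⁻¹) X) :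
    t ∈ centralizer (Z : Set G) := by
  rw [mem_centralizer_iff]
  intro z hz
  obtain ⟨hzV, c, hc⟩ := h.Z_R0 hR hz
  have h1 : t * z * t⁻¹ = z := by
    refine D.e_inj ((h.hN t ht z).1 hzV) hzV ?_
    rw [← act_e h.hN ht hzV, hc, htA, act_tor_e0]
    simp
  calc z * t = (t * z * t⁻¹) * t := by rw [h1]
    _ = t * z := by group

/-- `[y, t] ∈ U₀` for `y ∈ O₂(C(Z))`, `t ∈ T₁` -/
theorem htor {y : G} (hy : y ∈ o2 (centralizer (Z : Set G))) (l : Fˣ) : ∃ a b, ∀ X,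
    D.act y (Tens.act (tor l) (tor l⁻¹) X) = Tens.act (up a * tor l) (up b * tor l⁻¹) (D.act y X) := by
  have hyS := h.Qt_S hy
  have hyN := h.S_N hyS
  have hm := nm (D := D) h.hN hyN
  obtain ⟨t, ht, htA⟩ := lift_act (D := D) h.hN (tor l) (tor l⁻¹)
  obtain ⟨A, B, hAB⟩ := hm.nor (tor l) (tor l⁻¹)
  set c := y * t * y⁻¹ * t⁻¹ with hc
  have hcQ : c ∈ o2 (centralizer (Z : Set G)) := by
    have e : c = y * (t * y⁻¹ * t⁻¹) := by rw [hc]; group
    rw [e]
    exact mul_mem hy (h.Qt_nor (h.tor_CZ hR ht htA) (inv_mem hy))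
  have hcN := h.S_N (h.Qt_S hcQ)
  have hcA : ∀ X, D.act c X = Tens.act (A * (tor l)⁻¹) (B * (tor l⁻¹)⁻¹) X := by
    intro X
    have hct : D.act (c * t * y) (D.act y⁻¹ (Tens.act (tor l)⁻¹ (tor l⁻¹)⁻¹ X)) = D.act c X := by
      rw [act_mul h.hN (mul_mem hcN ht) hyN, act_act_inv h.hN hyN,
        act_mul h.hN hcN ht, htA, Tens.act_act_inv]
    rw [← hct]
    have e : c * t * y = y * t := by rw [hc]; group
    rw [e, act_mul h.hN hyN ht, htA, hAB, hm.right, act_act]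
  obtain ⟨k, hk⟩ : ∃ k : ℕ, ∀ X, (D.act c)^[2 ^ k] X = X := by
    obtain ⟨k, hk⟩ := Cfsg.Agent.Omega.NOne.LemmaT.exists_pow_eq_one
      (Cfsg.Agent.ZN.isPGroup_o2 (centralizer (Z : Set G)))
    exact ⟨k, fun X => by rw [act_pow h.hN hcN, hk c hcQ, act_one_eq h.hN]⟩
  have hcA' : D.act c = Tens.act (A * (tor l)⁻¹) (B * (tor l⁻¹)⁻¹) := funext hcA
  obtain ⟨d, hd⟩ := h.fixS hR (h.Qt_S hcQ) 1
  rw [hcA'] at hk hd
  obtain ⟨u1, u2⟩ := two_L one_ne_zero hd hk
  refine ⟨(A * (tor l)⁻¹).1 0 1, (B * (tor l⁻¹)⁻¹).1 0 1, fun X => ?_⟩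
  rw [← u1, ← u2, inv_mul_cancel_right, inv_mul_cancel_right, hAB]

theorem exists_order {y : G} (hy : y ∈ o2 (centralizer (Z : Set G))) : ∃ k : ℕ, ∀ X, (D.act y)^[2 ^ k] X = X := by
  obtain ⟨k, hk⟩ := Cfsg.Agent.Omega.NOne.LemmaT.exists_pow_eq_one
    (Cfsg.Agent.ZN.isPGroup_o2 (centralizer (Z : Set G)))
  exact ⟨k, fun X => by rw [act_pow h.hN (h.S_N (h.Qt_S hy)), hk y hy, act_one_eq h.hN]⟩

variable [Finite F]

/-- **`O₂(C(Z))` contains no swap** -/
theorem not_T2 {y : G} (hy : y ∈ o2 (centralizer (Z : Set G))) (hT : T2 (D.act y)) : False := by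
  obtain ⟨t, ht0, ht1⟩ := h.three
  have hyN := h.S_N (h.Qt_S hy)
  have hm := nm (D := D) h.hN hyN
  have h0 := h.fixS hR (h.Qt_S hy)
  have htor := fun l : Fˣ => h.htor hR hy l
  -- `|F| ≤ 4`
  have hcard : Nat.card F ≤ 4 := by
    classical
    have := Fintype.ofFinite F
    have h1 : (Finset.univ : Finset F) ⊆ {0, 1, t, t + 1} := by
      intro x _
      by_cases hx0 : x = 0
      · simp only [hx0, _root_.Finset.mem_insert, _root_.zero_ne_one, _root_.Finset.mem_singleton, _root_.false_or, _root_.true_or]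
      by_cases hx1 : x = 1
      · simp only [hx1, _root_.Finset.mem_insert, _root_.one_ne_zero, _root_.Finset.mem_singleton, _root_.right_eq_add, _root_.true_or, _root_.or_true]
      have e1 := hm.swap_four ht0 ht1 hT h0 htor hx0 hx1
      have e2 := hm.swap_four ht0 ht1 hT h0 htor ht0 ht1
      have e3 : (x - t) * (x - (t + 1)) = 0 := by
        have h2 := CharTwo.add_self_eq_zero x
        have h3 : (2 : F) = 0 := by
          have := CharTwo.add_self_eq_zero (1 : F)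
          rw [← this]; ring
        linear_combination e1 + e2 + (- x - x * t) * h3 - h3 * 1
      rcases mul_eq_zero.1 e3 with h4 | h4
      · simp only [sub_eq_zero.1 h4, _root_.Finset.mem_insert, _root_.Finset.mem_singleton, _root_.left_eq_add, _root_.one_ne_zero, _root_.or_false, _root_.or_true]
      · simp only [sub_eq_zero.1 h4, _root_.Finset.mem_insert, _root_.add_eq_right, _root_.add_eq_left, _root_.one_ne_zero, _root_.Finset.mem_singleton, _root_.or_true]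
    rw [Nat.card_eq_fintype_card, ← Finset.card_univ]
    exact (Finset.card_le_card h1).trans (Finset.card_le_four)
  -- the subgroup `E`
  let E : AddSubgroup (M2 F) :=
    { carrier := {X | D.v X ∈ o2 (centralizer (Z : Set G))}
      zero_mem' := by
        show D.v 0 ∈ o2 (centralizer (Z : Set G))
        rw [D.v_zero]; exact one_mem _
      add_mem' := by
        intro X Y hX hY
        show D.v (X + Y) ∈ o2 (centralizer (Z : Set G))
        rw [D.v_add]; exact mul_mem hX hY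
      neg_mem' := by
        intro X hX
        show D.v (-X) ∈ o2 (centralizer (Z : Set G))
        have e : D.v (-X) = (D.v X)⁻¹ := D.e_inj (D.v_mem _) (inv_mem (D.v_mem _)) (by
          rw [D.e_v, D.e_inv (D.v_mem _), D.e_v])
        rw [e]; exact inv_mem hX }
  have hE : ∀ X, X ∈ E ↔ D.v X ∈ o2 (centralizer (Z : Set G)) := fun X => Iff.rfl
  obtain ⟨k0, k1, k2, Y, hY, hY11⟩ := hm.swap_E ht0 ht1 hT h0 htor E (by
    intro a b X hX
    obtain ⟨s, hs, hsA⟩ := cover_S h.hN ht0 ht1 S h.S_N hR a b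
    rw [hE, ← hsA, v_act h.hN (h.S_N hs)]
    exact h.Qt_nor (h.S_CZ hs) hX) (by
    intro X
    rw [hE, D.v_add, v_act h.hN hyN]
    have e : D.v X * (y * D.v X * y⁻¹) = (D.v X * y * (D.v X)⁻¹) * y⁻¹ := by
      have h1 : (D.v X)⁻¹ = D.v X := inv_eq_of_mul_eq_one_left (D.sq (D.v_mem X))
      rw [h1]; group
    rw [e]
    exact mul_mem (h.Qt_nor (h.V_CZ (D.v_mem X)) hy) (inv_mem hy))
  -- the index
  let A : AddSubgroup F := E.map
    { toFun := fun X : M2 F => X 1 1, map_zero' := rfl, map_add' := fun _ _ => rfl }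
  have hA : ∀ X : M2 F, X 1 1 ∈ A ↔ X ∈ E := by
    intro X
    constructor
    · rintro ⟨Y, hY, hYX⟩
      have h1 : Y 1 1 = X 1 1 := hYX
      have h2 : X - Y = e0 ((X - Y) 0 0) + e1 ((X - Y) 0 1) + e2 ((X - Y) 1 0) := by
        conv_lhs => rw [e_sum (X - Y)]
        have h3 : (X - Y) 1 1 = 0 := by simp [h1]
        rw [h3, e3_zero, add_zero]
      have h4 : X - Y ∈ E := by
        rw [h2]; exact E.add_mem (E.add_mem (k0 _) (k1 _)) (k2 _)
      have h5 := E.add_mem h4 hY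
      rwa [sub_add_cancel] at h5
    · exact fun hX => ⟨X, hX, rfl⟩
  have h1 : (V ⊓ o2 (centralizer (Z : Set G))).relIndex V = Nat.card (F ⧸ A) :=
    Beta.Inst.relIndex_eq_card (fun v => ((D.e v 1 1 : F) : F ⧸ A))
      (fun x hx y hy => by
        beta_reduce
        rw [D.mul x hx y hy]; rfl)
      (fun a => by
        obtain ⟨c, rfl⟩ := QuotientAddGroup.mk_surjective a
        exact ⟨D.v (e3 c), D.v_mem _, by rw [D.e_v]; simp [e3]⟩)
      (fun x hx => by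
        beta_reduce
        rw [QuotientAddGroup.eq_zero_iff, hA, hE, D.v_e hx, mem_inf]
        exact ⟨fun h => ⟨hx, h⟩, fun h => h.2⟩)
  have h2 : Nat.card F = Nat.card (F ⧸ A) * Nat.card A := AddSubgroup.card_eq_card_quotient_mul_card_addSubgroup A
  have h3 : 2 ≤ Nat.card A := by
    have h4 : (⟨Y 1 1, (hA Y).2 hY⟩ : A) ≠ 0 := fun e => hY11 (congrArg Subtype.val e)
    have : Nontrivial A := ⟨⟨_, _, h4⟩⟩
    exact Finite.one_lt_card
  have h4 := h.four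
  rw [h1] at h4
  have h5 : 4 * 2 ≤ Nat.card (F ⧸ A) * Nat.card A := Nat.mul_le_mul h4 h3
  omega

/-- **`O₂(C(Z))` acts as a subgroup of `U₀`** -/
theorem Qt_U {y : G} (hy : y ∈ o2 (centralizer (Z : Set G))) : ∃ a b, ∀ X,
    D.act y X = Tens.act (up a) (up b) X := by
  obtain ⟨t, ht0, ht1⟩ := h.three
  have hyN := h.S_N (h.Qt_S hy)
  have hm := nm (D := D) h.hN hyN
  obtain ⟨k, hk⟩ := h.exists_order hR hy
  rcases hm.dich ht0 ht1 with hT | hT
  · exact hm.mem_U ht0 ht1 hT (h.fixS hR (h.Qt_S hy)) hk fun l => h.htor hR hy l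
  · exact (h.not_T2 hR hy hT).elim

/-- `C_V(O₂(C(Z))) ≤ R₀` -/
theorem C_V {v : G} (hv : v ∈ V) (hc : ∀ y ∈ o2 (centralizer (Z : Set G)), y * v = v * y) : v ∈ D.R0 := by
  obtain ⟨t, ht0, ht1⟩ := h.three
  -- a nontrivial element
  obtain ⟨y, hy, a, b, hyA, hne⟩ : ∃ y ∈ o2 (centralizer (Z : Set G)), ∃ a b : F,
      (∀ X, D.act y X = Tens.act (up a) (up b) X) ∧ ¬ (a = 0 ∧ b = 0) := by
    by_contra hcon
    push Not at hcon
    apply h.V_Qt
    refine fun w hw => h.char2C ⟨h.V_CZ hw, mem_centralizer_iff.2 fun y hy => ?_⟩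
    obtain ⟨a0, b0, hyA⟩ := h.Qt_U hR hy
    obtain ⟨ha, hb⟩ := hcon y hy a0 b0 hyA
    have h1 : ∀ X, D.act y X = X := fun X => by rw [hyA, ha, hb, up_zero, act_one]
    exact (mem_centralizer_iff.1 ((act_one_iff h.hN (h.S_N (h.Qt_S hy))).1 h1) w hw).symm
  -- the fixed points of an element
  have fixd : ∀ y ∈ o2 (centralizer (Z : Set G)), ∀ a b, (∀ X, D.act y X = Tens.act (up a) (up b) X) →
      a * D.e v 1 1 = 0 ∧ b * D.e v 1 1 = 0 ∧ a * D.e v 1 0 + b * (D.e v 0 1 + a * D.e v 1 1) = 0 := by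
    intro y hy a b hyA
    have h1 : D.act y (D.e v) = D.e v := by
      rw [act_e h.hN (h.S_N (h.Qt_S hy)) hv, hc y hy, mul_inv_cancel_right]
    rw [hyA, act_up] at h1
    have h00 := congrArg (fun X : M2 F => X 0 0) h1
    have h01 := congrArg (fun X : M2 F => X 0 1) h1
    have h10 := congrArg (fun X : M2 F => X 1 0) h1
    simp only [Matrix.of_apply, Matrix.cons_val', Matrix.cons_val_zero, Matrix.cons_val_one,
      Matrix.cons_val_fin_one] at h00 h01 h10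
    refine ⟨by linear_combination h01, by linear_combination h10, by linear_combination h00⟩
  -- two independent elements
  obtain ⟨y', hy', a', b', hyA', hdet⟩ : ∃ y' ∈ o2 (centralizer (Z : Set G)), ∃ a' b' : F,
      (∀ X, D.act y' X = Tens.act (up a') (up b') X) ∧ a * b' - b * a' ≠ 0 := by
    by_cases ha : a = 0
    · obtain ⟨s, hs, hsT⟩ := S_swap (D := D) h.hN ht0 ht1 S h.S_N
      have hb : b ≠ 0 := fun hb => hne ⟨ha, hb⟩
      have hms := nm (D := D) h.hN (h.S_N hs)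
      have hyN := h.S_N (h.Qt_S hy)
      obtain ⟨b1, hb1⟩ := hms.un2_right hsT (h.fixS hR hs) b
      refine ⟨s * y * s⁻¹, h.Qt_nor (h.S_CZ hs) hy, b1, 0, fun X => ?_, ?_⟩
      · rw [act_conj h.hN (h.S_N hs) hyN]
        show D.act s (D.act y (D.act s⁻¹ X)) = _
        rw [hyA, ha, up_zero, hb1, hms.right]
      · rw [mul_zero, zero_sub, neg_ne_zero]
        refine mul_ne_zero hb fun h1 => ?_
        rw [h1, up_zero] at hb1
        have h2 : ∀ X, Tens.act 1 (up b) X = X := fun X => hms.inj (by rw [hb1, act_one])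
        have h3 := (act_eq_one h2).2
        rw [← up_zero] at h3
        exact hb (up_inj h3)
    by_cases hb : b = 0
    · obtain ⟨s, hs, hsT⟩ := S_swap (D := D) h.hN ht0 ht1 S h.S_N
      have hms := nm (D := D) h.hN (h.S_N hs)
      have hyN := h.S_N (h.Qt_S hy)
      obtain ⟨a1, ha1⟩ := hms.un2_left hsT (h.fixS hR hs) a
      refine ⟨s * y * s⁻¹, h.Qt_nor (h.S_CZ hs) hy, 0, a1, fun X => ?_, ?_⟩
      · rw [act_conj h.hN (h.S_N hs) hyN]
        show D.act s (D.act y (D.act s⁻¹ X)) = _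
        rw [hyA, hb, up_zero, ha1, hms.right]
      · rw [mul_zero, sub_zero]
        refine mul_ne_zero ha fun h1 => ?_
        rw [h1, up_zero] at ha1
        have h2 : ∀ X, Tens.act (up a) 1 X = X := fun X => hms.inj (by rw [ha1, act_one])
        have h3 := (act_eq_one h2).1
        rw [← up_zero] at h3
        exact ha (up_inj h3)
    · set l : Fˣ := Units.mk0 t ht0 with hl
      have hlt : (l : F) = t := rfl
      obtain ⟨g, hg, hgA⟩ := lift_act (D := D) h.hN (tor l) (tor l⁻¹)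
      have hyN := h.S_N (h.Qt_S hy)
      refine ⟨g * y * g⁻¹, h.Qt_nor (h.tor_CZ hR hg hgA) hy, l * l * a, (l⁻¹ : Fˣ) * (l⁻¹ : Fˣ) * b, fun X => ?_, ?_⟩
      · rw [act_conj h.hN hg hyN]
        show D.act g (D.act y (D.act g⁻¹ X)) = _
        rw [hyA, hgA, tor_act_up]
        congr 1
        rw [← hgA, act_act_inv h.hN hg]
      · intro e1
        have e2 : a * b * (((l⁻¹ : Fˣ) : F) * ((l⁻¹ : Fˣ) : F) - l * l) = 0 := by linear_combination e1
        have e3 : ((l⁻¹ : Fˣ) : F) * ((l⁻¹ : Fˣ) : F) - l * l = 0 := by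
          rcases mul_eq_zero.1 e2 with h1 | h1
          · exact absurd h1 (mul_ne_zero ha hb)
          · exact h1
        have hll : (l : F) * ((l⁻¹ : Fˣ) : F) = 1 := by simp
        have e4 : ((l : F) * l) * (l * l) = 1 := by
          linear_combination (- (l : F) * l) * e3 + (l * ((l⁻¹ : Fˣ) : F) + 1) * hll
        exact ht1 (eq_one_of_sq (eq_one_of_sq e4))
  obtain ⟨f1, f2, f3⟩ := fixd y hy a b hyA
  obtain ⟨f1', f2', f3'⟩ := fixd y' hy' a' b' hyA'
  have g11 : D.e v 1 1 = 0 := by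
    rcases mul_eq_zero.1 f1 with h1 | h1
    · rcases mul_eq_zero.1 f2 with h2 | h2
      · exact absurd ⟨h1, h2⟩ hne
      · exact h2
    · exact h1
  rw [g11, mul_zero, add_zero] at f3 f3'
  have g10 : D.e v 1 0 = 0 := by
    have : (a * b' - b * a') * D.e v 1 0 = 0 := by linear_combination b' * f3 - b * f3'
    exact (mul_eq_zero.1 this).resolve_left hdet
  have g01 : D.e v 0 1 = 0 := by
    have : (a * b' - b * a') * D.e v 0 1 = 0 := by linear_combination a * f3' - a' * f3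
    exact (mul_eq_zero.1 this).resolve_left hdet
  exact ⟨hv, D.e v 0 0, by apply ext2 <;> simp [e0, g01, g10, g11]⟩

/-- **`Cx D` holds at the point fixed by `S`.** -/
theorem cx : Cx D := by
  obtain ⟨t, ht0, ht1⟩ := h.three
  have hSN : (S : Subgroup G) ≤ normalizer (D.R0 : Set G) := fun s hs => (hR s hs).mem_nor
  have hR0 : D.R0 ≠ ⊥ := by rw [← R_none]; exact R_ne_bot none none
  have hQS : QQ D.R0 ≤ S := by
    refine le_sylow S hSN (Cfsg.Agent.ZN.isPGroup_o2 _) fun c hc y hy => ?_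
    exact (mem_normalizer_iff.1 (Cfsg.Agent.ZN.le_normalizer_o2 _ hc) y).1 hy
  have hR0Q : D.R0 ≤ QQ D.R0 := by
    refine Cfsg.Agent.ZN.le_o2 le_normalizer ?_ le_rfl
    rintro ⟨x, hx⟩
    refine ⟨1, Subtype.ext ?_⟩
    show x ^ 2 ^ 1 = 1
    rw [pow_one, pow_two]
    exact D.sq hx.1
  refine ⟨h.hN, fun hVQ => h.V_Qt ?_, ?_, hQS.trans h.S_N, h.three⟩
  · refine Beta.App.le_of_le (C := centralizer (Z : Set G)) (R := D.R0) (Q := QQ D.R0) h.V_CZ
      (fun c hc y hy => h.Qt_nor hc hy) ?_ (fun c hc hx => h.char2C ⟨hc, mem_centralizer_iff.2 fun y hy => hx y hy⟩)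
      R0_le (fun r hr => D.sq hr.1) ?_ ?_ (Cfsg.Agent.ZN.isPGroup_o2 _) ?_ hVQ
    · intro W hW hWC hWn
      refine Cfsg.Agent.ZN.le_o2 hWC hW fun c hc => ?_
      refine Mv.mem_nor fun x => ⟨fun hx => hWn c hc x hx, fun hx => ?_⟩
      have := hWn c⁻¹ (inv_mem hc) _ hx
      have e : c⁻¹ * (c * x * c⁻¹) * c⁻¹⁻¹ = x := by group
      rwa [e] at this
    · rintro r ⟨hr, c, hc⟩ x hx
      obtain ⟨a, b, hab⟩ := h.Qt_U hR hx
      have hxN := h.S_N (h.Qt_S hx)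
      have h1 : x * r * x⁻¹ = r := by
        refine D.e_inj ((h.hN x hxN r).1 hr) hr ?_
        rw [← act_e h.hN hxN hr, hc, hab, act_up_e0]
      calc x * r = (x * r * x⁻¹) * x := by group
        _ = r * x := by rw [h1]
    · intro y hy hyc _ v hv
      obtain ⟨a, b, hab⟩ := h.Qt_U hR hy
      have hyN := h.S_N (h.Qt_S hy)
      -- `[w, y] ∈ R₀` for `w ∈ V`
      have hkey : ∀ w ∈ V, D.act y (D.e w) - D.e w = D.e (y * w * y⁻¹ * w⁻¹) ∧ y * w * y⁻¹ * w⁻¹ ∈ D.R0 := by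
        intro w hw
        have hw1 : y * w * y⁻¹ ∈ V := (h.hN y hyN w).1 hw
        refine ⟨by rw [D.mul _ hw1 _ (inv_mem hw), D.e_inv hw, act_e h.hN hyN hw, sub_eq_add_neg], ?_⟩
        refine h.C_V hR (mul_mem hw1 (inv_mem hw)) fun x hx => ?_
        have h5 : w⁻¹ * x * w ∈ o2 (centralizer (Z : Set G)) := by
          have := h.Qt_nor (h.V_CZ (inv_mem hw)) hx
          rwa [inv_inv] at this
        have h6 : x * (w * y⁻¹ * w⁻¹) = (w * y⁻¹ * w⁻¹) * x := by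
          have h7 := hyc _ h5
          have h8 : w⁻¹ * x * w * y⁻¹ = y⁻¹ * (w⁻¹ * x * w) := by
            calc w⁻¹ * x * w * y⁻¹ = y⁻¹ * (y * (w⁻¹ * x * w)) * y⁻¹ := by group
              _ = y⁻¹ * (w⁻¹ * x * w * y) * y⁻¹ := by rw [h7]
              _ = _ := by group
          calc x * (w * y⁻¹ * w⁻¹) = w * (w⁻¹ * x * w * y⁻¹) * w⁻¹ := by group
            _ = w * (y⁻¹ * (w⁻¹ * x * w)) * w⁻¹ := by rw [h8]
            _ = _ := by group
        calc x * (y * w * y⁻¹ * w⁻¹) = (x * y) * (w * y⁻¹ * w⁻¹) := by group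
          _ = (y * x) * (w * y⁻¹ * w⁻¹) := by rw [hyc x hx]
          _ = y * (x * (w * y⁻¹ * w⁻¹)) := by group
          _ = y * ((w * y⁻¹ * w⁻¹) * x) := by rw [h6]
          _ = _ := by group
      obtain ⟨e1, e2⟩ := hkey _ (D.v_mem (e3 1))
      obtain ⟨-, c, hc⟩ := e2
      rw [hc, D.e_v, hab, act_up] at e1
      have h01 := congrArg (fun X : M2 F => X 0 1) e1
      have h10 := congrArg (fun X : M2 F => X 1 0) e1
      simp [e0, e3] at h01 h10
      have h2 : ∀ X, D.act y X = X := fun X => by rw [hab, h01, h10, up_zero, act_one]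
      exact mem_centralizer_iff.1 ((act_one_iff h.hN hyN).1 h2) v hv
    · intro c hc y hy
      exact (mem_normalizer_iff.1 (Cfsg.Agent.ZN.le_normalizer_o2 _ hc) y).1 hy
  · intro x hx
    refine h.char2N D.R0 hR0 R0_le hSN ⟨?_, hx⟩
    refine centralizer_le_normalizer _ ?_
    exact centralizer_le (show (D.R0 : Set G) ⊆ (QQ D.R0 : Set G) from hR0Q) hx

end Sy

end Cfsg.Agent.Omega.NO1.PlusQ

end

-- merged: Cfsg.Agent.Mrg.Omega.NO1.Beta.Plug
section

section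


/-!
# THEOREM BETA in the configuration of NO-1' (`Cfg S P`, `MinusQ K σ P (zl S P)`)

`Plug.main` : there are coordinates `d` on `V = V_P` (for `M = P C(V)`), with `S ≤ N(R₀)`, `Ω₁(Z(S)) ≤ R₀`,
`Hyp d o2` (so `V ≰ O₂(N(R₀))`, `O₂(N(R₀))` induces exactly `U₀`, …) and the structure `Beta` for the singular points.
`Plug.result` : `Q = O₂(N(R₀))` is semi-extraspecial with centre `R₀`.
-/

set_option autoImplicit false
set_option linter.unusedSectionVars false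

namespace Cfsg.Agent.Omega.NO1.Beta.Plug

open Subgroup Cfsg Cfsg.Agent.ZN Cfsg.Agent.Omega.MinPar Cfsg.Agent.Omega.Frame
open Cfsg.Agent.MinSimple.VModule (zc_le_zl o2_isPGroup)
open scoped Pointwise

universe u

variable {G : Type u} [Group G]

theorem isO : Inst.IsO (o2 : Subgroup G → Subgroup G) where
  two := o2_isPGroup
  le := MinSimple.VModule.o2_le
  nor := fun H _ hc y hy => (mem_normalizer_iff.mp (MinSimple.VModule.le_normalizer_o2 H hc) y).mp hy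
  max := fun H N h1 h2 h3 => MinSimple.VModule.le_o2 h2 h1 (fun c hc => by
    rw [mem_normalizer_iff]
    intro y
    refine ⟨fun hy => h3 c hc y hy, fun hy => ?_⟩
    have h4 := h3 c⁻¹ (inv_mem hc) _ hy
    have e : c⁻¹ * (c * y * c⁻¹) * c⁻¹⁻¹ = y := by group
    rwa [e] at h4)

section co

variable {P V : Subgroup G} {K : Type} [Field K] {σ : K ≃+* K}

theorem exists_mul (hPV : P ≤ normalizer (V : Set G)) {x : G} (hx : x ∈ P ⊔ centralizer (V : Set G)) :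
    ∃ p ∈ P, ∀ v ∈ V, x * v * x⁻¹ = p * v * p⁻¹ ∧ x⁻¹ * v * x = p⁻¹ * v * p := by
  have h1 : P ≤ normalizer ((centralizer (V : Set G) : Subgroup G) : Set G) := by
    intro p hp
    have h2 := hPV hp
    have key : ∀ p ∈ normalizer (V : Set G), ∀ c ∈ centralizer (V : Set G),
        p * c * p⁻¹ ∈ centralizer (V : Set G) := by
      intro p hp c hc
      rw [mem_centralizer_iff] at hc ⊢
      intro v hv
      have h3 : p⁻¹ * v * p ∈ V := by
        have := (mem_normalizer_iff.mp (inv_mem hp) v).mp hv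
        rwa [inv_inv] at this
      have h4 := hc _ h3
      calc v * (p * c * p⁻¹) = p * ((p⁻¹ * v * p) * c) * p⁻¹ := by group
        _ = p * (c * (p⁻¹ * v * p)) * p⁻¹ := by rw [h4]
        _ = p * c * p⁻¹ * v := by group
    rw [mem_normalizer_iff]
    intro c
    refine ⟨fun hc => key p h2 c hc, fun hc => ?_⟩
    have := key p⁻¹ (inv_mem h2) _ hc
    have e : p⁻¹ * (p * c * p⁻¹) * p⁻¹⁻¹ = c := by group
    rwa [e] at this
  rw [← SetLike.mem_coe, Subgroup.coe_mul_of_left_le_normalizer_right _ _ h1, Set.mem_mul] at hx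
  obtain ⟨p, hp, c, hc, rfl⟩ := hx
  have hc' : ∀ v ∈ V, v * c = c * v := fun v hv => mem_centralizer_iff.mp hc v hv
  refine ⟨p, hp, fun v hv => ⟨?_, ?_⟩⟩
  · have e : p * c * v * (p * c)⁻¹ = p * (c * v) * c⁻¹ * p⁻¹ := by group
    rw [e, ← hc' v hv]; group
  · have h3 : p⁻¹ * v * p ∈ V := by
      have := (mem_normalizer_iff.mp (inv_mem (hPV hp)) v).mp hv
      rwa [inv_inv] at this
    have e : (p * c)⁻¹ * v * (p * c) = c⁻¹ * ((p⁻¹ * v * p) * c) := by group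
    rw [e, hc' _ h3]; group

/-- The coordinates for `M = P C(V)`. -/
def co (m : MinusQ K σ P V) (hPV : P ≤ normalizer (V : Set G)) (h1 : σ ≠ RingEquiv.refl K)
    (h2 : ∀ x, σ (σ x) = x) : Inst.Co K σ (P ⊔ centralizer (V : Set G)) V where
  e := m.e
  herm := m.herm
  mul := m.mul
  surj := m.surj
  ker := m.ker
  nor := sup_le hPV (centralizer_le_normalizer _)
  lift := fun A => by
    obtain ⟨g, hg, hA⟩ := m.lift A
    exact ⟨g, mem_sup_left hg, hA⟩
  norm := fun g hg h hh A hA => by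
    obtain ⟨p, hp, hpg⟩ := exists_mul hPV hg
    obtain ⟨p', hp', hph⟩ := exists_mul hPV hh
    obtain ⟨B, hB⟩ := m.norm p hp p' hp' A (fun v hv => by rw [← (hph v hv).1]; exact hA v hv)
    refine ⟨B, fun v hv => ?_⟩
    rw [← hB v hv]
    congr 1
    have h3 : p⁻¹ * v * p ∈ V := by
      have := (mem_normalizer_iff.mp (inv_mem (hPV hp)) v).mp hv
      rwa [inv_inv] at this
    have h4 : p' * (p⁻¹ * v * p) * p'⁻¹ ∈ V := (mem_normalizer_iff.mp (hPV hp') _).mp h3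
    calc g * h * g⁻¹ * v * (g * h * g⁻¹)⁻¹ = g * (h * (g⁻¹ * v * g) * h⁻¹) * g⁻¹ := by group
      _ = g * (p' * (p⁻¹ * v * p) * p'⁻¹) * g⁻¹ := by rw [(hpg v hv).2, (hph _ h3).1]
      _ = p * (p' * (p⁻¹ * v * p) * p'⁻¹) * p⁻¹ := (hpg _ h4).1
      _ = p * p' * p⁻¹ * v * (p * p' * p⁻¹)⁻¹ := by group
  inv := h2
  nt := by
    by_contra hcon
    push Not at hcon
    exact h1 (RingEquiv.ext hcon)

end co

variable [Finite G] {S : Sylow 2 G} {P : Subgroup G} {K : Type} [Field K] [Finite K] [CharP K 2]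
  {σ : K ≃+* K}

/-- The hypotheses of the application. -/
theorem sy (h : Cfg S P) (m : MinusQ K σ P (zl (S : Subgroup G) P)) (h1 : σ ≠ RingEquiv.refl K)
    (h2 : ∀ x, σ (σ x) = x) :
    Inst.Sy (co m (Cfg.P_norm_V S P) h1 h2) o2 (S : Subgroup G) (zc (S : Subgroup G)) where
  isO := isO
  C_M := le_sup_right
  S_M := h.S_le.trans le_sup_left
  Z_V := _root_.Cfsg.Agent.MinSimple.VModule.zc_le_zl _ _
  Z_S := fun z hz s hs => ((MinSimple.VModule.mem_zc.mp hz).2.1 s hs).symm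
  Z_max := fun x hx hx2 hxc => MinSimple.VModule.mem_zc.mpr ⟨hx, fun b hb => (hxc b hb).symm, by rw [pow_two]; exact hx2⟩
  char2N := fun R hR hRV hSR x hx hxc => by
    have hR2 : IsPGroup 2 R := h.V_isPGroup.to_le hRV
    have h3 : IsLoc (S : Subgroup G) (normalizer (R : Set G)) :=
      ⟨hSR, o2_ne_bot_of_le hR2 hR le_normalizer le_rfl⟩
    exact h3.char2 S h.ctx.char2 ⟨hx, mem_centralizer_iff.mpr fun y hy => (hxc y hy).symm⟩
  char2C := fun x hx hxc => h.char2C ⟨hx, mem_centralizer_iff.mpr fun y hy => (hxc y hy).symm⟩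
  V_Qt := h.one.not_le

/-- **THEOREM BETA in the configuration of NO-1'.** -/
theorem main (h : Cfg S P) (m : MinusQ K σ P (zl (S : Subgroup G) P)) (h1 : σ ≠ RingEquiv.refl K)
    (h2 : ∀ x, σ (σ x) = x) :
    ∃ d : Inst.Co K σ (P ⊔ centralizer (zl (S : Subgroup G) P : Set G)) (zl (S : Subgroup G) P),
      (S : Subgroup G) ≤ normalizer (d.R0 : Set G) ∧ zc (S : Subgroup G) ≤ d.R0 ∧
      Inst.Sy d o2 (S : Subgroup G) (zc (S : Subgroup G)) ∧ Inst.Hyp d o2 ∧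
      Beta (P ⊔ centralizer (zl (S : Subgroup G) P : Set G)) (zl (S : Subgroup G) P)
        (fun i : Inst.Pt d => i.1) (fun i => o2 (normalizer (i.1 : Set G))) := by
  obtain ⟨g, hg, h3, h4, h5⟩ := (sy h m h1 h2).main
  exact ⟨_, h3, h4, (sy h m h1 h2).mv hg, h5, h5.beta ((sy h m h1 h2).mv hg).meet⟩

end Cfsg.Agent.Omega.NO1.Beta.Plug

end

section


/-!
# Type (γ) of the leaf N1 in the configuration `Cfg S P` (helper914)

`PlusQ.Plug.main` : there are coordinates `D : PlusQ F (P C(V)) V`, `V = V_P`, with `S` fixing `D.R0`, `Ω₁(Z(S)) ≤ D.R0`,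
`Sy D S (zc S)`, `Cx D` and the structure `Grid`.
-/

set_option autoImplicit false
set_option linter.unusedSectionVars false

namespace Cfsg.Agent.Omega.NO1.PlusQ

open Subgroup Cfsg Matrix Cfsg.Agent.ZN Cfsg.Agent.Omega.MinPar Cfsg.Agent.Omega.Frame
open Cfsg.Agent.Omega.NO1.Tens
open Cfsg.Agent.Omega.NO1.BetaPlus (Mv QQ)
open Cfsg.Agent.Omega.NO1.Gamma (Grid)
open Cfsg.Agent.Omega.NO1.Beta.Plug (exists_mul)
open Cfsg.Agent.MinSimple.VModule (zc_le_zl o2_isPGroup)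

universe u

variable {G : Type u} [Group G] {F : Type} [Field F] {P V : Subgroup G}

/-- The coordinates for `P C(V)`. -/
def ext (m : PlusQ F P V) (hPV : P ≤ normalizer (V : Set G)) : PlusQ F (P ⊔ centralizer (V : Set G)) V where
  e := m.e
  mul := m.mul
  surj := m.surj
  ker := m.ker
  lift := fun A B => by
    obtain ⟨g, hg, hA⟩ := m.lift A B
    exact ⟨g, mem_sup_left hg, hA⟩
  norm := fun g hg h hh A B hA => by
    obtain ⟨p, hp, hpg⟩ := exists_mul hPV hg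
    obtain ⟨p', hp', hph⟩ := exists_mul hPV hh
    obtain ⟨A', B', hB⟩ := m.norm p hp p' hp' A B (fun v hv => by rw [← (hph v hv).1]; exact hA v hv)
    refine ⟨A', B', fun v hv => ?_⟩
    rw [← hB v hv]
    congr 1
    have h3 : p⁻¹ * v * p ∈ V := by
      have := (mem_normalizer_iff.mp (inv_mem (hPV hp)) v).mp hv
      rwa [inv_inv] at this
    have h4 : p' * (p⁻¹ * v * p) * p'⁻¹ ∈ V := (mem_normalizer_iff.mp (hPV hp') _).mp h3
    calc g * h * g⁻¹ * v * (g * h * g⁻¹)⁻¹ = g * (h * (g⁻¹ * v * g) * h⁻¹) * g⁻¹ := by group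
      _ = g * (p' * (p⁻¹ * v * p) * p'⁻¹) * g⁻¹ := by rw [(hpg v hv).2, (hph _ h3).1]
      _ = p * (p' * (p⁻¹ * v * p) * p'⁻¹) * p⁻¹ := (hpg _ h4).1
      _ = p * p' * p⁻¹ * v * (p * p' * p⁻¹)⁻¹ := by group
  swap := by
    obtain ⟨s, hs, h⟩ := m.swap
    refine ⟨s, mem_sup_left hs, fun g hg A hA => ?_⟩
    obtain ⟨p', hp', hph⟩ := exists_mul hPV hg
    obtain ⟨B, hB⟩ := h p' hp' A (fun v hv => by rw [← (hph v hv).1]; exact hA v hv)
    refine ⟨B, fun v hv => ?_⟩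
    rw [← hB v hv]
    congr 1
    have h3 : s⁻¹ * v * s ∈ V := by
      have := (mem_normalizer_iff.mp (inv_mem (hPV hs)) v).mp hv
      rwa [inv_inv] at this
    calc s * g * s⁻¹ * v * (s * g * s⁻¹)⁻¹ = s * (g * (s⁻¹ * v * s) * g⁻¹) * s⁻¹ := by group
      _ = s * (p' * (s⁻¹ * v * s) * p'⁻¹) * s⁻¹ := by rw [(hph _ h3).1]
      _ = s * p' * s⁻¹ * v * (s * p' * s⁻¹)⁻¹ := by group

theorem exists_three [Finite F] (h4 : 4 ≤ Nat.card F) : ∃ t : F, t ≠ 0 ∧ t ≠ 1 := by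
  classical
  have := Fintype.ofFinite F
  by_contra hcon
  push Not at hcon
  have h1 : (Finset.univ : Finset F) ⊆ {0, 1} := by
    intro x _
    by_cases hx0 : x = 0
    · simp only [hx0, _root_.Finset.mem_insert, _root_.Finset.mem_singleton, _root_.zero_ne_one, _root_.or_false]
    · simp only [hcon x hx0, _root_.Finset.mem_insert, _root_.one_ne_zero, _root_.Finset.mem_singleton, _root_.or_true]
  have h2 := (Finset.card_le_card h1).trans Finset.card_le_two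
  rw [Finset.card_univ, ← Nat.card_eq_fintype_card] at h2
  omega

variable [Finite G] {S : Sylow 2 G} [Finite F] [CharP F 2]

/-- The hypotheses of the application. -/
theorem sy (h : Cfg S P) (m : PlusQ F P (zl (S : Subgroup G) P)) (h4 : 4 ≤ Nat.card F)
    (hE : 4 ≤ (EE (S : Subgroup G) P).relIndex (zl (S : Subgroup G) P)) :
    Sy (m.ext (Cfg.P_norm_V S P)) S (zc (S : Subgroup G)) where
  hN := fun g hg => by
    obtain ⟨p, hp, hpg⟩ := exists_mul (Cfg.P_norm_V S P) hg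
    refine Mv.of_le (fun a ha => ?_) le_rfl
    rw [(hpg a ha).1]
    exact (mem_normalizer_iff.1 (Cfg.P_norm_V S P hp) a).1 ha
  C_N := le_sup_right
  S_N := h.S_le.trans le_sup_left
  Z_V := _root_.Cfsg.Agent.MinSimple.VModule.zc_le_zl _ _
  Z_S := fun z hz s hs => ((MinSimple.VModule.mem_zc.mp hz).2.1 s hs).symm
  Z_max := fun x hx hx2 hxc => MinSimple.VModule.mem_zc.mpr ⟨hx, fun b hb => (hxc b hb).symm, by rw [pow_two]; exact hx2⟩
  char2N := fun R hR hRV hSR => by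
    have hR2 : IsPGroup 2 R := h.V_isPGroup.to_le hRV
    have h3 : IsLoc (S : Subgroup G) (normalizer (R : Set G)) :=
      ⟨hSR, o2_ne_bot_of_le hR2 hR le_normalizer le_rfl⟩
    exact h3.char2 S h.ctx.char2
  char2C := h.char2C
  V_Qt := h.one.not_le
  four := hE
  three := exists_three h4

/-- **THEOREM BETA for type (γ) in the configuration of NO-1'.** -/
theorem main (h : Cfg S P) (m : PlusQ F P (zl (S : Subgroup G) P)) (h4 : 4 ≤ Nat.card F)
    (hE : 4 ≤ (EE (S : Subgroup G) P).relIndex (zl (S : Subgroup G) P)) :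
    ∃ D : PlusQ F (P ⊔ centralizer (zl (S : Subgroup G) P : Set G)) (zl (S : Subgroup G) P),
      Sy D S (zc (S : Subgroup G)) ∧ (∀ s ∈ (S : Subgroup G), Mv s D.R0 D.R0) ∧ zc (S : Subgroup G) ≤ D.R0 ∧
      Cx D ∧ Grid (zl (S : Subgroup G) P) (fun i j => D.R i j) (fun i j => QQ (D.R i j)) := by
  obtain ⟨D, hD, hR⟩ := (sy h m h4 hE).exists_fix
  exact ⟨D, hD, hR, hD.Z_R0 hR, hD.cx hR, (hD.cx hR).grid hD.meet⟩

end Cfsg.Agent.Omega.NO1.PlusQ

end

end

private theorem dce_d5c765271c4a : _root_.True := by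
  try have : _root_.True := by simp only [_root_.Cfsg.Agent.Omega.NO1.Tens.mob.congr_simp]
  try have : _root_.True := by simp only [_root_.Cfsg.Agent.Omega.NO1.Tens.ua.congr_simp]
  try have : _root_.True := by simp only [_root_.Cfsg.Agent.Omega.NO1.PlusQ.R.congr_simp]
  exact _root_.True.intro
end

-- part: Mrg/Omega/NO1/WR/NTwo
section
prune_inst 0xc43020044100020000000512b0001c4686000492004c000000a005420488cc0040020860880035100000000400340020028800000000000000000400011d0180008000040040010000008e000080000000000000000000000000000000000000000000000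
set_option linter.all false
open scoped Cfsg.Agent.FastGrp

-- merged: Cfsg.Agent.Mrg.Omega.NO1.WR.Base
section

/-!
# N1, `V = V_P` a sum of `k ≥ 2` natural `SL₂(F)`-modules: the interface (text #15037, helper675)

`h : Cfg S P`, `M : NatK F S P V ⊥ k`, `V = zl S P`, `C = CC S = C_G(Z)`, `Q = O₂(C)`, `Z_Q = Ω₁(Z(Q)) = zc Q`.
From `Half/AppNat` (`NatA`): `fac M B` = elements of `V` with support in `B`, `Mv M g σ` : `g` moves the summands
by `σ`, `Blk M B` : `B, Bᶜ` are the two orbits of a subgroup `So M B` of index 2 in `S`.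

* `half` (KL), `full_full` (KL+), `bprime` (b');
* `exists_z` : `z₁ ∈ fac M B`, `z₂ = z₁ ^ s ∈ fac M Bᶜ`, `z₁ z₂ ∈ Z`, both of full support;
* `Case1 M` : `Q ≤ So M B` for all `B`; `Case1.z_mem` (`z₁, z₂ ∈ Z_Q`), `comm_V_ZQ` (`[V, Z_Q] ≤ V ⊓ Z_Q`).
-/

set_option autoImplicit false
set_option linter.unusedSectionVars false

namespace Cfsg.Agent.Omega.NO1.NatWr

open Subgroup Cfsg Cfsg.Agent.ZN Cfsg.Agent.Omega.MinPar Cfsg.Agent.Omega.FFThm
open Cfsg.Agent.Omega.Half Cfsg.Agent.Omega.Half.NatA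
open Cfsg.Agent.Omega.NoFF.LinesPlug (CC)

universe u

variable {G : Type u} [Group G]

/-! ### Generalities -/

theorem o2_inf_le [Finite G] {X Y : Subgroup G} (h : X ≤ Y) : o2 Y ⊓ X ≤ o2 X := by
  refine le_o2 inf_le_right ((isPGroup_o2 Y).to_le inf_le_left) ?_
  intro x hx
  rw [mem_normalizer_iff]
  intro y
  have h1 := mem_normalizer_iff.1 (le_normalizer_o2 Y (h hx)) y
  constructor
  · rintro ⟨h2, h3⟩
    exact ⟨h1.1 h2, X.mul_mem (X.mul_mem hx h3) (X.inv_mem hx)⟩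
  · rintro ⟨h2, h3⟩
    refine ⟨h1.2 h2, ?_⟩
    have h4 : x⁻¹ * (x * y * x⁻¹) * x ∈ X := mul_mem (mul_mem (inv_mem hx) h3) hx
    have e : x⁻¹ * (x * y * x⁻¹) * x = y := by group
    rwa [e] at h4

variable {F : Type} [Field F] {k : ℕ}

section KL

variable [Finite G] {S : Sylow 2 G} {P : Subgroup G}

theorem amb (h : Cfg S P) : Amb (S : Subgroup G) P (zl (S : Subgroup G) P) :=
  amb_of_loc h.ctx.char2 S h.loc

variable {M : NatK F (S : Subgroup G) P (zl (S : Subgroup G) P) ⊥ k} {B : Set (Fin k)}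

/-- **(KL)**: if `u` has full support in the half `B` then, for `X ≤ C_G(u)`, the elements of `X` with support
in the other half lie in `O₂(X)`. -/
theorem half (h : Cfg S P) (hB : Blk M B) {u : G} (hu : u ∈ fac M B) (hfull : ∀ i ∈ B, M.e u i ≠ 0)
    {X : Subgroup G} (hX : X ≤ centralizer ({u} : Set G)) : fac M Bᶜ ⊓ X ≤ o2 X :=
  (inf_le_inf_right X (app_nat h.ctx.char2 S (amb h) hB hu hfull).1).trans (o2_inf_le hX)

/-- **(KL+)**: `x`, `y` of full support in the two halves; then `V ∩ X ≤ O₂(X)` for all `X ≤ C_G(⟨x,y⟩)`. -/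
theorem full_full (h : Cfg S P) (hB : Blk M B) {x y : G} (hx : x ∈ fac M B) (hxf : ∀ i ∈ B, M.e x i ≠ 0)
    (hy : y ∈ fac M Bᶜ) (hyf : ∀ i ∈ Bᶜ, M.e y i ≠ 0) {X : Subgroup G}
    (hX : X ≤ centralizer ({x} : Set G)) (hX' : X ≤ centralizer ({y} : Set G)) :
    zl (S : Subgroup G) P ⊓ X ≤ o2 X := by
  set Y : Subgroup G := centralizer ({x} : Set G) ⊓ centralizer ({y} : Set G) with hY
  have hVx : ∀ w ∈ fac M B ⊔ fac M Bᶜ, w ∈ Y := by
    intro w hw
    have hwV : w ∈ zl (S : Subgroup G) P := (sup_le (fac_le M _) (fac_le M _)) hw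
    exact ⟨mem_centralizer_singleton_iff.2 ((amb h).comm w hwV x hx.1),
      mem_centralizer_singleton_iff.2 ((amb h).comm w hwV y hy.1)⟩
  have h1 : fac M Bᶜ ≤ o2 Y := fun w hw =>
    half h hB hx hxf inf_le_left ⟨hw, hVx w (mem_sup_right hw)⟩
  have h2 : fac M B ≤ o2 Y := by
    have h3 := half h hB.compl hy hyf (X := Y) inf_le_right
    rw [compl_compl] at h3
    exact fun w hw => h3 ⟨hw, hVx w (mem_sup_left hw)⟩
  have h3 : zl (S : Subgroup G) P ≤ o2 Y := by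
    intro v hv
    obtain ⟨a, ha, haB⟩ := exists_fac M B (M.e v)
    have hb : a⁻¹ * v ∈ fac M Bᶜ := by
      refine ⟨mul_mem (inv_mem ha.1) hv, fun i hi => ?_⟩
      rw [M.mul _ (inv_mem ha.1) v hv, e_inv M ha.1, Pi.add_apply, Pi.neg_apply,
        haB i (by simpa using hi), neg_add_cancel]
    have e : v = a * (a⁻¹ * v) := by group
    rw [e]
    exact mul_mem (h2 ha) (h1 hb)
  exact (inf_le_inf_right X h3).trans (o2_inf_le (le_inf hX hX'))

/-- **(b')** -/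
theorem bprime (h : Cfg S P) (hB : Blk M B) {x y : G} (hx : x ∈ fac M B) (hxf : ∀ i ∈ B, M.e x i ≠ 0)
    (hy : y ∈ fac M Bᶜ) (hyf : ∀ i ∈ Bᶜ, M.e y i ≠ 0) {N : Subgroup G} (hN : N ≤ CC (S : Subgroup G))
    (hn : CC (S : Subgroup G) ≤ normalizer (N : Set G)) (hNx : N ≤ centralizer ({x} : Set G))
    (hNy : N ≤ centralizer ({y} : Set G)) : zl (S : Subgroup G) P ⊓ N ≤ o2 (CC (S : Subgroup G)) := by
  refine (full_full h hB hx hxf hy hyf hNx hNy).trans ?_
  exact le_o2 ((o2_le N).trans hN) (isPGroup_o2 N) (hn.trans (normalizer_le_normalizer_o2 N))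

end KL

end Cfsg.Agent.Omega.NO1.NatWr

end

-- merged: Cfsg.Agent.Mrg.Omega.NO1.Many.Tool
section

section


/-!
# The leaf N1, `V_P` a sum of `k ≥ 2` natural modules: the tool (text helper727 #14576 (0))

* `not_mem_o2` : in a frame `v ∉ O₂(H)` for every subgroup `H` containing `X = ⟨V₁, V₁^g⟩`;
* `not_mem_o2_centralizer` : `v ∉ O₂(C_G(d))` for every `d ∈ D`;
* `Fam` : the data of a frame at `v`.
-/

set_option autoImplicit false
set_option linter.unusedSectionVars false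

namespace Cfsg.Agent.Omega.NO1.Many

open Subgroup Cfsg Cfsg.Agent.ZN Cfsg.Agent.Omega.MinPar Cfsg.Agent.Omega.Frame
open Cfsg.Agent.Omega.NoFF.LinesPlug (CC NoOne)
open Cfsg.Agent.Omega.NoFF.Basic
open Cfsg.Agent.Omega.NOne Cfsg.Agent.Omega.NOne.NearFF
open Cfsg.Agent.MinSimple.VModule (o2_isPGroup)
open Cfsg.Agent.Omega.NOne.Frame (Fr X mem_conj' conj_mem norm_mem norm_mem')
open scoped Pointwise

universe u

variable {G : Type u} [Group G] [Finite G]

theorem not_mem_o2 {V Q H : Subgroup G} {v g : G} (h : Fr (V1 V Q v) Q g) (hQ2 : IsPGroup 2 Q)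
    (hX : ¬ IsPGroup 2 (X (V1 V Q v) g)) (hXH : X (V1 V Q v) g ≤ H) : v ∉ o2 H := by
  intro hv
  apply hX
  set W : Subgroup G := NOne.Frame.W (V1 V Q v) Q g with hW
  have hWQ : W ≤ Q := h.W_le_Q
  have hW2 : IsPGroup 2 W := hQ2.to_le hWQ
  have hXW : X (V1 V Q v) g ≤ normalizer (W : Set G) := h.X_norm_W
  have hXo : X (V1 V Q v) g ≤ normalizer ((o2 H ⊓ X (V1 V Q v) g : Subgroup G) : Set G) :=
    Half.le_normalizer_inf (hXH.trans (le_normalizer_o2 H)) le_normalizer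
  have hY2 : IsPGroup 2 ((o2 H ⊓ X (V1 V Q v) g : Subgroup G) ⊔ W : Subgroup G) :=
    IsPGroup.to_sup_of_normal_right' ((o2_isPGroup H).to_le inf_le_left) hW2 (inf_le_right.trans hXW)
  have hvX : v ∈ X (V1 V Q v) g := mem_sup_left (mem_sup_right (mem_zpowers v))
  have hV1 : V1 V Q v ≤ (o2 H ⊓ X (V1 V Q v) g : Subgroup G) ⊔ W := by
    refine sup_le ?_ (zpowers_le.2 (mem_sup_left (mem_inf.2 ⟨hv, hvX⟩)))
    exact (le_inf le_sup_left inf_le_right : V ⊓ Q ≤ V1 V Q v ⊓ Q).trans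
      ((le_sup_left : V1 V Q v ⊓ Q ≤ W).trans le_sup_right)
  have hXY : X (V1 V Q v) g ≤
      normalizer (((o2 H ⊓ X (V1 V Q v) g : Subgroup G) ⊔ W : Subgroup G) : Set G) := by
    intro x hx
    have key : ∀ x ∈ X (V1 V Q v) g, ∀ y ∈ (o2 H ⊓ X (V1 V Q v) g : Subgroup G) ⊔ W,
        x * y * x⁻¹ ∈ (o2 H ⊓ X (V1 V Q v) g : Subgroup G) ⊔ W := by
      intro x hx y hy
      have h1 : (o2 H ⊓ X (V1 V Q v) g : Subgroup G) ⊔ W ≤
          ((o2 H ⊓ X (V1 V Q v) g : Subgroup G) ⊔ W).comap (MulAut.conj x).toMonoidHom := by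
        refine sup_le (fun a ha => ?_) (fun a ha => ?_)
        · exact mem_sup_left (norm_mem (hXo hx) ha)
        · exact mem_sup_right (norm_mem (hXW hx) ha)
      exact h1 hy
    rw [mem_normalizer_iff]
    intro y
    refine ⟨key x hx y, fun hy => ?_⟩
    have := key x⁻¹ (inv_mem hx) _ hy
    have e : x⁻¹ * (x * y * x⁻¹) * x⁻¹⁻¹ = y := by group
    rwa [e] at this
  refine hY2.to_le (sup_le hV1 fun y hy => ?_)
  obtain ⟨w, hw, rfl⟩ := mem_conj'.1 hy
  exact norm_mem (hXY h.gX) (hV1 hw)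

/-- The data of a frame at `v ∈ V - Q`, `E = V ∩ Q`. -/
structure Fam (S : Sylow 2 G) (P : Subgroup G) (v g : G) : Prop where
  mem : v ∈ zl (S : Subgroup G) P
  notMem : v ∉ o2 (CC (S : Subgroup G))
  gC : g ∈ CC (S : Subgroup G)
  fin : _root_.Cfsg.Agent.Omega.NOne.NearFF.Fin (zl (S : Subgroup G) P) (o2 (CC (S : Subgroup G))) v g
  notTwo : ¬ IsPGroup 2 (NOne.Frame.X (V1 (zl (S : Subgroup G) P) (o2 (CC (S : Subgroup G))) v) g)

/-- `E = V ∩ Q` -/
abbrev EE (S P : Subgroup G) : Subgroup G := zl S P ⊓ o2 (CC S)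

/-- `A = E^g` -/
abbrev AA (S P : Subgroup G) (g : G) : Subgroup G := MulAut.conj g • EE S P

/-- `D = E ∩ E^g` -/
abbrev DD (S P : Subgroup G) (g : G) : Subgroup G := EE S P ⊓ MulAut.conj g • EE S P

variable {S : Sylow 2 G} {P : Subgroup G}

theorem exists_fam (h : Cfg S P) {v : G} (hv : v ∈ zl (S : Subgroup G) P)
    (hvQ : v ∉ o2 (CC (S : Subgroup G))) : ∃ g, Fam S P v g := by
  obtain ⟨g, hg, hf, hX, -⟩ := h.exists_near hv hvQ
  exact ⟨g, hv, hvQ, hg, hf, hX⟩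

namespace Fam

variable {v g : G} (f : Fam S P v g)

include f

/-- **The tool**: `v ∉ O₂(C_G(d))` for `d ∈ D`. -/
theorem not_mem_o2_centralizer {d : G} (hd : d ∈ DD (S : Subgroup G) P g) :
    v ∉ o2 (centralizer ({d} : Set G)) := by
  refine not_mem_o2 f.fin.fr (o2_isPGroup _) f.notTwo ?_
  intro x hx
  rw [mem_centralizer_singleton_iff]
  refine f.fin.cent x ?_ d hd
  have h1 : V1 (zl (S : Subgroup G) P) (o2 (CC (S : Subgroup G))) v ≤ zl (S : Subgroup G) P := V1_le f.mem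
  have h2 : X (V1 (zl (S : Subgroup G) P) (o2 (CC (S : Subgroup G))) v) g ≤
      zl (S : Subgroup G) P ⊔ MulAut.conj g • zl (S : Subgroup G) P :=
    sup_le (h1.trans le_sup_left) ((Choice.conj_mono h1).trans le_sup_right)
  exact h2 hx

theorem near : Near (zl (S : Subgroup G) P) (EE (S : Subgroup G) P) (DD (S : Subgroup G) P g)
    (AA (S : Subgroup G) P g) v := f.fin.near

theorem A_le_Q : AA (S : Subgroup G) P g ≤ o2 (CC (S : Subgroup G)) := by
  have h1 : MulAut.conj g • o2 (CC (S : Subgroup G)) = o2 (CC (S : Subgroup G)) := f.fin.fr.gQ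
  rw [← h1]
  exact Choice.conj_mono inf_le_right

theorem A_le_S (h : Cfg S P) : AA (S : Subgroup G) P g ≤ S := f.A_le_Q.trans h.Q_le_S

theorem A_comm {a b : G} (ha : a ∈ AA (S : Subgroup G) P g) (hb : b ∈ AA (S : Subgroup G) P g) :
    a * b = b * a := NOne.Frame.comm_of_le_centralizer f.near.Fcomm ha hb

theorem A_sq {a : G} (ha : a ∈ AA (S : Subgroup G) P g) : a * a = 1 := by
  rw [← pow_two]
  exact f.near.Fsq a ha

/-- `d ∈ D` is centralised by `A` -/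
theorem D_fix {a d : G} (ha : a ∈ AA (S : Subgroup G) P g) (hd : d ∈ DD (S : Subgroup G) P g) :
    a * d * a⁻¹ = d := by
  have := f.near.Dcent hd ha
  rw [← this, mul_inv_cancel_right]

/-- `E = [v, A] D` : every `e ∈ E` is `(v (a v a⁻¹)) d`, `a ∈ A`, `d ∈ D` -/
theorem exists_eq {e : G} (he : e ∈ EE (S : Subgroup G) P) :
    ∃ a ∈ AA (S : Subgroup G) P g, ∃ d ∈ DD (S : Subgroup G) P g, e = v * (a * v * a⁻¹) * d := by
  obtain ⟨a, ha, h1⟩ := f.near.surj he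
  refine ⟨a, ha, _, inv_mem h1, ?_⟩
  have h2 : NearFF.c v a = v * (a * v * a⁻¹) := by
    have hv1 : v⁻¹ = v := f.near.inv_V f.mem
    rw [NearFF.c]
    conv_lhs => rw [hv1]
    group
  have h3 := f.near.V_comm (f.near.c_memV f.mem ha) he.1
  rw [← h2]
  calc e = e * NearFF.c v a * (NearFF.c v a)⁻¹ := by group
    _ = NearFF.c v a * e * (NearFF.c v a)⁻¹ := by rw [h3]
    _ = NearFF.c v a * (NearFF.c v a * e⁻¹)⁻¹ := by group

/-- `[v, a] ∈ D` implies `a ∈ D` -/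
theorem inj {a : G} (ha : a ∈ AA (S : Subgroup G) P g)
    (h : v * (a * v * a⁻¹) ∈ DD (S : Subgroup G) P g) : a ∈ DD (S : Subgroup G) P g := by
  refine f.near.inj a ha ?_
  have hv1 : v⁻¹ = v := f.near.inv_V f.mem
  have e : v * a * v⁻¹ * a⁻¹ = v * (a * v * a⁻¹) := by
    rw [hv1]; group
  rw [e]
  exact h

/-- `[w, a] ∈ E` for `w ∈ V` -/
theorem comm_mem {w a : G} (hw : w ∈ zl (S : Subgroup G) P) (ha : a ∈ AA (S : Subgroup G) P g) :
    w * (a * w * a⁻¹) ∈ EE (S : Subgroup G) P := by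
  have h1 := f.near.comm w hw a ha
  have hw1 : w⁻¹ = w := f.near.inv_V hw
  have e : w * a * w⁻¹ * a⁻¹ = w * (a * w * a⁻¹) := by
    conv_lhs => rw [hw1]
    group
  rwa [e] at h1

/-- `C_A(v) = D` -/
theorem mem_D {a : G} (ha : a ∈ AA (S : Subgroup G) P g) (h : a * v * a⁻¹ = v) :
    a ∈ DD (S : Subgroup G) P g := by
  refine f.inj ha ?_
  rw [h]
  have := f.near.Vsq v f.mem
  rw [pow_two] at this
  rw [this]
  exact one_mem _

end Fam

end Cfsg.Agent.Omega.NO1.Many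

end

section


/-!
# The leaf N1, `V_P` a sum of `k` natural modules: coordinates

`M : NatK F T H V ⊥ k`, `hA : Amb T H V`.

* `comp_eq` : the component of `g x g⁻¹` at `σ i` depends only on the component of `x` at `i`;
* `line` : `T` preserves the lines `{x | x 1 = 0}`, with the permutation of the summands;
* `mem_of_comps` : `u ∈ X` if every component of `u` is in `X`;
* `Ln` : the sum of the lines; `Ln_le` : `Ln ≤ E` if `E ≤ V` is normalised by `T` and not contained in `Ln`;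
* `exists_blk` : an index-2 system of blocks, coarser than a given `T`-invariant equivalence relation.
-/

set_option autoImplicit false
set_option linter.unusedSectionVars false

namespace Cfsg.Agent.Omega.NO1.Many

open Subgroup Cfsg Cfsg.Agent.Omega.FFThm
open Cfsg.Agent.Omega.Half Cfsg.Agent.Omega.Half.NatA
open Cfsg.Agent.Lib.SL2Mat Cfsg.Agent.Omega.NatPair

universe u

variable {G : Type u} [Group G] {F : Type} [Field F] {T H V : Subgroup G} {k : ℕ}

section basic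

variable {M : NatK F T H V ⊥ k} (hA : Amb T H V)

include hA

theorem conj_mem' {g v : G} (hg : g ∈ H) (hv : v ∈ V) : g⁻¹ * v * g ∈ V := by
  have := hA.conj_mem (inv_mem hg) hv
  rwa [inv_inv] at this

theorem sq_self {v : G} (hv : v ∈ V) : v * v = 1 := by
  rw [← pow_two]
  exact hA.sq v hv

theorem self_inv {v : G} (hv : v ∈ V) : v⁻¹ = v := inv_eq_of_mul_eq_one_left (sq_self hA hv)

/-- the component of `g x g⁻¹` at `σ i` depends only on the component of `x` at `i` -/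
theorem comp_eq {g : G} {σ : Equiv.Perm (Fin k)} (h : Mv M g σ) (hg : g ∈ H) {x y : G} (hx : x ∈ V)
    (hy : y ∈ V) {i : Fin k} (hxy : M.e x i = M.e y i) :
    M.e (g * x * g⁻¹) (σ i) = M.e (g * y * g⁻¹) (σ i) := by
  have h1 : M.e (x * y⁻¹) i = 0 := by
    rw [M.mul x hx _ (inv_mem hy), e_inv M hy, Pi.add_apply, Pi.neg_apply, hxy, add_neg_cancel]
  have h2 := (h _ (mul_mem hx (inv_mem hy)) i).2 h1
  have e : g * (x * y⁻¹) * g⁻¹ = (g * x * g⁻¹) * (g * y * g⁻¹)⁻¹ := by group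
  rw [e, M.mul _ (hA.conj_mem hg hx) _ (inv_mem (hA.conj_mem hg hy)), e_inv M (hA.conj_mem hg hy),
    Pi.add_apply, Pi.neg_apply, ← sub_eq_add_neg] at h2
  exact sub_eq_zero.1 h2

omit hA in
theorem eq_of_comp {i : Fin k} {v w : G} (hv : v ∈ fac M {i}) (hw : w ∈ fac M {i}) (h : M.e v i = M.e w i) :
    v = w := by
  apply inj M hv.1 hw.1
  funext j
  by_cases hj : j = i
  · rw [hj, h]
  · rw [hv.2 j hj, hw.2 j hj]

omit hA in
theorem comp_ne_zero {i : Fin k} {v : G} (hv : v ∈ fac M {i}) (hv1 : v ≠ 1) : M.e v i ≠ 0 := by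
  intro h
  apply hv1
  apply eq_one M hv.1
  funext j
  by_cases hj : j = i
  · rw [hj, h]; rfl
  · rw [hv.2 j hj]; rfl

theorem conj_fac {g : G} {σ : Equiv.Perm (Fin k)} (h : Mv M g σ) (hg : g ∈ H) {i : Fin k} {v : G}
    (hv : v ∈ fac M {i}) : g * v * g⁻¹ ∈ fac M {σ i} := by
  have := h.conj M hA hg hv
  rwa [Set.image_singleton] at this

theorem mv_mul {g h : G} {σ τ : Equiv.Perm (Fin k)} (hh : h ∈ H) (h1 : Mv M g σ) (h2 : Mv M h τ) :
    Mv M (g * h) (σ * τ) := by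
  intro v hv i
  have e1 : g * h * v * (g * h)⁻¹ = g * (h * v * h⁻¹) * g⁻¹ := by group
  rw [e1, Equiv.Perm.mul_apply, h1 _ (hA.conj_mem hh hv), h2 v hv]

/-- the permutation is determined by one vector -/
theorem mv_apply_eq {g : G} {σ : Equiv.Perm (Fin k)} (h : Mv M g σ) (hg : g ∈ H) {i j : Fin k} {v : G}
    (hv : v ∈ fac M {i}) (hj : M.e (g * v * g⁻¹) j ≠ 0) : σ i = j := by
  by_contra hne
  exact hj ((conj_fac hA h hg hv).2 j fun h => hne h.symm)

/-- an element with a fixed vector with nonzero `i`-component fixes ... -/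
theorem supp_iff {g d : G} {σ : Equiv.Perm (Fin k)} (h : Mv M g σ) (hd : d ∈ V) (hgd : g * d * g⁻¹ = d)
    (i : Fin k) : M.e d (σ i) = 0 ↔ M.e d i = 0 := by
  have := h d hd i
  rwa [hgd] at this

/-- `T` preserves the lines. -/
theorem line {t : G} (ht : t ∈ T) {σ : Equiv.Perm (Fin k)} (h : Mv M t σ) {v : G} (hv : v ∈ V) (i : Fin k) :
    M.e (t * v * t⁻¹) (σ i) 1 = 0 ↔ M.e v i 1 = 0 := by
  obtain ⟨τ, hτ⟩ := M.line t ht
  have hστ : ∀ i, τ i = σ i := by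
    intro i
    obtain ⟨w, hw, hwi⟩ := exists_fac M {i} fun _ => ![0, 1]
    have hwi := hwi i rfl
    by_contra hne
    have h1 := (conj_fac hA h (hA.TH ht) hw).2 (τ i) hne
    have h2 := (hτ w hw.1 i).1 (by rw [h1]; rfl)
    rw [hwi] at h2
    exact one_ne_zero h2
  rw [← hστ]
  exact hτ v hv i

omit hA in
/-- `u ∈ X` if every component of `u` is in `X`. -/
theorem mem_of_comps {X : Subgroup G} {u : G} (hu : u ∈ V)
    (h : ∀ i, ∃ x ∈ X, x ∈ fac M {i} ∧ M.e x i = M.e u i) : u ∈ X := by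
  have hall : ∀ s : Finset (Fin k), ∀ v ∈ V, (∀ i, ∃ x ∈ X, x ∈ fac M {i} ∧ M.e x i = M.e v i) →
      (∀ j, j ∉ s → M.e v j = 0) → v ∈ X := by
    intro s
    induction s using Finset.induction_on with
    | empty =>
      intro v hv _ h
      have : v = 1 := eq_one M hv (funext fun j => h j (Finset.notMem_empty j))
      rw [this]
      exact one_mem X
    | insert a s has ih =>
      intro v hv hc h
      obtain ⟨x, hx, hxa, hxe⟩ := hc a
      have hcomp : ∀ i, M.e (v * x⁻¹) i = M.e v i - M.e x i := by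
        intro i
        rw [M.mul v hv _ (inv_mem hxa.1), e_inv M hxa.1, Pi.add_apply, Pi.neg_apply, sub_eq_add_neg]
      have h1 : v * x⁻¹ ∈ X := by
        refine ih _ (mul_mem hv (inv_mem hxa.1)) (fun i => ?_) fun j hj => ?_
        · by_cases hia : i = a
          · refine ⟨1, one_mem X, one_mem _, ?_⟩
            rw [hcomp, hia, hxe, sub_self, e_one]
            rfl
          · obtain ⟨y, hy, hyi, hye⟩ := hc i
            refine ⟨y, hy, hyi, ?_⟩
            rw [hcomp, hxa.2 i hia, sub_zero, hye]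
        · by_cases hja : j = a
          · rw [hcomp, hja, hxe, sub_self]
          · rw [hcomp, hxa.2 j hja, sub_zero]
            exact h j fun h' => (Finset.mem_insert.1 h').elim hja hj
      have h2 : v = v * x⁻¹ * x := by group
      rw [h2]
      exact mul_mem h1 hx
  exact hall Finset.univ u hu h fun j hj => absurd (Finset.mem_univ j) hj

end basic

/-! ### The sum of the lines -/

section lines

variable (M : NatK F T H V ⊥ k)

/-- the sum of the lines -/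
def Ln : Subgroup G where
  carrier := {v | v ∈ V ∧ ∀ i, M.e v i 1 = 0}
  mul_mem' := by
    rintro v w ⟨hv, h1⟩ ⟨hw, h2⟩
    refine ⟨mul_mem hv hw, fun i => ?_⟩
    rw [M.mul v hv w hw, Pi.add_apply, Pi.add_apply, h1 i, h2 i, add_zero]
  one_mem' := ⟨one_mem V, fun i => by rw [e_one]; rfl⟩
  inv_mem' := by
    rintro v ⟨hv, h1⟩
    refine ⟨inv_mem hv, fun i => ?_⟩
    rw [e_inv M hv, Pi.neg_apply, Pi.neg_apply, h1 i, neg_zero]

variable {M} (hA : Amb T H V)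

include hA

/-- `Ln ≤ E` if `E ≤ V` is normalised by `T` and `E ≰ Ln`. -/
theorem Ln_le {E : Subgroup G} (hEV : E ≤ V) (hT : ∀ t ∈ T, ∀ e ∈ E, t * e * t⁻¹ ∈ E) {e : G} (he : e ∈ E)
    {i : Fin k} (hi : M.e e i 1 ≠ 0) : Ln M ≤ E := by
  classical
  intro y hy
  refine mem_of_comps (M := M) hy.1 fun m => ?_
  -- move `i` to `m`
  obtain ⟨s, hs, hsm⟩ := M.trans i m
  obtain ⟨σ, hσ⟩ := M.perm s (hA.TH hs)
  have hσi : σ i = m := Mv.unique M hA (σ := σ) hσ (hA.TH hs) hsm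
  have he' := hT s hs e he
  have hm : M.e (s * e * s⁻¹) m 1 ≠ 0 := by
    rw [← hσi, Ne, line hA hs hσ (hEV he)]
    exact hi
  set c := s * e * s⁻¹ with hc
  obtain ⟨t, ht, hta, -⟩ := M.unip (Function.update 0 m (M.e y m 0 * (M.e c m 1)⁻¹))
  have h1 : t * c * t⁻¹ ∈ E := hT t ht c he'
  have hcV := hEV he'
  have hta : ∀ v ∈ V, ∀ j, M.e (t * v * t⁻¹) j =
      ap (up (Function.update (0 : Fin k → F) m (M.e y m 0 * (M.e c m 1)⁻¹) j)) (M.e v j) := hta
  have hcomp : ∀ j, M.e (t * c * t⁻¹ * c⁻¹) j = if j = m then ![M.e y m 0, 0] else 0 := by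
    intro j
    rw [M.mul _ (hEV h1) _ (inv_mem hcV), e_inv M hcV, Pi.add_apply, Pi.neg_apply, hta c hcV j]
    by_cases hj : j = m
    · rw [if_pos hj, hj, Function.update_self]
      apply ext2
      · rw [Pi.add_apply, Pi.neg_apply, ap_zero', up_00, up_01, one_mul, mul_assoc, inv_mul_cancel₀ hm, mul_one]
        simp
      · rw [Pi.add_apply, Pi.neg_apply, ap_one', up_10, up_11, zero_mul, one_mul, zero_add, add_neg_cancel]
        rfl
    · rw [if_neg hj, Function.update_of_ne hj, Pi.zero_apply]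
      apply ext2
      · rw [Pi.add_apply, Pi.neg_apply, ap_zero', up_00, up_01, one_mul, zero_mul, add_zero, add_neg_cancel]
        rfl
      · rw [Pi.add_apply, Pi.neg_apply, ap_one', up_10, up_11, zero_mul, one_mul, zero_add, add_neg_cancel]
        rfl
  refine ⟨_, mul_mem h1 (inv_mem he'), ⟨mul_mem (hEV h1) (inv_mem hcV), fun j hj => ?_⟩, ?_⟩
  · rw [hcomp]
    exact if_neg (show ¬ j = m from hj)
  · rw [hcomp, if_pos rfl]
    exact ext2 rfl (hy.2 m).symm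

end lines

/-! ### Blocks -/

section blocks

variable {M : NatK F T H V ⊥ k} (hA : Amb T H V)

include hA

/-- An index-2 system of blocks, coarser than a given `T`-invariant equivalence relation `R`. -/
theorem exists_blk [Finite G] (hT2 : IsPGroup 2 T) (R : Fin k → Fin k → Prop) (hrefl : ∀ a, R a a)
    (htrans : ∀ a b c, R a b → R b c → R a c)
    (hinv : ∀ t ∈ T, ∀ σ, Mv M t σ → ∀ a b, R a b → R (σ a) (σ b)) {i m₀ : Fin k} (hm₀ : ¬ R i m₀) :
    ∃ B : Set (Fin k), Blk M B ∧ ∀ j, R i j → j ∉ B := by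
  have : Fact (Nat.Prime 2) := ⟨Nat.prime_two⟩
  have hmv : ∀ t ∈ T, ∃ σ, Mv M t σ := fun t ht => M.perm t (hA.TH ht)
  have huniq : ∀ t ∈ T, ∀ σ τ, Mv M t σ → Mv M t τ → ∀ a, σ a = τ a := fun t ht σ τ hσ hτ a =>
    Mv.unique M hA (σ := σ) hσ (hA.TH ht) fun v hv => hτ v hv a
  -- the stabiliser of the class of `i`
  let N : Subgroup T :=
    { carrier := {t | ∀ σ, Mv M (t : G) σ → R i (σ i)}
      mul_mem' := by
        rintro ⟨s, hs⟩ ⟨t, ht⟩ h1 h2 σ hσ
        obtain ⟨α, hα⟩ := hmv s hs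
        obtain ⟨β, hβ⟩ := hmv t ht
        have h3 := huniq (s * t) (mul_mem hs ht) _ _ hσ (mv_mul hA (hA.TH ht) hα hβ) i
        rw [h3, Equiv.Perm.mul_apply]
        exact htrans _ _ _ (h1 α hα) (hinv s hs α hα _ _ (h2 β hβ))
      one_mem' := by
        intro σ hσ
        have h1 : Mv M (1 : G) (1 : Equiv.Perm (Fin k)) := by
          intro v hv i
          rw [one_mul, inv_one, mul_one]
          rfl
        rw [huniq 1 (one_mem T) σ 1 hσ h1 i]
        exact hrefl i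
      inv_mem' := by
        rintro ⟨t, ht⟩ h1 σ hσ
        -- powers of `t`
        obtain ⟨α, hα⟩ := hmv t ht
        have h2 := Mv.inv M hA (σ := α) hα (hA.TH ht)
        rw [huniq t⁻¹ (inv_mem ht) σ α.symm hσ h2 i]
        -- `t⁻¹ = t ^ n`
        have hpow : ∀ n : ℕ, R i ((α ^ n) i) := by
          intro n
          induction n with
          | zero => exact hrefl i
          | succ n ih =>
            rw [pow_succ', Equiv.Perm.mul_apply]
            exact htrans _ _ _ (h1 α hα) (hinv t ht α hα _ _ ih)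
        have h3 : α.symm = α ^ (orderOf α - 1) := by
          have h4 : α ^ (orderOf α - 1) * α = 1 := by
            rw [← pow_succ, Nat.sub_add_cancel (orderOf_pos α), pow_orderOf_eq_one]
          exact (eq_inv_of_mul_eq_one_left h4).symm
        rw [h3]
        exact hpow _ }
  have hN : N ≠ ⊤ := by
    intro h
    obtain ⟨t, ht, h1⟩ := M.trans i m₀
    obtain ⟨σ, hσ⟩ := hmv t ht
    have h2 : (⟨t, ht⟩ : T) ∈ N := h ▸ mem_top _
    apply hm₀
    rw [← Mv.unique M hA (σ := σ) hσ (hA.TH ht) h1]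
    exact h2 σ hσ
  obtain ⟨K, hK, hNK⟩ := (eq_top_or_exists_le_coatom N).resolve_left hN
  have hK2 : K.index = 2 := Lib.FrattiniPGroup.index_of_coatom hT2 hK
  have hstab : ∀ t (ht : t ∈ T) σ, Mv M t σ → σ i = i → (⟨t, ht⟩ : T) ∈ K := by
    intro t ht σ hσ h1
    refine hNK fun τ hτ => ?_
    rw [huniq t ht τ σ hτ hσ i, h1]
    exact hrefl i
  let B : Set (Fin k) := {m | ∃ t : T, t ∉ K ∧ ∃ σ, Mv M (t : G) σ ∧ σ i = m}
  have hBc : ∀ m, m ∉ B ↔ ∃ t : T, t ∈ K ∧ ∃ σ, Mv M (t : G) σ ∧ σ i = m := by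
    intro m
    constructor
    · intro h
      obtain ⟨t, ht, h1⟩ := M.trans i m
      obtain ⟨σ, hσ⟩ := hmv t ht
      have h2 := Mv.unique M hA (σ := σ) hσ (hA.TH ht) h1
      refine ⟨⟨t, ht⟩, ?_, σ, hσ, h2⟩
      by_contra h3
      exact h ⟨⟨t, ht⟩, h3, σ, hσ, h2⟩
    · rintro ⟨t, ht, σ, hσ, h1⟩ ⟨s, hs, τ, hτ, h2⟩
      apply hs
      have h3 : t⁻¹ * s ∈ K := by
        refine hstab _ (mul_mem (inv_mem t.2) s.2) (σ.symm * τ) ?_ ?_
        · exact mv_mul hA (hA.TH s.2) (Mv.inv M hA (σ := σ) hσ (hA.TH t.2)) hτ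
        · rw [Equiv.Perm.mul_apply, h2, ← h1, Equiv.symm_apply_apply]
      have h4 := K.mul_mem ht h3
      rwa [mul_inv_cancel_left] at h4
  have hmov : ∀ (t : T) σ, Mv M (t : G) σ → ∀ m, (t ∈ K → (σ m ∈ B ↔ m ∈ B)) ∧ (t ∉ K → (σ m ∈ B ↔ m ∉ B)) := by
    intro t σ hσ m
    have key : ∀ s : T, ∀ τ, Mv M (s : G) τ → τ i = m → ((t * s : T) ∉ K ↔ σ m ∈ B) := by
      intro s τ hτ h1
      have h2 : Mv M ((t * s : T) : G) (σ * τ) := mv_mul hA (hA.TH s.2) hσ hτ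
      have h3 : (σ * τ) i = σ m := by rw [Equiv.Perm.mul_apply, h1]
      constructor
      · intro h
        exact ⟨_, h, _, h2, h3⟩
      · intro h h4
        exact (hBc (σ m)).2 ⟨_, h4, _, h2, h3⟩ h
    have key2 : ∀ s : T, ∀ τ, Mv M (s : G) τ → τ i = m → (s ∉ K ↔ m ∈ B) := by
      intro s τ hτ h1
      constructor
      · intro h
        exact ⟨_, h, _, hτ, h1⟩
      · intro h h4
        exact (hBc m).2 ⟨_, h4, _, hτ, h1⟩ h
    obtain ⟨s, hs, h1⟩ := M.trans i m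
    obtain ⟨τ, hτ⟩ := hmv s hs
    have h2 := Mv.unique M hA (σ := τ) hτ (hA.TH hs) h1
    have h3 := key ⟨s, hs⟩ τ hτ h2
    have h4 := key2 ⟨s, hs⟩ τ hτ h2
    have h5 := mul_mem_iff_of_index_two hK2 (a := t) (b := ⟨s, hs⟩)
    constructor
    · intro ht
      rw [← h3, ← h4, h5]
      simp [ht]
    · intro ht
      rw [← h3, ← h4, h5]
      simp [ht]
  have hi : i ∉ B := by
    rw [hBc]
    refine ⟨1, one_mem K, 1, ?_, rfl⟩
    intro v hv i
    rw [OneMemClass.coe_one, one_mul, inv_one, mul_one]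
    rfl
  refine ⟨B, ⟨?_, ⟨i, hi⟩, ?_⟩, ?_⟩
  · -- `B` is not empty
    obtain ⟨t, ht⟩ : ∃ t : T, t ∉ K := by
      by_contra h
      push Not at h
      exact hK.1 ((eq_top_iff' K).2 h)
    obtain ⟨σ, hσ⟩ := hmv t t.2
    exact ⟨σ i, t, ht, σ, hσ, rfl⟩
  · intro t ht σ hσ
    by_cases htK : (⟨t, ht⟩ : T) ∈ K
    · left
      ext m
      constructor
      · rintro ⟨a, ha, rfl⟩
        exact ((hmov ⟨t, ht⟩ σ hσ a).1 htK).2 ha
      · intro hm
        refine ⟨σ.symm m, ?_, σ.apply_symm_apply m⟩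
        rw [← (hmov ⟨t, ht⟩ σ hσ _).1 htK, σ.apply_symm_apply]
        exact hm
    · right
      ext m
      constructor
      · rintro ⟨a, ha, rfl⟩ h
        exact ((hmov ⟨t, ht⟩ σ hσ a).2 htK).1 h ha
      · intro hm
        refine ⟨σ.symm m, ?_, σ.apply_symm_apply m⟩
        by_contra h
        rw [← (hmov ⟨t, ht⟩ σ hσ _).2 htK, σ.apply_symm_apply] at h
        exact hm h
  · intro j hj
    rw [hBc]
    obtain ⟨t, ht, h1⟩ := M.trans i j
    obtain ⟨σ, hσ⟩ := hmv t ht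
    have h2 := Mv.unique M hA (σ := σ) hσ (hA.TH ht) h1
    refine ⟨⟨t, ht⟩, hNK fun τ hτ => ?_, σ, hσ, h2⟩
    rw [huniq t ht τ σ hτ hσ i, h2]
    exact hj

end blocks

end Cfsg.Agent.Omega.NO1.Many

end

section


/-!
# The elements of `H` act semilinearly on the summands

`exists_T` : for `g ∈ H` with permutation `σ` and every `i` there is an additive, semilinear map `T` with
`e (g v g⁻¹) (σ i) = T (e v i)`.
-/

set_option autoImplicit false
set_option linter.unusedSectionVars false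

namespace Cfsg.Agent.Omega.NO1.Many

open Subgroup Cfsg Cfsg.Agent.Omega.FFThm
open Cfsg.Agent.Omega.Half Cfsg.Agent.Omega.Half.NatA
open Cfsg.Agent.Lib.SL2Mat Cfsg.Agent.Omega.NatPair

universe u

variable {G : Type u} [Group G] {F : Type} [Field F] {T H V : Subgroup G} {k : ℕ}

/-- The action of an element of `H` on a summand. -/
structure Sem (M : NatK F T H V ⊥ k) (g : G) (σ : Equiv.Perm (Fin k)) (i : Fin k)
    (L : (Fin 2 → F) → (Fin 2 → F)) (τ : F → F) : Prop where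
  add : ∀ x y, L (x + y) = L x + L y
  smul : ∀ (c : F) x, L (c • x) = τ c • L x
  e : ∀ v ∈ V, M.e (g * v * g⁻¹) (σ i) = L (M.e v i)

theorem exists_T {M : NatK F T H V ⊥ k} (hA : Amb T H V) {g : G} (hg : g ∈ H) {σ : Equiv.Perm (Fin k)}
    (hσ : Mv M g σ) (i : Fin k) : ∃ L τ, Sem M g σ i L τ := by
  classical
  have hι : ∀ (j : Fin k) (x : Fin 2 → F), ∃ v ∈ fac M {j}, M.e v j = x := by
    intro j x
    obtain ⟨v, hv, h⟩ := exists_fac M {j} fun _ => x
    exact ⟨v, hv, h j rfl⟩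
  choose ι hι1 hι2 using hι
  have hσ' := Mv.inv M hA (σ := σ) hσ hg
  have hgi : g⁻¹ ∈ H := inv_mem hg
  set L : (Fin 2 → F) → (Fin 2 → F) := fun x => M.e (g * ι i x * g⁻¹) (σ i) with hL
  set L' : (Fin 2 → F) → (Fin 2 → F) := fun y => M.e (g⁻¹ * ι (σ i) y * g) i with hL'
  have he : ∀ v ∈ V, M.e (g * v * g⁻¹) (σ i) = L (M.e v i) := by
    intro v hv
    exact comp_eq hA hσ hg hv (hι1 i _).1 (hι2 i _).symm
  have he' : ∀ v ∈ V, M.e (g⁻¹ * v * g) i = L' (M.e v (σ i)) := by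
    intro v hv
    have h1 := comp_eq hA hσ' hgi hv (hι1 (σ i) (M.e v (σ i))).1 (hι2 (σ i) _).symm
    rw [Equiv.symm_apply_apply, inv_inv] at h1
    exact h1
  have hadd : ∀ x y, L (x + y) = L x + L y := by
    intro x y
    have h1 : M.e (ι i x * ι i y) i = x + y := by
      rw [M.mul _ (hι1 i x).1 _ (hι1 i y).1, Pi.add_apply, hι2, hι2]
    rw [← h1, ← he _ (mul_mem (hι1 i x).1 (hι1 i y).1)]
    have e1 : g * (ι i x * ι i y) * g⁻¹ = (g * ι i x * g⁻¹) * (g * ι i y * g⁻¹) := by group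
    rw [e1, M.mul _ (hA.conj_mem hg (hι1 i x).1) _ (hA.conj_mem hg (hι1 i y).1)]
    rfl
  have h1 : ∀ x, L' (L x) = x := by
    intro x
    rw [hL]
    change L' (M.e (g * ι i x * g⁻¹) (σ i)) = x
    rw [← he' _ (hA.conj_mem hg (hι1 i x).1)]
    have e1 : g⁻¹ * (g * ι i x * g⁻¹) * g = ι i x := by group
    rw [e1, hι2]
  have h2 : ∀ x, L (L' x) = x := by
    intro x
    change L (M.e (g⁻¹ * ι (σ i) x * g) i) = x
    rw [← he _ (conj_mem' hA hg (hι1 (σ i) x).1)]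
    have e1 : g * (g⁻¹ * ι (σ i) x * g) * g⁻¹ = ι (σ i) x := by group
    rw [e1, hι2]
  have hn : ∀ A : Matrix.SpecialLinearGroup (Fin 2) F, ∃ B : Matrix.SpecialLinearGroup (Fin 2) F,
      ∀ x, L' (ap A (L x)) = ap B x := by
    intro A
    obtain ⟨h, hh, hhA, -⟩ := M.lift (Function.update 1 (σ i) A)
    obtain ⟨B, hB⟩ := M.norm g⁻¹ hgi h hh _ hhA
    refine ⟨B i, fun x => ?_⟩
    have h3 : M.e (h * (g * ι i x * g⁻¹) * h⁻¹) (σ i) = ap A (L x) := by
      rw [hhA _ (hA.conj_mem hg (hι1 i x).1) (σ i), Function.update_self]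
    rw [← h3, ← he' _ (hA.conj_mem hh (hA.conj_mem hg (hι1 i x).1))]
    have h4 := hB (ι i x) (hι1 i x).1 i
    rw [hι2] at h4
    rw [← h4]
    congr 1
    group
  obtain ⟨τ, hτ⟩ := NatPair.exists_semi L L' hadd h1 h2 hn
  exact ⟨L, τ, hadd, hτ, he⟩

namespace Sem

variable {M : NatK F T H V ⊥ k} {g : G} {σ : Equiv.Perm (Fin k)} {i : Fin k}
  {L : (Fin 2 → F) → (Fin 2 → F)} {τ : F → F} (s : Sem M g σ i L τ) (hσ : Mv M g σ)

include s hσ

theorem inj {x : Fin 2 → F} (h : L x = 0) : x = 0 := by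
  obtain ⟨v, hv, hx⟩ := exists_fac M {i} fun _ => x
  have hx := hx i rfl
  rw [← hx] at h ⊢
  rw [← s.e v hv.1] at h
  exact (hσ v hv.1 i).1 h

end Sem

end Cfsg.Agent.Omega.NO1.Many

end

section


/-!
# The leaf N1, `V_P` a sum of `k ≥ 2` natural modules, `Q` moves a summand (text helper727 #14576 (1), (2), (4))

`v ∈ V_i - E`, a frame at `v`, `f₁ ∈ A = E^g` moves `V_i` to `V_j`, `j ≠ i`; the lines lie in `E`.
`Swap.main` : `|F| = 2` and `k = 2`.
-/

set_option autoImplicit false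
set_option linter.unusedSectionVars false

namespace Cfsg.Agent.Omega.NO1.Many

open Subgroup Cfsg Cfsg.Agent.ZN Cfsg.Agent.Omega.MinPar Cfsg.Agent.Omega.Frame Cfsg.Agent.Omega.FFThm
open Cfsg.Agent.Omega.NoFF.LinesPlug (CC NoOne)
open Cfsg.Agent.Omega.Half Cfsg.Agent.Omega.Half.NatA
open Cfsg.Agent.Lib.SL2Mat Cfsg.Agent.Omega.NatPair
open scoped Pointwise

universe u

variable {G : Type u} [Group G] [Finite G] {S : Sylow 2 G} {P : Subgroup G}

theorem amb (h : Cfg S P) : Amb (S : Subgroup G) P (zl (S : Subgroup G) P) :=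
  amb_of_loc h.ctx.char2 S h.loc

/-- `E` is normalised by `S`. -/
theorem E_conj (h : Cfg S P) {t e : G} (ht : t ∈ (S : Subgroup G)) (he : e ∈ EE (S : Subgroup G) P) :
    t * e * t⁻¹ ∈ EE (S : Subgroup G) P := by
  refine mem_inf.2 ⟨(amb h).conj_mem (h.S_le ht) he.1, ?_⟩
  exact (mem_normalizer_iff.1 (le_normalizer_o2 _ (Cfg.S_le_CC S ht)) e).1 he.2

section fam

variable (h : Cfg S P) {F : Type} [Field F] [CharP F 2] {k : ℕ}
  {M : NatK F (S : Subgroup G) P (zl (S : Subgroup G) P) ⊥ k} {v g : G} (f : Fam S P v g)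

include h

include f in
/-- the decomposition `E = [v, A] D` in coordinates -/
theorem dec {e : G} (he : e ∈ EE (S : Subgroup G) P) : ∃ a ∈ AA (S : Subgroup G) P g,
    ∃ d ∈ DD (S : Subgroup G) P g, ∀ m, M.e d m = M.e v m + M.e (a * v * a⁻¹) m + M.e e m := by
  obtain ⟨a, ha, d, hd, h1⟩ := f.exists_eq he
  have hA := amb h
  have hav : a * v * a⁻¹ ∈ zl (S : Subgroup G) P := hA.conj_mem (h.S_le (f.A_le_S h ha)) f.mem
  refine ⟨a, ha, d, hd, fun m => ?_⟩
  have h2 : M.e e m = M.e v m + M.e (a * v * a⁻¹) m + M.e d m := by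
    rw [h1, M.mul _ (mul_mem f.mem hav) _ (f.near.DV hd), M.mul _ f.mem _ hav]
    rfl
  rw [h2]
  have e2 : ∀ x y : Fin 2 → F, x + y + (x + y + M.e d m) = M.e d m := by
    intro x y
    rw [← add_assoc, show x + y + (x + y) = 0 from funext fun _ => CharTwo.add_self_eq_zero _, zero_add]
  exact (e2 _ _).symm

include f in
theorem AP {a : G} (ha : a ∈ AA (S : Subgroup G) P g) : a ∈ P := h.S_le (f.A_le_S h ha)

include f in
/-- the permutation of an element of `A` is an involution -/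
theorem mv_sq {a : G} (ha : a ∈ AA (S : Subgroup G) P g) {σ : Equiv.Perm (Fin k)} (hσ : Mv M a σ) (m : Fin k) :
    σ (σ m) = m := by
  have hA := amb h
  have h1 := mv_mul hA (AP h f ha) hσ hσ
  rw [f.A_sq ha] at h1
  refine Mv.unique M hA (σ := σ * σ) h1 (one_mem P) fun w _ => ?_
  rw [one_mul, inv_one, mul_one]

omit h in
theorem add_eq_zero_iff' {x y : Fin 2 → F} : x + y = 0 ↔ x = y := by
  constructor
  · intro h0
    have h1 : x + y + y = y := by rw [h0, zero_add]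
    rwa [add_assoc, show y + y = 0 from funext fun _ => CharTwo.add_self_eq_zero _, add_zero] at h1
  · rintro rfl
    exact funext fun _ => CharTwo.add_self_eq_zero _

end fam

/-! ### `A` moves the summand of `v` -/

section swap

variable (h : Cfg S P) {F : Type} [Field F] [CharP F 2] {k : ℕ}
  {M : NatK F (S : Subgroup G) P (zl (S : Subgroup G) P) ⊥ k} {v g : G} (f : Fam S P v g)
  {i j : Fin k} (hv : v ∈ fac M {i}) {f1 : G} (hf1 : f1 ∈ AA (S : Subgroup G) P g)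
  {σ1 : Equiv.Perm (Fin k)} (hσ1 : Mv M f1 σ1) (hij : σ1 i = j) (hne : j ≠ i)

include h f hv hf1 hσ1 hij hne

theorem v_ne_one : v ≠ 1 := fun h1 => f.notMem (h1 ▸ one_mem _)

theorem sigma_j : σ1 j = i := by rw [← hij]; exact mv_sq h f hf1 hσ1 i

/-- The orbit of `i` is `{i, j}`. -/
theorem orbit {b : G} (hb : b ∈ AA (S : Subgroup G) P g) {σ : Equiv.Perm (Fin k)} (hσ : Mv M b σ) :
    σ i = i ∨ σ i = j := by
  have hA := amb h
  by_contra hcon
  push Not at hcon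
  obtain ⟨hmi, hmj⟩ := hcon
  have hv1 := v_ne_one h f hv hf1 hσ1 hij hne
  have hvi := comp_ne_zero hv hv1
  obtain ⟨y, hy0, hy1⟩ := exists_ne_ne (M.e v i)
  obtain ⟨w, hw, hwy⟩ := exists_fac M {i} fun _ => y
  have hwy := hwy i rfl
  have hf1P := AP h f hf1
  have hwf : f1 * w * f1⁻¹ ∈ fac M {j} := hij ▸ conj_fac hA hσ1 hf1P hw
  have hwf0 : M.e (f1 * w * f1⁻¹) j ≠ 0 := by
    rw [← hij, Ne, hσ1 w hw.1 i, hwy]
    exact hy0
  obtain ⟨a, ha, d, hd, hde⟩ := dec (M := M) h f (f.comm_mem hw.1 hf1)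
  have haP := AP h f ha
  obtain ⟨σa, hσa⟩ := M.perm a haP
  have hva : a * v * a⁻¹ ∈ fac M {σa i} := conj_fac hA hσa haP hv
  have hdV := f.near.DV hd
  have hE : ∀ m, M.e d m = M.e v m + M.e (a * v * a⁻¹) m + (M.e w m + M.e (f1 * w * f1⁻¹) m) := by
    intro m
    rw [hde, M.mul _ hw.1 _ hwf.1]
    rfl
  have hfb := f.D_fix hb hd
  have hff := f.D_fix hf1 hd
  have s1 := supp_iff hA hσ hdV hfb i
  by_cases h1 : σa i = i
  · -- `j` is in the support
    have h2 : M.e d j ≠ 0 := by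
      rw [hE, hv.2 j hne, hva.2 j (by rw [h1]; exact hne), hw.2 j hne, zero_add, zero_add, zero_add]
      exact hwf0
    have h3 : M.e d i ≠ 0 := by
      have := supp_iff hA hσ1 hdV hff j
      rw [sigma_j h f hv hf1 hσ1 hij hne] at this
      rwa [Ne, this]
    apply mt s1.1 h3
    rw [hE, hv.2 _ hmi, hva.2 _ (by rw [h1]; exact hmi), hw.2 _ hmi, hwf.2 _ hmj]
    simp
  by_cases h2 : σa i = j
  · have h3 : M.e d i ≠ 0 := by
      rw [hE, hva.2 i (by rw [h2]; exact hne.symm), hwf.2 i hne.symm, add_zero, add_zero]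
      intro h4
      rw [hwy] at h4
      exact hy1 (add_eq_zero_iff'.1 h4).symm
    apply mt s1.1 h3
    rw [hE, hv.2 _ hmi, hva.2 _ (by rw [h2]; exact hmj), hw.2 _ hmi, hwf.2 _ hmj]
    simp
  · -- the components `i` and `j` of `d`
    have h3 : M.e d i = M.e (v * w) i := by
      rw [hE, hva.2 i fun h' => h1 h'.symm, hwf.2 i hne.symm, M.mul v hv.1 w hw.1, add_zero, add_zero]
      rfl
    have h4 := comp_eq hA hσ1 hf1P hdV (mul_mem hv.1 hw.1) h3
    rw [hff, hij, hE, hv.2 j hne, hva.2 j fun h' => h2 h'.symm, hw.2 j hne, zero_add, zero_add, zero_add] at h4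
    have e1 : f1 * (v * w) * f1⁻¹ = (f1 * v * f1⁻¹) * (f1 * w * f1⁻¹) := by group
    rw [e1, M.mul _ (hA.conj_mem hf1P hv.1) _ hwf.1, Pi.add_apply] at h4
    have h5 : M.e (f1 * v * f1⁻¹) j = 0 := right_eq_add.1 h4
    rw [← hij, hσ1 v hv.1] at h5
    exact hvi h5

/-- `w` or `v w` is centralised by the stabiliser of `i` in `A`. -/
theorem cent_or {w : G} (hw : w ∈ fac M {i}) :
    (∀ b ∈ AA (S : Subgroup G) P g, ∀ σ, Mv M b σ → σ i = i → M.e (b * w * b⁻¹) i = M.e w i) ∨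
      ∀ b ∈ AA (S : Subgroup G) P g, ∀ σ, Mv M b σ → σ i = i →
        M.e (b * (v * w) * b⁻¹) i = M.e (v * w) i := by
  have hA := amb h
  have hf1P := AP h f hf1
  have hwf : f1 * w * f1⁻¹ ∈ fac M {j} := hij ▸ conj_fac hA hσ1 hf1P hw
  obtain ⟨a, ha, d, hd, hde⟩ := dec (M := M) h f (f.comm_mem hw.1 hf1)
  have haP := AP h f ha
  obtain ⟨σa, hσa⟩ := M.perm a haP
  have hva : a * v * a⁻¹ ∈ fac M {σa i} := conj_fac hA hσa haP hv
  have hdV := f.near.DV hd
  have hE : ∀ m, M.e d m = M.e v m + M.e (a * v * a⁻¹) m + (M.e w m + M.e (f1 * w * f1⁻¹) m) := by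
    intro m
    rw [hde, M.mul _ hw.1 _ hwf.1]
    rfl
  have hff := f.D_fix hf1 hd
  rcases orbit h f hv hf1 hσ1 hij hne ha hσa with h1 | h1
  · left
    -- `v ^ a = v`
    have h3 : M.e d i = M.e (v * (a * v * a⁻¹) * w) i := by
      rw [hE, hwf.2 i hne.symm, M.mul _ (mul_mem hv.1 hva.1) w hw.1, M.mul _ hv.1 _ hva.1, add_zero]
      rfl
    have h4 := comp_eq hA hσ1 hf1P hdV (mul_mem (mul_mem hv.1 hva.1) hw.1) h3
    rw [hff, hij, hE, hv.2 j hne, hva.2 j (by rw [h1]; exact hne), hw.2 j hne, zero_add, zero_add, zero_add] at h4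
    have e1 : f1 * (v * (a * v * a⁻¹) * w) * f1⁻¹ = (f1 * (v * (a * v * a⁻¹)) * f1⁻¹) * (f1 * w * f1⁻¹) := by
      group
    rw [e1, M.mul _ (hA.conj_mem hf1P (mul_mem hv.1 hva.1)) _ hwf.1, Pi.add_apply] at h4
    have h5 : M.e (f1 * (v * (a * v * a⁻¹)) * f1⁻¹) j = 0 := right_eq_add.1 h4
    rw [← hij, hσ1 _ (mul_mem hv.1 hva.1), M.mul _ hv.1 _ hva.1, Pi.add_apply] at h5
    have h6 : M.e d i = M.e w i := by
      rw [hE, h5, hwf.2 i hne.symm, zero_add, add_zero]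
    intro b hb σ hσ hσi
    have h7 := comp_eq hA hσ (AP h f hb) hdV hw.1 h6
    rw [f.D_fix hb hd, hσi] at h7
    rw [← h7, h6]
  · right
    have h6 : M.e d i = M.e (v * w) i := by
      rw [hE, hva.2 i (by rw [h1]; exact hne.symm), hwf.2 i hne.symm, M.mul v hv.1 w hw.1, add_zero, add_zero]
      rfl
    intro b hb σ hσ hσi
    have h7 := comp_eq hA hσ (AP h f hb) hdV (mul_mem hv.1 hw.1) h6
    rw [f.D_fix hb hd, hσi] at h7
    rw [← h7, h6]

/-- the elements of `E ∩ V_i` are the `v v^b`, `b ∈ A` fixing `i` -/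
theorem exists_b {e : G} (he : e ∈ EE (S : Subgroup G) P) (hei : e ∈ fac M {i}) :
    ∃ b ∈ AA (S : Subgroup G) P g, ∃ σ, Mv M b σ ∧ σ i = i ∧
      M.e (b * v * b⁻¹) i = M.e v i + M.e e i := by
  have hA := amb h
  have hf1P := AP h f hf1
  obtain ⟨a, ha, d, hd, hE⟩ := dec (M := M) h f he
  have haP := AP h f ha
  obtain ⟨σa, hσa⟩ := M.perm a haP
  have hva : a * v * a⁻¹ ∈ fac M {σa i} := conj_fac hA hσa haP hv
  have hdV := f.near.DV hd
  have hff := f.D_fix hf1 hd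
  rcases orbit h f hv hf1 hσ1 hij hne ha hσa with h1 | h1
  · refine ⟨a, ha, σa, hσa, h1, ?_⟩
    have h2 : M.e d j = 0 := by
      rw [hE, hv.2 j hne, hva.2 j (by rw [h1]; exact hne), hei.2 j hne]
      simp
    have h3 := supp_iff hA hσ1 hdV hff i
    rw [hij] at h3
    have h4 := h3.1 h2
    rw [hE] at h4
    have h5 := add_eq_zero_iff'.1 h4
    rw [← h5, ← add_assoc, show M.e v i + M.e v i = 0 from funext fun _ => CharTwo.add_self_eq_zero _, zero_add]
  · have h3 : M.e d i = M.e (v * e) i := by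
      rw [hE, hva.2 i (by rw [h1]; exact hne.symm), M.mul v hv.1 e hei.1, add_zero]
      rfl
    have h4 := comp_eq hA hσ1 hf1P hdV (mul_mem hv.1 hei.1) h3
    rw [hff, hij, hE, hv.2 j hne, hei.2 j hne, zero_add, add_zero] at h4
    have h5 : f1 * (v * e) * f1⁻¹ ∈ fac M {j} := hij ▸ conj_fac hA hσ1 hf1P (mul_mem hv hei)
    have h6 : a * v * a⁻¹ = f1 * (v * e) * f1⁻¹ := eq_of_comp (h1 ▸ hva) h5 h4
    refine ⟨f1 * a, mul_mem hf1 ha, σ1 * σa, mv_mul hA haP hσ1 hσa, ?_, ?_⟩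
    · rw [Equiv.Perm.mul_apply, h1]
      exact sigma_j h f hv hf1 hσ1 hij hne
    · have e1 : f1 * a * v * (f1 * a)⁻¹ = f1 * (a * v * a⁻¹) * f1⁻¹ := by group
      have e2 : f1 * (f1 * (v * e) * f1⁻¹) * f1⁻¹ = (f1 * f1) * (v * e) * (f1 * f1)⁻¹ := by group
      rw [e1, h6, e2, f.A_sq hf1, one_mul, inv_one, mul_one, M.mul v hv.1 e hei.1]
      rfl

/-- `|F| = 2` -/
theorem card_two (hL : Ln M ≤ EE (S : Subgroup G) P) (c : F) : c = 0 ∨ c = 1 := by
  have hA := amb h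
  obtain ⟨l, hl, hle⟩ := exists_fac M {i} fun _ => ![1, 0]
  have hle := hle i rfl
  have hlL : l ∈ Ln M := by
    refine ⟨hl.1, fun m => ?_⟩
    by_cases hm : m = i
    · rw [hm, hle]; rfl
    · rw [hl.2 m hm]; rfl
  obtain ⟨b, hb, σ, hσ, hσi, hbe⟩ := exists_b h f hv hf1 hσ1 hij hne (hL hlL) hl
  obtain ⟨L, τ, hs⟩ := exists_T hA (AP h f hb) hσ i
  have hLe : ∀ w ∈ zl (S : Subgroup G) P, M.e (b * w * b⁻¹) i = L (M.e w i) := by
    intro w hw
    have := hs.e w hw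
    rwa [hσi] at this
  have hv0 : M.e v i 1 ≠ 0 := by
    intro h0
    refine f.notMem (hL ⟨hv.1, fun m => ?_⟩ : v ∈ EE (S : Subgroup G) P).2
    by_cases hm : m = i
    · rw [hm, h0]
    · rw [hv.2 m hm]; rfl
  have hLv : L (M.e v i) = M.e v i + ![1, 0] := by rw [← hLe v hv.1, hbe, hle]
  have key : ∀ c : F, L (c • M.e v i) = c • M.e v i → c = 0 := by
    intro c hc
    rw [hs.smul, hLv] at hc
    have h1 := congrFun hc 1
    have h0 := congrFun hc 0
    simp only [Pi.smul_apply, Pi.add_apply, smul_eq_mul, Matrix.cons_val_one, Matrix.cons_val_zero, add_zero] at h0 h1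
    have h2 : τ c = c := mul_right_cancel₀ hv0 h1
    rw [h2, mul_add, mul_one] at h0
    exact left_eq_add.1 h0.symm
  obtain ⟨w, hw, hwe⟩ := exists_fac M {i} fun _ => c • M.e v i
  have hwe := hwe i rfl
  rcases cent_or h f hv hf1 hσ1 hij hne hw with h1 | h1
  · left
    have h2 := h1 b hb σ hσ hσi
    rw [hLe w hw.1, hwe] at h2
    exact key c h2
  · right
    have h2 := h1 b hb σ hσ hσi
    rw [hLe _ (mul_mem hv.1 hw.1), M.mul v hv.1 w hw.1, Pi.add_apply, hwe] at h2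
    have e1 : M.e v i + c • M.e v i = (1 + c) • M.e v i := by rw [add_smul, one_smul]
    rw [e1] at h2
    have h3 := key _ h2
    have h4 : (1 : F) + c + c = c := by rw [h3, zero_add]
    rw [add_assoc, CharTwo.add_self_eq_zero, add_zero] at h4
    exact h4.symm

/-- **`Q` moves a summand: `k = 2`.** -/
theorem k_two (hL : Ln M ≤ EE (S : Subgroup G) P) : k = 2 := by
  classical
  have hA := amb h
  have hF := card_two h f hv hf1 hσ1 hij hne hL
  have hF1 : ∀ c : F, c ≠ 0 → c = 1 := fun c hc => (hF c).resolve_left hc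
  by_contra hk
  have hf1P := AP h f hf1
  have hv1 := v_ne_one h f hv hf1 hσ1 hij hne
  have hvi := comp_ne_zero hv hv1
  have hv0 : M.e v i 1 ≠ 0 := by
    intro h0
    refine f.notMem (hL ⟨hv.1, fun m => ?_⟩ : v ∈ EE (S : Subgroup G) P).2
    by_cases hm : m = i
    · rw [hm, h0]
    · rw [hv.2 m hm]; rfl
  have hvf : f1 * v * f1⁻¹ ∈ fac M {j} := hij ▸ conj_fac hA hσ1 hf1P hv
  have hvf0 : M.e (f1 * v * f1⁻¹) j 1 ≠ 0 := by
    rw [← hij, Ne, line hA (f.A_le_S h hf1) hσ1 hv.1]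
    exact hv0
  -- the relation
  let R : Fin k → Fin k → Prop := fun a b => ∃ x ∈ fac M {a}, ∃ y ∈ fac M {b}, M.e x a 1 ≠ 0 ∧
    M.e y b 1 ≠ 0 ∧ x * y ∈ EE (S : Subgroup G) P
  have hprod : ∀ a, ∀ x ∈ fac M {a}, ∀ y ∈ fac M {a}, M.e x a 1 ≠ 0 → M.e y a 1 ≠ 0 →
      x * y ∈ EE (S : Subgroup G) P := by
    intro a x hx y hy hx1 hy1
    refine hL ⟨mul_mem hx.1 hy.1, fun m => ?_⟩
    rw [M.mul x hx.1 y hy.1, Pi.add_apply, Pi.add_apply]
    by_cases hm : m = a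
    · rw [hm, hF1 _ hx1, hF1 _ hy1]
      exact CharTwo.add_self_eq_zero 1
    · rw [hx.2 m hm, hy.2 m hm]
      simp
  have hrefl : ∀ a, R a a := by
    intro a
    obtain ⟨x, hx, hxe⟩ := exists_fac M {a} fun _ => ![0, 1]
    have hxe := hxe a rfl
    have h1 : M.e x a 1 ≠ 0 := by rw [hxe]; exact one_ne_zero
    exact ⟨x, hx, x, hx, h1, h1, hprod a x hx x hx h1 h1⟩
  have htrans : ∀ a b c, R a b → R b c → R a c := by
    rintro a b c ⟨x, hx, y, hy, hx1, hy1, hxy⟩ ⟨y', hy', z, hz, hy1', hz1, hyz⟩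
    refine ⟨x, hx, z, hz, hx1, hz1, ?_⟩
    have h1 := mul_mem (mul_mem hxy (hprod b y hy y' hy' hy1 hy1')) hyz
    have e1 : x * y * (y * y') * (y' * z) = x * (y * y) * (y' * y') * z := by group
    rw [e1, sq_self hA hy.1, sq_self hA hy'.1, mul_one, mul_one] at h1
    exact h1
  have hinv : ∀ t ∈ (S : Subgroup G), ∀ σ, Mv M t σ → ∀ a b, R a b → R (σ a) (σ b) := by
    rintro t ht σ hσ a b ⟨x, hx, y, hy, hx1, hy1, hxy⟩
    have htP := h.S_le ht
    refine ⟨t * x * t⁻¹, conj_fac hA hσ htP hx, t * y * t⁻¹, conj_fac hA hσ htP hy, ?_, ?_, ?_⟩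
    · rwa [Ne, line hA ht hσ hx.1]
    · rwa [Ne, line hA ht hσ hy.1]
    · have := E_conj h ht hxy
      have e1 : t * (x * y) * t⁻¹ = t * x * t⁻¹ * (t * y * t⁻¹) := by group
      rwa [e1] at this
  have hRij : R i j := ⟨v, hv, _, hvf, hv0, hvf0, f.comm_mem hv.1 hf1⟩
  have hclass : ∀ m, R i m → m = i ∨ m = j := by
    rintro m ⟨x, hx, y, hy, hx1, hy1, hxy⟩
    by_contra hcon
    push Not at hcon
    obtain ⟨hmi, hmj⟩ := hcon
    have he : v * y ∈ EE (S : Subgroup G) P := by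
      have h1 := mul_mem (hprod i v hv x hx hv0 hx1) hxy
      have e1 : v * x * (x * y) = v * (x * x) * y := by group
      rwa [e1, sq_self hA hx.1, mul_one] at h1
    obtain ⟨a, ha, d, hd, hE⟩ := dec (M := M) h f he
    have haP := AP h f ha
    obtain ⟨σa, hσa⟩ := M.perm a haP
    have hva : a * v * a⁻¹ ∈ fac M {σa i} := conj_fac hA hσa haP hv
    have hva0 : M.e (a * v * a⁻¹) (σa i) ≠ 0 := by rw [Ne, hσa v hv.1]; exact hvi
    have hdV := f.near.DV hd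
    have hE' : ∀ m, M.e d m = M.e (a * v * a⁻¹) m + M.e y m := by
      intro m
      rw [hE, M.mul v hv.1 y hy.1, Pi.add_apply]
      have e2 : ∀ x y z : Fin 2 → F, x + y + (x + z) = y + z := by
        intro x y z
        rw [add_add_add_comm, show x + x = 0 from funext fun _ => CharTwo.add_self_eq_zero _, zero_add]
      exact e2 _ _ _
    have h3 := supp_iff hA hσ1 hdV (f.D_fix hf1 hd) (σa i)
    rcases orbit h f hv hf1 hσ1 hij hne ha hσa with h1 | h1
    · rw [h1, hij, hE', hE', hy.2 i fun h' => hmi h'.symm, hy.2 j fun h' => hmj h'.symm,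
        hva.2 j (by rw [h1]; exact hne)] at h3
      rw [h1] at hva0
      apply hva0
      have := h3.1 (add_zero 0)
      rwa [add_zero] at this
    · rw [h1, sigma_j h f hv hf1 hσ1 hij hne, hE', hE', hy.2 i fun h' => hmi h'.symm,
        hy.2 j fun h' => hmj h'.symm, hva.2 i (by rw [h1]; exact hne.symm)] at h3
      rw [h1] at hva0
      apply hva0
      have := h3.1 (add_zero 0)
      rwa [add_zero] at this
  -- a third summand
  obtain ⟨m₀, hm₀⟩ : ∃ m₀, ¬ R i m₀ := by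
    by_contra hcon
    push Not at hcon
    have h1 : (Finset.univ : Finset (Fin k)) ⊆ {i, j} := by
      intro m _
      rw [Finset.mem_insert, Finset.mem_singleton]
      exact hclass m (hcon m)
    have h2 := Finset.card_le_card h1
    rw [Finset.card_univ, Fintype.card_fin] at h2
    have h3 : Finset.card ({i, j} : Finset (Fin k)) ≤ 2 := Finset.card_le_two
    have h4 : 2 ≤ k := by
      by_contra h5
      have h6 := i.2
      have h7 := j.2
      exact hne (Fin.ext (by omega))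
    omega
  obtain ⟨B, hB, hBi⟩ := exists_blk hA S.isPGroup' R hrefl htrans hinv hm₀
  have hiB := hBi i (hrefl i)
  have hjB := hBi j hRij
  -- the element of the lines with full support in `B`
  obtain ⟨l, hl, hle⟩ := exists_fac M B fun _ => ![1, 0]
  have hlL : l ∈ Ln M := by
    refine ⟨hl.1, fun m => ?_⟩
    by_cases hm : m ∈ B
    · rw [hle m hm]; rfl
    · rw [hl.2 m hm]; rfl
  have hlD : l ∈ DD (S : Subgroup G) P g := by
    obtain ⟨a, ha, d, hd, hE⟩ := dec (M := M) h f (hL hlL)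
    have haP := AP h f ha
    obtain ⟨σa, hσa⟩ := M.perm a haP
    have hva : a * v * a⁻¹ ∈ fac M {σa i} := conj_fac hA hσa haP hv
    have hdV := f.near.DV hd
    rcases orbit h f hv hf1 hσ1 hij hne ha hσa with h1 | h1
    · -- `v ^ a = v`
      have h2 := supp_iff hA hσ1 hdV (f.D_fix hf1 hd) i
      rw [hij, hE, hE, hl.2 i hiB, hl.2 j hjB, hv.2 j hne, hva.2 j (by rw [h1]; exact hne)] at h2
      have h3 := h2.1 (by simp)
      rw [add_zero] at h3
      have h4 : d = l := by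
        apply inj M hdV hl.1
        funext m
        rw [hE]
        by_cases hm : m = i
        · rw [hm, h3, zero_add]
        · rw [hv.2 m hm, hva.2 m (by rw [h1]; exact hm), zero_add, zero_add]
      rwa [← h4]
    · exfalso
      -- the component `v` of `d` would be centralised
      obtain ⟨l', hl', hle'⟩ := exists_fac M {i} fun _ => ![1, 0]
      have hle' := hle' i rfl
      have hlL' : l' ∈ Ln M := by
        refine ⟨hl'.1, fun m => ?_⟩
        by_cases hm : m = i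
        · rw [hm, hle']; rfl
        · rw [hl'.2 m hm]; rfl
      obtain ⟨b, hb, σ, hσ, hσi, hbe⟩ := exists_b h f hv hf1 hσ1 hij hne (hL hlL') hl'
      have h2 : M.e d i = M.e v i := by
        rw [hE, hva.2 i (by rw [h1]; exact hne.symm), hl.2 i hiB, add_zero, add_zero]
      have h3 := comp_eq hA hσ (AP h f hb) hdV hv.1 h2
      rw [f.D_fix hb hd, hσi, h2, hbe, hle'] at h3
      have h4 := congrFun h3 0
      rw [Pi.add_apply] at h4
      have h5 : (![1, 0] : Fin 2 → F) 0 = 0 := left_eq_add.1 h4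
      exact one_ne_zero h5
  have h6 := (app_nat h.ctx.char2 S hA hB hl fun m hm => by
    rw [hle m hm]
    intro h0
    exact one_ne_zero (congrFun h0 0)).1
  exact f.not_mem_o2_centralizer hlD (h6 ⟨hv.1, fun m hm => hv.2 m fun h' => hm (by
    rw [show m = i from h']
    exact hiB)⟩)

end swap

end Cfsg.Agent.Omega.NO1.Many

end

section


/-!
# The leaf N1, `V_P` a sum of `k ≥ 2` natural modules, `A` fixes the summand of `v` (text helper727 #14576 (3), (4))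

`v ∈ V_i - E`, a frame at `v`, all elements of `A = E^g` fix `i`; the lines lie in `E` and `E` is not the sum of
the lines.  `fix_false` : contradiction.
-/

set_option autoImplicit false
set_option linter.unusedSectionVars false

namespace Cfsg.Agent.Omega.NO1.Many

open Subgroup Cfsg Cfsg.Agent.ZN Cfsg.Agent.Omega.MinPar Cfsg.Agent.Omega.Frame Cfsg.Agent.Omega.FFThm
open Cfsg.Agent.Omega.NoFF.LinesPlug (CC NoOne)
open Cfsg.Agent.Omega.Half Cfsg.Agent.Omega.Half.NatA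
open Cfsg.Agent.Lib.SL2Mat Cfsg.Agent.Omega.NatPair
open scoped Pointwise

universe u

variable {G : Type u} [Group G] {F : Type} [Field F]

theorem add_self' [CharP F 2] (x : Fin 2 → F) : x + x = 0 := funext fun _ => CharTwo.add_self_eq_zero _

theorem decomp (x : Fin 2 → F) : x = x 0 • ![1, 0] + x 1 • ![0, 1] := by
  apply ext2
  · simp
  · simp

section lin

variable [CharP F 2] {T H V : Subgroup G} {k : ℕ} {M : NatK F T H V ⊥ k} (hA : Amb T H V) {a : G} (ha : a ∈ T)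
  (ha2 : a * a = 1) {σ : Equiv.Perm (Fin k)} (hσ : Mv M a σ) {i : Fin k} (hσi : σ i = i)
  {L : (Fin 2 → F) → (Fin 2 → F)} {τ : F → F} (hs : Sem M a σ i L τ)

include hA ha ha2 hσ hσi hs

theorem sem_e {w : G} (hw : w ∈ V) : M.e (a * w * a⁻¹) i = L (M.e w i) := by
  have := hs.e w hw
  rwa [hσi] at this

theorem sem_sq (x : Fin 2 → F) : L (L x) = x := by
  obtain ⟨w, hw, hx⟩ := exists_fac M {i} fun _ => x
  have hx := hx i rfl
  have h1 := sem_e hA ha ha2 hσ hσi hs hw.1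
  have h2 := sem_e hA ha ha2 hσ hσi hs (hA.conj_mem (hA.TH ha) hw.1)
  have e : a * (a * w * a⁻¹) * a⁻¹ = (a * a) * w * (a * a)⁻¹ := by group
  rw [e, ha2, one_mul, inv_one, mul_one, h1, hx] at h2
  exact h2.symm

theorem sem_line (x : Fin 2 → F) : L x 1 = 0 ↔ x 1 = 0 := by
  obtain ⟨w, hw, hx⟩ := exists_fac M {i} fun _ => x
  have hx := hx i rfl
  have h1 := line hA ha hσ hw.1 i
  rw [hs.e w hw.1, hx] at h1
  exact h1

/-- a linear involution of `A` acts as an upper unitriangular matrix -/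
theorem sem_lin (hτ : ∀ c, τ c = c) : ∃ b : F, ∀ x : Fin 2 → F, L x = x + (x 1 * b) • ![1, 0] := by
  have hlin : ∀ (c : F) x, L (c • x) = c • L x := fun c x => by rw [hs.smul, hτ]
  have h10 : L ![1, 0] 1 = 0 := (sem_line hA ha ha2 hσ hσi hs ![1, 0]).2 rfl
  have hL1 : L ![1, 0] = (L ![1, 0] 0) • ![1, 0] := by
    apply ext2
    · simp
    · rw [h10]; simp
  have hsq : ∀ c : F, c * c = 1 → c = 1 := by
    intro c hc
    have h1 : (c + 1) * (c + 1) = 0 := by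
      have : (c + 1) * (c + 1) = c * c + 1 + (c + c) := by ring
      rw [this, hc, CharTwo.add_self_eq_zero, CharTwo.add_self_eq_zero, add_zero]
    have h2 : c + 1 = 0 := by
      rcases mul_eq_zero.1 h1 with h | h <;> exact h
    have h3 : c + 1 + 1 = 1 := by rw [h2, zero_add]
    rwa [add_assoc, CharTwo.add_self_eq_zero, add_zero] at h3
  set c := L ![1, 0] 0 with hc
  have h2 := sem_sq hA ha ha2 hσ hσi hs ![1, 0]
  rw [hL1, hlin, hL1] at h2
  have h3 := congrFun h2 0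
  simp only [Pi.smul_apply, smul_eq_mul, Matrix.cons_val_zero, mul_one] at h3
  have hc1 := hsq c h3
  rw [hc1, one_smul] at hL1
  -- the other basis vector
  have h4 := sem_sq hA ha ha2 hσ hσi hs ![0, 1]
  set b := L ![0, 1] 0 with hb
  set d := L ![0, 1] 1 with hd
  have hL2 : L ![0, 1] = b • ![1, 0] + d • ![0, 1] := decomp (L ![0, 1])
  rw [hL2, hs.add, hlin, hlin, hL1, hL2] at h4
  have h5 := congrFun h4 1
  simp only [Pi.smul_apply, Pi.add_apply, smul_eq_mul, Matrix.cons_val_one, Matrix.cons_val_zero, mul_one, mul_zero,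
    zero_add] at h5
  have hd1 := hsq d h5
  refine ⟨b, fun x => ?_⟩
  conv_lhs => rw [decomp x]
  rw [hs.add, hlin, hlin, hL1, hL2, hd1]
  apply ext2
  · simp
  · simp

end lin

/-! ### All elements of `A` fix `i` -/

section fix

variable [Finite G] {S : Sylow 2 G} {P : Subgroup G} (h : Cfg S P) [CharP F 2] [Finite F] {k : ℕ}
  {M : NatK F (S : Subgroup G) P (zl (S : Subgroup G) P) ⊥ k} {v g : G} (f : Fam S P v g)
  {i : Fin k} (hv : v ∈ fac M {i})
  (hfix : ∀ a ∈ AA (S : Subgroup G) P g, ∀ σ, Mv M a σ → σ i = i)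
  {e₀ : G} (he₀ : e₀ ∈ EE (S : Subgroup G) P) (he₀i : M.e e₀ i 1 ≠ 0)

include f in
/-- `A ≰ D` -/
theorem not_A_le : ¬ AA (S : Subgroup G) P g ≤ DD (S : Subgroup G) P g := by
  intro hAD
  refine f.fin.ne (le_antisymm inf_le_left ?_)
  have h1 : AA (S : Subgroup G) P g ≤ EE (S : Subgroup G) P := hAD.trans inf_le_left
  have h2 : AA (S : Subgroup G) P g = EE (S : Subgroup G) P :=
    Subgroup.eq_of_le_of_card_ge h1 (by rw [NOne.Choice.card_conj])
  exact le_inf le_rfl h2.ge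

include h f hv hfix he₀ he₀i

/-- some element of `A` acts nonlinearly on `V_i` -/
theorem exists_nonlin : ∃ a ∈ AA (S : Subgroup G) P g, ∃ σ, Mv M a σ ∧ σ i = i ∧
    ∃ L τ, Sem M a σ i L τ ∧ ∃ c, τ c ≠ c := by
  have hA := amb h
  by_contra hcon
  push Not at hcon
  apply not_A_le f
  intro b hb
  have hlin : ∀ a ∈ AA (S : Subgroup G) P g, ∃ β : F, ∀ w ∈ zl (S : Subgroup G) P,
      M.e (a * w * a⁻¹) i = M.e w i + (M.e w i 1 * β) • ![1, 0] := by
    intro a ha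
    obtain ⟨σ, hσ⟩ := M.perm a (AP h f ha)
    have hσi := hfix a ha σ hσ
    obtain ⟨L, τ, hs⟩ := exists_T hA (AP h f ha) hσ i
    obtain ⟨β, hβ⟩ := sem_lin hA (f.A_le_S h ha) (f.A_sq ha) hσ hσi hs (hcon a ha σ hσ hσi L τ hs)
    refine ⟨β, fun w hw => ?_⟩
    rw [sem_e hA (f.A_le_S h ha) (f.A_sq ha) hσ hσi hs hw, hβ]
  obtain ⟨a, ha, d, hd, hE⟩ := dec (M := M) h f he₀
  have hdV := f.near.DV hd
  obtain ⟨α, hα⟩ := hlin a ha
  have h1 : M.e d i 1 ≠ 0 := by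
    rw [hE, hα v hv.1, Pi.add_apply, Pi.add_apply, Pi.add_apply]
    simp only [Pi.smul_apply, smul_eq_mul, Matrix.cons_val_one, Matrix.cons_val_zero, mul_zero, add_zero]
    rw [CharTwo.add_self_eq_zero, zero_add]
    exact he₀i
  obtain ⟨β, hβ⟩ := hlin b hb
  have h2 := hβ d hdV
  rw [f.D_fix hb hd] at h2
  have h3 := congrFun h2 0
  simp only [Pi.add_apply, Pi.smul_apply, smul_eq_mul, Matrix.cons_val_zero, mul_one] at h3
  have h4 : M.e d i 1 * β = 0 := left_eq_add.1 h3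
  have h5 : β = 0 := (mul_eq_zero.1 h4).resolve_left h1
  refine f.mem_D hb ?_
  obtain ⟨σ, hσ⟩ := M.perm b (AP h f hb)
  have hσi := hfix b hb σ hσ
  have h6 : b * v * b⁻¹ ∈ fac M {i} := by
    have := conj_fac hA hσ (AP h f hb) hv
    rwa [hσi] at this
  apply eq_of_comp h6 hv
  rw [hβ v hv.1, h5, mul_zero, zero_smul, add_zero]

/-- `D ∩ V_m ≠ 1` for `m ≠ i` -/
theorem exists_D (hL : Ln M ≤ EE (S : Subgroup G) P) {m : Fin k} (hm : m ≠ i) :
    ∃ x ∈ DD (S : Subgroup G) P g, x ∈ fac M {m} ∧ M.e x m ≠ 0 := by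
  classical
  have hA := amb h
  obtain ⟨a, ha, σ, hσ, hσi, L, τ, hs, c, hc⟩ := exists_nonlin h f hv hfix he₀ he₀i
  have haP := AP h f ha
  have hLe : ∀ w ∈ zl (S : Subgroup G) P, M.e (a * w * a⁻¹) i = L (M.e w i) := fun w hw =>
    sem_e hA (f.A_le_S h ha) (f.A_sq ha) hσ hσi hs hw
  -- an element of `E ∩ V_i` outside the line
  obtain ⟨e₁, he₁, he₁i, he₁1⟩ : ∃ e₁ ∈ EE (S : Subgroup G) P, e₁ ∈ fac M {i} ∧ M.e e₁ i 1 ≠ 0 := by
    have hx : ∃ x : Fin 2 → F, L x 1 ≠ x 1 := by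
      by_contra hcon
      push Not at hcon
      apply hc
      have h1 := hcon (c • ![0, 1])
      rw [hs.smul, Pi.smul_apply, hcon, Pi.smul_apply] at h1
      simpa using h1
    obtain ⟨x, hx⟩ := hx
    obtain ⟨w, hw, hwx⟩ := exists_fac M {i} fun _ => x
    have hwx := hwx i rfl
    have h1 : a * w * a⁻¹ ∈ fac M {i} := by
      have := conj_fac hA hσ haP hw
      rwa [hσi] at this
    refine ⟨w * (a * w * a⁻¹), f.comm_mem hw.1 ha, mul_mem hw h1, ?_⟩
    rw [M.mul w hw.1 _ h1.1, Pi.add_apply, Pi.add_apply, hLe w hw.1, hwx]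
    intro h2
    apply hx
    have h3 : x 1 + L x 1 + L x 1 = L x 1 := by rw [h2, zero_add]
    rw [add_assoc, CharTwo.add_self_eq_zero, add_zero] at h3
    exact h3.symm
  -- an element of `E ∩ V_m` outside the line
  obtain ⟨e₂, he₂, he₂m, he₂1⟩ : ∃ e₂ ∈ EE (S : Subgroup G) P, e₂ ∈ fac M {m} ∧ M.e e₂ m 1 ≠ 0 := by
    obtain ⟨t, ht, h1⟩ := M.trans i m
    obtain ⟨ρ, hρ⟩ := M.perm t (h.S_le ht)
    have h2 := Mv.unique M hA (σ := ρ) hρ (h.S_le ht) h1
    refine ⟨t * e₁ * t⁻¹, E_conj h ht he₁, h2 ▸ conj_fac hA hρ (h.S_le ht) he₁i, ?_⟩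
    rw [← h2, Ne, line hA ht hρ he₁i.1]
    exact he₁1
  -- the elements of the line of `V_m`
  have hl : ∀ b : F, ∃ l ∈ EE (S : Subgroup G) P, l ∈ fac M {m} ∧ M.e l m = ![b, 0] := by
    intro b
    obtain ⟨l, hl, hlb⟩ := exists_fac M {m} fun _ => ![b, 0]
    have hlb := hlb m rfl
    refine ⟨l, hL ⟨hl.1, fun n => ?_⟩, hl, hlb⟩
    by_cases hn : n = m
    · rw [hn, hlb]; rfl
    · rw [hl.2 n hn]; rfl
  choose l hlE hlm hlb using hl
  -- each element `e` of `E ∩ V_m` gives a fixed vector of `L`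
  have hd : ∀ e ∈ EE (S : Subgroup G) P, e ∈ fac M {m} → ∃ d ∈ DD (S : Subgroup G) P g,
      L (M.e d i) = M.e d i ∧ M.e d m = M.e e m ∧ ∀ n, n ≠ i → n ≠ m → M.e d n = 0 := by
    intro e he hem
    obtain ⟨b, hb, d, hd, hE⟩ := dec (M := M) h f he
    obtain ⟨ρ, hρ⟩ := M.perm b (AP h f hb)
    have hρi := hfix b hb ρ hρ
    have hvb : b * v * b⁻¹ ∈ fac M {i} := by
      have := conj_fac hA hρ (AP h f hb) hv
      rwa [hρi] at this
    refine ⟨d, hd, ?_, ?_, fun n hni hnm => ?_⟩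
    · rw [← hLe d (f.near.DV hd), f.D_fix ha hd]
    · rw [hE, hv.2 m hm, hvb.2 m hm, zero_add, zero_add]
    · rw [hE, hv.2 n hni, hvb.2 n hni, hem.2 n hnm]
      simp
  let ψ : Option F → G := fun o => o.elim e₂ l
  have hψE : ∀ o, ψ o ∈ EE (S : Subgroup G) P := by
    rintro (_ | b)
    · exact he₂
    · exact hlE b
  have hψm : ∀ o, ψ o ∈ fac M {m} := by
    rintro (_ | b)
    · exact he₂m
    · exact hlm b
  have hψi : ∀ o o', M.e (ψ o) m = M.e (ψ o') m → o = o' := by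
    rintro (_ | b) (_ | b') h1
    · rfl
    · exfalso
      apply he₂1
      have h2 : M.e e₂ m = M.e (l b') m := h1
      rw [h2, hlb]
      rfl
    · exfalso
      apply he₂1
      have h2 : M.e (l b) m = M.e e₂ m := h1
      rw [← h2, hlb]
      rfl
    · have h2 : M.e (l b) m = M.e (l b') m := h1
      rw [hlb, hlb] at h2
      have h3 : b = b' := congrFun h2 0
      rw [h3]
  choose δ hδD hδL hδm hδ0 using fun o => hd (ψ o) (hψE o) (hψm o)
  let C : Type := {x : Fin 2 → F // L x = x}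
  have hfin : Finite C := Subtype.finite
  -- `|C| ≤ |F|`
  have hC : Nat.card C ≤ Nat.card F := by
    have hadd : ∀ x y : C, L (x.1 + y.1) = x.1 + y.1 := fun x y => by rw [hs.add, x.2, y.2]
    have h1 : Function.Injective (fun p : C × C => (p.1.1 + c • p.2.1 : Fin 2 → F)) := by
      rintro ⟨x, y⟩ ⟨x', y'⟩ hxy
      have hxy : x.1 + c • y.1 = x'.1 + c • y'.1 := hxy
      have h2 : x.1 + x'.1 = c • (y.1 + y'.1) := by
        calc x.1 + x'.1 = (x.1 + c • y.1) + (x'.1 + c • y.1) := by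
              rw [add_add_add_comm, add_self' (c • y.1), add_zero]
          _ = (x'.1 + c • y'.1) + (x'.1 + c • y.1) := by rw [hxy]
          _ = c • (y.1 + y'.1) := by
              rw [add_add_add_comm, add_self' x'.1, zero_add, smul_add, add_comm]
      have h3 : L (x.1 + x'.1) = x.1 + x'.1 := hadd x x'
      rw [h2, hs.smul, hadd y y'] at h3
      have h4 : y.1 + y'.1 = 0 := by
        by_contra h0
        exact hc (smul_left_injective F h0 h3)
      have h5 : y = y' := Subtype.ext (add_eq_zero_iff'.1 h4)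
      have h6 : x = x' := by
        rw [h4, smul_zero] at h2
        exact Subtype.ext (add_eq_zero_iff'.1 h2)
      rw [h5, h6]
    have h2 := Nat.card_le_card_of_injective _ h1
    rw [Nat.card_prod, Nat.card_fun, Nat.card_eq_fintype_card (α := Fin 2), Fintype.card_fin, pow_two] at h2
    exact Nat.mul_self_le_mul_self_iff.1 h2
  have hlt : Nat.card C < Nat.card (Option F) := by
    rw [Finite.card_option]
    omega
  let χ : Option F → C := fun o => ⟨M.e (δ o) i, hδL o⟩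
  obtain ⟨o, o', hne, heq⟩ : ∃ o o', o ≠ o' ∧ χ o = χ o' := by
    by_contra hcon
    push Not at hcon
    have h1 : Function.Injective χ := fun o o' h' => by
      by_contra h2
      exact hcon o o' h2 h'
    exact absurd (Nat.card_le_card_of_injective _ h1) (not_le.2 hlt)
  have heq' : M.e (δ o) i = M.e (δ o') i := congrArg Subtype.val heq
  have hV : ∀ o, δ o ∈ zl (S : Subgroup G) P := fun o => f.near.DV (hδD o)
  refine ⟨δ o * δ o', mul_mem (hδD o) (hδD o'), ⟨mul_mem (hV o) (hV o'), fun n hn => ?_⟩, ?_⟩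
  · rw [M.mul _ (hV o) _ (hV o'), Pi.add_apply]
    by_cases hni : n = i
    · rw [hni, heq', add_self']
    · rw [hδ0 o n hni hn, hδ0 o' n hni hn, add_zero]
  · rw [M.mul _ (hV o) _ (hV o'), Pi.add_apply, hδm, hδm]
    intro h0
    exact hne (hψi o o' (add_eq_zero_iff'.1 h0))

/-- **The elements of `A` cannot fix the summand of `v`, if `E` is not the sum of the lines.** -/
theorem fix_false (hk : 2 ≤ k) (hL : Ln M ≤ EE (S : Subgroup G) P) : False := by
  classical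
  have hA := amb h
  obtain ⟨m₀, hm₀⟩ : ∃ m₀ : Fin k, ¬ i = m₀ := by
    by_cases h0 : i = ⟨0, by omega⟩
    · exact ⟨⟨1, by omega⟩, fun h1 => by
        have h2 := congrArg Fin.val (h0.symm.trans h1)
        exact absurd h2 (by simp)⟩
    · exact ⟨_, h0⟩
  obtain ⟨B, hB, hBi⟩ := exists_blk (M := M) hA S.isPGroup' (fun a b : Fin k => a = b) (fun _ => rfl)
    (fun _ _ _ h1 h2 => h1.trans h2) (fun _ _ σ _ a b hab => congrArg σ hab) hm₀
  have hiB : i ∉ B := hBi i rfl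
  have hD : ∀ m : Fin k, m ∈ B → ∃ x ∈ DD (S : Subgroup G) P g, x ∈ fac M {m} ∧ M.e x m ≠ 0 := by
    intro m hm
    exact exists_D h f hv hfix he₀ he₀i hL fun h' => hiB (h' ▸ hm)
  choose! x hxD hxm hx0 using hD
  obtain ⟨u, hu, hue⟩ := exists_fac M B fun m => M.e (x m) m
  have huD : u ∈ DD (S : Subgroup G) P g := by
    refine mem_of_comps (M := M) hu.1 fun m => ?_
    by_cases hm : m ∈ B
    · exact ⟨x m, hxD m hm, hxm m hm, (hue m hm).symm⟩
    · refine ⟨1, one_mem _, one_mem _, ?_⟩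
      rw [hu.2 m hm, e_one]
      rfl
  have h6 := (app_nat h.ctx.char2 S hA hB hu fun m hm => by
    rw [hue m hm]
    exact hx0 m hm).1
  exact f.not_mem_o2_centralizer huD (h6 ⟨hv.1, fun m hm => hv.2 m fun h' => hm (by
    rw [show m = i from h']
    exact hiB)⟩)

end fix

end Cfsg.Agent.Omega.NO1.Many

end

section


/-!
# The leaf N1, `V_P` a sum of `k ≥ 2` natural modules: the trichotomy (text helper727 #14576, referee #15070)

* `quad` : if `E ≤ Ln` (the sum of the lines) then `E = Ln`;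
* `trich` : `E = Ln` or (`|F| = 2` and `k = 2`).
-/

set_option autoImplicit false
set_option linter.unusedSectionVars false

namespace Cfsg.Agent.Omega.NO1.Many

open Subgroup Cfsg Cfsg.Agent.ZN Cfsg.Agent.Omega.MinPar Cfsg.Agent.Omega.Frame Cfsg.Agent.Omega.FFThm
open Cfsg.Agent.Omega.NoFF.LinesPlug (CC NoOne)
open Cfsg.Agent.Omega.Half Cfsg.Agent.Omega.Half.NatA
open Cfsg.Agent.Lib.SL2Mat Cfsg.Agent.Omega.NatPair
open scoped Pointwise

universe u

variable {G : Type u} [Group G] [Finite G] {S : Sylow 2 G} {P : Subgroup G} (h : Cfg S P)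
  {F : Type} [Field F] [CharP F 2] {k : ℕ} {M : NatK F (S : Subgroup G) P (zl (S : Subgroup G) P) ⊥ k}

theorem eq_one_of_pow {F : Type} [Field F] [CharP F 2] : ∀ (n : ℕ) (c : F), c ^ 2 ^ n = 1 → c = 1 := by
  intro n
  induction n with
  | zero => intro c hc; rwa [pow_zero, pow_one] at hc
  | succ n ih =>
    intro c hc
    apply ih
    rw [pow_succ, pow_mul, pow_two] at hc
    have h1 : (c ^ 2 ^ n + 1) * (c ^ 2 ^ n + 1) = 0 := by
      have : (c ^ 2 ^ n + 1) * (c ^ 2 ^ n + 1) = c ^ 2 ^ n * c ^ 2 ^ n + 1 + (c ^ 2 ^ n + c ^ 2 ^ n) := by ring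
      rw [this, hc, CharTwo.add_self_eq_zero, CharTwo.add_self_eq_zero, add_zero]
    have h2 : c ^ 2 ^ n + 1 = 0 := by
      rcases mul_eq_zero.1 h1 with h | h <;> exact h
    have h3 : c ^ 2 ^ n + 1 + 1 = 1 := by rw [h2, zero_add]
    rwa [add_assoc, CharTwo.add_self_eq_zero, add_zero] at h3

include h

/-- `[V, Q] ≤ E` -/
theorem comm_Q {q w : G} (hq : q ∈ o2 (CC (S : Subgroup G))) (hw : w ∈ zl (S : Subgroup G) P) :
    w * (q * w * q⁻¹) ∈ EE (S : Subgroup G) P := by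
  have hA := amb h
  have hqw : q * w * q⁻¹ ∈ zl (S : Subgroup G) P := hA.conj_mem (h.S_le (h.Q_le_S hq)) hw
  refine mem_inf.2 ⟨mul_mem hw hqw, ?_⟩
  have h1 : w⁻¹ * q * w ∈ o2 (CC (S : Subgroup G)) := by
    have := (mem_normalizer_iff.1 (le_normalizer_o2 _ (inv_mem (h.V_le_CC hw))) q).1 hq
    rwa [inv_inv] at this
  have h2 : w * (q * w * q⁻¹) = (w⁻¹ * q * w) * q⁻¹ := by
    rw [self_inv hA hw]
    group
  rw [h2]
  exact mul_mem h1 (inv_mem hq)

/-- if `E` is in the sum of the lines then it is the sum of the lines -/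
theorem quad (hE : ∀ e ∈ EE (S : Subgroup G) P, ∀ i, M.e e i 1 = 0) :
    Ln M ≤ o2 (CC (S : Subgroup G)) := by
  have hA := amb h
  intro y hy
  refine h.char2C (mem_inf.2 ⟨h.V_le_CC hy.1, mem_centralizer_iff.2 fun q hq => ?_⟩)
  have hqS : q ∈ (S : Subgroup G) := h.Q_le_S hq
  have hqP := h.S_le hqS
  -- `q` fixes the second coordinates
  have h1 : ∀ w ∈ zl (S : Subgroup G) P, ∀ m, M.e (q * w * q⁻¹) m 1 = M.e w m 1 := by
    intro w hw m
    have h2 := hE _ (comm_Q h hq hw) m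
    rw [M.mul w hw _ (hA.conj_mem hqP hw), Pi.add_apply, Pi.add_apply] at h2
    have h3 : M.e w m 1 + M.e (q * w * q⁻¹) m 1 + M.e (q * w * q⁻¹) m 1 = M.e (q * w * q⁻¹) m 1 := by
      rw [h2, zero_add]
    rw [add_assoc, CharTwo.add_self_eq_zero, add_zero] at h3
    exact h3.symm
  obtain ⟨σ, hσ⟩ := M.perm q hqP
  have hσi : ∀ i, σ i = i := by
    intro i
    obtain ⟨w, hw, hwe⟩ := exists_fac M {i} fun _ => ![0, 1]
    have hwe := hwe i rfl
    refine mv_apply_eq hA hσ hqP hw fun h0 => ?_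
    have h2 := h1 w hw.1 i
    rw [h0, hwe] at h2
    exact zero_ne_one h2
  have hfix : ∀ i, M.e (q * y * q⁻¹) i = M.e y i := by
    intro i
    obtain ⟨L, τ, hs⟩ := exists_T hA hqP hσ i
    have hLe : ∀ w ∈ zl (S : Subgroup G) P, M.e (q * w * q⁻¹) i = L (M.e w i) := by
      intro w hw
      have := hs.e w hw
      rwa [hσi] at this
    have hL1 : ∀ x : Fin 2 → F, L x 1 = x 1 := by
      intro x
      obtain ⟨w, hw, hwe⟩ := exists_fac M {i} fun _ => x
      have hwe := hwe i rfl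
      rw [← hwe, ← hLe w hw.1]
      exact h1 w hw.1 i
    have hτ : ∀ c, τ c = c := by
      intro c
      have h2 := hL1 (c • ![0, 1])
      rw [hs.smul, Pi.smul_apply, hL1, Pi.smul_apply] at h2
      simpa using h2
    have hL2 : L ![1, 0] = (L ![1, 0] 0) • ![1, 0] := by
      apply ext2
      · simp
      · rw [hL1]; simp
    set c := L ![1, 0] 0 with hc
    -- `c = 1`
    obtain ⟨w, hw, hwe⟩ := exists_fac M {i} fun _ => ![1, 0]
    have hwe := hwe i rfl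
    have hpow : ∀ n : ℕ, q ^ n * w * (q ^ n)⁻¹ ∈ zl (S : Subgroup G) P ∧
        M.e (q ^ n * w * (q ^ n)⁻¹) i = c ^ n • ![1, 0] := by
      intro n
      induction n with
      | zero => rw [pow_zero, one_mul, inv_one, mul_one, pow_zero, one_smul]; exact ⟨hw.1, hwe⟩
      | succ n ih =>
        have e1 : q ^ (n + 1) * w * (q ^ (n + 1))⁻¹ = q * (q ^ n * w * (q ^ n)⁻¹) * q⁻¹ := by
          rw [pow_succ']; group
        rw [e1]
        refine ⟨hA.conj_mem hqP ih.1, ?_⟩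
        rw [hLe _ ih.1, ih.2, hs.smul, hτ, hL2, smul_smul, pow_succ]
    obtain ⟨n, hn⟩ : ∃ n : ℕ, q ^ 2 ^ n = 1 := by
      obtain ⟨n, hn⟩ := S.isPGroup' ⟨q, hqS⟩
      exact ⟨n, congrArg Subtype.val hn⟩
    have h4 := (hpow (2 ^ n)).2
    rw [hn, one_mul, inv_one, mul_one, hwe] at h4
    have h5 := congrFun h4 0
    simp only [Pi.smul_apply, smul_eq_mul, Matrix.cons_val_zero, mul_one] at h5
    have hc1 := eq_one_of_pow n c h5.symm
    rw [hc1, one_smul] at hL2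
    rw [hLe y hy.1, decomp (M.e y i), hy.2 i, zero_smul, add_zero, hs.smul, hτ, hL2]
  have h6 : q * y * q⁻¹ = y := inj M (hA.conj_mem hqP hy.1) hy.1 (funext hfix)
  calc q * y = q * y * q⁻¹ * q := by group
    _ = y * q := by rw [h6]

/-- **The trichotomy of NatMany.** -/
theorem trich [Finite F] (M : NatK F (S : Subgroup G) P (zl (S : Subgroup G) P) ⊥ k) (hk : 2 ≤ k) :
    (∀ v ∈ zl (S : Subgroup G) P, v ∈ o2 (CC (S : Subgroup G)) ↔ ∀ i, M.e v i 1 = 0) ∨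
      (Nat.card F = 2 ∧ k = 2) := by
  have hA := amb h
  by_cases hE : ∀ e ∈ EE (S : Subgroup G) P, ∀ i, M.e e i 1 = 0
  · left
    intro v hv
    constructor
    · intro hvQ
      exact hE v (mem_inf.2 ⟨hv, hvQ⟩)
    · intro h1
      exact quad h hE ⟨hv, h1⟩
  · right
    push Not at hE
    obtain ⟨e₁, he₁, i₁, hi₁⟩ := hE
    have hL := Ln_le hA (E := EE (S : Subgroup G) P) inf_le_left (fun t ht e he => E_conj h ht he) he₁ hi₁
    -- a summand not contained in `Q`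
    obtain ⟨i, v, hv, hvQ⟩ : ∃ i, ∃ v ∈ fac M {i}, v ∉ o2 (CC (S : Subgroup G)) := by
      by_contra hcon
      push Not at hcon
      obtain ⟨v, hv, hvQ⟩ := h.exists_v
      apply hvQ
      refine mem_of_comps (M := M) hv fun i => ?_
      obtain ⟨x, hx, hxe⟩ := exists_fac M {i} (M.e v)
      exact ⟨x, hcon i x hx, hx, hxe i rfl⟩
    -- move `e₁` to `i`
    obtain ⟨t, ht, h1⟩ := M.trans i₁ i
    obtain ⟨ρ, hρ⟩ := M.perm t (h.S_le ht)
    have h2 := Mv.unique M hA (σ := ρ) hρ (h.S_le ht) h1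
    have he₀ : t * e₁ * t⁻¹ ∈ EE (S : Subgroup G) P := E_conj h ht he₁
    have he₀i : M.e (t * e₁ * t⁻¹) i 1 ≠ 0 := by
      rw [← h2, Ne, line hA ht hρ he₁.1]
      exact hi₁
    obtain ⟨g, f⟩ := exists_fam h hv.1 hvQ
    by_cases hfix : ∀ a ∈ AA (S : Subgroup G) P g, ∀ σ, Mv M a σ → σ i = i
    · exact (fix_false h f hv hfix he₀ he₀i hk hL).elim
    · push Not at hfix
      obtain ⟨f1, hf1, σ1, hσ1, hne⟩ := hfix
      refine ⟨?_, k_two h f hv hf1 hσ1 rfl hne hL⟩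
      have hF := card_two h f hv hf1 hσ1 rfl hne hL
      have h3 : Nat.card F = Nat.card (Fin 2) := by
        refine Nat.card_congr (Equiv.symm (Equiv.ofBijective (fun n : Fin 2 => if n = 0 then (0 : F) else 1) ⟨?_, ?_⟩))
        · intro a b hab
          fin_cases a <;> fin_cases b <;> simp_all only [_root_.Subgroup.mem_inf, _root_.Fin.isValue, _root_.ne_eq, _root_.le_inf_iff, _root_.Subgroup.smul_inf, _root_.Fin.zero_eta, ↓ _root_.reduceIte, _root_.Fin.mk_one, _root_.one_ne_zero, _root_.zero_ne_one]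
        · intro c
          rcases hF c with rfl | rfl
          · exact ⟨0, by simp⟩
          · exact ⟨1, by simp⟩
      rw [h3, Nat.card_eq_fintype_card, Fintype.card_fin]

end Cfsg.Agent.Omega.NO1.Many

end

section


/-!
# The affine group of `Fin 3` and the nonzero vectors of `F₂²`

* `exists_perm`, `exists_perm'` : a pair of permutations of `Fin 3` acting on `(i + j, i - j)` acts on `(i, j)`
  by a pair of permutations, possibly with an interchange;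
* `av` : the three nonzero vectors, `exists_sl` : `SL₂(2)` induces all permutations of them.
-/

set_option autoImplicit false
set_option linter.unusedSectionVars false

namespace Cfsg.Agent.Omega.NO1.Many

open Cfsg.Agent.Lib.SL2Mat Cfsg.Agent.Omega.NatPair

/-- `x ↦ α x + β` -/
def aff (α β : Fin 3) (h : α ≠ 0) : Equiv.Perm (Fin 3) where
  toFun x := α * x + β
  invFun x := α * (x - β)
  left_inv := by revert α β; decide
  right_inv := by revert α β; decide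

theorem aff_apply (α β : Fin 3) (h : α ≠ 0) (x : Fin 3) : aff α β h x = α * x + β := rfl

theorem exists_aff : ∀ φ : Fin 3 → Fin 3, Function.Injective φ →
    ∃ α β : Fin 3, α ≠ 0 ∧ ∀ x, φ x = α * x + β := by
  intro φ hφ
  have h01 : φ 0 ≠ φ 1 := fun h => absurd (hφ h) (by decide)
  have h02 : φ 0 ≠ φ 2 := fun h => absurd (hφ h) (by decide)
  have h12 : φ 1 ≠ φ 2 := fun h => absurd (hφ h) (by decide)
  have key : ∀ a b c : Fin 3, a ≠ b → a ≠ c → b ≠ c → ∃ α β : Fin 3, α ≠ 0 ∧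
      a = α * 0 + β ∧ b = α * 1 + β ∧ c = α * 2 + β := by decide
  obtain ⟨α, β, h, h0, h1, h2⟩ := key _ _ _ h01 h02 h12
  refine ⟨α, β, h, fun x => ?_⟩
  fin_cases x
  · exact h0
  · exact h1
  · exact h2

theorem eq_or : ∀ α γ : Fin 3, α ≠ 0 → γ ≠ 0 → γ = α ∨ γ = 2 * α := by decide

/-- without interchange of the two lines -/
theorem exists_perm {φ ψ : Fin 3 → Fin 3} (hφ : Function.Injective φ) (hψ : Function.Injective ψ) :
    ∃ σ τ : Equiv.Perm (Fin 3), (∀ i j, σ i + τ j = φ (i + j) ∧ σ i - τ j = ψ (i - j)) ∨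
      ∀ i j, σ j + τ i = φ (i + j) ∧ σ j - τ i = ψ (i - j) := by
  obtain ⟨α, β, hα, h1⟩ := exists_aff φ hφ
  obtain ⟨γ, δ, hγ, h2⟩ := exists_aff ψ hψ
  refine ⟨aff α (2 * (β + δ)) hα, aff α (δ - β) hα, ?_⟩
  simp only [aff_apply, h1, h2]
  rcases eq_or α γ hα hγ with rfl | rfl
  · left
    clear hα hγ h1 h2 hφ hψ
    revert γ β δ
    decide +kernel
  · right
    clear hα hγ h1 h2 hφ hψ
    revert α β δ
    decide +kernel

/-- with interchange of the two lines -/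
theorem exists_perm' {φ ψ : Fin 3 → Fin 3} (hφ : Function.Injective φ) (hψ : Function.Injective ψ) :
    ∃ σ τ : Equiv.Perm (Fin 3), (∀ i j, σ i + τ j = ψ (i - j) ∧ σ i - τ j = φ (i + j)) ∨
      ∀ i j, σ j + τ i = ψ (i - j) ∧ σ j - τ i = φ (i + j) := by
  obtain ⟨α, β, hα, h1⟩ := exists_aff φ hφ
  obtain ⟨γ, δ, hγ, h2⟩ := exists_aff ψ hψ
  have h2α : 2 * α ≠ 0 := by
    clear h1
    revert α
    decide
  refine ⟨aff α (2 * (β + δ)) hα, aff (2 * α) (β - δ) h2α, ?_⟩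
  simp only [aff_apply, h1, h2]
  rcases eq_or α γ hα hγ with rfl | rfl
  · left
    clear hα hγ h1 h2 hφ hψ h2α
    revert γ β δ
    decide +kernel
  · right
    clear hα hγ h1 h2 hφ hψ h2α
    revert α β δ
    decide +kernel

/-- the converse: a pair of permutations of `(i, j)` acts on `(i + j, i - j)` -/
theorem exists_split (σ τ : Equiv.Perm (Fin 3)) :
    ∃ φ ψ : Fin 3 → Fin 3, Function.Injective φ ∧ Function.Injective ψ ∧
      ((∀ i j, σ i + τ j = φ (i + j) ∧ σ i - τ j = ψ (i - j)) ∨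
        ∀ i j, σ i + τ j = ψ (i - j) ∧ σ i - τ j = φ (i + j)) := by
  obtain ⟨α, s, hα, h1⟩ := exists_aff σ σ.injective
  obtain ⟨γ, t, hγ, h2⟩ := exists_aff τ τ.injective
  rcases eq_or α γ hα hγ with rfl | rfl
  · refine ⟨aff γ (s + t) hα, aff γ (s - t) hα, Equiv.injective _, Equiv.injective _, Or.inl ?_⟩
    simp only [aff_apply, h1, h2]
    clear hα hγ h1 h2
    revert γ s t
    decide +kernel
  · refine ⟨aff α (s - t) hα, aff α (s + t) hα, Equiv.injective _, Equiv.injective _, Or.inr ?_⟩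
    simp only [aff_apply, h1, h2]
    clear hα hγ h1 h2
    revert α s t
    decide +kernel

section vec

variable {F : Type*} [Field F]

/-- the three nonzero vectors of `F₂²` -/
def av (F : Type*) [Field F] : Fin 3 → Fin 2 → F := ![![1, 0], ![0, 1], ![1, 1]]

variable [CharP F 2]

theorem av_add : ∀ i j : Fin 3, i ≠ j → av F i + av F j = av F (2 * (i + j)) := by
  have h2 : (1 : F) + 1 = 0 := CharTwo.add_self_eq_zero 1
  intro i j hij
  fin_cases i <;> fin_cases j <;> first | exact absurd rfl hij | skip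
  all_goals
    funext x
    fin_cases x <;> simp [av, h2]

theorem av_ne_zero (i : Fin 3) : av F i ≠ 0 := by
  intro h
  fin_cases i
  · exact one_ne_zero (congrFun h 0)
  · exact one_ne_zero (congrFun h 1)
  · exact one_ne_zero (congrFun h 0)

theorem av_injective : Function.Injective (av F) := by
  intro i j h
  by_contra hij
  have h1 := av_add (F := F) i j hij
  rw [h] at h1
  have h3 : av F j + av F j = 0 := by
    funext x
    exact CharTwo.add_self_eq_zero _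
  rw [h3] at h1
  exact av_ne_zero _ h1.symm

theorem exists_av (hF : ∀ c : F, c = 0 ∨ c = 1) {x : Fin 2 → F} (hx : x ≠ 0) : ∃ i, x = av F i := by
  rcases hF (x 0) with h0 | h0 <;> rcases hF (x 1) with h1 | h1
  · exact absurd (ext2 h0 h1) hx
  · exact ⟨1, ext2 h0 h1⟩
  · exact ⟨0, ext2 h0 h1⟩
  · exact ⟨2, ext2 h0 h1⟩

/-- `SL₂(2)` induces all permutations of the three vectors -/
theorem exists_sl {φ : Fin 3 → Fin 3} (hφ : Function.Injective φ) :
    ∃ A : Matrix.SpecialLinearGroup (Fin 2) F, ∀ i, ap A (av F i) = av F (φ i) := by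
  have h2 : (1 : F) + 1 = 0 := CharTwo.add_self_eq_zero 1
  have hneg : (-1 : F) = 1 := neg_eq_of_add_eq_zero_right h2
  have hdet : ∀ i j : Fin 3, i ≠ j → av F i 0 * av F j 1 - av F j 0 * av F i 1 = 1 := by
    intro i j hij
    fin_cases i <;> fin_cases j <;> first | exact absurd rfl hij | skip
    all_goals simp [av, hneg]
  have h01 : φ 0 ≠ φ 1 := fun h => absurd (hφ h) (by decide)
  have h02 : φ 0 ≠ φ 2 := fun h => absurd (hφ h) (by decide)
  have h12 : φ 1 ≠ φ 2 := fun h => absurd (hφ h) (by decide)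
  refine ⟨mk (av F (φ 0) 0) (av F (φ 1) 0) (av F (φ 0) 1) (av F (φ 1) 1) (hdet _ _ h01), fun i => ?_⟩
  fin_cases i
  · apply ext2
    · rw [ap_zero']; simp [av]
    · rw [ap_one']; simp [av]
  · apply ext2
    · rw [ap_zero']; simp [av]
    · rw [ap_one']; simp [av]
  · have h3 := av_add (F := F) _ _ h01
    have h4 : 2 * (φ 0 + φ 1) = φ 2 := by
      have key : ∀ a b c : Fin 3, a ≠ b → a ≠ c → b ≠ c → 2 * (a + b) = c := by decide
      exact key _ _ _ h01 h02 h12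
    rw [h4] at h3
    change ap _ (av F 2) = av F (φ 2)
    rw [← h3]
    apply ext2
    · rw [ap_zero']; simp [av]
    · rw [ap_one']; simp [av]

end vec

end Cfsg.Agent.Omega.NO1.Many

end

end

-- merged: Cfsg.Agent.Mrg.Omega.NO1.Many.Plus
section

/-!
# `V_P` the sum of two natural `SL₂(2)`-modules: type `Plus2`

`plus2_of` : `Cfg S P`, `NatK F S P V (cv S P) 2`, `|F| = 2` imply `∃ z, Plus2 S P z`.
The nine vectors are `z i j = A (i + j) B (i - j)`, `A`, `B` the nonzero vectors of the summands.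
-/

set_option autoImplicit false
set_option linter.unusedSectionVars false

namespace Cfsg.Agent.Omega.NO1.Many

open Subgroup Cfsg Cfsg.Agent.ZN Cfsg.Agent.Omega.MinPar Cfsg.Agent.Omega.Frame
open Cfsg.Agent.Omega.FFThm (NatK)
open Cfsg.Agent.Omega.FrameFF (cv)
open Cfsg.Agent.Omega.Half Cfsg.Agent.Omega.Half.NatA
open Cfsg.Agent.Lib.SL2Mat Cfsg.Agent.Omega.NatPair

universe u

section abs

variable {G : Type u} [Group G] {F : Type} [Field F] [CharP F 2] {T H V : Subgroup G}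
  (M : NatK F T H V ⊥ 2)

/-- the vector with coordinates `x`, `y` -/
noncomputable def vc (x y : Fin 2 → F) : G := (M.surj ![x, y]).choose

theorem vc_mem (x y : Fin 2 → F) : vc M x y ∈ V := (M.surj ![x, y]).choose_spec.1

theorem e_vc (x y : Fin 2 → F) : M.e (vc M x y) = ![x, y] := (M.surj ![x, y]).choose_spec.2

theorem vc_add (x y x' y' : Fin 2 → F) : vc M x y * vc M x' y' = vc M (x + x') (y + y') := by
  apply inj M (mul_mem (vc_mem M _ _) (vc_mem M _ _)) (vc_mem M _ _)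
  rw [M.mul _ (vc_mem M _ _) _ (vc_mem M _ _), e_vc, e_vc, e_vc]
  funext i
  fin_cases i <;> rfl

theorem vc_inj {x y x' y' : Fin 2 → F} (h : vc M x y = vc M x' y') : x = x' ∧ y = y' := by
  have h1 := congrArg M.e h
  rw [e_vc, e_vc] at h1
  exact ⟨congrFun h1 0, congrFun h1 1⟩

theorem vc_zero : vc M 0 0 = 1 := by
  apply eq_one M (vc_mem M _ _)
  rw [e_vc]
  funext i
  fin_cases i <;> rfl

theorem eq_vc {v : G} (hv : v ∈ V) : v = vc M (M.e v 0) (M.e v 1) := by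
  apply inj M hv (vc_mem M _ _)
  rw [e_vc]
  funext i
  fin_cases i <;> rfl

/-- the nine singular vectors -/
noncomputable def zz (i j : Fin 3) : G := vc M (av F (i + j)) (av F (i - j))

theorem zz_mem (i j : Fin 3) : zz M i j ∈ V := vc_mem M _ _

/-- `m` acts without interchange of the summands -/
def ActN (m : G) (φ ψ : Fin 3 → Fin 3) : Prop :=
  ∀ p r, m * vc M (av F p) (av F r) * m⁻¹ = vc M (av F (φ p)) (av F (ψ r))

/-- `m` acts with interchange of the summands -/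
def ActS (m : G) (φ ψ : Fin 3 → Fin 3) : Prop :=
  ∀ p r, m * vc M (av F p) (av F r) * m⁻¹ = vc M (av F (ψ r)) (av F (φ p))

variable (hA : Amb T H V) (hF : ∀ c : F, c = 0 ∨ c = 1)

theorem add_self (x : Fin 2 → F) : x + x = 0 := by
  funext i
  exact CharTwo.add_self_eq_zero _

include hA in
/-- each permutation pair is induced -/
theorem exists_actN {φ ψ : Fin 3 → Fin 3} (hφ : Function.Injective φ) (hψ : Function.Injective ψ) :
    ∃ m ∈ H, ActN M m φ ψ := by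
  obtain ⟨A, hA1⟩ := exists_sl (F := F) hφ
  obtain ⟨B, hB1⟩ := exists_sl (F := F) hψ
  obtain ⟨g, hg, hgA, -⟩ := M.lift ![A, B]
  refine ⟨g, hg, fun p r => ?_⟩
  have h1 : M.e (g * vc M (av F p) (av F r) * g⁻¹) = ![av F (φ p), av F (ψ r)] := by
    funext i
    rw [hgA _ (vc_mem M _ _) i, e_vc]
    fin_cases i
    · exact hA1 p
    · exact hB1 r
  have hV : g * vc M (av F p) (av F r) * g⁻¹ ∈ V := hA.conj_mem hg (vc_mem M _ _)
  apply inj M hV (vc_mem M _ _)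
  rw [h1, e_vc]

include hA hF

/-- every element of `H` acts by a pair of permutations -/
theorem exists_act {m : G} (hm : m ∈ H) : ∃ φ ψ : Fin 3 → Fin 3,
    Function.Injective φ ∧ Function.Injective ψ ∧ (ActN M m φ ψ ∨ ActS M m φ ψ) := by
  obtain ⟨π, hπ⟩ := M.perm m hm
  have hcj : ∀ v ∈ V, m * v * m⁻¹ ∈ V := fun v hv => hA.conj_mem hm hv
  -- images of the vectors of the two summands
  have hA0 : ∀ p, M.e (m * vc M (av F p) 0 * m⁻¹) (π 0) ≠ 0 ∧ M.e (m * vc M (av F p) 0 * m⁻¹) (π 1) = 0 := by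
    intro p
    rw [Ne, hπ _ (vc_mem M _ _) 0, hπ _ (vc_mem M _ _) 1, e_vc]
    exact ⟨av_ne_zero p, rfl⟩
  have hB0 : ∀ r, M.e (m * vc M 0 (av F r) * m⁻¹) (π 0) = 0 ∧ M.e (m * vc M 0 (av F r) * m⁻¹) (π 1) ≠ 0 := by
    intro r
    rw [Ne, hπ _ (vc_mem M _ _) 0, hπ _ (vc_mem M _ _) 1, e_vc]
    exact ⟨rfl, av_ne_zero r⟩
  have h1 : ∀ p, ∃ q, M.e (m * vc M (av F p) 0 * m⁻¹) (π 0) = av F q := fun p => exists_av hF (hA0 p).1
  have h2 : ∀ r, ∃ q, M.e (m * vc M 0 (av F r) * m⁻¹) (π 1) = av F q := fun r => exists_av hF (hB0 r).2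
  choose φ hφ using h1
  choose ψ hψ using h2
  have hsplit : ∀ x y : Fin 2 → F, m * vc M x y * m⁻¹ = (m * vc M x 0 * m⁻¹) * (m * vc M 0 y * m⁻¹) := by
    intro x y
    have h := vc_add M x 0 0 y
    rw [add_zero, zero_add] at h
    rw [← h]
    group
  have hcases : (π 0 = 0 ∧ π 1 = 1) ∨ (π 0 = 1 ∧ π 1 = 0) := by
    have hne : π 0 ≠ π 1 := fun h => absurd (π.injective h) (by decide)
    generalize π 0 = a at hne
    generalize π 1 = b at hne
    revert a b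
    decide
  have hmain : ∀ p r, M.e (m * vc M (av F p) (av F r) * m⁻¹) (π 0) = av F (φ p) ∧
      M.e (m * vc M (av F p) (av F r) * m⁻¹) (π 1) = av F (ψ r) := by
    intro p r
    rw [hsplit, M.mul _ (hcj _ (vc_mem M _ _)) _ (hcj _ (vc_mem M _ _)), Pi.add_apply, Pi.add_apply,
      hφ, hψ, (hA0 p).2, (hB0 r).1, add_zero, zero_add]
    exact ⟨rfl, rfl⟩
  have hact : ActN M m φ ψ ∨ ActS M m φ ψ := by
    rcases hcases with ⟨h0, h1⟩ | ⟨h0, h1⟩
    · left
      intro p r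
      apply inj M (hcj _ (vc_mem M _ _)) (vc_mem M _ _)
      rw [e_vc]
      have h3 := hmain p r
      rw [h0, h1] at h3
      funext i
      fin_cases i
      · exact h3.1
      · exact h3.2
    · right
      intro p r
      apply inj M (hcj _ (vc_mem M _ _)) (vc_mem M _ _)
      rw [e_vc]
      have h3 := hmain p r
      rw [h0, h1] at h3
      funext i
      fin_cases i
      · exact h3.2
      · exact h3.1
  have hφi : Function.Injective φ := by
    intro p p' h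
    rcases hact with ha | ha
    · have h3 := ha p 0
      have h4 := ha p' 0
      rw [h] at h3
      have h5 := mul_left_cancel (mul_right_cancel (h3.trans h4.symm))
      exact av_injective (vc_inj M h5).1
    · have h3 := ha p 0
      have h4 := ha p' 0
      rw [h] at h3
      have h5 := mul_left_cancel (mul_right_cancel (h3.trans h4.symm))
      exact av_injective (vc_inj M h5).1
  have hψi : Function.Injective ψ := by
    intro p p' h
    rcases hact with ha | ha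
    · have h3 := ha 0 p
      have h4 := ha 0 p'
      rw [h] at h3
      have h5 := mul_left_cancel (mul_right_cancel (h3.trans h4.symm))
      exact av_injective (vc_inj M h5).2
    · have h3 := ha 0 p
      have h4 := ha 0 p'
      rw [h] at h3
      have h5 := mul_left_cancel (mul_right_cancel (h3.trans h4.symm))
      exact av_injective (vc_inj M h5).2
  exact ⟨φ, ψ, hφi, hψi, hact⟩

/-- each permutation pair with interchange is induced -/
theorem exists_actS {φ ψ : Fin 3 → Fin 3} (hφ : Function.Injective φ) (hψ : Function.Injective ψ) :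
    ∃ m ∈ H, ActS M m φ ψ := by
  obtain ⟨t, ht, h1⟩ := M.trans 0 1
  have htH := hA.TH ht
  obtain ⟨α, β, hα, hβ, ha⟩ := exists_act M hA hF htH
  have ha' : ActS M t α β := by
    rcases ha with ha | ha
    · exfalso
      -- then `t` fixes the summand 0
      obtain ⟨π, hπ⟩ := M.perm t htH
      have h2 : π 0 = 1 := Mv.unique M hA (σ := π) hπ htH h1
      have e1 := ha 0 0
      have e2 := ha 0 1
      -- `t (0, a₀ + a₁) t⁻¹`
      have h3 : vc M (av F 0) (av F 0) * vc M (av F 0) (av F 1) = vc M 0 (av F 2) := by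
        rw [vc_add, add_self, av_add 0 1 (by decide)]
        rfl
      have h4 : t * vc M 0 (av F 2) * t⁻¹ = vc M 0 (av F (β 0) + av F (β 1)) := by
        rw [← h3]
        calc t * (vc M (av F 0) (av F 0) * vc M (av F 0) (av F 1)) * t⁻¹ =
            (t * vc M (av F 0) (av F 0) * t⁻¹) * (t * vc M (av F 0) (av F 1) * t⁻¹) := by group
          _ = _ := by rw [e1, e2, vc_add, add_self]
      have h5 := hπ (vc M 0 (av F 2)) (vc_mem M _ _) 0
      rw [h2, h4, e_vc, e_vc] at h5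
      have h6 : av F (β 0) + av F (β 1) = 0 := h5.2 rfl
      have h7 : β 0 ≠ β 1 := fun h => absurd (hβ h) (by decide)
      rw [av_add _ _ h7] at h6
      exact av_ne_zero _ h6
    · exact ha
  -- correct by an element of the first kind
  have hinv : ∀ α : Fin 3 → Fin 3, Function.Injective α → ∃ α' : Fin 3 → Fin 3, Function.Injective α' ∧
      ∀ x, α' (α x) = x := by
    intro α hα
    let e := Equiv.ofBijective α (Finite.injective_iff_bijective.1 hα)
    exact ⟨e.symm, e.symm.injective, fun x => e.symm_apply_apply x⟩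
  obtain ⟨α', hα', h3⟩ := hinv α hα
  obtain ⟨β', hβ', h4⟩ := hinv β hβ
  obtain ⟨n, hn, hn1⟩ := exists_actN M hA (φ := ψ ∘ β') (ψ := φ ∘ α') (hψ.comp hβ') (hφ.comp hα')
  refine ⟨n * t, mul_mem hn htH, fun p r => ?_⟩
  calc n * t * vc M (av F p) (av F r) * (n * t)⁻¹ = n * (t * vc M (av F p) (av F r) * t⁻¹) * n⁻¹ := by group
    _ = n * vc M (av F (β r)) (av F (α p)) * n⁻¹ := by rw [ha' p r]
    _ = vc M (av F (ψ r)) (av F (φ p)) := by
      rw [hn1, Function.comp_apply, Function.comp_apply, h3, h4]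

omit hA hF in
theorem zz_row (i : Fin 3) : zz M i 0 * zz M i 1 * zz M i 2 = 1 := by
  rw [zz, zz, zz, vc_add, vc_add, ← vc_zero M]
  have h1 : av F (i + 0) + av F (i + 1) + av F (i + 2) = 0 := by
    rw [av_add _ _ (by clear * -; revert i; decide)]
    have : (2 : Fin 3) * (i + 0 + (i + 1)) = i + 2 := by clear * -; revert i; decide
    rw [this, add_self]
  have h2 : av F (i - 0) + av F (i - 1) + av F (i - 2) = 0 := by
    rw [av_add _ _ (by clear * -; revert i; decide)]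
    have : (2 : Fin 3) * (i - 0 + (i - 1)) = i - 2 := by clear * -; revert i; decide
    rw [this, add_self]
  rw [h1, h2]

omit hA hF in
theorem zz_col (j : Fin 3) : zz M 0 j * zz M 1 j * zz M 2 j = 1 := by
  rw [zz, zz, zz, vc_add, vc_add, ← vc_zero M]
  have h1 : av F (0 + j) + av F (1 + j) + av F (2 + j) = 0 := by
    rw [av_add _ _ (by clear * -; revert j; decide)]
    have : (2 : Fin 3) * (0 + j + (1 + j)) = 2 + j := by clear * -; revert j; decide
    rw [this, add_self]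
  have h2 : av F (0 - j) + av F (1 - j) + av F (2 - j) = 0 := by
    rw [av_add _ _ (by clear * -; revert j; decide)]
    have : (2 : Fin 3) * (0 - j + (1 - j)) = 2 - j := by clear * -; revert j; decide
    rw [this, add_self]
  rw [h1, h2]

omit hA in
theorem zz_gen : _root_.Subgroup.closure (Set.range fun x : Fin 3 × Fin 3 => zz M x.1 x.2) = V := by
  set K := _root_.Subgroup.closure (Set.range fun x : Fin 3 × Fin 3 => zz M x.1 x.2) with hK
  have hz : ∀ i j, zz M i j ∈ K := fun i j => subset_closure ⟨(i, j), rfl⟩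
  have hpr : ∀ p r, vc M (av F p) (av F r) ∈ K := by
    intro p r
    have h1 := hz (2 * (p + r)) (r - (r - (2 * (p + r) - r)) - (2 * (p + r) - r) + (p - 2 * (p + r)))
    have h2 : zz M (2 * (p + r)) (r - (r - (2 * (p + r) - r)) - (2 * (p + r) - r) + (p - 2 * (p + r))) =
        vc M (av F p) (av F r) := by
      rw [zz]
      congr 2
      · clear h1; revert p r; decide
      · clear h1; revert p r; decide
    rwa [h2] at h1
  have h0 : ∀ p, vc M (av F p) 0 ∈ K := by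
    intro p
    have h := mul_mem (mul_mem (hpr p 0) (hpr p 1)) (hpr p 2)
    rw [vc_add, vc_add, add_self, zero_add, av_add 0 1 (by decide)] at h
    have e : (2 : Fin 3) * (0 + 1) = 2 := by decide
    rwa [e, add_self] at h
  have h1 : ∀ p, vc M 0 (av F p) ∈ K := by
    intro p
    have h := mul_mem (mul_mem (hpr 0 p) (hpr 1 p)) (hpr 2 p)
    rw [vc_add, vc_add, add_self, zero_add, av_add 0 1 (by decide)] at h
    have e : (2 : Fin 3) * (0 + 1) = 2 := by decide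
    rwa [e, add_self] at h
  apply le_antisymm
  · rw [hK, closure_le]
    rintro _ ⟨x, rfl⟩
    exact zz_mem M _ _
  · intro v hv
    rw [eq_vc M hv]
    by_cases ha : M.e v 0 = 0 <;> by_cases hb : M.e v 1 = 0
    · rw [ha, hb, vc_zero]
      exact one_mem K
    · obtain ⟨q, hq⟩ := exists_av hF hb
      rw [ha, hq]
      exact h1 q
    · obtain ⟨q, hq⟩ := exists_av hF ha
      rw [hb, hq]
      exact h0 q
    · obtain ⟨q, hq⟩ := exists_av hF ha
      obtain ⟨r, hr⟩ := exists_av hF hb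
      rw [hq, hr]
      exact hpr q r

/-- The fixed vectors of `T`. -/
theorem fix_eq {v : G} (hv : v ∈ V) (hv1 : v ≠ 1) (hc : ∀ t ∈ T, t * v = v * t) : v = zz M 0 0 := by
  have hc' : ∀ t ∈ T, t * v * t⁻¹ = v := fun t ht => by rw [hc t ht, mul_inv_cancel_right]
  obtain ⟨t, ht, hta, -⟩ := M.unip fun _ => 1
  have h1 : ∀ i, M.e v i 1 = 0 := by
    intro i
    have h := hta v hv i
    rw [hc' t ht] at h
    have h2 := congrFun h 0
    rw [ap_zero', up_00, up_01, one_mul, one_mul] at h2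
    exact left_eq_add.1 h2
  have h2 : ∀ i j, M.e v j = 0 ↔ M.e v i = 0 := by
    intro i j
    obtain ⟨s, hs, h⟩ := M.trans i j
    have := h v hv
    rwa [hc' s hs] at this
  have h3 : ∀ i, M.e v i ≠ 0 := by
    intro i h0
    apply hv1
    apply eq_one M hv
    funext j
    exact (h2 i j).2 h0
  have h4 : ∀ i, M.e v i = av F 0 := by
    intro i
    have h5 : M.e v i 0 = 1 := (hF _).resolve_left fun h => h3 i (ext2 h (h1 i))
    exact ext2 h5 (h1 i)
  rw [eq_vc M hv, h4, h4]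
  rfl

end abs

section main

variable {G : Type u} [Group G] [Finite G] {S : Sylow 2 G} {P : Subgroup G}

theorem plus2_of_bot (h : Cfg S P) {F : Type} [Field F] [CharP F 2] (hF : Nat.card F = 2)
    (M : NatK F (S : Subgroup G) P (zl (S : Subgroup G) P) ⊥ 2) :
    Plus2 (S : Subgroup G) P (zz M) := by
  have hA : Amb (S : Subgroup G) P (zl (S : Subgroup G) P) := amb_of_loc h.ctx.char2 S h.loc
  have hF' : ∀ c : F, c = 0 ∨ c = 1 := by
    obtain ⟨a, b, hab, huniv⟩ := Nat.card_eq_two_iff.1 hF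
    intro c
    have h0 : (0 : F) ∈ ({a, b} : Set F) := huniv ▸ Set.mem_univ _
    have h1 : (1 : F) ∈ ({a, b} : Set F) := huniv ▸ Set.mem_univ _
    have hc : c ∈ ({a, b} : Set F) := huniv ▸ Set.mem_univ _
    simp only [Set.mem_insert_iff, Set.mem_singleton_iff] at h0 h1 hc
    have h01 : (0 : F) ≠ 1 := zero_ne_one
    rcases h0 with h0 | h0 <;> rcases h1 with h1 | h1 <;> rcases hc with hc | hc
    · exact absurd (h0.trans h1.symm) h01
    · exact absurd (h0.trans h1.symm) h01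
    · left; rw [hc, h0]
    · right; rw [hc, h1]
    · right; rw [hc, h1]
    · left; rw [hc, h0]
    · exact absurd (h0.trans h1.symm) h01
    · exact absurd (h0.trans h1.symm) h01
  have hsplit : ∀ i j k l : Fin 3, i + j = k + l → i - j = k - l → i = k ∧ j = l := by decide
  exact
    { inj := fun i j k l hz => by
        obtain ⟨h1, h2⟩ := vc_inj M hz
        exact hsplit _ _ _ _ (av_injective h1) (av_injective h2)
      ne_one := fun i j h1 => by
        rw [zz, ← vc_zero M] at h1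
        exact av_ne_zero _ (vc_inj M h1).1
      sq := fun i j => by
        have := hA.sq _ (zz_mem M i j)
        rwa [pow_two] at this
      comm := fun i j k l => hA.comm _ (zz_mem M i j) _ (zz_mem M k l)
      row := zz_row M
      col := zz_col M
      gen := zz_gen M hF'
      Z := by
        have hne : zc (S : Subgroup G) ≠ ⊥ := MinSimple.Basic.zc_ne_bot S.isPGroup' (h.ctx.sylow_ne_bot S)
        have hall : ∀ v ∈ zc (S : Subgroup G), v ≠ 1 → v = zz M 0 0 := fun v hv hv1 =>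
          fix_eq M hA hF' (hA.zc hv) hv1 (MinSimple.VModule.mem_zc.1 hv).2.1
        obtain ⟨⟨v, hv⟩, hv1⟩ := ne_bot_iff_exists_ne_one.1 hne
        have hv1' : v ≠ 1 := fun h1 => hv1 (Subtype.ext h1)
        have hz : zz M 0 0 ∈ zc (S : Subgroup G) := hall v hv hv1' ▸ hv
        apply le_antisymm
        · intro w hw
          by_cases hw1 : w = 1
          · rw [hw1]; exact one_mem _
          · rw [hall w hw hw1]; exact mem_zpowers _
        · exact zpowers_le.2 hz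
      perm := fun m hm => by
        obtain ⟨φ, ψ, hφ, hψ, ha | ha⟩ := exists_act M hA hF' hm
        · obtain ⟨σ, τ, h1 | h1⟩ := exists_perm hφ hψ
          · refine ⟨σ, τ, Or.inl fun i j => ?_⟩
            rw [zz, ha, zz, (h1 i j).1, (h1 i j).2]
          · refine ⟨σ, τ, Or.inr fun i j => ?_⟩
            rw [zz, ha, zz, (h1 i j).1, (h1 i j).2]
        · obtain ⟨σ, τ, h1 | h1⟩ := exists_perm' hφ hψ
          · refine ⟨σ, τ, Or.inl fun i j => ?_⟩
            rw [zz, ha, zz, (h1 i j).1, (h1 i j).2]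
          · refine ⟨σ, τ, Or.inr fun i j => ?_⟩
            rw [zz, ha, zz, (h1 i j).1, (h1 i j).2]
      full := fun σ τ => by
        obtain ⟨φ, ψ, hφ, hψ, h1 | h1⟩ := exists_split σ τ
        · obtain ⟨m, hm, ha⟩ := exists_actN M hA hφ hψ
          refine ⟨m, hm, fun i j => ?_⟩
          rw [zz, ha, zz, (h1 i j).1, (h1 i j).2]
        · obtain ⟨m, hm, ha⟩ := exists_actS M hA hF' hφ hψ
          refine ⟨m, hm, fun i j => ?_⟩
          rw [zz, ha, zz, (h1 i j).1, (h1 i j).2]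
      swap := by
        obtain ⟨m, hm, ha⟩ := exists_actN M hA (φ := id) (ψ := fun x => -x) Function.injective_id
          neg_injective
        refine ⟨m, hm, fun i j => ?_⟩
        rw [zz, ha, zz]
        congr 2
        · rw [id, add_comm]
        · exact neg_sub i j }

/-- **The output of `NatMany`, `k = 2`, `q = 2`.** -/
theorem plus2_of (h : Cfg S P) {F : Type} [Field F] [CharP F 2] (hF : Nat.card F = 2)
    (M : NatK F (S : Subgroup G) P (zl (S : Subgroup G) P) (cv (S : Subgroup G) P) 2) :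
    ∃ z : Fin 3 → Fin 3 → G, Plus2 (S : Subgroup G) P z := by
  have hcv : cv (S : Subgroup G) P = ⊥ := h.one.cen
  rw [hcv] at M
  exact ⟨_, plus2_of_bot h hF M⟩

theorem ty_of_two (h : Cfg S P) {F : Type} [Field F] [CharP F 2] (hF : Nat.card F = 2)
    (M : NatK F (S : Subgroup G) P (zl (S : Subgroup G) P) (cv (S : Subgroup G) P) 2) :
    Ty (S : Subgroup G) P := by
  obtain ⟨z, hz⟩ := plus2_of h hF M
  exact Ty.plus2 z hz

end main

end Cfsg.Agent.Omega.NO1.Many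

end

-- merged: Cfsg.Agent.Mrg.Omega.NO1.NSix.Spread
section

/-!
# (N6) of THEOREM WR (#15037, helper675), steps 1-4: the spread

`U ≤ V` a summand with the line `L = {l x}`, `U ∩ Q = L`; `[U, Q] = L` with `[u, w] = l (br u * nu w)`,
`E = V ∩ Q` central in `Q = O₂(C)`, `U ≰ Q`.

`spread`: there are `D ≤ E` with `E = L D`, `L ∩ D = 1`, and for every `a ≠ 0` an element `ρ ∈ C` which
centralises `D` and acts on `L` as the scalar `a`.
-/

set_option autoImplicit false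
set_option linter.unusedSectionVars false

namespace Cfsg.Agent.Omega.NO1.NSix

open Subgroup Cfsg Cfsg.Agent.Omega.NoFF.Basic Cfsg.Agent.Omega.NOne.Frame
open Cfsg.Agent.Omega.NOne.NearFF Cfsg.Agent.Omega.NOne
open Cfsg.Agent.ZN (o2)
open Cfsg.Agent.MinSimple.VModule (le_normalizer_o2 o2_isPGroup o2_le le_o2)
open scoped Pointwise

universe u

variable {G : Type u} [Group G]

/-- A summand `U` of `V` with its line `L = {l x}`. -/
structure Sp (F : Type) [Field F] (V Q U : Subgroup G) where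
  l : F → G
  br : G → F
  nu : G → F
  UV : U ≤ V
  l_add : ∀ x y, l (x + y) = l x * l y
  l_one : ∀ x, l x = 1 → x = 0
  l_U : ∀ x, l x ∈ U
  l_Q : ∀ x, l x ∈ Q
  br_surj : ∀ a, ∃ u ∈ U, br u = a
  nu_mul : ∀ w ∈ Q, ∀ f ∈ Q, nu (w * f) = nu w + nu f
  act : ∀ u ∈ U, ∀ w ∈ Q, u * w * u⁻¹ * w⁻¹ = l (br u * nu w)
  cent : ∀ e ∈ V ⊓ Q, ∀ w ∈ Q, w * e = e * w

/-- The ambient facts. -/
structure Am (C V : Subgroup G) : Prop where
  VC : V ≤ C
  Vc : V ≤ centralizer (V : Set G)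
  V2 : ∀ w ∈ V, w ^ 2 = 1
  QV : o2 C ≤ normalizer (V : Set G)

/-- The frame. -/
structure Fm {F : Type} [Field F] {C V U : Subgroup G} (M : Sp F V (o2 C) U) (y : G) : Prop where
  yC : y ∈ C
  yX : y ∈ X U y
  min : ∀ x ∈ C, Nat.card (X U x) < Nat.card (X U y) → IsPGroup 2 (X U x)
  inj : ∀ f ∈ MulAut.conj y • (V ⊓ o2 C), M.nu f = 0 → f ∈ V ⊓ o2 C
  gen : ∀ e ∈ V ⊓ o2 C, ∃ x, M.l x * e⁻¹ ∈ (V ⊓ o2 C) ⊓ MulAut.conj y • (V ⊓ o2 C)
  tri : ∀ x, M.l x ∈ MulAut.conj y • (V ⊓ o2 C) → x = 0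

section

variable {F : Type} [Field F] {C V U : Subgroup G}

section basic

variable (M : Sp F V (o2 C) U)
include M

theorem l_zero : M.l 0 = 1 := by
  have h := M.l_add 0 0
  rw [add_zero] at h
  exact left_eq_mul.1 h

theorem l_E (x : F) : M.l x ∈ V ⊓ o2 C := ⟨M.UV (M.l_U x), M.l_Q x⟩

end basic

variable {M : Sp F V (o2 C) U} (h : Am C V)
include h

theorem Am.comm {a b : G} (ha : a ∈ V) (hb : b ∈ V) : a * b = b * a := comm_of_le_centralizer h.Vc ha hb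

theorem Am.U_le_C (M : Sp F V (o2 C) U) : U ≤ C := M.UV.trans h.VC

theorem norm_Q {x w : G} (hx : x ∈ C) (hw : w ∈ o2 C) : x * w * x⁻¹ ∈ o2 C :=
  norm_mem (le_normalizer_o2 C hx) hw

theorem norm_Q' {x w : G} (hx : x ∈ C) (hw : w ∈ o2 C) : x⁻¹ * w * x ∈ o2 C :=
  norm_mem' (le_normalizer_o2 C hx) hw

theorem conj_E_le {x : G} (hx : x ∈ C) : MulAut.conj x • (V ⊓ o2 C) ≤ o2 C := by
  intro e he
  obtain ⟨a, ha, rfl⟩ := mem_conj'.1 he
  exact norm_Q h hx ha.2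

/-- the conjugates of `E` are central in `Q` -/
theorem conj_cent (M : Sp F V (o2 C) U) {x e w : G} (hx : x ∈ C) (he : e ∈ MulAut.conj x • (V ⊓ o2 C))
    (hw : w ∈ o2 C) : w * e = e * w := by
  obtain ⟨a, ha, rfl⟩ := mem_conj'.1 he
  have h1 := M.cent a ha _ (norm_Q' h hx hw)
  calc w * (x * a * x⁻¹) = x * (x⁻¹ * w * x * a) * x⁻¹ := by group
    _ = x * (a * (x⁻¹ * w * x)) * x⁻¹ := by rw [h1]
    _ = x * a * x⁻¹ * w := by group

/-- the action of a conjugate of `U` on `Q` -/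
theorem act_conj (M : Sp F V (o2 C) U) {x u w : G} (hx : x ∈ C) (hu : u ∈ U) (hw : w ∈ o2 C) :
    x * u * x⁻¹ * w * (x * u * x⁻¹)⁻¹ * w⁻¹ = x * M.l (M.br u * M.nu (x⁻¹ * w * x)) * x⁻¹ := by
  rw [← M.act u hu _ (norm_Q' h hx hw)]
  group

theorem nu_E (M : Sp F V (o2 C) U) {e : G} (he : e ∈ V ⊓ o2 C) : M.nu e = 0 := by
  obtain ⟨u, hu, h1⟩ := M.br_surj 1
  have h2 := M.act u hu e he.2
  rw [h1, one_mul, h.comm (M.UV hu) he.1, mul_inv_cancel_right, mul_inv_cancel] at h2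
  exact M.l_one _ h2.symm

/-- `W = E E^y` -/
theorem mem_W {y w : G} (hy : y ∈ C)
    (hw : w ∈ (V ⊓ o2 C) ⊔ MulAut.conj y • (V ⊓ o2 C)) (M : Sp F V (o2 C) U) :
    ∃ e ∈ V ⊓ o2 C, ∃ f ∈ MulAut.conj y • (V ⊓ o2 C), e * f = w := by
  have h1 : MulAut.conj y • (V ⊓ o2 C) ≤ normalizer ((V ⊓ o2 C : Subgroup G) : Set G) := by
    refine le_normalizer_of_comm fun a ha b hb => ?_
    rw [M.cent b hb a (conj_E_le h hy ha), mul_inv_cancel_right, mul_inv_cancel]
    exact one_mem _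
  have h3 : w ∈ (((V ⊓ o2 C) ⊔ MulAut.conj y • (V ⊓ o2 C) : Subgroup G) : Set G) := hw
  rw [Subgroup.coe_mul_of_right_le_normalizer_left _ _ h1] at h3
  obtain ⟨e, he, f, hf, rfl⟩ := h3
  exact ⟨e, he, f, hf, rfl⟩

namespace Fm

variable {y : G} (K : Fm M y)
include K

/-- `W = E E^y` -/
def W (_ : Fm M y) : Subgroup G := (V ⊓ o2 C) ⊔ MulAut.conj y • (V ⊓ o2 C)

/-- `D = E ∩ E^y` -/
def D (_ : Fm M y) : Subgroup G := (V ⊓ o2 C) ⊓ MulAut.conj y • (V ⊓ o2 C)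

theorem X_le_C : X U y ≤ C := sup_le (h.U_le_C M) (Choice.conj_le_of_mem (h.U_le_C M) K.yC)

theorem W_le_Q : K.W ≤ o2 C := sup_le inf_le_right (conj_E_le h K.yC)

omit h in
theorem E_le_W : V ⊓ o2 C ≤ K.W := le_sup_left

omit h in
theorem E'_le_W : MulAut.conj y • (V ⊓ o2 C) ≤ K.W := le_sup_right

/-- `X` centralises `D` -/
theorem cent_D {x d : G} (hx : x ∈ X U y) (hd : d ∈ K.D) : x * d = d * x :=
  cent_of_fr h.Vc x (sup_le_sup M.UV (conj_le_iff.2 M.UV) hx) d hd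

/-- `W` is abelian -/
theorem W_comm {a b : G} (ha : a ∈ K.W) (hb : b ∈ K.W) : a * b = b * a := by
  obtain ⟨e, he, f, hf, rfl⟩ := mem_W h K.yC ha M
  have hbQ := K.W_le_Q h hb
  have h1 := M.cent e he b hbQ
  have h2 := conj_cent h M K.yC hf hbQ
  rw [mul_assoc, ← h2, ← mul_assoc, ← h1, mul_assoc]

/-- `X` normalises `W` -/
theorem X_norm_W : X U y ≤ normalizer (K.W : Set G) := by
  have key : ∀ x ∈ C, MulAut.conj x • (V ⊓ o2 C) ≤ K.W → MulAut.conj x • U ≤ normalizer (K.W : Set G) := by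
    intro x hx hxW
    refine le_normalizer_of_comm fun a ha w hw => ?_
    obtain ⟨u, hu, rfl⟩ := mem_conj'.1 ha
    rw [act_conj h M hx hu (K.W_le_Q h hw)]
    exact hxW (Frame.conj_mem (l_E M _))
  refine sup_le ?_ (key y K.yC K.E'_le_W)
  have h1 := key 1 (one_mem C) (by rw [map_one, one_smul]; exact K.E_le_W)
  rwa [map_one, one_smul] at h1

theorem conj_W {x w : G} (hx : x ∈ X U y) (hw : w ∈ K.W) : x * w * x⁻¹ ∈ K.W :=
  norm_mem (K.X_norm_W h hx) hw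

theorem conj_W' {x w : G} (hx : x ∈ X U y) (hw : w ∈ K.W) : x⁻¹ * w * x ∈ K.W :=
  norm_mem' (K.X_norm_W h hx) hw

/-- the kernel of `ν` on `W` is `E` -/
theorem mem_E_of_nu {w : G} (hw : w ∈ K.W) (h0 : M.nu w = 0) : w ∈ V ⊓ o2 C := by
  obtain ⟨e, he, f, hf, rfl⟩ := mem_W h K.yC hw M
  rw [M.nu_mul e he.2 f (conj_E_le h K.yC hf), nu_E h M he, zero_add] at h0
  exact mul_mem he (K.inj f hf h0)

/-- `D ≤ E^x` for `x ∈ X` -/
theorem D_le {x : G} (hx : x ∈ X U y) : K.D ≤ MulAut.conj x • (V ⊓ o2 C) := by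
  intro d hd
  rw [mem_conj, mul_assoc, ← K.cent_D h hx hd, inv_mul_cancel_left]
  exact hd.1

/-- `[w, U^x] = L^x` for `w ∈ W - E^x` -/
theorem exists_u {x w : G} (hx : x ∈ X U y) (hw : w ∈ K.W) (hwE : w ∉ MulAut.conj x • (V ⊓ o2 C)) (c : F) :
    ∃ u ∈ U, x * u * x⁻¹ * w * (x * u * x⁻¹)⁻¹ * w⁻¹ = x * M.l c * x⁻¹ := by
  have h1 : M.nu (x⁻¹ * w * x) ≠ 0 := fun h0 => hwE (mem_conj.2 (K.mem_E_of_nu h (K.conj_W' h hx hw) h0))
  obtain ⟨u, hu, hu1⟩ := M.br_surj (c / M.nu (x⁻¹ * w * x))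
  refine ⟨u, hu, ?_⟩
  rw [act_conj h M (K.X_le_C h hx) hu (K.W_le_Q h hw), hu1, div_mul_cancel₀ _ h1]

/-- `E^x ≤ A` if `L^x ≤ A` and `D ≤ A` -/
theorem conj_le_of {x : G} (hx : x ∈ X U y) {A : Subgroup G} (hA : ∀ c, x * M.l c * x⁻¹ ∈ A) (hD : K.D ≤ A) :
    MulAut.conj x • (V ⊓ o2 C) ≤ A := by
  intro e he
  obtain ⟨a, ha, rfl⟩ := mem_conj'.1 he
  obtain ⟨c, hc⟩ := K.gen a ha
  have h1 : x * (M.l c * a⁻¹) * x⁻¹ ∈ A := by
    rw [K.cent_D h hx hc, mul_inv_cancel_right]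
    exact hD hc
  have h2 := mul_mem (inv_mem h1) (hA c)
  have e1 : (x * (M.l c * a⁻¹) * x⁻¹)⁻¹ * (x * M.l c * x⁻¹) = x * a * x⁻¹ := by group
  rwa [e1] at h2

/-- **SPREAD.** -/
theorem spread [Finite G] {x a : G} (hx : x ∈ X U y) (ha : a ∈ V ⊓ o2 C)
    (hax : a ∈ MulAut.conj x • (V ⊓ o2 C)) (haD : a ∉ K.D) : MulAut.conj x • (V ⊓ o2 C) = V ⊓ o2 C := by
  have : Fact (Nat.Prime 2) := ⟨Nat.prime_two⟩
  have hxC := K.X_le_C h hx
  have hTX : X U x ≤ X U y := sup_le le_sup_left (Choice.conj_le_of_mem le_sup_left hx)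
  -- `A = E ∩ E^x` is centralised by `T`
  have hAT : ∀ b ∈ V ⊓ o2 C, b ∈ MulAut.conj x • (V ⊓ o2 C) → ∀ t ∈ X U x, t * b = b * t := fun b hb hbx t ht =>
    cent_of_fr h.Vc t (sup_le_sup M.UV (conj_le_iff.2 M.UV) ht) b ⟨hb, hbx⟩
  by_cases hT : IsPGroup 2 (X U x)
  · by_contra hne
    have hcard : Nat.card (MulAut.conj x • (V ⊓ o2 C) : Subgroup G) = Nat.card (V ⊓ o2 C : Subgroup G) :=
      Choice.card_conj _ _
    have hn1 : ¬ V ⊓ o2 C ≤ MulAut.conj x • (V ⊓ o2 C) := fun h1 =>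
      hne (Subgroup.eq_of_le_of_card_ge h1 hcard.le).symm
    have hn2 : ¬ MulAut.conj x • (V ⊓ o2 C) ≤ V ⊓ o2 C := fun h1 =>
      hne (Subgroup.eq_of_le_of_card_ge h1 hcard.ge)
    have hTW : X U x ≤ normalizer (K.W : Set G) := hTX.trans (K.X_norm_W h)
    have hW2 : IsPGroup 2 K.W := (o2_isPGroup C).to_le (K.W_le_Q h)
    have hY2 : IsPGroup 2 (X U x ⊔ K.W : Subgroup G) := hT.to_sup_of_normal_right' hW2 hTW
    have hYW : X U x ⊔ K.W ≤ normalizer (K.W : Set G) := sup_le hTW le_normalizer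
    have hA' : X U x ⊔ K.W ≤ centralizer (((V ⊓ o2 C) ⊓ MulAut.conj x • (V ⊓ o2 C) : Subgroup G) : Set G) := by
      refine sup_le (fun t ht => mem_centralizer_iff.2 fun b hb => ?_)
        (fun w hw => mem_centralizer_iff.2 fun b hb => ?_)
      · exact (hAT b hb.1 hb.2 t ht).symm
      · exact K.W_comm h (K.E_le_W hb.1) hw
    obtain ⟨e0, he0, he0x⟩ := SetLike.not_le_iff_exists.1 hn1
    obtain ⟨n, hnW, hnA, hn⟩ := Cfsg.Agent.GTwoFour.Tools.exists_fixed_mod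
      (M := (V ⊓ o2 C) ⊓ MulAut.conj x • (V ⊓ o2 C)) hY2 (le_sup_right : K.W ≤ X U x ⊔ K.W)
      (fun t ht w hw => norm_mem (hYW ht) hw)
      (fun t ht b hb => by
        have h1 := mem_centralizer_iff.1 (hA' ht) b hb
        rw [← h1, mul_inv_cancel_right]
        exact hb) ⟨e0, K.E_le_W he0, fun h1 => he0x h1.2⟩
    by_cases hnE : n ∈ V ⊓ o2 C
    · have hnx : n ∉ MulAut.conj x • (V ⊓ o2 C) := fun h1 => hnA ⟨hnE, h1⟩
      refine hn2 ((K.conj_le_of h hx (A := (V ⊓ o2 C) ⊓ MulAut.conj x • (V ⊓ o2 C)) (fun c => ?_)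
        (le_inf inf_le_left (K.D_le h hx))).trans inf_le_left)
      obtain ⟨u, hu, h1⟩ := K.exists_u h hx hnW hnx c
      rw [← h1]
      exact hn _ (mem_sup_left (mem_sup_right (Frame.conj_mem hu)))
    · have h1x : (1 : G) ∈ X U y := one_mem _
      have e1 : MulAut.conj (1 : G) • (V ⊓ o2 C) = V ⊓ o2 C := by rw [map_one, one_smul]
      have h2 := K.conj_le_of h h1x (A := (V ⊓ o2 C) ⊓ MulAut.conj x • (V ⊓ o2 C)) (fun c => ?_)
        (le_inf inf_le_left (K.D_le h hx))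
      · rw [e1] at h2
        exact hn1 (h2.trans inf_le_right)
      · obtain ⟨u, hu, h1⟩ := K.exists_u h h1x hnW (by rw [e1]; exact hnE) c
        rw [← h1]
        refine hn _ (mem_sup_left (mem_sup_left ?_))
        rw [one_mul, inv_one, mul_one]
        exact hu
  · -- `T = X`
    exfalso
    have h1 : X U x = X U y := Subgroup.eq_of_le_of_card_ge hTX (by
      by_contra hlt
      exact hT (K.min x hxC (not_le.1 hlt)))
    have hy : y ∈ X U x := by rw [h1]; exact K.yX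
    have h2 := hAT a ha hax y hy
    refine haD ⟨ha, mem_conj.2 ?_⟩
    rw [mul_assoc, ← h2, inv_mul_cancel_left]
    exact ha

/-- an element of `L^y` is not in `E` -/
theorem eq_zero_of_mem {c : F} (hc : y * M.l c * y⁻¹ ∈ V ⊓ o2 C) : c = 0 := by
  apply K.tri
  have h1 : y * M.l c * y⁻¹ ∈ K.D := ⟨hc, Frame.conj_mem (l_E M c)⟩
  have h2 := K.cent_D h K.yX h1
  have h3 : M.l c = y * M.l c * y⁻¹ := by
    have h4 : y * (y * M.l c * y⁻¹) * y⁻¹ = y * M.l c * y⁻¹ := by rw [h2, mul_inv_cancel_right]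
    have h5 : y⁻¹ * (y * (y * M.l c * y⁻¹) * y⁻¹) * y = y⁻¹ * (y * M.l c * y⁻¹) * y := by rw [h4]
    have e1 : y⁻¹ * (y * (y * M.l c * y⁻¹) * y⁻¹) * y = y * M.l c * y⁻¹ := by group
    have e2 : y⁻¹ * (y * M.l c * y⁻¹) * y = M.l c := by group
    rw [e1, e2] at h5
    exact h5.symm
  rw [h3]
  exact Frame.conj_mem (l_E M c)

/-- **Step 4.**  For `a ≠ 0` there is `n ∈ X` with `n f n⁻¹ = l (a ν(f))` for `f ∈ L^y`. -/
theorem exists_n [Finite G] {a : F} (ha : a ≠ 0) :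
    ∃ n ∈ X U y, ∀ c, n * (y * M.l c * y⁻¹) * n⁻¹ = M.l (a * M.nu (y * M.l c * y⁻¹)) := by
  obtain ⟨v, hv, hva⟩ := M.br_surj a
  have hvX : v ∈ X U y := mem_sup_left hv
  -- `[v, f] = l (a ν f)`
  have hvf : ∀ w ∈ o2 C, v * w * v⁻¹ = M.l (a * M.nu w) * w := fun w hw => by
    rw [← hva, ← M.act v hv w hw, inv_mul_cancel_right]
  have hf : ∀ c, y * M.l c * y⁻¹ ∈ MulAut.conj y • (V ⊓ o2 C) := fun c => Frame.conj_mem (l_E M c)
  have hfW : ∀ c, y * M.l c * y⁻¹ ∈ K.W := fun c => K.E'_le_W (hf c)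
  have hfQ : ∀ c, y * M.l c * y⁻¹ ∈ o2 C := fun c => K.W_le_Q h (hfW c)
  have hlW : ∀ c, M.l c ∈ K.W := fun c => K.E_le_W (l_E M c)
  -- the elements `f₀`, `l₀`
  have hf0 : M.nu (y * M.l 1 * y⁻¹) ≠ 0 := fun h0 =>
    one_ne_zero (K.eq_zero_of_mem h (K.mem_E_of_nu h (hfW 1) h0))
  have hl0 : M.l (a * M.nu (y * M.l 1 * y⁻¹)) ∉ MulAut.conj y • (V ⊓ o2 C) := fun h1 =>
    mul_ne_zero ha hf0 (K.tri _ h1)
  obtain ⟨u, hu, hu1⟩ := K.exists_u h K.yX (hlW _) hl0 1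
  have hu' : y * u * y⁻¹ ∈ MulAut.conj y • U := Frame.conj_mem hu
  have huX : y * u * y⁻¹ ∈ X U y := mem_sup_right hu'
  generalize htdef : y * u * y⁻¹ = t at hu1 hu' huX
  set l₀ := M.l (a * M.nu (y * M.l 1 * y⁻¹)) with hl0def
  set f₀ := y * M.l 1 * y⁻¹ with hf0def
  have hul : t * l₀ * t⁻¹ = f₀ * l₀ := by rw [← hu1, inv_mul_cancel_right]
  have hx : t⁻¹ * v * y ∈ X U y := mul_mem (mul_mem (inv_mem huX) hvX) K.yX
  have hvf0 : v * f₀ * v⁻¹ = l₀ * f₀ := hvf f₀ (hfQ 1)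
  have hsp := K.spread h hx (a := l₀) (l_E M _) (by
    rw [mem_conj]
    have e1 : (t⁻¹ * v * y)⁻¹ * l₀ * (t⁻¹ * v * y) = y⁻¹ * (v⁻¹ * (t * l₀ * t⁻¹) * v) * y := by group
    rw [e1, hul, ← K.W_comm h (hlW _) (hfW 1), ← hvf0]
    have e2 : y⁻¹ * (v⁻¹ * (v * f₀ * v⁻¹) * v) * y = M.l 1 := by rw [hf0def]; group
    rw [e2]
    exact l_E M 1) (fun h1 => hl0 h1.2)
  -- `t (l f) t⁻¹`
  have hmain : ∀ c, t * M.l (a * M.nu (y * M.l c * y⁻¹)) * t⁻¹ =
      y * M.l c * y⁻¹ * M.l (a * M.nu (y * M.l c * y⁻¹)) := by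
    intro c
    generalize hfdef : y * M.l c * y⁻¹ = f
    have hfc := hf c
    have hfcW := hfW c
    have hfcQ := hfQ c
    rw [hfdef] at hfc hfcW hfcQ
    generalize hldef : M.l (a * M.nu f) = l
    have hlc : l ∈ V ⊓ o2 C := by rw [← hldef]; exact l_E M _
    have hlcW : l ∈ K.W := K.E_le_W hlc
    have hvfc : v * f * v⁻¹ = l * f := by rw [hvf f hfcQ, hldef]
    -- `t⁻¹ (l f) t ∈ E`
    have h1 : t⁻¹ * (l * f) * t ∈ V ⊓ o2 C := by
      rw [← hvfc, ← hsp, mem_conj, ← hfdef]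
      have e1 : (t⁻¹ * v * y)⁻¹ * (t⁻¹ * (v * (y * M.l c * y⁻¹) * v⁻¹) * t) * (t⁻¹ * v * y) = M.l c := by group
      rw [e1]
      exact l_E M c
    -- `t` centralises `f`
    have htf : t * f = f * t :=
      comm_of_le_centralizer (conj_le_centralizer h.Vc) (conj_le_iff.2 M.UV hu') (conj_le_iff.2 inf_le_left hfc)
    -- `t⁻¹ l t l⁻¹ ∈ L^y`
    obtain ⟨c', hc'⟩ : ∃ c', t⁻¹ * l * t * l⁻¹ = y * M.l c' * y⁻¹ := by
      have h2 := act_conj h M K.yC (inv_mem hu) (K.W_le_Q h hlcW)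
      refine ⟨M.br u⁻¹ * M.nu (y⁻¹ * l * y), ?_⟩
      rw [← h2, ← htdef]
      group
    have h3 : t⁻¹ * (l * f) * t = t⁻¹ * l * t * l⁻¹ * l * f := by
      have e1 : t⁻¹ * (l * f) * t = t⁻¹ * l * (f * t) := by group
      rw [e1, ← htf]
      group
    rw [h3, hc'] at h1
    have h4 : y * M.l c' * y⁻¹ * f ∈ V ⊓ o2 C := by
      have e1 : y * M.l c' * y⁻¹ * l * f = l * (y * M.l c' * y⁻¹ * f) := by
        rw [K.W_comm h (hfW c') hlcW, mul_assoc]
      rw [e1] at h1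
      exact (mul_mem_cancel_left hlc).1 h1
    have h5 : y * M.l c' * y⁻¹ * f = 1 := by
      have e1 : y * M.l c' * y⁻¹ * f = y * M.l (c' + c) * y⁻¹ := by
        rw [← hfdef, M.l_add]; group
      rw [e1] at h4 ⊢
      rw [K.eq_zero_of_mem h h4, l_zero, mul_one, mul_inv_cancel]
    -- so `t⁻¹ l t = f⁻¹ l`
    have h6 : t⁻¹ * l * t = f⁻¹ * l := by
      rw [← hc'] at h5
      have e1 : t⁻¹ * l * t = (t⁻¹ * l * t * l⁻¹ * f) * f⁻¹ * l := by group
      rw [e1, h5, one_mul]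
    have h7 : l = f⁻¹ * (t * l * t⁻¹) := by
      have e1 : t * (t⁻¹ * l * t) * t⁻¹ = l := by group
      rw [h6] at e1
      have e2 : t * (f⁻¹ * l) * t⁻¹ = (t * f⁻¹ * t⁻¹) * (t * l * t⁻¹) := by group
      have e3 : t * f⁻¹ * t⁻¹ = f⁻¹ := by
        rw [← conj_inv, htf, mul_inv_cancel_right]
      rw [e2, e3] at e1
      exact e1.symm
    conv_rhs => rw [h7]
    group
  refine ⟨v * t * v, mul_mem (mul_mem hvX huX) hvX, fun c => ?_⟩
  have h1 := hmain c
  generalize hfdef : y * M.l c * y⁻¹ = f at h1 ⊢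
  have hfc := hf c
  have hfcQ := hfQ c
  rw [hfdef] at hfc hfcQ
  generalize hldef : M.l (a * M.nu f) = l at h1 ⊢
  have hlc : l ∈ V ⊓ o2 C := by rw [← hldef]; exact l_E M _
  have hvfc : v * f * v⁻¹ = l * f := by rw [hvf f hfcQ, hldef]
  have htf : t * f = f * t :=
    comm_of_le_centralizer (conj_le_centralizer h.Vc) (conj_le_iff.2 M.UV hu') (conj_le_iff.2 inf_le_left hfc)
  have hff : f * f = 1 := by
    obtain ⟨b, hb, rfl⟩ := mem_conj'.1 hfc
    have := h.V2 b hb.1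
    rw [pow_two] at this
    have e1 : y * b * y⁻¹ * (y * b * y⁻¹) = y * (b * b) * y⁻¹ := by group
    rw [e1, this, mul_one, mul_inv_cancel]
  have hlf : l * f = f * l := K.W_comm h (K.E_le_W hlc) (K.E'_le_W hfc)
  have hvl : v * l = l * v := h.comm (M.UV hv) hlc.1
  calc v * t * v * f * (v * t * v)⁻¹ = v * (t * (v * f * v⁻¹) * t⁻¹) * v⁻¹ := by group
    _ = v * ((t * l * t⁻¹) * (t * f * t⁻¹)) * v⁻¹ := by rw [hvfc]; group
    _ = v * (f * l * f) * v⁻¹ := by rw [h1, htf, mul_inv_cancel_right]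
    _ = v * (l * (f * f)) * v⁻¹ := by rw [← hlf, mul_assoc l f f]
    _ = l := by rw [hff, mul_one, hvl, mul_inv_cancel_right]

/-- **Step 4, conclusion.** -/
theorem exists_rho [Finite G] [Finite F] {a : F} (ha : a ≠ 0) :
    ∃ n ∈ X U y, ∀ x, n * M.l x * n⁻¹ = M.l (a * x) := by
  obtain ⟨n1, hn1, h1⟩ := K.exists_n h (one_ne_zero (α := F))
  obtain ⟨n2, hn2, h2⟩ := K.exists_n h ha
  have hfQ : ∀ c, y * M.l c * y⁻¹ ∈ o2 C := fun c => K.W_le_Q h (K.E'_le_W (Frame.conj_mem (l_E M c)))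
  -- the additive map `μ`
  have hadd : ∀ c d, M.nu (y * M.l (c + d) * y⁻¹) = M.nu (y * M.l c * y⁻¹) + M.nu (y * M.l d * y⁻¹) := by
    intro c d
    rw [← M.nu_mul _ (hfQ c) _ (hfQ d), M.l_add]
    congr 1
    group
  let μ : F →+ F := AddMonoidHom.mk' (fun c => M.nu (y * M.l c * y⁻¹)) hadd
  have hinj : Function.Injective μ := by
    rw [injective_iff_map_eq_zero]
    intro c hc
    exact K.eq_zero_of_mem h (K.mem_E_of_nu h (K.E'_le_W (Frame.conj_mem (l_E M c))) hc)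
  have hsurj : Function.Surjective μ := Finite.surjective_of_injective hinj
  refine ⟨n2 * n1⁻¹, mul_mem hn2 (inv_mem hn1), fun x => ?_⟩
  obtain ⟨c, hc⟩ := hsurj x
  have hc' : M.nu (y * M.l c * y⁻¹) = x := hc
  have h3 := h1 c
  have h4 := h2 c
  rw [hc', one_mul] at h3
  rw [hc'] at h4
  rw [← h3, ← h4]
  group

end Fm

/-- **Existence of the frame.** -/
theorem exists_fm [Finite G] (M : Sp F V (o2 C) U) (hUQ : ¬ U ≤ o2 C)
    (hD : ∀ y ∈ C, y ∈ X U y → ¬ IsPGroup 2 (X U y) →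
      (∀ e ∈ V ⊓ o2 C, ∃ x, M.l x * e⁻¹ ∈ (V ⊓ o2 C) ⊓ MulAut.conj y • (V ⊓ o2 C)) →
      ∀ x, M.l x ∈ MulAut.conj y • (V ⊓ o2 C) → x = 0) : ∃ y, Fm M y := by
  have hUC := h.U_le_C M
  obtain ⟨g, hg, hgX, hg2, hmin⟩ := Choice.exists_g hUC hUQ
  have hXC : X U g ≤ C := sup_le hUC (Choice.conj_le_of_mem hUC hg)
  -- `v ∈ U`, not in `O₂(X)`
  obtain ⟨v, hv, hvo⟩ : ∃ v ∈ U, v ∉ o2 (X U g) := by
    by_contra hcon
    push Not at hcon
    apply hg2
    have h1 : U ≤ o2 (X U g) := hcon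
    have h2 : MulAut.conj g • U ≤ o2 (X U g) := by
      intro x hx
      obtain ⟨u, hu, rfl⟩ := mem_conj'.1 hx
      exact norm_mem (le_normalizer_o2 _ hgX) (h1 hu)
    exact (o2_isPGroup _).to_le (sup_le h1 h2)
  have hvX : zpowers v ≤ X U g := zpowers_le.2 (mem_sup_left hv)
  obtain ⟨y, hy, hyX, hy2, -⟩ := Choice.exists_g hvX fun h1 => hvo (h1 (mem_zpowers v))
  have hyC := hXC hy
  have hvU : zpowers v ≤ U := zpowers_le.2 hv
  have hXy : X (zpowers v) y ≤ X U y := sup_le_sup hvU (conj_le_iff.2 hvU)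
  have hle : X U y ≤ X U g := sup_le le_sup_left (Choice.conj_le_of_mem le_sup_left hy)
  have heq : X U y = X U g := by
    refine Subgroup.eq_of_le_of_card_ge hle ?_
    by_contra hlt
    exact hy2 ((hmin y hyC (not_le.1 hlt)).to_le hXy)
  have hvV := M.UV hv
  have hvQ : v ∉ o2 C := by
    intro hvQ
    apply hvo
    -- `⟨v⟩ ≤ O₂(C) ∩ X ≤ O₂(X)`
    have h1 : o2 C ⊓ X U g ≤ o2 (X U g) := by
      refine le_o2 inf_le_right ((o2_isPGroup C).to_le inf_le_left) ?_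
      intro x hx
      rw [mem_normalizer_iff]
      intro z
      have h2 := mem_normalizer_iff.1 (le_normalizer_o2 C (hXC hx)) z
      have h3 := mem_normalizer_iff.1 (le_normalizer hx : x ∈ normalizer ((X U g : Subgroup G) : Set G)) z
      exact and_congr h2 h3
    exact h1 ⟨hvQ, mem_sup_left hv⟩
  have gQ : MulAut.conj y • o2 C = o2 C := by
    have := le_normalizer_o2 C hyC
    ext x
    rw [mem_conj, mem_normalizer_iff.1 this]
    have e : y * (y⁻¹ * x * y) * y⁻¹ = x := by group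
    rw [e]
  have hVQ : V ≤ normalizer (o2 C : Set G) := h.VC.trans (le_normalizer_o2 C)
  have hvV1 : zpowers v ≤ V1 V (o2 C) v := le_sup_right
  have hyX1 : y ∈ X (V1 V (o2 C) v) y :=
    (sup_le_sup hvV1 (conj_le_iff.2 hvV1) : X (zpowers v) y ≤ X (V1 V (o2 C) v) y) hyX
  have hfr := fr_V1 h.Vc h.QV hVQ hvV gQ hyX1
  have hnear := near_of_fr h.Vc h.V2 h.QV hVQ hvV hvQ hfr
  have hgen : ∀ e ∈ V ⊓ o2 C, ∃ x, M.l x * e⁻¹ ∈ (V ⊓ o2 C) ⊓ MulAut.conj y • (V ⊓ o2 C) := by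
    intro e he
    obtain ⟨f, hf, h1⟩ := hnear.surj he
    refine ⟨M.br v * M.nu f, ?_⟩
    rw [← M.act v hv f (conj_E_le h hyC hf)]
    exact h1
  refine ⟨y, hyC, hXy hyX, fun x hx hlt => hmin x hx (heq ▸ hlt), fun f hf h0 => ?_, hgen,
    hD y hyC (hXy hyX) (fun h1 => hy2 (h1.to_le hXy)) hgen⟩
  have h1 := hnear.inj f hf (by
    rw [M.act v hv f (conj_E_le h hyC hf), h0, mul_zero, l_zero]
    exact one_mem _)
  exact h1.1

/-- **Steps 1-4 of (N6).** -/
theorem spread [Finite G] [Finite F] (M : Sp F V (o2 C) U) (hUQ : ¬ U ≤ o2 C)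
    (hD : ∀ y ∈ C, y ∈ X U y → ¬ IsPGroup 2 (X U y) →
      (∀ e ∈ V ⊓ o2 C, ∃ x, M.l x * e⁻¹ ∈ (V ⊓ o2 C) ⊓ MulAut.conj y • (V ⊓ o2 C)) →
      ∀ x, M.l x ∈ MulAut.conj y • (V ⊓ o2 C) → x = 0) :
    ∃ D ≤ V ⊓ o2 C, (∀ z ∈ V ⊓ o2 C, (∀ c ∈ C, c * z = z * c) → z ∈ D) ∧
      (∀ e ∈ V ⊓ o2 C, ∃ x, M.l x * e ∈ D) ∧ (∀ x, M.l x ∈ D → x = 0) ∧
      ∀ a : F, a ≠ 0 → ∃ ρ ∈ C, (∀ d ∈ D, ρ * d * ρ⁻¹ = d) ∧ ∀ x, ρ * M.l x * ρ⁻¹ = M.l (a * x) := by
  obtain ⟨y, K⟩ := exists_fm h M hUQ hD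
  refine ⟨K.D, inf_le_left, fun z hz hc => ⟨hz, mem_conj.2 ?_⟩, fun e he => ?_, fun x hx => K.tri x hx.2,
    fun a ha => ?_⟩
  · rw [mul_assoc, ← hc y K.yC, inv_mul_cancel_left]
    exact hz
  · obtain ⟨x, hx⟩ := K.gen e⁻¹ (inv_mem he)
    rw [inv_inv] at hx
    exact ⟨x, hx⟩
  · obtain ⟨n, hn, h1⟩ := K.exists_rho h ha
    refine ⟨n, K.X_le_C h hn, fun d hd => ?_, h1⟩
    rw [K.cent_D h hn hd, mul_inv_cancel_right]

end

end Cfsg.Agent.Omega.NO1.NSix

end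

-- merged: Cfsg.Agent.Mrg.Omega.NO1.NSix.LineQ
section

section


/-!
# (N6) of THEOREM WR (#15037, helper675), step 0: case (Q)

`M : NatK F S P V ⊥ k`, `V ∩ Q = {v | all second coordinates are 0}`.  Then `Q` fixes the summands and acts as
`(x, y) ↦ (x + ν_i(f) y, y)` on the `i`-th one; `V ∩ Q` is central in `Q`.
-/

set_option autoImplicit false
set_option linter.unusedSectionVars false

namespace Cfsg.Agent.Omega.NO1.NSix

open Subgroup Cfsg Cfsg.Agent.ZN Cfsg.Agent.Omega.FFThm Cfsg.Agent.Omega.Half Cfsg.Agent.Omega.MinPar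
open Cfsg.Agent.Omega.Half.NatA
open Cfsg.Agent.Omega.NoFF.LinesPlug (CC)
open Cfsg.Agent.MinSimple.VModule (o2_isPGroup)
open Cfsg.Agent.Omega.NOne.Frame (norm_mem norm_mem' comm_mem_inf)
open scoped Pointwise

universe u

variable {G : Type u} [Group G] [Finite G] {S : Sylow 2 G} {P : Subgroup G}
variable {F : Type} [Field F] [Finite F] [CharP F 2] {k : ℕ}

/-- Case (Q). -/
structure CaseQ (M : NatK F (S : Subgroup G) P (zl (S : Subgroup G) P) ⊥ k) : Prop where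
  cfg : Cfg S P
  hE : ∀ v ∈ zl (S : Subgroup G) P, v ∈ o2 (CC (S : Subgroup G)) ↔ ∀ i, M.e v i 1 = 0

namespace CaseQ

variable {M : NatK F (S : Subgroup G) P (zl (S : Subgroup G) P) ⊥ k} (h : CaseQ M)
include h

theorem amb : Amb (S : Subgroup G) P (zl (S : Subgroup G) P) := amb_of_loc h.cfg.ctx.char2 S h.cfg.loc

theorem am : Am (CC (S : Subgroup G)) (zl (S : Subgroup G) P) :=
  ⟨h.cfg.V_le_CC, h.cfg.V_comm, h.cfg.V_sq, h.cfg.Q_norm_V⟩

theorem Q_le_P {f : G} (hf : f ∈ o2 (CC (S : Subgroup G))) : f ∈ P := h.cfg.S_le (h.cfg.Q_le_S hf)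

theorem comm_mem {f v : G} (hf : f ∈ o2 (CC (S : Subgroup G))) (hv : v ∈ zl (S : Subgroup G) P) :
    f * v * f⁻¹ * v⁻¹ ∈ zl (S : Subgroup G) P ⊓ o2 (CC (S : Subgroup G)) := by
  have := comm_mem_inf h.cfg.Q_norm_V (h.cfg.V_le_CC.trans (le_normalizer_o2 _)) hf hv
  rwa [inf_comm] at this

theorem snd {f v : G} (hf : f ∈ o2 (CC (S : Subgroup G))) (hv : v ∈ zl (S : Subgroup G) P) (i : Fin k) :
    M.e (f * v * f⁻¹) i 1 = M.e v i 1 := by
  have h1 := h.comm_mem hf hv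
  have h2 := (h.hE _ h1.1).1 h1.2 i
  rw [M.mul _ (h.amb.conj_mem (h.Q_le_P hf) hv) _ (inv_mem hv), e_inv M hv, Pi.add_apply, Pi.neg_apply,
    Pi.add_apply, Pi.neg_apply, add_neg_eq_zero] at h2
  exact h2

/-- `Q` fixes the summands -/
theorem mv {f : G} (hf : f ∈ o2 (CC (S : Subgroup G))) : Mv M f 1 := by
  obtain ⟨σ, hσ⟩ := M.perm f (h.Q_le_P hf)
  have h1 : σ = 1 := by
    ext1 i
    by_contra hne
    have hne' : σ i ≠ i := hne
    -- the vector at `σ i`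
    have h2 := h.snd hf (em_mem M (σ i) ![0, 1]) (σ i)
    have h3 := (hσ _ (em_mem M (σ i) ![0, 1]) i).2 (e_em_ne M hne'.symm _)
    rw [h3, e_em_self] at h2
    exact zero_ne_one h2
  rw [← h1]
  exact hσ

theorem e_conj {f v : G} (hf : f ∈ o2 (CC (S : Subgroup G))) (hv : v ∈ zl (S : Subgroup G) P) (i : Fin k) :
    M.e (f * v * f⁻¹) i = ph M f i i (M.e v i) :=
  NSix.e_conj h.amb (h.Q_le_P hf) (h.mv hf) hv i

theorem ph_snd {f : G} (hf : f ∈ o2 (CC (S : Subgroup G))) (i : Fin k) (x : Fin 2 → F) :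
    ph M f i i x 1 = x 1 := by
  rw [ph, h.snd hf (em_mem M i x), e_em_self]

theorem ph_smul {f : G} (hf : f ∈ o2 (CC (S : Subgroup G))) (i : Fin k) (c : F) (x : Fin 2 → F) :
    ph M f i i (c • x) = c • ph M f i i x := by
  obtain ⟨τ, hτ⟩ := exists_semi h.amb (h.Q_le_P hf) (h.mv hf) i
  have hτ' : ∀ (c : F) x, ph M f i i (c • x) = τ c • ph M f i i x := hτ
  have h1 : ∀ c, τ c = c := by
    intro c
    have h2 := congrFun (hτ' c ![0, 1]) 1
    rw [h.ph_snd hf, Pi.smul_apply, Pi.smul_apply, h.ph_snd hf] at h2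
    simpa using h2.symm
  rw [hτ', h1]

/-- `f` on the line -/
theorem ph_line {f : G} (hf : f ∈ o2 (CC (S : Subgroup G))) (i : Fin k) : ph M f i i ![1, 0] = ![1, 0] := by
  have hz : ph M f i i ![1, 0] 1 = 0 := by rw [h.ph_snd hf]; rfl
  obtain ⟨a, ha⟩ : ∃ a, ph M f i i ![1, 0] = ![a, 0] := by
    refine ⟨ph M f i i ![1, 0] 0, ?_⟩
    ext j
    fin_cases j
    · rfl
    · exact hz
  have h1 : ∀ c : F, f * em M i ![c, 0] * f⁻¹ = em M i ![a * c, 0] := by
    intro c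
    apply inj M (h.amb.conj_mem (h.Q_le_P hf) (em_mem M i _)) (em_mem M i _)
    funext j
    by_cases hj : j = i
    · rw [hj, h.e_conj hf (em_mem M i _), e_em_self, e_em_self]
      have e1 : (![c, 0] : Fin 2 → F) = c • ![1, 0] := by simp
      rw [e1, h.ph_smul hf, ha]
      simp [mul_comm]
    · rw [e_em_ne M hj]
      exact (h.mv hf _ (em_mem M i _) j).2 (e_em_ne M hj _)
  have h2 : ∀ m : ℕ, f ^ m * em M i ![1, 0] * (f ^ m)⁻¹ = em M i ![a ^ m, 0] := by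
    intro m
    induction m with
    | zero => simp
    | succ m ih =>
      have e1 : f ^ (m + 1) * em M i ![1, 0] * (f ^ (m + 1))⁻¹ =
          f * (f ^ m * em M i ![1, 0] * (f ^ m)⁻¹) * f⁻¹ := by rw [pow_succ']; group
      rw [e1, ih, h1, pow_succ']
  obtain ⟨n, hn⟩ := (o2_isPGroup (CC (S : Subgroup G))) ⟨f, hf⟩
  have hn' : f ^ 2 ^ n = 1 := congrArg Subtype.val hn
  have h3 := h2 (2 ^ n)
  rw [hn', one_mul, inv_one, mul_one] at h3
  have h4 := congrArg (fun v => M.e v i 0) h3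
  simp only [e_em_self] at h4
  have h5 : a ^ 2 ^ n = 1 := by simpa using h4.symm
  have h6 : (a - 1) ^ 2 ^ n = 0 := by
    have : Fact (Nat.Prime 2) := ⟨Nat.prime_two⟩
    rw [sub_pow_char_pow, h5, one_pow, sub_self]
  have h7 : a = 1 := sub_eq_zero.1 (eq_zero_of_pow_eq_zero h6)
  rw [ha, h7]

/-- the coordinate `ν_i` -/
noncomputable def nu (M : NatK F (S : Subgroup G) P (zl (S : Subgroup G) P) ⊥ k) (i : Fin k) (f : G) : F :=
  ph M f i i ![0, 1] 0

/-- **the action of `Q` on `V`** -/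
theorem act {f v : G} (hf : f ∈ o2 (CC (S : Subgroup G))) (hv : v ∈ zl (S : Subgroup G) P) (i : Fin k) :
    M.e (f * v * f⁻¹) i = ![M.e v i 0 + nu M i f * M.e v i 1, M.e v i 1] := by
  rw [h.e_conj hf hv]
  have e1 : M.e v i = M.e v i 0 • ![1, 0] + M.e v i 1 • ![0, 1] := by
    ext j
    fin_cases j <;> simp
  have e2 : ph M f i i ![0, 1] = ![nu M i f, 1] := by
    ext j
    fin_cases j
    · rfl
    · exact h.ph_snd hf i _
  conv_lhs => rw [e1]
  rw [ph_add h.amb (h.Q_le_P hf), h.ph_smul hf, h.ph_smul hf, h.ph_line hf, e2]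
  ext j
  fin_cases j
  · simp [mul_comm]
  · simp

omit h in
theorem vec_eq {x : Fin 2 → F} (hx : x 1 = 0) : x = ![x 0, 0] := by
  ext j
  fin_cases j
  · rfl
  · exact hx

theorem nu_mul {w f : G} (hw : w ∈ o2 (CC (S : Subgroup G))) (hf : f ∈ o2 (CC (S : Subgroup G))) (i : Fin k) :
    nu M i (w * f) = nu M i w + nu M i f := by
  have hv := em_mem M i ![0, 1]
  have e1 : w * f * em M i ![0, 1] * (w * f)⁻¹ = w * (f * em M i ![0, 1] * f⁻¹) * w⁻¹ := by group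
  have h1 := h.act hw (h.amb.conj_mem (h.Q_le_P hf) hv) i
  rw [← e1, h.act hf hv i, e_em_self] at h1
  have h2 := congrFun h1 0
  simp only [Matrix.cons_val_zero, Matrix.cons_val_one, mul_one, zero_add] at h2
  have h3 : nu M i (w * f) = M.e (w * f * em M i ![0, 1] * (w * f)⁻¹) i 0 := rfl
  rw [h3, h2, add_comm]

/-- `V ∩ Q ≤ Z(Q)` -/
theorem cent {e w : G} (he : e ∈ zl (S : Subgroup G) P ⊓ o2 (CC (S : Subgroup G)))
    (hw : w ∈ o2 (CC (S : Subgroup G))) : w * e = e * w := by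
  have h0 := (h.hE e he.1).1 he.2
  have h1 : w * e * w⁻¹ = e := by
    apply inj M (h.amb.conj_mem (h.Q_le_P hw) he.1) he.1
    funext i
    rw [h.act hw he.1 i, h0 i, mul_zero, add_zero]
    exact (vec_eq (h0 i)).symm
  calc w * e = w * e * w⁻¹ * w := by group
    _ = e * w := by rw [h1]

theorem em_Q (i : Fin k) (x : F) : em M i ![x, 0] ∈ o2 (CC (S : Subgroup G)) := by
  refine (h.hE _ (em_mem M i _)).2 fun j => ?_
  by_cases hj : j = i
  · rw [hj, e_em_self]; rfl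
  · rw [e_em_ne M hj]; rfl

/-- the datum of `Spread.lean` -/
noncomputable def sp (i : Fin k) :
    Sp F (zl (S : Subgroup G) P) (o2 (CC (S : Subgroup G))) (fac M {i}) where
  l x := em M i ![x, 0]
  br v := M.e v i 1
  nu := nu M i
  UV := fac_le M _
  l_add x y := by
    rw [← em_add]
    congr 1
    ext j
    fin_cases j <;> simp
  l_one x hx := by
    have h1 := congrArg (fun v => M.e v i 0) hx
    simp only [e_em_self, e_one] at h1
    simpa using h1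
  l_U x := em_fac M i _
  l_Q x := h.em_Q i x
  br_surj a := ⟨em M i ![0, a], em_fac M i _, by rw [e_em_self]; rfl⟩
  nu_mul w hw f hf := h.nu_mul hw hf i
  act u hu w hw := by
    have huV := hu.1
    have h1 := h.amb.conj_mem (h.Q_le_P hw) (inv_mem huV)
    have e1 : u * w * u⁻¹ * w⁻¹ = u * (w * u⁻¹ * w⁻¹) := by group
    rw [e1]
    apply inj M (mul_mem huV h1) (em_mem M i _)
    rw [M.mul _ huV _ h1]
    funext j
    rw [Pi.add_apply]
    by_cases hj : j = i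
    · rw [hj, e_em_self, h.act hw (inv_mem huV), e_inv M huV]
      ext m
      fin_cases m
      · simp [CharTwo.neg_eq, mul_comm]
        rw [← add_assoc, CharTwo.add_self_eq_zero, zero_add]
      · simp
    · rw [e_em_ne M hj, hu.2 j hj, zero_add, h.act hw (inv_mem huV), e_inv M huV]
      ext m
      fin_cases m
      · simp [hu.2 j hj]
      · simp [hu.2 j hj]
  cent e he w hw := h.cent he hw

end CaseQ

end Cfsg.Agent.Omega.NO1.NSix

end

section


/-!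
# (N6) of THEOREM WR (#15037, helper675), step 2: `L_i ∩ D = 1`
-/

set_option autoImplicit false
set_option linter.unusedSectionVars false

namespace Cfsg.Agent.Omega.NO1.NSix

open Subgroup Cfsg Cfsg.Agent.ZN Cfsg.Agent.Omega.FFThm Cfsg.Agent.Omega.Half Cfsg.Agent.Omega.MinPar
open Cfsg.Agent.Omega.Half.NatA
open Cfsg.Agent.Omega.NoFF.LinesPlug (CC)
open Cfsg.Agent.Omega.NOne.Frame (norm_mem mem_conj' X)
open Cfsg.Agent.MinSimple.VModule (o2_isPGroup)
open scoped Pointwise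

universe u

variable {G : Type u} [Group G] [Finite G] {S : Sylow 2 G} {P : Subgroup G}
variable {F : Type} [Field F] [Finite F] [CharP F 2] {k : ℕ}

theorem em_line_add (M : NatK F (S : Subgroup G) P (zl (S : Subgroup G) P) ⊥ k) (i : Fin k) (x y : F) :
    em M i ![x + y, 0] = em M i ![x, 0] * em M i ![y, 0] := by
  rw [← em_add]
  congr 1
  ext j
  fin_cases j <;> simp

namespace CaseQ

variable {M : NatK F (S : Subgroup G) P (zl (S : Subgroup G) P) ⊥ k} (h : CaseQ M)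
include h

/-- **Step 2.** -/
theorem line_tri (hk : 2 ≤ k) (i : Fin k) {y : G} (hyX : y ∈ X (fac M {i}) y)
    (hX : ¬ IsPGroup 2 (X (fac M {i}) y))
    (hgen : ∀ e ∈ zl (S : Subgroup G) P ⊓ o2 (CC (S : Subgroup G)), ∃ x : F, em M i ![x, 0] * e⁻¹ ∈
      (zl (S : Subgroup G) P ⊓ o2 (CC (S : Subgroup G))) ⊓
        MulAut.conj y • (zl (S : Subgroup G) P ⊓ o2 (CC (S : Subgroup G)))) (x : F)
    (hx : em M i ![x, 0] ∈ MulAut.conj y • (zl (S : Subgroup G) P ⊓ o2 (CC (S : Subgroup G)))) : x = 0 := by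
  classical
  by_contra hx0
  set E := zl (S : Subgroup G) P ⊓ o2 (CC (S : Subgroup G)) with hEdef
  set D := E ⊓ MulAut.conj y • E with hDdef
  have hemE : ∀ (j : Fin k) (z : F), em M j ![z, 0] ∈ E := fun j z => ⟨em_mem M j _, h.em_Q j z⟩
  have hxD : em M i ![x, 0] ∈ D := ⟨hemE i x, hx⟩
  have hDV : D ≤ zl (S : Subgroup G) P := inf_le_left.trans inf_le_left
  -- every line meets `D`
  have hz : ∀ j : Fin k, ∃ z : F, z ≠ 0 ∧ em M j ![z, 0] ∈ D := by
    intro j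
    by_contra hno
    push Not at hno
    have hex : ∀ z : F, ∃ ξ : F, em M i ![ξ, 0] * (em M j ![z, 0])⁻¹ ∈ D := fun z => hgen _ (hemE j z)
    choose ξ hξ using hex
    let f : F × Bool → F := fun p => ξ p.1 + if p.2 then x else 0
    have hb : ∀ b : Bool, em M i ![if b then x else 0, 0] ∈ D := by
      intro b
      cases b
      · have e1 : (![if false = true then x else 0, 0] : Fin 2 → F) = 0 := by
          ext m
          fin_cases m <;> simp
        rw [e1, em_zero]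
        exact one_mem D
      · exact hxD
    have hinj : Function.Injective f := by
      rintro ⟨z, b⟩ ⟨z', b'⟩ heq
      have h1 : ξ z + (if b then x else 0) = ξ z' + (if b' then x else 0) := heq
      have h2 : em M i ![ξ z, 0] * em M i ![if b then x else 0, 0] =
          em M i ![ξ z', 0] * em M i ![if b' then x else 0, 0] := by
        rw [← em_line_add, ← em_line_add, h1]
      have h3 : em M j ![z, 0] * (em M j ![z', 0])⁻¹ ∈ D := by
        have e1 : em M j ![z, 0] * (em M j ![z', 0])⁻¹ =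
            (em M i ![ξ z, 0] * (em M j ![z, 0])⁻¹)⁻¹ * (em M i ![ξ z, 0] * (em M i ![ξ z', 0])⁻¹) *
              (em M i ![ξ z', 0] * (em M j ![z', 0])⁻¹) := by group
        rw [e1]
        refine mul_mem (mul_mem (inv_mem (hξ z)) ?_) (hξ z')
        have h4 : em M i ![ξ z, 0] = em M i ![ξ z', 0] * em M i ![if b' then x else 0, 0] *
            (em M i ![if b then x else 0, 0])⁻¹ := by rw [← h2]; group
        have hc : em M i ![ξ z', 0] * (em M i ![if b' then x else 0, 0] * (em M i ![if b then x else 0, 0])⁻¹) =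
            em M i ![if b' then x else 0, 0] * (em M i ![if b then x else 0, 0])⁻¹ * em M i ![ξ z', 0] :=
          h.amb.comm _ (em_mem M i _) _ (mul_mem (em_mem M i _) (inv_mem (em_mem M i _)))
        rw [h4, mul_assoc (em M i ![ξ z', 0]), hc, mul_inv_cancel_right]
        exact mul_mem (hb b') (inv_mem (hb b))
      have h5 : z = z' := by
        by_contra hne
        refine hno (z - z') (sub_ne_zero.2 hne) ?_
        have e1 : em M j ![z - z', 0] = em M j ![z, 0] * (em M j ![z', 0])⁻¹ := by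
          rw [eq_mul_inv_iff_mul_eq, ← em_line_add, sub_add_cancel]
        rwa [e1]
      subst h5
      have h6 := add_left_cancel h1
      have h7 : b = b' := by
        cases b <;> cases b'
        · rfl
        · exact absurd h6.symm hx0
        · exact absurd h6 hx0
        · rfl
      rw [h7]
    have hle := Nat.card_le_card_of_injective f hinj
    rw [Nat.card_prod] at hle
    have h2 : Nat.card Bool = 2 := by simp
    rw [h2] at hle
    have h3 : 0 < Nat.card F := Nat.card_pos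
    omega
  choose z hz0 hzD using hz
  obtain ⟨B₀, hB₀, hi⟩ := exists_blk S M h.amb hk i
  have hB := hB₀.compl
  obtain ⟨w, hw, hwe⟩ := M.surj fun j => if j ∈ B₀ᶜ then ![z j, 0] else 0
  have hwB : w ∈ fac M B₀ᶜ := ⟨hw, fun j hj => by rw [hwe]; exact if_neg hj⟩
  have hfull : ∀ j ∈ B₀ᶜ, M.e w j ≠ 0 := by
    intro j hj h0
    rw [hwe] at h0
    simp only [if_pos hj] at h0
    exact hz0 j (congrFun h0 0)
  have hwD : w ∈ D := by
    refine mem_of_em M hw fun j => ?_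
    rw [hwe]
    by_cases hj : j ∈ B₀ᶜ
    · simp only [if_pos hj]
      exact hzD j
    · simp only [if_neg hj]
      rw [em_zero]
      exact one_mem D
  have happ := (app_nat h.cfg.ctx.char2 S h.amb hB hwB hfull).1
  rw [compl_compl] at happ
  have hU : fac M {i} ≤ fac M B₀ := fun v hv => ⟨hv.1, fun j hj => hv.2 j fun h1 => hj (by rw [h1]; exact hi)⟩
  have hXC : X (fac M {i}) y ≤ centralizer ({w} : Set G) := by
    intro t ht
    rw [mem_centralizer_singleton_iff]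
    exact NOne.NearFF.cent_of_fr (Q := o2 (CC (S : Subgroup G))) h.cfg.V_comm t
      (sup_le_sup (fac_le M _) (NoFF.Basic.conj_le_iff.2 (fac_le M _)) ht) w hwD
  apply hX
  refine (o2_isPGroup (centralizer ({w} : Set G))).to_le (sup_le (hU.trans happ) ?_)
  intro t ht
  obtain ⟨a, ha, rfl⟩ := mem_conj'.1 ht
  exact norm_mem (MinSimple.VModule.le_normalizer_o2 _ (hXC hyX)) (happ (hU ha))

/-- **Steps 1-4 of (N6)** for the `i`-th summand. -/
theorem exists_D (hk : 2 ≤ k) (i : Fin k) :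
    ∃ D ≤ zl (S : Subgroup G) P ⊓ o2 (CC (S : Subgroup G)),
      (∀ z ∈ zl (S : Subgroup G) P ⊓ o2 (CC (S : Subgroup G)), (∀ c ∈ CC (S : Subgroup G), c * z = z * c) → z ∈ D) ∧
      (∀ e ∈ zl (S : Subgroup G) P ⊓ o2 (CC (S : Subgroup G)), ∃ x : F, em M i ![x, 0] * e ∈ D) ∧
      (∀ x : F, em M i ![x, 0] ∈ D → x = 0) ∧
      ∀ a : F, a ≠ 0 → ∃ ρ ∈ CC (S : Subgroup G), (∀ d ∈ D, ρ * d * ρ⁻¹ = d) ∧
        ∀ x : F, ρ * em M i ![x, 0] * ρ⁻¹ = em M i ![a * x, 0] := by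
  refine spread h.am (h.sp i) (fun hle => ?_) fun y _ hyX hX hgen x hx => h.line_tri hk i hyX hX hgen x hx
  have h1 := (h.hE _ (em_mem M i ![0, 1])).1 (hle (em_fac M i _)) i
  rw [e_em_self] at h1
  exact one_ne_zero h1

end CaseQ

end Cfsg.Agent.Omega.NO1.NSix

end

section


/-!
# A 2-group `B / K` of automizers is conjugate into a Sylow group (project OMEGA, helper675)

`K ≤ B ≤ N`, `K` normal in `N`, `b² ∈ K` for `b ∈ B`, `S ≤ N` a Sylow 2-subgroup of `G`: there is `n ∈ N` with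
`n b n⁻¹ ∈ S K` for all `b ∈ B`.
-/

set_option autoImplicit false

namespace Cfsg.Agent.Omega.NO1.NSix

open Subgroup
open scoped Pointwise

/-- A Sylow subgroup covers a quotient of `2`-power exponent. -/
theorem sylow_cover {B : Type*} [Group B] [Finite B] (R : Sylow 2 B) (K : Subgroup B) [K.Normal]
    (hsq : ∀ b : B, b * b ∈ K) (b : B) : ∃ r ∈ R, r⁻¹ * b ∈ K := by
  have : Fact (Nat.Prime 2) := ⟨Nat.prime_two⟩
  have hq : IsPGroup 2 (B ⧸ K) := by
    intro x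
    obtain ⟨b, rfl⟩ := QuotientGroup.mk'_surjective K x
    refine ⟨1, ?_⟩
    rw [pow_one, pow_two, ← map_mul]
    exact (QuotientGroup.eq_one_iff _).2 (hsq b)
  let R' : Sylow 2 (B ⧸ K) := R.mapSurjective (QuotientGroup.mk'_surjective K)
  have hR' : (R' : Subgroup (B ⧸ K)) = ⊤ := by
    have h1 : IsPGroup 2 (⊤ : Subgroup (B ⧸ K)) := hq.to_subgroup ⊤
    exact (R'.is_maximal' h1 le_top).symm
  have h2 : QuotientGroup.mk' K b ∈ (R' : Subgroup (B ⧸ K)) := by rw [hR']; trivial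
  obtain ⟨r, hr, hrb⟩ := h2
  refine ⟨r, hr, ?_⟩
  rw [← QuotientGroup.eq]
  exact hrb

theorem exists_conj_mem {G : Type*} [Group G] [Finite G] (S : Sylow 2 G) {N K B : Subgroup G}
    (hSN : (S : Subgroup G) ≤ N) (hKN : N ≤ normalizer (K : Set G)) (hBN : B ≤ N)
    (hsq : ∀ b ∈ B, b * b ∈ K) :
    ∃ n ∈ N, ∀ b ∈ B, ∃ s ∈ S, ∃ κ ∈ K, n * b * n⁻¹ = s * κ := by
  have : Fact (Nat.Prime 2) := ⟨Nat.prime_two⟩
  obtain ⟨R⟩ : Nonempty (Sylow 2 B) := inferInstance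
  have hKB : (K.subgroupOf B).Normal := by
    constructor
    rintro ⟨κ, hκ⟩ h1 ⟨b, hb⟩
    rw [mem_subgroupOf] at h1 ⊢
    exact (mem_normalizer_iff.1 (hKN (hBN hb)) κ).1 h1
  -- conjugate `R` into `S` inside `N`
  let Rn : Subgroup N := ((R : Subgroup B).map B.subtype).subgroupOf N
  have hRn : IsPGroup 2 Rn := by
    have h1 : IsPGroup 2 ((R : Subgroup B).map B.subtype) := R.isPGroup'.map _
    exact h1.comap_of_injective N.subtype N.subtype_injective
  obtain ⟨R₁, hR₁⟩ := hRn.exists_le_sylow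
  obtain ⟨n, hn⟩ := MulAction.exists_smul_eq N R₁ (S.subtype hSN)
  refine ⟨n, n.2, fun b hb => ?_⟩
  obtain ⟨r, hr, hrb⟩ := sylow_cover R (K.subgroupOf B) (fun b => by
    rw [mem_subgroupOf]; exact hsq b b.2) ⟨b, hb⟩
  rw [mem_subgroupOf] at hrb
  have hr1 : (⟨(r : G), hBN r.2⟩ : N) ∈ Rn := ⟨r, hr, rfl⟩
  have hr2 : n * ⟨(r : G), hBN r.2⟩ * n⁻¹ ∈ n • R₁ := by
    have : n * ⟨(r : G), hBN r.2⟩ * n⁻¹ ∈ MulAut.conj n • (R₁ : Subgroup N) :=
      Subgroup.smul_mem_pointwise_smul _ _ _ (hR₁ hr1)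
    exact this
  rw [hn] at hr2
  have hr3 : (n : G) * r * (n : G)⁻¹ ∈ (S : Subgroup G) := hr2
  refine ⟨_, hr3, n * ((r : G)⁻¹ * b) * (n : G)⁻¹, ?_, by group⟩
  exact (mem_normalizer_iff.1 (hKN n.2) _).1 hrb

end Cfsg.Agent.Omega.NO1.NSix

end

section


/-!
# Semilinear monomial involutions with the same large fixed space are equal

Project OMEGA, THEOREM WR (N6), step 6 (bb OMEGA #15037).
-/

set_option autoImplicit false

namespace Cfsg.Agent.Omega.NO1.NSix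

/-- `s` is additive and monomial: it sends the `i`-th axis to the `σ i`-th by a semilinear map. -/
structure Mono {F : Type} [Field F] {k : ℕ} (s : (Fin k → F) → Fin k → F) : Prop where
  add : ∀ x y, s (x + y) = s x + s y
  mono : ∃ σ : Equiv.Perm (Fin k), ∀ i, ∃ (a : F) (τ : F ≃+* F), a ≠ 0 ∧ ∀ x, s x (σ i) = a * τ (x i)

variable {F : Type} [Field F] {k : ℕ}

/-- an additive involution in characteristic 2 has a nonzero fixed point -/
theorem exists_fix [CharP F 2] {f : F → F} (hadd : ∀ x y, f (x + y) = f x + f y) (h2 : ∀ t, f (f t) = t) :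
    ∃ t, t ≠ 0 ∧ f t = t := by
  by_cases h : f 1 = 1
  · exact ⟨1, one_ne_zero, h⟩
  · refine ⟨1 + f 1, ?_, ?_⟩
    · intro h0
      apply h
      have h1 : (1 : F) + 1 = 0 := CharTwo.add_self_eq_zero 1
      linear_combination h0 - h1
    · rw [hadd, h2, add_comm]

/-- an involutory automorphism of a field is determined by its fixed points -/
theorem aut_eq {τ τ' : F ≃+* F} (h2 : ∀ y, τ (τ y) = y) (hfix : ∀ y, τ y = y ↔ τ' y = y) (y : F) :
    τ' y = τ y := by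
  have h1 : τ' (y + τ y) = y + τ y := by
    rw [← hfix, map_add, h2, add_comm]
  have h3 : τ' (y * τ y) = y * τ y := by
    rw [← hfix, map_mul, h2, mul_comm]
  rw [map_add] at h1
  rw [map_mul] at h3
  have h4 : (τ' y - y) * (τ' y - τ y) = 0 := by
    linear_combination τ' y * h1 - h3
  rcases mul_eq_zero.mp h4 with h5 | h5
  · have h6 := sub_eq_zero.mp h5
    have h7 := (hfix y).mpr h6
    rw [h6, h7]
  · exact sub_eq_zero.mp h5

/-- the case of an axis moved by `s` -/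
theorem same_of_moved [Finite F] [CharP F 2] {s s' : (Fin k → F) → Fin k → F}
    (h : Mono s) (h' : Mono s') (h2 : ∀ x, s (s x) = x) (h2' : ∀ x, s' (s' x) = x)
    (hc : ∀ x, s x = x ↔ s' x = x)
    (hi : Nat.card F ^ k ≤ Nat.card F * Nat.card {x : Fin k → F // s x = x})
    {σ : Equiv.Perm (Fin k)} (hσ : ∀ i, ∃ (a : F) (τ : F ≃+* F), a ≠ 0 ∧ ∀ x, s x (σ i) = a * τ (x i))
    {j : Fin k} (hj : σ j ≠ j) : s = s' := by
  classical
  obtain ⟨σ', hσ'⟩ := h'.mono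
  choose a τ ha hs using hσ
  choose a' τ' ha' hs' using hσ'
  have hone : ∀ i m : Fin k, ∀ t : F, i ≠ m → (Pi.single i t : Fin k → F) m = 0 := fun i m t him => by
    rw [Pi.single_apply, if_neg (Ne.symm him)]
  -- the values on the axes
  have hval : ∀ i t, s (Pi.single i t) = Pi.single (σ i) (a i * τ i t) := by
    intro i t
    funext m
    obtain ⟨l, rfl⟩ := σ.surjective m
    rw [hs]
    by_cases hl : l = i
    · subst hl
      rw [Pi.single_eq_same, Pi.single_eq_same]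
    · rw [hone i l t (Ne.symm hl), map_zero, mul_zero, hone _ _ _ (fun e => hl (σ.injective e).symm)]
  have hval' : ∀ i t, s' (Pi.single i t) = Pi.single (σ' i) (a' i * τ' i t) := by
    intro i t
    funext m
    obtain ⟨l, rfl⟩ := σ'.surjective m
    rw [hs']
    by_cases hl : l = i
    · subst hl
      rw [Pi.single_eq_same, Pi.single_eq_same]
    · rw [hone i l t (Ne.symm hl), map_zero, mul_zero, hone _ _ _ (fun e => hl (σ'.injective e).symm)]
  -- `s` has no fixed point on the axis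
  have hfix : ∀ t, s (Pi.single j t) = Pi.single j t → t = 0 := by
    intro t ht
    rw [hval] at ht
    have h1 := congrFun ht (σ j)
    rw [Pi.single_eq_same, hone _ _ _ hj.symm] at h1
    have h3 := (mul_eq_zero.mp h1).resolve_left (ha j)
    exact (map_eq_zero (τ j)).mp h3
  -- `s'` moves the axis
  have hj' : σ' j ≠ j := by
    intro e
    have h3 : ∀ t, s' (Pi.single j t) = Pi.single j (a' j * τ' j t) := fun t => by rw [hval', e]
    obtain ⟨t, ht0, ht⟩ := exists_fix (f := fun t => a' j * τ' j t)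
      (fun x y => by rw [map_add, mul_add]) (fun t => by
        have h4 := h2' (Pi.single j t)
        rw [h3, h3] at h4
        exact Pi.single_injective j h4)
    apply ht0
    apply hfix
    rw [hc, h3]
    have ht' : a' j * τ' j t = t := ht
    rw [ht']
  -- they agree on the axis
  have hax : ∀ t, s' (Pi.single j t) = s (Pi.single j t) := by
    have h3 : ∀ t, s' (Pi.single j t) + s' (s (Pi.single j t)) = Pi.single j t + s (Pi.single j t) := by
      intro t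
      rw [← h'.add, ← hc, h.add, h2, add_comm]
    have h4 : ∀ t, a' j * τ' j t = (s (Pi.single j t)) (σ' j) := by
      intro t
      have h5 := congrFun (h3 t) (σ' j)
      rw [Pi.add_apply, Pi.add_apply, hval', hval, hval', Pi.single_eq_same,
        hone (σ' (σ j)) (σ' j) _ (fun e => hj (σ'.injective e)), hone j (σ' j) _ hj'.symm, add_zero,
        zero_add] at h5
      rw [hval]
      exact h5
    have h6 : σ' j = σ j := by
      by_contra hne
      have h7 := h4 1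
      rw [hval, hone _ _ _ (Ne.symm hne), map_one, mul_one] at h7
      exact ha' j h7
    intro t
    rw [hval', h4 t, h6, hval, Pi.single_eq_same]
  -- `F ^ k` is the sum of the fixed space and the axis
  let S : (Fin k → F) →+ (Fin k → F) := AddMonoidHom.mk' s h.add
  have hS : ∀ x, S x = s x := fun x => rfl
  let φ : {x : Fin k → F // s x = x} × F → (Fin k → F) := fun p => (p.1 : Fin k → F) + (Pi.single j p.2 : Fin k → F)
  have hφ : Function.Injective φ := by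
    rintro ⟨⟨c, hc1⟩, t⟩ ⟨⟨c', hc1'⟩, t'⟩ hcc
    have hcc' : c + Pi.single j t = c' + Pi.single j t' := hcc
    have h3 : (Pi.single j (t - t') : Fin k → F) = c' - c := by
      have : (Pi.single j (t - t') : Fin k → F) = Pi.single j t - Pi.single j t' := by
        rw [← Pi.single_sub]
      rw [this]
      linear_combination hcc'
    have h4 : t - t' = 0 := by
      apply hfix
      rw [h3, ← hS, map_sub, hS, hS, hc1, hc1']
    have h5 : t = t' := sub_eq_zero.mp h4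
    subst h5
    have h6 : c = c' := add_right_cancel hcc'
    subst h6
    rfl
  have hcard : Nat.card (Fin k → F) ≤ Nat.card ({x : Fin k → F // s x = x} × F) := by
    rw [Nat.card_prod, Nat.card_fun, Nat.card_fin, mul_comm]
    exact hi
  have hsurj : Function.Surjective φ :=
    ((Nat.bijective_iff_injective_and_card φ).mpr
      ⟨hφ, le_antisymm (Nat.card_le_card_of_injective φ hφ) hcard⟩).2
  funext x
  obtain ⟨⟨⟨c, hc1⟩, t⟩, rfl⟩ := hsurj x
  change s (c + Pi.single j t) = s' (c + Pi.single j t)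
  rw [h.add, h'.add, hax, hc1, (hc c).mp hc1]

/-- **Step 6 of (N6)** -/
theorem same {F : Type} [Field F] [Finite F] [CharP F 2] {k : ℕ} {s s' : (Fin k → F) → Fin k → F}
    (h : Mono s) (h' : Mono s') (h2 : ∀ x, s (s x) = x) (h2' : ∀ x, s' (s' x) = x)
    (hc : ∀ x, s x = x ↔ s' x = x)
    (hi : Nat.card F ^ k ≤ Nat.card F * Nat.card {x : Fin k → F // s x = x}) : s = s' := by
  classical
  obtain ⟨σ, hσ⟩ := h.mono
  by_cases hm : ∃ j, σ j ≠ j
  · obtain ⟨j, hj⟩ := hm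
    exact same_of_moved h h' h2 h2' hc hi hσ hj
  obtain ⟨σ', hσ'⟩ := h'.mono
  by_cases hm' : ∃ j, σ' j ≠ j
  · obtain ⟨j, hj⟩ := hm'
    refine (same_of_moved h' h h2' h2 (fun x => (hc x).symm) ?_ hσ' hj).symm
    have h3 : Nat.card {x : Fin k → F // s' x = x} = Nat.card {x : Fin k → F // s x = x} :=
      Nat.card_congr (Equiv.subtypeEquivRight fun x => (hc x).symm)
    rw [h3]; exact hi
  push Not at hm hm'
  choose a τ ha hs using hσ
  choose a' τ' ha' hs' using hσ'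
  have hs1 : ∀ i x, s x i = a i * τ i (x i) := fun i x => by
    have := hs i x
    rwa [hm i] at this
  have hs1' : ∀ i x, s' x i = a' i * τ' i (x i) := fun i x => by
    have := hs' i x
    rwa [hm' i] at this
  -- on one axis
  have key : ∀ i t, a i * τ i t = a' i * τ' i t := by
    intro i
    have hone : ∀ m : Fin k, ∀ t : F, i ≠ m → (Pi.single i t : Fin k → F) m = 0 := fun m t him => by
      rw [Pi.single_apply, if_neg (Ne.symm him)]
    have hval : ∀ t, s (Pi.single i t) = Pi.single i (a i * τ i t) := by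
      intro t
      funext m
      rw [hs1]
      by_cases hmi : m = i
      · subst hmi
        rw [Pi.single_eq_same, Pi.single_eq_same]
      · rw [hone m t (Ne.symm hmi), map_zero, mul_zero, hone m _ (Ne.symm hmi)]
    have hval' : ∀ t, s' (Pi.single i t) = Pi.single i (a' i * τ' i t) := by
      intro t
      funext m
      rw [hs1']
      by_cases hmi : m = i
      · subst hmi
        rw [Pi.single_eq_same, Pi.single_eq_same]
      · rw [hone m t (Ne.symm hmi), map_zero, mul_zero, hone m _ (Ne.symm hmi)]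
    have hf2 : ∀ t, a i * τ i (a i * τ i t) = t := by
      intro t
      have h4 := h2 (Pi.single i t)
      rw [hval, hval] at h4
      exact Pi.single_injective i h4
    have hcc : ∀ t, a i * τ i t = t ↔ a' i * τ' i t = t := by
      intro t
      have h4 := hc (Pi.single i t)
      rw [hval, hval'] at h4
      exact ⟨fun e => Pi.single_injective i (h4.mp (by rw [e])), fun e => Pi.single_injective i (h4.mpr (by rw [e]))⟩
    obtain ⟨x₀, hx0, hx⟩ := exists_fix (f := fun t => a i * τ i t) (fun x y => by rw [map_add, mul_add]) hf2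
    have hx1 : a i * τ i x₀ = x₀ := hx
    have hx2 : a' i * τ' i x₀ = x₀ := (hcc x₀).mp hx1
    have e1 : ∀ y, a i * τ i (y * x₀) = τ i y * x₀ := by
      intro y
      rw [map_mul]
      linear_combination τ i y * hx1
    have e2 : ∀ y, a' i * τ' i (y * x₀) = τ' i y * x₀ := by
      intro y
      rw [map_mul]
      linear_combination τ' i y * hx2
    have e3 : ∀ y, τ i (τ i y) = y := by
      intro y
      have h4 := hf2 (y * x₀)
      rw [e1, e1] at h4
      exact mul_right_cancel₀ hx0 h4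
    have e4 : ∀ y, τ i y = y ↔ τ' i y = y := by
      intro y
      have h4 := hcc (y * x₀)
      rw [e1, e2] at h4
      exact ⟨fun e => mul_right_cancel₀ hx0 (h4.mp (by rw [e])), fun e => mul_right_cancel₀ hx0 (h4.mpr (by rw [e]))⟩
    intro t
    have e5 : t = t / x₀ * x₀ := by rw [div_mul_cancel₀ _ hx0]
    rw [e5, e1, e2, aut_eq e3 e4]
  funext x i
  rw [hs1, hs1', key]

end Cfsg.Agent.Omega.NO1.NSix

end

end

-- merged: Cfsg.Agent.Mrg.Omega.NO1.NSix.End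
section

/-!
# (N6) of THEOREM WR (#15037, helper675), steps 5 and 6

`main` : `Cfg S P`, `M : NatK F S P V ⊥ k`, `k ≥ 2`, `|F| ≥ 4`, `V ∩ Q = {v | all second coordinates are 0}`
is impossible.
-/

set_option autoImplicit false
set_option linter.unusedSectionVars false

namespace Cfsg.Agent.Omega.NO1.NSix

open Subgroup Cfsg Cfsg.Agent.ZN Cfsg.Agent.Omega.FFThm Cfsg.Agent.Omega.Half Cfsg.Agent.Omega.MinPar
open Cfsg.Agent.Omega.Half.NatA
open Cfsg.Agent.Omega.NoFF.LinesPlug (CC)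
open Cfsg.Agent.Omega.NOne.Frame (norm_mem norm_mem' mem_conj' X)
open Cfsg.Agent.Omega.NatPair (ap ap_one ap_add ap_zero' ap_one')
open Cfsg.Agent.Lib.SL2Mat (mk mk_00 mk_01 mk_10 mk_11)
open scoped Pointwise

universe u

variable {G : Type u} [Group G] [Finite G] {S : Sylow 2 G} {P : Subgroup G}
variable {F : Type} [Field F] [Finite F] [CharP F 2] {k : ℕ}

/-- the subgroup `E = V ∩ Q` -/
abbrev EQ (S : Sylow 2 G) (P : Subgroup G) : Subgroup G := zl (S : Subgroup G) P ⊓ o2 (CC (S : Subgroup G))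

section coord

variable (M : NatK F (S : Subgroup G) P (zl (S : Subgroup G) P) ⊥ k)

/-- the element of `E` with first coordinates `x` -/
noncomputable def cE (x : Fin k → F) : G := (M.surj fun j => ![x j, 0]).choose

theorem cE_V (x : Fin k → F) : cE M x ∈ zl (S : Subgroup G) P := (M.surj fun j => ![x j, 0]).choose_spec.1

theorem e_cE (x : Fin k → F) : M.e (cE M x) = fun j => ![x j, 0] := (M.surj fun j => ![x j, 0]).choose_spec.2

theorem cE_add (x y : Fin k → F) : cE M (x + y) = cE M x * cE M y := by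
  apply inj M (cE_V M _) (mul_mem (cE_V M x) (cE_V M y))
  rw [M.mul _ (cE_V M x) _ (cE_V M y), e_cE, e_cE, e_cE]
  funext j
  rw [Pi.add_apply]
  ext m
  fin_cases m <;> simp

theorem cE_inj {x y : Fin k → F} (h : cE M x = cE M y) : x = y := by
  funext j
  have h1 := congrFun (congrFun (congrArg M.e h) j) 0
  rw [e_cE, e_cE] at h1
  simpa using h1

end coord

namespace CaseQ

variable {M : NatK F (S : Subgroup G) P (zl (S : Subgroup G) P) ⊥ k} (h : CaseQ M)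
include h

theorem cE_E (x : Fin k → F) : cE M x ∈ EQ S P := by
  refine ⟨cE_V M x, (h.hE _ (cE_V M x)).2 fun j => ?_⟩
  rw [e_cE]
  rfl

theorem cE_of {v : G} (hv : v ∈ EQ S P) : cE M (fun j => M.e v j 0) = v := by
  apply inj M (cE_V M _) hv.1
  rw [e_cE]
  funext j
  exact (vec_eq ((h.hE v hv.1).1 hv.2 j)).symm

/-- the action on the first coordinates -/
noncomputable def sm (M : NatK F (S : Subgroup G) P (zl (S : Subgroup G) P) ⊥ k) (g : G) (x : Fin k → F) :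
    Fin k → F := fun j => M.e (g * cE M x * g⁻¹) j 0

theorem cE_sm {g : G} (hg : g ∈ normalizer (EQ S P : Set G)) (x : Fin k → F) :
    cE M (sm M g x) = g * cE M x * g⁻¹ :=
  h.cE_of (norm_mem hg (h.cE_E x))

theorem S_le_N : (S : Subgroup G) ≤ normalizer (EQ S P : Set G) := by
  intro s hs
  have h1 := Cfg.P_norm_V S P (h.cfg.S_le hs)
  have h2 := MinSimple.VModule.le_normalizer_o2 _ (Cfg.S_le_CC S hs)
  rw [mem_normalizer_iff] at h1 h2 ⊢
  exact fun x => and_congr (h1 x) (h2 x)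

theorem sm_add {g : G} (hg : g ∈ normalizer (EQ S P : Set G)) (x y : Fin k → F) :
    sm M g (x + y) = sm M g x + sm M g y := by
  apply cE_inj M
  rw [h.cE_sm hg, cE_add, cE_add, h.cE_sm hg, h.cE_sm hg]
  group

/-- the elements of `S` act monomially -/
theorem mono {s : G} (hs : s ∈ S) : Mono (sm M s) := by
  refine ⟨h.sm_add (h.S_le_N hs), ?_⟩
  have hsP := h.cfg.S_le hs
  obtain ⟨σ, hσ⟩ := M.perm s hsP
  refine ⟨σ, fun i => ?_⟩
  obtain ⟨τ, hτ⟩ := exists_semi h.amb hsP hσ i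
  have h1 : ph M s i (σ i) ![1, 0] 1 = 0 := by
    have h2 : s * em M i ![1, 0] * s⁻¹ ∈ EQ S P := norm_mem (h.S_le_N hs) ⟨em_mem M i _, h.em_Q i 1⟩
    exact (h.hE _ h2.1).1 h2.2 (σ i)
  refine ⟨ph M s i (σ i) ![1, 0] 0, τ, fun h0 => ?_, fun x => ?_⟩
  · have h3 : ph M s i (σ i) ![1, 0] = 0 := by
      ext m
      fin_cases m
      · exact h0
      · exact h1
    have h4 := ph_inv h.amb hsP hσ i ![1, 0]
    have h5 := ph_inv h.amb hsP hσ i 0
    have h6 : ph M s i (σ i) 0 = 0 := by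
      have := ph_add h.amb hsP i (σ i) (M := M) 0 0
      rw [add_zero] at this
      exact left_eq_add.1 this
    rw [h3, ← h6, h5] at h4
    exact one_ne_zero (congrFun h4 0).symm
  · have h2 : sm M s x (σ i) = ph M s i (σ i) ![x i, 0] 0 := by
      rw [sm, NSix.e_conj h.amb hsP hσ (cE_V M x) i, e_cE]
    have e1 : (![x i, 0] : Fin 2 → F) = x i • ![1, 0] := by simp
    rw [h2, e1, hτ, Pi.smul_apply, smul_eq_mul, mul_comm]

/-- an element of `Z` has full support -/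
theorem exists_z : ∃ z ∈ EQ S P, (∀ c ∈ CC (S : Subgroup G), c * z = z * c) ∧ ∀ i, M.e z i 0 ≠ 0 := by
  have hne := MinSimple.Basic.zc_ne_bot S.isPGroup' (h.cfg.ctx.sylow_ne_bot S)
  obtain ⟨⟨z, hz⟩, hz1⟩ := ne_bot_iff_exists_ne_one.1 hne
  replace hz1 : z ≠ 1 := fun h1 => hz1 (Subtype.ext h1)
  have hzE := h.cfg.Z_le_E hz
  refine ⟨z, hzE, fun c hc => (mem_centralizer_iff.1 hc z hz).symm, fun i h0 => hz1 ?_⟩
  have h1 : ∀ i, M.e z i 1 = 0 := (h.hE z hzE.1).1 hzE.2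
  apply eq_one M hzE.1
  funext j
  obtain ⟨t, ht, h2⟩ := M.trans i j
  have h3 := h2 z hzE.1
  have h4 : t * z * t⁻¹ = z := by
    rw [(MinSimple.VModule.mem_zc.1 hz).2.1 t ht, mul_inv_cancel_right]
  rw [h4] at h3
  refine h3.2 ?_
  ext m
  fin_cases m
  · exact h0
  · exact h1 i

/-- the diagonal element `t_a` -/
theorem exists_diag (i : Fin k) {a : F} (ha : a ≠ 0) :
    ∃ t ∈ P, (∀ x, t * em M i ![x, 0] * t⁻¹ = em M i ![a * x, 0]) ∧
      ∀ d ∈ EQ S P, t * d * t⁻¹ = d * em M i ![(a + 1) * M.e d i 0, 0] := by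
  classical
  obtain ⟨t, ht, htA, -⟩ := M.lift (Function.update 1 i (Lib.SL2Mat.dg a ha))
  have hti : ∀ v ∈ zl (S : Subgroup G) P, M.e (t * v * t⁻¹) i = ![a * M.e v i 0, a⁻¹ * M.e v i 1] := by
    intro v hv
    rw [htA v hv i, Function.update_self]
    ext m
    fin_cases m
    · show ap (Lib.SL2Mat.dg a ha) (M.e v i) 0 = _
      rw [ap_zero', Lib.SL2Mat.dg_00, Lib.SL2Mat.dg_01]; simp
    · show ap (Lib.SL2Mat.dg a ha) (M.e v i) 1 = _
      rw [ap_one', Lib.SL2Mat.dg_10, Lib.SL2Mat.dg_11]; simp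
  have htj : ∀ v ∈ zl (S : Subgroup G) P, ∀ j, j ≠ i → M.e (t * v * t⁻¹) j = M.e v j := by
    intro v hv j hj
    rw [htA v hv j, Function.update_of_ne hj, Pi.one_apply, ap_one]
  refine ⟨t, ht, fun x => ?_, fun d hd => ?_⟩
  · apply inj M (h.amb.conj_mem ht (em_mem M i _)) (em_mem M i _)
    funext j
    by_cases hj : j = i
    · rw [hj, hti _ (em_mem M i _), e_em_self, e_em_self]
      simp
    · rw [htj _ (em_mem M i _) j hj, e_em_ne M hj, e_em_ne M hj]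
  · have hd1 := (h.hE d hd.1).1 hd.2
    apply inj M (h.amb.conj_mem ht hd.1) (mul_mem hd.1 (em_mem M i _))
    rw [M.mul _ hd.1 _ (em_mem M i _)]
    funext j
    rw [Pi.add_apply]
    by_cases hj : j = i
    · rw [hj, hti _ hd.1, e_em_self]
      ext m
      fin_cases m
      · simp only [Fin.zero_eta, Matrix.cons_val_zero, Pi.add_apply]
        have e1 : M.e d i 0 + (a + 1) * M.e d i 0 = a * M.e d i 0 + (M.e d i 0 + M.e d i 0) := by ring
        rw [e1, CharTwo.add_self_eq_zero, add_zero]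
      · simp [hd1 i]
    · rw [htj _ hd.1 j hj, e_em_ne M hj, add_zero]

/-- `g` acts on `L_i` trivially and on `D` by `d ↦ d + κ d_i` -/
def IsTv (M : NatK F (S : Subgroup G) P (zl (S : Subgroup G) P) ⊥ k) (i : Fin k) (D : Subgroup G) (κ : F)
    (g : G) : Prop :=
  (∀ d ∈ D, g * d * g⁻¹ = d * em M i ![κ * M.e d i 0, 0]) ∧ ∀ x : F, g * em M i ![x, 0] * g⁻¹ = em M i ![x, 0]

omit h in
theorem em_zero' (M : NatK F (S : Subgroup G) P (zl (S : Subgroup G) P) ⊥ k) (i : Fin k) :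
    em M i ![0, 0] = 1 := by
  have e1 : (![0, 0] : Fin 2 → F) = 0 := by
    ext m
    fin_cases m <;> rfl
  rw [e1, em_zero]

omit h in
theorem em_eq_one (M : NatK F (S : Subgroup G) P (zl (S : Subgroup G) P) ⊥ k) (i : Fin k) {x : F}
    (hx : em M i ![x, 0] = 1) : x = 0 := by
  have h1 := congrArg (fun v => M.e v i 0) hx
  simp only [e_em_self, e_one] at h1
  simpa using h1

omit h in
theorem em_inv (M : NatK F (S : Subgroup G) P (zl (S : Subgroup G) P) ⊥ k) (i : Fin k) (x : F) :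
    (em M i ![x, 0])⁻¹ = em M i ![x, 0] := by
  rw [inv_eq_iff_mul_eq_one, ← em_line_add, CharTwo.add_self_eq_zero, em_zero']

omit h in
theorem IsTv.mul {i : Fin k} {D : Subgroup G} {κ κ' : F} {g g' : G} (h1 : IsTv M i D κ g)
    (h2 : IsTv M i D κ' g') : IsTv M i D (κ + κ') (g * g') := by
  refine ⟨fun d hd => ?_, fun x => ?_⟩
  · have e1 : g * g' * d * (g * g')⁻¹ = g * (g' * d * g'⁻¹) * g⁻¹ := by group
    have e2 : g * (d * em M i ![κ' * M.e d i 0, 0]) * g⁻¹ =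
        g * d * g⁻¹ * (g * em M i ![κ' * M.e d i 0, 0] * g⁻¹) := by group
    rw [e1, h2.1 d hd, e2, h1.1 d hd, h1.2, mul_assoc, ← em_line_add, add_mul]
  · have e1 : g * g' * em M i ![x, 0] * (g * g')⁻¹ = g * (g' * em M i ![x, 0] * g'⁻¹) * g⁻¹ := by group
    rw [e1, h2.2, h1.2]

omit h in
theorem IsTv.one (M : NatK F (S : Subgroup G) P (zl (S : Subgroup G) P) ⊥ k) (i : Fin k) (D : Subgroup G) :
    IsTv M i D 0 1 := by
  refine ⟨fun d _ => ?_, fun x => by group⟩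
  rw [zero_mul, em_zero']
  group

omit h in
theorem IsTv.inv {i : Fin k} {D : Subgroup G} {κ : F} {g : G} (h1 : IsTv M i D κ g) : IsTv M i D κ g⁻¹ := by
  have h2 : ∀ x : F, g⁻¹ * em M i ![x, 0] * g⁻¹⁻¹ = em M i ![x, 0] := by
    intro x
    conv_lhs => rw [← h1.2 x]
    group
  refine ⟨fun d hd => ?_, h2⟩
  have e1 : g⁻¹ * (g * d * g⁻¹) * g⁻¹⁻¹ = d := by group
  rw [h1.1 d hd] at e1
  have e2 : g⁻¹ * (d * em M i ![κ * M.e d i 0, 0]) * g⁻¹⁻¹ =
      g⁻¹ * d * g⁻¹⁻¹ * (g⁻¹ * em M i ![κ * M.e d i 0, 0] * g⁻¹⁻¹) := by group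
  rw [e2, h2] at e1
  rw [← em_inv M i (κ * M.e d i 0), eq_mul_inv_iff_mul_eq]
  exact e1

/-- the group of these elements -/
def Bg (M : NatK F (S : Subgroup G) P (zl (S : Subgroup G) P) ⊥ k) (i : Fin k) (D : Subgroup G) :
    Subgroup G where
  carrier := {g | ∃ κ, IsTv M i D κ g}
  mul_mem' := by
    rintro g g' ⟨κ, h1⟩ ⟨κ', h2⟩
    exact ⟨κ + κ', h1.mul h2⟩
  one_mem' := ⟨0, IsTv.one M i D⟩
  inv_mem' := by
    rintro g ⟨κ, h1⟩
    exact ⟨κ, h1.inv⟩

theorem tv_act {i : Fin k} {D : Subgroup G} {κ : F} {g : G} (h1 : IsTv M i D κ g) {e : G}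
    (he : e ∈ EQ S P) {x : F} (hx : em M i ![x, 0] * e ∈ D) :
    g * e * g⁻¹ = e * em M i ![κ * M.e (em M i ![x, 0] * e) i 0, 0] := by
  have h2 := h1.1 _ hx
  have e1 : g * (em M i ![x, 0] * e) * g⁻¹ = g * em M i ![x, 0] * g⁻¹ * (g * e * g⁻¹) := by group
  rw [e1, h1.2] at h2
  have h3 : em M i ![x, 0] * (g * e * g⁻¹) =
      em M i ![x, 0] * (e * em M i ![κ * M.e (em M i ![x, 0] * e) i 0, 0]) := by
    rw [h2, mul_assoc (em M i ![x, 0]) e]
  exact mul_left_cancel h3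

theorem Bg_conj {i : Fin k} {D : Subgroup G} (hgen : ∀ e ∈ EQ S P, ∃ x : F, em M i ![x, 0] * e ∈ D) {g e : G}
    (hg : g ∈ Bg M i D) (he : e ∈ EQ S P) : g * e * g⁻¹ ∈ EQ S P := by
  obtain ⟨κ, h1⟩ := hg
  obtain ⟨x, hx⟩ := hgen e he
  rw [h.tv_act h1 he hx]
  exact mul_mem he ⟨em_mem M i _, h.em_Q i _⟩

theorem Bg_le {i : Fin k} {D : Subgroup G} (hgen : ∀ e ∈ EQ S P, ∃ x : F, em M i ![x, 0] * e ∈ D) :
    Bg M i D ≤ normalizer (EQ S P : Set G) := by
  intro g hg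
  rw [mem_normalizer_iff]
  intro e
  refine ⟨fun he => h.Bg_conj hgen hg he, fun he => ?_⟩
  have h1 := h.Bg_conj hgen (inv_mem hg) he
  have e1 : g⁻¹ * (g * e * g⁻¹) * g⁻¹⁻¹ = e := by group
  rwa [e1] at h1

theorem Bg_sq {i : Fin k} {D : Subgroup G} (hgen : ∀ e ∈ EQ S P, ∃ x : F, em M i ![x, 0] * e ∈ D) {g : G}
    (hg : g ∈ Bg M i D) : g * g ∈ centralizer (EQ S P : Set G) := by
  obtain ⟨κ, h1⟩ := hg
  have h2 := h1.mul h1
  rw [CharTwo.add_self_eq_zero] at h2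
  rw [mem_centralizer_iff]
  intro e he
  obtain ⟨x, hx⟩ := hgen e he
  have h3 := h.tv_act h2 he hx
  rw [zero_mul, em_zero', mul_one] at h3
  calc e * (g * g) = g * g * e * (g * g)⁻¹ * (g * g) := by rw [h3]
    _ = g * g * e := by group

omit h in
theorem exists_two (hq : 4 ≤ Nat.card F) : ∃ a b : F, a ≠ 0 ∧ a ≠ 1 ∧ b ≠ 0 ∧ b ≠ 1 ∧ a ≠ b := by
  classical
  have : Fintype F := Fintype.ofFinite F
  have h1 : 1 < (Finset.univ \ ({0, 1} : Finset F)).card := by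
    have h2 := Finset.le_card_sdiff ({0, 1} : Finset F) Finset.univ
    have h3 : ({0, 1} : Finset F).card ≤ 2 := Finset.card_le_two
    rw [Finset.card_univ, ← Nat.card_eq_fintype_card] at h2
    omega
  obtain ⟨a, ha, b, hb, hab⟩ := Finset.one_lt_card.1 h1
  simp only [Finset.mem_sdiff, Finset.mem_univ, Finset.mem_insert, Finset.mem_singleton, not_or, true_and] at ha hb
  exact ⟨a, b, ha.1, ha.2, hb.1, hb.2, hab⟩

/-- The contradiction of (N6). -/
theorem false (hk : 2 ≤ k) (hq : 4 ≤ Nat.card F) : False := by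
  classical
  let i : Fin k := ⟨0, by omega⟩
  obtain ⟨D, hDE, hDz, hgen, htri, hρ⟩ := h.exists_D hk i
  obtain ⟨z, hzE, hzC, hz0⟩ := h.exists_z
  have hzD := hDz z hzE hzC
  have hgen' : ∀ e : G, ∃ x : F, e ∈ EQ S P → em M i ![x, 0] * e ∈ D := by
    intro e
    by_cases he : e ∈ EQ S P
    · obtain ⟨x, hx⟩ := hgen e he
      exact ⟨x, fun _ => hx⟩
    · exact ⟨0, fun h1 => absurd h1 he⟩
  choose X hX using hgen'
  -- the form `θ`
  let th : G → F := fun e => M.e (em M i ![X e, 0] * e) i 0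
  have hth : ∀ {κ : F} {g e : G}, IsTv M i D κ g → e ∈ EQ S P → g * e * g⁻¹ = e * em M i ![κ * th e, 0] :=
    fun h1 he => h.tv_act h1 he (hX _ he)
  have hthz : th z ≠ 0 := by
    have h1 : em M i ![X z, 0] ∈ D := (mul_mem_cancel_right hzD).1 (hX z hzE)
    have h2 := htri _ h1
    show M.e (em M i ![X z, 0] * z) i 0 ≠ 0
    rw [h2, em_zero', one_mul]
    exact hz0 i
  -- the transvections
  have hτ : ∀ c : F, c ≠ 0 → ∃ g, IsTv M i D (c + 1) g := by
    intro c hc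
    obtain ⟨ρ, -, h1, h2⟩ := hρ c⁻¹ (inv_ne_zero hc)
    obtain ⟨t, -, h3, h4⟩ := h.exists_diag i hc
    refine ⟨t * ρ, fun d hd => ?_, fun x => ?_⟩
    · have e1 : t * ρ * d * (t * ρ)⁻¹ = t * (ρ * d * ρ⁻¹) * t⁻¹ := by group
      rw [e1, h1 d hd, h4 d (hDE hd)]
    · have e1 : t * ρ * em M i ![x, 0] * (t * ρ)⁻¹ = t * (ρ * em M i ![x, 0] * ρ⁻¹) * t⁻¹ := by group
      rw [e1, h2, h3, mul_inv_cancel_left₀ hc]
  obtain ⟨n, hn, hnB⟩ := exists_conj_mem S h.S_le_N (NOne.LemmaT.normalizer_le_normalizer_centralizer (EQ S P))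
    (h.Bg_le hgen) (fun b hb => h.Bg_sq hgen hb)
  have hnE : ∀ e ∈ EQ S P, n⁻¹ * e * n ∈ EQ S P := fun e he => norm_mem' hn he
  -- the elements of `S`
  have key : ∀ c : F, c ≠ 0 → ∃ s ∈ S, ∀ e ∈ EQ S P,
      s * e * s⁻¹ = n * (n⁻¹ * e * n * em M i ![(c + 1) * th (n⁻¹ * e * n), 0]) * n⁻¹ := by
    intro c hc
    obtain ⟨g, hg⟩ := hτ c hc
    obtain ⟨s, hs, κ, hκ, h1⟩ := hnB g ⟨_, hg⟩
    refine ⟨s, hs, fun e he => ?_⟩
    have h2 : s = n * g * n⁻¹ * κ⁻¹ := by rw [h1]; group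
    have h3 : κ⁻¹ * e * κ = e := by
      rw [mul_assoc, mem_centralizer_iff.1 hκ e he, inv_mul_cancel_left]
    rw [← hth hg (hnE e he)]
    calc s * e * s⁻¹ = n * g * n⁻¹ * (κ⁻¹ * e * κ) * n * g⁻¹ * n⁻¹ := by rw [h2]; group
      _ = n * (g * (n⁻¹ * e * n) * g⁻¹) * n⁻¹ := by rw [h3]; group
  -- facts on these elements
  have hemn : ∀ y : F, em M i ![y, 0] ∈ EQ S P := fun y => ⟨em_mem M i _, h.em_Q i y⟩
  have hadd : ∀ c : F, c ≠ 0 → c ≠ 1 → c + 1 ≠ 0 := fun c _ hc h1 => hc (CharTwo.add_eq_zero.1 h1)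
  have hfix : ∀ c : F, c ≠ 0 → c ≠ 1 → ∀ s ∈ S, (∀ e ∈ EQ S P,
      s * e * s⁻¹ = n * (n⁻¹ * e * n * em M i ![(c + 1) * th (n⁻¹ * e * n), 0]) * n⁻¹) →
      ∀ x, sm M s x = x ↔ th (n⁻¹ * cE M x * n) = 0 := by
    intro c hc0 hc1 s hs hse x
    have hsN := h.S_le_N hs
    have h1 := h.cE_sm hsN x
    rw [hse _ (h.cE_E x)] at h1
    constructor
    · intro h2
      rw [h2] at h1
      have h3 : em M i ![(c + 1) * th (n⁻¹ * cE M x * n), 0] = 1 := by
        have e1 : n * (n⁻¹ * cE M x * n * em M i ![(c + 1) * th (n⁻¹ * cE M x * n), 0]) * n⁻¹ =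
            cE M x * (n * em M i ![(c + 1) * th (n⁻¹ * cE M x * n), 0] * n⁻¹) := by group
        rw [e1] at h1
        have h4 : n * em M i ![(c + 1) * th (n⁻¹ * cE M x * n), 0] * n⁻¹ = 1 := left_eq_mul.1 h1
        have e2 : em M i ![(c + 1) * th (n⁻¹ * cE M x * n), 0] =
            n⁻¹ * (n * em M i ![(c + 1) * th (n⁻¹ * cE M x * n), 0] * n⁻¹) * n := by group
        rw [e2, h4]
        group
      exact (mul_eq_zero.1 (em_eq_one M i h3)).resolve_left (hadd c hc0 hc1)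
    · intro h2
      rw [h2, mul_zero, em_zero', mul_one] at h1
      apply cE_inj M
      rw [h1]
      group
  have hinv : ∀ c : F, c ≠ 0 → ∀ s ∈ S, (∀ e ∈ EQ S P,
      s * e * s⁻¹ = n * (n⁻¹ * e * n * em M i ![(c + 1) * th (n⁻¹ * e * n), 0]) * n⁻¹) →
      ∀ x, sm M s (sm M s x) = x := by
    intro c hc0 s hs hse x
    have hsN := h.S_le_N hs
    obtain ⟨g, hg⟩ := hτ c hc0
    have hse' : ∀ e ∈ EQ S P, s * e * s⁻¹ = n * (g * (n⁻¹ * e * n) * g⁻¹) * n⁻¹ := fun e he => by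
      rw [hse e he, hth hg (hnE e he)]
    have hgg := mem_centralizer_iff.1 (h.Bg_sq hgen ⟨_, hg⟩ : g * g ∈ centralizer (EQ S P : Set G))
      _ (hnE _ (h.cE_E x))
    apply cE_inj M
    have hsc := norm_mem hsN (h.cE_E x)
    rw [h.cE_sm hsN, h.cE_sm hsN, hse' _ hsc, hse' _ (h.cE_E x)]
    calc n * (g * (n⁻¹ * (n * (g * (n⁻¹ * cE M x * n) * g⁻¹) * n⁻¹) * n) * g⁻¹) * n⁻¹
        = n * (g * g * (n⁻¹ * cE M x * n)) * (g * g)⁻¹ * n⁻¹ := by group
      _ = n * (n⁻¹ * cE M x * n * (g * g)) * (g * g)⁻¹ * n⁻¹ := by rw [hgg]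
      _ = cE M x := by group
  have hcard : ∀ c : F, c ≠ 0 → ∀ s ∈ S, (∀ e ∈ EQ S P,
      s * e * s⁻¹ = n * (n⁻¹ * e * n * em M i ![(c + 1) * th (n⁻¹ * e * n), 0]) * n⁻¹) →
      Nat.card F ^ k ≤ Nat.card F * Nat.card {x : Fin k → F // sm M s x = x} := by
    intro c hc0 s hs hse
    have hsN := h.S_le_N hs
    let δ : (Fin k → F) →+ (Fin k → F) := AddMonoidHom.mk' (fun x => sm M s x - x) fun x y => by
      rw [h.sm_add hsN]; abel
    have h1 := δ.ker.card_mul_index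
    rw [AddSubgroup.index_ker] at h1
    have h2 : Nat.card (Fin k → F) = Nat.card F ^ k := by
      rw [Nat.card_fun, Nat.card_eq_fintype_card (α := Fin k), Fintype.card_fin]
    have h3 : Nat.card δ.ker = Nat.card {x : Fin k → F // sm M s x = x} := by
      refine Nat.card_congr (Equiv.subtypeEquivRight fun x => ?_)
      rw [AddMonoidHom.mem_ker]
      exact sub_eq_zero
    let f : F → Fin k → F := fun y j => M.e (n * em M i ![y, 0] * n⁻¹) j 0
    have h4 : Nat.card δ.range ≤ Nat.card F := by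
      refine (Nat.card_mono (Set.toFinite (Set.range f)) (s := (δ.range : Set (Fin k → F))) ?_).trans
        (Finite.card_range_le f)
      rintro _ ⟨x, rfl⟩
      refine ⟨(c + 1) * th (n⁻¹ * cE M x * n), ?_⟩
      funext j
      show M.e (n * em M i ![(c + 1) * th (n⁻¹ * cE M x * n), 0] * n⁻¹) j 0 = sm M s x j - x j
      have h5 := hse _ (h.cE_E x)
      have e1 : n * (n⁻¹ * cE M x * n * em M i ![(c + 1) * th (n⁻¹ * cE M x * n), 0]) * n⁻¹ =
          cE M x * (n * em M i ![(c + 1) * th (n⁻¹ * cE M x * n), 0] * n⁻¹) := by group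
      rw [e1] at h5
      have h6 : n * em M i ![(c + 1) * th (n⁻¹ * cE M x * n), 0] * n⁻¹ ∈ EQ S P := norm_mem hn (hemn _)
      have h7 : sm M s x j = M.e (s * cE M x * s⁻¹) j 0 := rfl
      rw [h7, h5, M.mul _ (cE_V M x) _ h6.1, e_cE, Pi.add_apply, Pi.add_apply]
      simp
    rw [h2, h3] at h1
    rw [← h1, mul_comm]
    exact Nat.mul_le_mul_right _ h4
  obtain ⟨a, b, ha0, ha1, hb0, hb1, hab⟩ := exists_two hq
  obtain ⟨s, hs, hse⟩ := key a ha0
  obtain ⟨t, ht, hte⟩ := key b hb0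
  have hst := same (h.mono hs) (h.mono ht) (hinv a ha0 s hs hse) (hinv b hb0 t ht hte)
    (fun x => (hfix a ha0 ha1 s hs hse x).trans (hfix b hb0 hb1 t ht hte x).symm) (hcard a ha0 s hs hse)
  -- the contradiction at `z`
  have hzn : n * z * n⁻¹ ∈ EQ S P := norm_mem hn hzE
  have h1 : s * (n * z * n⁻¹) * s⁻¹ = t * (n * z * n⁻¹) * t⁻¹ := by
    rw [← h.cE_of hzn, ← h.cE_sm (h.S_le_N hs), ← h.cE_sm (h.S_le_N ht), hst]
  rw [hse _ hzn, hte _ hzn] at h1
  have e1 : n⁻¹ * (n * z * n⁻¹) * n = z := by group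
  rw [e1] at h1
  have h2 : em M i ![(a + 1) * th z, 0] = em M i ![(b + 1) * th z, 0] :=
    mul_left_cancel (mul_left_cancel (mul_right_cancel h1))
  have h3 := congrArg (fun v => M.e v i 0) h2
  simp only [e_em_self] at h3
  have h4 : (a + 1) * th z = (b + 1) * th z := by simpa only [_root_.mul_eq_mul_right_iff, _root_.add_left_inj, _root_.Fin.isValue, _root_.Matrix.cons_val_zero] using h3
  exact hab (add_right_cancel (mul_right_cancel₀ hthz h4))

end CaseQ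

/-- **(N6) of THEOREM WR.**  Case (Q), `|F| ≥ 4`, `k ≥ 2` is impossible. -/
theorem main (h : Cfg S P) (M : NatK F (S : Subgroup G) P (zl (S : Subgroup G) P) ⊥ k) (hk : 2 ≤ k)
    (hq : 4 ≤ Nat.card F)
    (hE : ∀ v ∈ zl (S : Subgroup G) P, v ∈ o2 (CC (S : Subgroup G)) ↔ ∀ i, M.e v i 1 = 0) : False :=
  CaseQ.false (M := M) ⟨h, hE⟩ hk hq

end Cfsg.Agent.Omega.NO1.NSix

end

-- merged: Cfsg.Agent.Mrg.Omega.NO1.WR.NTwo
section

section


/-!
# N1, `V_P` a sum of `k ≥ 3` natural `SL₂(2)`-modules, case (Q): impossible (text #15037 (N3), (N5), helper675)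

`main_two` : `Cfg S P`, `NatK F S P V ⊥ k`, `3 ≤ k`, `|F| = 2`, `V ∩ Q = ∏ L_i` imply `False`.
-/

set_option autoImplicit false
set_option linter.unusedSectionVars false

namespace Cfsg.Agent.Omega.NO1.NatWr

open Subgroup Cfsg Cfsg.Agent.ZN Cfsg.Agent.Omega.MinPar Cfsg.Agent.Omega.FFThm
open Cfsg.Agent.Omega.Half Cfsg.Agent.Omega.Half.NatA
open Cfsg.Agent.Omega.NoFF.LinesPlug (CC)

universe u

variable {G : Type u} [Group G] [Finite G] {S : Sylow 2 G} {P : Subgroup G} {F : Type} [Field F] {k : ℕ}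

/-- The situation (Q) with `|F| = 2`. -/
structure QTwo (S : Sylow 2 G) (P : Subgroup G) (F : Type) [Field F] (k : ℕ) where
  cfg : Cfg S P
  M : NatK F (S : Subgroup G) P (zl (S : Subgroup G) P) ⊥ k
  two : ∀ x : F, x = 0 ∨ x = 1
  hE : ∀ v ∈ zl (S : Subgroup G) P, v ∈ o2 (CC (S : Subgroup G)) ↔ ∀ i, M.e v i 1 = 0

theorem zmod_or (c : ZMod 2) : c = 0 ∨ c = 1 := by
  fin_cases c
  · exact Or.inl rfl
  · exact Or.inr rfl

namespace QTwo

variable (q : QTwo S P F k)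

include q

theorem eq_of_iff {x y : F} (h : x = 0 ↔ y = 0) : x = y := by
  rcases q.two x with h1 | h1
  · rw [h1, h.1 h1]
  · rcases q.two y with h2 | h2
    · exfalso
      rw [h.2 h2] at h1
      exact zero_ne_one h1
    · rw [h1, h2]

theorem A : Amb (S : Subgroup G) P (zl (S : Subgroup G) P) := amb q.cfg

/-- `z A`: the product of the `z_i`, `i ∈ A` -/
noncomputable def za (A : Set (Fin k)) : G := (exists_fac q.M A fun _ => ![1, 0]).choose

theorem za_mem (A : Set (Fin k)) : q.za A ∈ fac q.M A := (exists_fac q.M A fun _ => ![1, 0]).choose_spec.1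

theorem za_in {A : Set (Fin k)} {i : Fin k} (hi : i ∈ A) : q.M.e (q.za A) i = ![1, 0] :=
  (exists_fac q.M A fun _ => ![1, 0]).choose_spec.2 i hi

theorem za_out {A : Set (Fin k)} {i : Fin k} (hi : i ∉ A) : q.M.e (q.za A) i = 0 := (q.za_mem A).2 i hi

theorem za_V (A : Set (Fin k)) : q.za A ∈ zl (S : Subgroup G) P := (q.za_mem A).1

theorem za_Q (A : Set (Fin k)) : q.za A ∈ o2 (CC (S : Subgroup G)) := by
  rw [q.hE _ (q.za_V A)]
  intro i
  by_cases hi : i ∈ A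
  · rw [q.za_in hi]; rfl
  · rw [q.za_out hi]; rfl

theorem za_ne {A : Set (Fin k)} {i : Fin k} (hi : i ∈ A) : q.M.e (q.za A) i ≠ 0 := by
  rw [q.za_in hi]
  intro h
  exact one_ne_zero (congrFun h 0)

/-- `v_i ∈ V_i - L_i` -/
noncomputable def vi (i : Fin k) : G := (exists_fac q.M {i} fun _ => ![0, 1]).choose

theorem vi_mem (i : Fin k) : q.vi i ∈ fac q.M {i} := (exists_fac q.M {i} fun _ => ![0, 1]).choose_spec.1

theorem vi_in (i : Fin k) : q.M.e (q.vi i) i = ![0, 1] :=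
  (exists_fac q.M {i} fun _ => ![0, 1]).choose_spec.2 i rfl

theorem vi_out {i j : Fin k} (h : j ≠ i) : q.M.e (q.vi i) j = 0 := (q.vi_mem i).2 j h

theorem vi_V (i : Fin k) : q.vi i ∈ zl (S : Subgroup G) P := (q.vi_mem i).1

theorem vi_C (i : Fin k) : q.vi i ∈ CC (S : Subgroup G) := q.cfg.V_le_CC (q.vi_V i)

theorem vi_not (i : Fin k) : q.vi i ∉ o2 (CC (S : Subgroup G)) := by
  rw [q.hE _ (q.vi_V i)]
  intro h
  have := h i
  rw [q.vi_in] at this
  exact one_ne_zero this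

theorem Q_P : o2 (CC (S : Subgroup G)) ≤ P := q.cfg.Q_le_S.trans q.cfg.S_le

theorem conj_V {f w : G} (hf : f ∈ P) (hw : w ∈ zl (S : Subgroup G) P) : f * w * f⁻¹ ∈ zl (S : Subgroup G) P :=
  q.A.conj_mem hf hw

/-- `[V, Q] ≤ V ∩ Q` -/
theorem comm_mem {f w : G} (hf : f ∈ o2 (CC (S : Subgroup G))) (hw : w ∈ zl (S : Subgroup G) P) :
    f * w * f⁻¹ * w⁻¹ ∈ zl (S : Subgroup G) P ∧ f * w * f⁻¹ * w⁻¹ ∈ o2 (CC (S : Subgroup G)) := by
  refine ⟨mul_mem (q.conj_V (q.Q_P hf) hw) (inv_mem hw), ?_⟩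
  have h1 : w * f⁻¹ * w⁻¹ ∈ o2 (CC (S : Subgroup G)) :=
    (mem_normalizer_iff.1 (le_normalizer_o2 _ (q.cfg.V_le_CC hw)) _).1 (inv_mem hf)
  have e : f * w * f⁻¹ * w⁻¹ = f * (w * f⁻¹ * w⁻¹) := by group
  rw [e]
  exact mul_mem hf h1

theorem row_one {f w : G} (hf : f ∈ o2 (CC (S : Subgroup G))) (hw : w ∈ zl (S : Subgroup G) P) (i : Fin k) :
    q.M.e (f * w * f⁻¹) i 1 = q.M.e w i 1 := by
  obtain ⟨h1, h2⟩ := q.comm_mem hf hw
  have h3 := (q.hE _ h1).1 h2 i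
  rw [q.M.mul _ (q.conj_V (q.Q_P hf) hw) _ (inv_mem hw), e_inv q.M hw] at h3
  have h4 : q.M.e (f * w * f⁻¹) i 1 - q.M.e w i 1 = 0 := by
    rw [sub_eq_add_neg]
    exact h3
  exact sub_eq_zero.1 h4

theorem perm_one {f : G} (hf : f ∈ o2 (CC (S : Subgroup G))) {σ : Equiv.Perm (Fin k)} (hσ : Mv q.M f σ)
    (i : Fin k) : σ i = i := by
  obtain ⟨j, hj⟩ := σ.surjective i
  have h1 : q.M.e (f * q.vi i * f⁻¹) i ≠ 0 := by
    intro h0
    have h2 := q.row_one hf (q.vi_V i) i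
    rw [h0, q.vi_in] at h2
    exact one_ne_zero h2.symm
  have h3 := hσ (q.vi i) (q.vi_V i) j
  rw [hj] at h3
  have h4 : q.M.e (q.vi i) j ≠ 0 := fun h0 => h1 (h3.2 h0)
  have h5 : j = i := by
    by_contra hne
    exact h4 (q.vi_out hne)
  rw [← h5] at hj ⊢
  exact hj

theorem coord_iff {f w : G} (hf : f ∈ o2 (CC (S : Subgroup G))) (hw : w ∈ zl (S : Subgroup G) P) (i : Fin k) :
    q.M.e (f * w * f⁻¹) i = 0 ↔ q.M.e w i = 0 := by
  obtain ⟨σ, hσ⟩ := q.M.perm f (q.Q_P hf)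
  have h1 := hσ w hw i
  rwa [q.perm_one hf hσ] at h1

/-- `Q` centralises `V ∩ Q` -/
theorem cent {f w : G} (hf : f ∈ o2 (CC (S : Subgroup G))) (hw : w ∈ zl (S : Subgroup G) P)
    (hwQ : w ∈ o2 (CC (S : Subgroup G))) : f * w * f⁻¹ = w := by
  apply inj q.M (q.conj_V (q.Q_P hf) hw) hw
  funext i
  have h1 : q.M.e w i 1 = 0 := (q.hE w hw).1 hwQ i
  have h2 : q.M.e (f * w * f⁻¹) i 1 = 0 := by rw [q.row_one hf hw, h1]
  have h3 := q.coord_iff hf hw i
  have h4 : ∀ x : Fin 2 → F, x 1 = 0 → (x = 0 ↔ x 0 = 0) := by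
    intro x hx
    constructor
    · intro h; rw [h]; rfl
    · intro h; exact NatPair.ext2 h hx
  apply NatPair.ext2
  · apply q.eq_of_iff
    rw [← h4 _ h1, ← h4 _ h2]
    exact h3
  · rw [h1, h2]

/-- `V ∩ Q ≤ Z_Q` -/
theorem mem_zq {w : G} (hw : w ∈ zl (S : Subgroup G) P) (hwQ : w ∈ o2 (CC (S : Subgroup G))) :
    w ∈ zc (o2 (CC (S : Subgroup G))) := by
  refine MinSimple.VModule.mem_zc.2 ⟨hwQ, fun f hf => ?_, q.A.sq w hw⟩
  calc f * w = (f * w * f⁻¹) * f := by group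
    _ = w * f := by rw [q.cent hf hw hwQ]

/-- `Q` moves `v_i` to `v_i` or `v_i z_i` -/
theorem act_vi {f : G} (hf : f ∈ o2 (CC (S : Subgroup G))) (i : Fin k) :
    f * q.vi i * f⁻¹ = q.vi i ∨ f * q.vi i * f⁻¹ = q.vi i * q.za {i} := by
  have hc := q.conj_V (q.Q_P hf) (q.vi_V i)
  have h1 : ∀ j, j ≠ i → q.M.e (f * q.vi i * f⁻¹) j = 0 := fun j hj =>
    (q.coord_iff hf (q.vi_V i) j).2 (q.vi_out hj)
  have h2 : q.M.e (f * q.vi i * f⁻¹) i 1 = 1 := by
    rw [q.row_one hf (q.vi_V i), q.vi_in]; rfl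
  rcases q.two (q.M.e (f * q.vi i * f⁻¹) i 0) with h3 | h3
  · left
    apply inj q.M hc (q.vi_V i)
    funext j
    by_cases hj : j = i
    · subst hj
      rw [q.vi_in]
      exact NatPair.ext2 h3 h2
    · rw [h1 j hj, q.vi_out hj]
  · right
    apply inj q.M hc (mul_mem (q.vi_V i) (q.za_V _))
    rw [q.M.mul _ (q.vi_V i) _ (q.za_V _)]
    funext j
    rw [Pi.add_apply]
    by_cases hj : j = i
    · subst hj
      rw [q.vi_in, q.za_in (Set.mem_singleton j)]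
      apply NatPair.ext2
      · rw [h3]; simp
      · rw [h2]; simp
    · rw [h1 j hj, q.vi_out hj, q.za_out (A := {i}) (fun h => hj h), add_zero]

/-! ### The module `Z_Q` -/

/-- the module -/
def D (_q : QTwo S P F k) : NatQuot.Dat G where
  C := CC (S : Subgroup G)
  W := zc (o2 (CC (S : Subgroup G)))
  Wc := ⊥
  comm a ha b hb := (MinSimple.VModule.mem_zc.1 hb).2.1 a (MinSimple.VModule.mem_zc.1 ha).1
  sq a ha := by rw [← pow_two]; exact (MinSimple.VModule.mem_zc.1 ha).2.2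
  normW c hc w hw := (mem_normalizer_iff.1 ((le_normalizer_o2 _).trans
    (MinSimple.VModule.normalizer_le_normalizer_zc _) hc) w).1 hw
  normWc c _ w hw := by
    rw [mem_bot] at hw ⊢
    rw [hw]; group

theorem p_inj {x y : G} (hx : x ∈ zc (o2 (CC (S : Subgroup G)))) (hy : y ∈ zc (o2 (CC (S : Subgroup G))))
    (h : q.D.p x = q.D.p y) : x = y := by
  have h1 : x * y = 1 := mem_bot.1 ((q.D.p_eq (x := x) (y := y) hx hy).1 h)
  have h2 : y * y = 1 := q.D.sq y hy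
  exact mul_right_cancel (h1.trans h2.symm)

theorem za_W (A : Set (Fin k)) : q.za A ∈ q.D.W := q.mem_zq (q.za_V A) (q.za_Q A)

theorem W_Q {x : G} (hx : x ∈ q.D.W) : x ∈ o2 (CC (S : Subgroup G)) := (MinSimple.VModule.mem_zc.1 hx).1

open Classical in
/-- the functional of `v_i` -/
noncomputable def nf (i : Fin k) (x : G) : ZMod 2 := if x * q.vi i * x⁻¹ = q.vi i then 0 else 1

theorem nf_zero {i : Fin k} {x : G} : q.nf i x = 0 ↔ x * q.vi i * x⁻¹ = q.vi i := by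
  unfold nf
  split_ifs with h
  · simp [h]
  · simp only [h, _root_.one_ne_zero]

theorem nf_one {i : Fin k} {x : G} (hx : x ∈ q.D.W) : q.nf i x = 1 → x * q.vi i * x⁻¹ = q.vi i * q.za {i} := by
  intro h
  refine (q.act_vi (q.W_Q hx) i).resolve_left fun h1 => ?_
  rw [q.nf_zero.2 h1] at h
  exact zero_ne_one h

theorem nf_mul {i : Fin k} {x y : G} (hx : x ∈ q.D.W) (hy : y ∈ q.D.W) :
    q.nf i (x * y) = q.nf i x + q.nf i y := by
  have hz : ∀ w ∈ q.D.W, w * q.za {i} * w⁻¹ = q.za {i} := fun w hw =>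
    q.cent (q.W_Q hw) (q.za_V _) (q.za_Q _)
  have e : x * y * q.vi i * (x * y)⁻¹ = x * (y * q.vi i * y⁻¹) * x⁻¹ := by group
  have hz1 : q.za {i} ≠ 1 := fun h => by
    have h1 := q.za_ne (Set.mem_singleton i)
    rw [h, e_one] at h1
    exact h1 rfl
  have hz2 : q.za {i} * q.za {i} = 1 := q.D.sq _ (q.za_W _)
  have h11 : (1 : ZMod 2) + 1 = 0 := by decide
  rcases zmod_or (q.nf i x) with h1 | h1 <;> rcases zmod_or (q.nf i y) with h2 | h2
  · rw [h1, h2, add_zero, nf_zero, e, q.nf_zero.1 h2, q.nf_zero.1 h1]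
  · rw [h1, h2, zero_add]
    refine (zmod_or _).resolve_left fun h3 => hz1 ?_
    rw [nf_zero, e, q.nf_one hy h2] at h3
    have e2 : x * (q.vi i * q.za {i}) * x⁻¹ = (x * q.vi i * x⁻¹) * (x * q.za {i} * x⁻¹) := by group
    rw [e2, q.nf_zero.1 h1, hz x hx] at h3
    exact mul_eq_left.1 h3
  · rw [h1, h2, add_zero]
    refine (zmod_or _).resolve_left fun h3 => hz1 ?_
    rw [nf_zero, e, q.nf_zero.1 h2, q.nf_one hx h1] at h3
    exact mul_eq_left.1 h3
  · rw [h1, h2, h11, nf_zero, e, q.nf_one hy h2]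
    have e2 : x * (q.vi i * q.za {i}) * x⁻¹ = (x * q.vi i * x⁻¹) * (x * q.za {i} * x⁻¹) := by group
    rw [e2, q.nf_one hx h1, hz x hx, mul_assoc, hz2, mul_one]

/-- the functional on the module -/
noncomputable def nu (i : Fin k) : q.D.Q →+ ZMod 2 where
  toFun m := q.nf i (q.D.p_surj m).choose
  map_zero' := by
    have h := (q.D.p_surj (0 : q.D.Q)).choose_spec
    set x := (q.D.p_surj (0 : q.D.Q)).choose with hx
    have h1 : x = 1 := q.p_inj h.1 (one_mem _) (by rw [h.2, q.D.p_one])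
    rw [h1, nf_zero]
    group
  map_add' m n := by
    have h1 := (q.D.p_surj m).choose_spec
    have h2 := (q.D.p_surj n).choose_spec
    have h3 := (q.D.p_surj (m + n)).choose_spec
    rw [← q.nf_mul h1.1 h2.1]
    congr 1
    apply q.p_inj h3.1 (mul_mem h1.1 h2.1)
    rw [h3.2, q.D.p_mul h1.1 h2.1, h1.2, h2.2]

theorem nu_p {i : Fin k} {x : G} (hx : x ∈ q.D.W) : q.nu i (q.D.p x) = q.nf i x := by
  have h1 := (q.D.p_surj (q.D.p x)).choose_spec
  have h2 : (q.D.p_surj (q.D.p x)).choose = x := q.p_inj h1.1 hx h1.2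
  change q.nf i (q.D.p_surj (q.D.p x)).choose = _
  rw [h2]

/-- `v_i` in `C` -/
noncomputable def vc (i : Fin k) : q.D.C := ⟨q.vi i, q.vi_C i⟩

theorem vi_mul (i : Fin k) : q.vi i * q.vi i = 1 := by
  rw [← pow_two]; exact q.A.sq _ (q.vi_V i)

theorem tv (i : Fin k) : WR.Comp.TV (q.vc i) (q.nu i) (q.D.p (q.za {i})) := by
  intro m
  obtain ⟨x, hx, rfl⟩ := q.D.p_surj m
  have hvi : (q.vi i)⁻¹ = q.vi i := inv_eq_of_mul_eq_one_left (q.vi_mul i)
  rw [q.nu_p hx, q.D.p_act _ hx]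
  change (q.nf i x = 0 → q.D.p (q.vi i * x * (q.vi i)⁻¹) = q.D.p x) ∧
    (q.nf i x = 1 → q.D.p (q.vi i * x * (q.vi i)⁻¹) = q.D.p x + q.D.p (q.za {i}))
  constructor
  · intro h
    rw [nf_zero] at h
    congr 1
    have h1 : x * q.vi i = q.vi i * x := by
      calc x * q.vi i = (x * q.vi i * x⁻¹) * x := by group
        _ = q.vi i * x := by rw [h]
    rw [← h1]; group
  · intro h
    have h1 := q.nf_one hx h
    rw [← q.D.p_mul hx (q.za_W _)]
    congr 1
    have h2 : x * q.vi i = q.vi i * q.za {i} * x := by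
      calc x * q.vi i = (x * q.vi i * x⁻¹) * x := by group
        _ = q.vi i * q.za {i} * x := by rw [h1]
    have h3 : q.za {i} * x = x * q.za {i} := q.D.comm _ (q.za_W _) x hx
    calc q.vi i * x * (q.vi i)⁻¹ = q.vi i * (x * q.vi i) := by rw [hvi]; group
      _ = q.vi i * (q.vi i * q.za {i} * x) := by rw [h2]
      _ = (q.vi i * q.vi i) * (q.za {i} * x) := by group
      _ = x * q.za {i} := by rw [q.vi_mul, one_mul, h3]

theorem cen (i j : Fin k) : q.nu i (q.D.p (q.za {j})) = 0 := by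
  rw [q.nu_p (q.za_W _), nf_zero, q.A.comm _ (q.za_V _) _ (q.vi_V i)]
  group

/-- the sum of the `z_i` -/
theorem sum_za (s : Finset (Fin k)) : ∑ i ∈ s, q.D.p (q.za {i}) = q.D.p (q.za (s : Set (Fin k))) := by
  classical
  induction s using Finset.induction_on with
  | empty =>
    rw [Finset.sum_empty]
    have h : q.za ((∅ : Finset (Fin k)) : Set (Fin k)) = 1 :=
      eq_one q.M (q.za_V _) (funext fun i => q.za_out (by simp))
    rw [h, q.D.p_one]
  | insert a s has ih =>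
    rw [Finset.sum_insert has, ih, ← q.D.p_mul (q.za_W _) (q.za_W _)]
    congr 1
    apply inj q.M (mul_mem (q.za_V _) (q.za_V _)) (q.za_V _)
    rw [q.M.mul _ (q.za_V _) _ (q.za_V _)]
    funext i
    rw [Pi.add_apply]
    by_cases hi : i = a
    · subst hi
      rw [q.za_in (Set.mem_singleton i), q.za_out (A := (s : Set (Fin k))) (by simpa using has),
        q.za_in (A := ((insert i s : Finset (Fin k)) : Set (Fin k))) (by simp), add_zero]
    · rw [q.za_out (A := {a}) (fun h => hi h), zero_add]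
      by_cases his : i ∈ s
      · rw [q.za_in (A := (s : Set (Fin k))) (by simpa using his),
          q.za_in (A := ((insert a s : Finset (Fin k)) : Set (Fin k))) (by simp [his])]
      · rw [q.za_out (A := (s : Set (Fin k))) (by simpa using his),
          q.za_out (A := ((insert a s : Finset (Fin k)) : Set (Fin k))) (by simp [his, hi])]

/-- an element of `V ∩ Q` is `z A`, `A` its support -/
theorem eq_za {w : G} (hw : w ∈ zl (S : Subgroup G) P) (hwQ : w ∈ o2 (CC (S : Subgroup G))) {A : Set (Fin k)}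
    (hA : ∀ i, q.M.e w i = 0 ↔ i ∉ A) : w = q.za A := by
  apply inj q.M hw (q.za_V A)
  funext i
  by_cases hi : i ∈ A
  · have h1 : q.M.e w i 1 = 0 := (q.hE w hw).1 hwQ i
    have h2 : q.M.e w i ≠ 0 := fun h => (hA i).1 h hi
    rw [q.za_in hi]
    apply NatPair.ext2
    · refine (q.two _).resolve_left fun h3 => h2 (NatPair.ext2 h3 h1)
    · rw [h1]; rfl
  · rw [(hA i).2 hi, q.za_out hi]

/-- the elements of `S` permute the `z A` -/
theorem conj_za {t : G} (ht : t ∈ (S : Subgroup G)) {σ : Equiv.Perm (Fin k)} (hσ : Mv q.M t σ)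
    (A : Set (Fin k)) : t * q.za A * t⁻¹ = q.za (σ '' A) := by
  have htC : t ∈ CC (S : Subgroup G) := Cfg.S_le_CC S ht
  apply q.eq_za (q.conj_V (q.cfg.S_le ht) (q.za_V A))
    ((mem_normalizer_iff.1 (le_normalizer_o2 _ htC) _).1 (q.za_Q A))
  intro i
  obtain ⟨j, rfl⟩ := σ.surjective i
  rw [hσ _ (q.za_V A) j, Function.Injective.mem_set_image σ.injective]
  constructor
  · intro h hj
    exact q.za_ne hj h
  · intro h
    exact q.za_out h

theorem za_univ : q.za Set.univ ∈ zc (S : Subgroup G) := by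
  refine MinSimple.VModule.mem_zc.2 ⟨q.A.VT (q.za_V _), fun t ht => ?_, q.A.sq _ (q.za_V _)⟩
  obtain ⟨σ, hσ⟩ := exists_mv (M := q.M) q.A ht
  have h := q.conj_za ht hσ Set.univ
  rw [Set.image_univ_of_surjective σ.surjective] at h
  calc t * q.za Set.univ = (t * q.za Set.univ * t⁻¹) * t := by group
    _ = q.za Set.univ * t := by rw [h]

theorem conj_univ {c : G} (hc : c ∈ CC (S : Subgroup G)) : c * q.za Set.univ * c⁻¹ = q.za Set.univ := by
  have h := mem_centralizer_iff.1 hc _ q.za_univ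
  rw [← h]; group

theorem za_compl (A : Set (Fin k)) : q.za A * q.za Aᶜ = q.za Set.univ := by
  apply inj q.M (mul_mem (q.za_V _) (q.za_V _)) (q.za_V _)
  rw [q.M.mul _ (q.za_V _) _ (q.za_V _)]
  funext i
  rw [Pi.add_apply, q.za_in (Set.mem_univ i)]
  by_cases hi : i ∈ A
  · rw [q.za_in hi, q.za_out (fun h : i ∈ Aᶜ => h hi), add_zero]
  · rw [q.za_out hi, q.za_in (show i ∈ Aᶜ from hi), zero_add]

theorem full {A : Set (Fin k)} : ∀ i ∈ A, q.M.e (q.za A) i ≠ 0 := fun _ hi => q.za_ne hi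

/-- some conjugate of `z_j` is moved by `v_i` -/
theorem hit {B : Set (Fin k)} (hB : Blk q.M B) (i j : Fin k) :
    ∃ r ∈ WR.Comp.PP q.D.C (q.D.p (q.za {j})), q.nu i r = 1 := by
  by_contra hcon
  push Not at hcon
  -- `v_i` centralises all conjugates of `z_j`
  have h1 : ∀ c ∈ CC (S : Subgroup G), c * q.za {j} * c⁻¹ * q.vi i = q.vi i * (c * q.za {j} * c⁻¹) := by
    intro c hc
    have hW : c * q.za {j} * c⁻¹ ∈ q.D.W := q.D.normW c hc _ (q.za_W _)
    have h2 : q.nu i (q.D.p (c * q.za {j} * c⁻¹)) ≠ 1 := by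
      apply hcon
      exact ⟨⟨c, hc⟩, q.D.p_act _ (q.za_W _)⟩
    rw [q.nu_p hW] at h2
    have h3 := q.nf_zero.1 ((zmod_or _).resolve_right h2)
    set y := c * q.za {j} * c⁻¹ with hy
    calc y * q.vi i = (y * q.vi i * y⁻¹) * y := by group
      _ = q.vi i * y := by rw [h3]
  let X : Set G := {x | ∃ c ∈ CC (S : Subgroup G), x = c * q.za {j} * c⁻¹}
  let N : Subgroup G := CC (S : Subgroup G) ⊓ centralizer X
  have hnor : CC (S : Subgroup G) ≤ normalizer (N : Set G) := by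
    have key : ∀ c ∈ CC (S : Subgroup G), ∀ n ∈ N, c * n * c⁻¹ ∈ N := by
      rintro c hc n ⟨hn, hn'⟩
      refine ⟨Subgroup.mul_mem _ (Subgroup.mul_mem _ hc hn) (Subgroup.inv_mem _ hc), mem_centralizer_iff.2 ?_⟩
      rintro x ⟨d, hd, rfl⟩
      have h2 := mem_centralizer_iff.1 hn' (c⁻¹ * d * q.za {j} * (c⁻¹ * d)⁻¹) ⟨c⁻¹ * d,
        mul_mem (inv_mem hc) hd, rfl⟩
      calc d * q.za {j} * d⁻¹ * (c * n * c⁻¹) = c * (c⁻¹ * d * q.za {j} * (c⁻¹ * d)⁻¹ * n) * c⁻¹ := by group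
        _ = c * (n * (c⁻¹ * d * q.za {j} * (c⁻¹ * d)⁻¹)) * c⁻¹ := by rw [h2]
        _ = c * n * c⁻¹ * (d * q.za {j} * d⁻¹) := by group
    intro c hc
    rw [mem_normalizer_iff]
    intro n
    refine ⟨fun h => key c hc n h, fun h => ?_⟩
    have h2 := key c⁻¹ (inv_mem hc) _ h
    have e : c⁻¹ * (c * n * c⁻¹) * c⁻¹⁻¹ = n := by group
    rwa [e] at h2
  -- `N` centralises all `z A`
  have hX : ∀ l, q.za {l} ∈ X := by
    intro l
    obtain ⟨t, ht, h5⟩ := q.M.trans j l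
    obtain ⟨σ, hσ⟩ := exists_mv (M := q.M) q.A ht
    have h6 := hσ.unique q.M q.A (q.A.TH ht) h5
    refine ⟨t, Cfg.S_le_CC S ht, ?_⟩
    rw [q.conj_za ht hσ, Set.image_singleton, h6]
  have hcent : ∀ s : Finset (Fin k), ∀ n ∈ N, n * q.za (s : Set (Fin k)) = q.za (s : Set (Fin k)) * n := by
    classical
    intro s n hn
    have hnC : n ∈ q.D.C := hn.1
    have h2 : (⟨n, hnC⟩ : q.D.C) • q.D.p (q.za (s : Set (Fin k))) = q.D.p (q.za (s : Set (Fin k))) := by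
      rw [← q.sum_za, Finset.smul_sum]
      refine Finset.sum_congr rfl fun l _ => ?_
      rw [q.D.p_act _ (q.za_W _)]
      congr 1
      have h3 := mem_centralizer_iff.1 hn.2 _ (hX l)
      change n * q.za {l} * n⁻¹ = q.za {l}
      rw [← h3]; group
    rw [q.D.p_act _ (q.za_W _)] at h2
    have h3 := q.p_inj (q.D.normW n hnC _ (q.za_W _)) (q.za_W _) h2
    calc n * q.za (s : Set (Fin k)) = (n * q.za (s : Set (Fin k)) * n⁻¹) * n := by group
      _ = q.za (s : Set (Fin k)) * n := by rw [h3]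
  have hcentA : ∀ A : Set (Fin k), N ≤ centralizer ({q.za A} : Set G) := by
    intro A n hn
    have h2 := hcent A.toFinite.toFinset n hn
    rw [Set.Finite.coe_toFinset] at h2
    exact mem_centralizer_singleton_iff.2 h2
  have hfin := bprime q.cfg hB (q.za_mem B) q.full (q.za_mem Bᶜ) q.full (N := N) inf_le_left hnor
    (hcentA B) (hcentA Bᶜ)
  apply q.vi_not i
  apply hfin
  refine ⟨q.vi_V i, q.vi_C i, mem_centralizer_iff.2 ?_⟩
  rintro x ⟨c, hc, rfl⟩
  exact h1 c hc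

open Classical in
/-- **(N5)** for the halving `B` -/
theorem half_data {B : Set (Fin k)} (hB : Blk q.M B) (j : Fin k) :
    WR.Comp.Half q.D.C (q.D.p (q.za {j})) (fun i => q.D.p (q.za {i})) q.vc q.nu B.toFinite.toFinset where
  two := q.D.p_add_self
  ne := by
    intro h
    have h1 : q.za {j} = 1 := mem_bot.1 ((q.D.p_ker (q.za_W _)).1 h)
    have h2 := q.za_ne (Set.mem_singleton j)
    rw [h1, e_one] at h2
    exact h2 rfl
  mem i := by
    obtain ⟨t, ht, h5⟩ := q.M.trans j i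
    obtain ⟨σ, hσ⟩ := exists_mv (M := q.M) q.A ht
    have h6 := hσ.unique q.M q.A (q.A.TH ht) h5
    refine ⟨⟨t, Cfg.S_le_CC S ht⟩, ?_⟩
    rw [q.D.p_act _ (q.za_W _)]
    change q.D.p (t * q.za {j} * t⁻¹) = _
    rw [q.conj_za ht hσ, Set.image_singleton, h6]
  tv := q.tv
  cen := q.cen
  hit i := q.hit hB i j
  fix c := by
    have h := q.sum_za Finset.univ
    rw [Finset.coe_univ] at h
    rw [h, q.D.p_act _ (q.za_W _)]
    congr 1
    exact q.conj_univ c.2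
  kl i c hc := by
    have h := q.sum_za B.toFinite.toFinset
    rw [Set.Finite.coe_toFinset] at h
    rw [h, q.D.p_act _ (q.za_W _)] at hc
    have h1 : (c : G) * q.za B * (c : G)⁻¹ = q.za B := q.p_inj (q.D.normW c c.2 _ (q.za_W _)) (q.za_W _) hc
    have h2 : (c : G) * q.za Bᶜ * (c : G)⁻¹ = q.za Bᶜ := by
      have h3 := q.conj_univ c.2
      rw [← q.za_compl B] at h3
      have e : (c : G) * (q.za B * q.za Bᶜ) * (c : G)⁻¹ =
        ((c : G) * q.za B * (c : G)⁻¹) * ((c : G) * q.za Bᶜ * (c : G)⁻¹) := by group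
      rw [e, h1] at h3
      exact mul_left_cancel h3
    set X : Subgroup G := centralizer ({q.za B} : Set G) ⊓ centralizer ({q.za Bᶜ} : Set G) with hX
    have hcX : (c : G) ∈ X := by
      refine ⟨mem_centralizer_singleton_iff.2 ?_, mem_centralizer_singleton_iff.2 ?_⟩
      · calc (c : G) * q.za B = ((c : G) * q.za B * (c : G)⁻¹) * c := by group
          _ = q.za B * c := by rw [h1]
      · calc (c : G) * q.za Bᶜ = ((c : G) * q.za Bᶜ * (c : G)⁻¹) * c := by group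
          _ = q.za Bᶜ * c := by rw [h2]
    have hvX : q.vi i ∈ X := ⟨mem_centralizer_singleton_iff.2 (q.A.comm _ (q.vi_V i) _ (q.za_V _)),
      mem_centralizer_singleton_iff.2 (q.A.comm _ (q.vi_V i) _ (q.za_V _))⟩
    have hv : q.vi i ∈ o2 X := full_full q.cfg hB (q.za_mem B) q.full (q.za_mem Bᶜ) q.full
      inf_le_left inf_le_right ⟨q.vi_V i, hvX⟩
    have hv' : (c : G) * q.vi i * (c : G)⁻¹ ∈ o2 X :=
      (mem_normalizer_iff.1 (le_normalizer_o2 X hcX) _).1 hv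
    obtain ⟨m, hm⟩ := isPGroup_o2 X ⟨_, mul_mem hv hv'⟩
    refine ⟨m, Subtype.ext ?_⟩
    have h3 := congrArg Subtype.val hm
    rw [SubmonoidClass.coe_pow] at h3
    rw [SubmonoidClass.coe_pow]
    exact h3

/-! ### The end -/

/-- the component of `z_i` -/
def cmp (i : Fin k) : Set (Fin k) :=
  {l | WR.Comp.Conn q.D.C (q.D.p (q.za {i})) (q.D.p (q.za {i})) (q.D.p (q.za {l}))}

theorem p_za_ne (j : Fin k) : q.D.p (q.za {j}) ≠ 0 := by
  intro h
  have h1 : q.za {j} = 1 := mem_bot.1 ((q.D.p_ker (q.za_W _)).1 h)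
  have h2 := q.za_ne (Set.mem_singleton j)
  rw [h1, e_one] at h2
  exact h2 rfl

theorem cmp_block (i : Fin k) {t : G} (ht : t ∈ (S : Subgroup G)) {σ : Equiv.Perm (Fin k)} (hσ : Mv q.M t σ)
    (hne : (σ '' q.cmp i ∩ q.cmp i).Nonempty) : σ '' q.cmp i = q.cmp i := by
  set z0 := q.D.p (q.za {i}) with hz0
  have key : ∀ {t : G} (ht : t ∈ (S : Subgroup G)) {σ : Equiv.Perm (Fin k)} (hσ : Mv q.M t σ) (a b : Fin k),
      WR.Comp.Conn q.D.C z0 (q.D.p (q.za {a})) (q.D.p (q.za {b})) →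
      WR.Comp.Conn q.D.C z0 (q.D.p (q.za {σ a})) (q.D.p (q.za {σ b})) := by
    intro t ht σ hσ a b hab
    have h1 := hab.smul (⟨t, Cfg.S_le_CC S ht⟩ : q.D.C)
    have h2 : ∀ l, (⟨t, Cfg.S_le_CC S ht⟩ : q.D.C) • q.D.p (q.za {l}) = q.D.p (q.za {σ l}) := by
      intro l
      rw [q.D.p_act _ (q.za_W _)]
      change q.D.p (t * q.za {l} * t⁻¹) = _
      rw [q.conj_za ht hσ, Set.image_singleton]
    rwa [h2, h2] at h1
  have hsymm : ∀ {a b : q.D.Q}, WR.Comp.Conn q.D.C z0 a b → WR.Comp.Conn q.D.C z0 b a := fun h =>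
    h.symm q.D.p_add_self (q.p_za_ne i)
  obtain ⟨_, ⟨l, hl, rfl⟩, hl'⟩ := hne
  -- `z_i ~ z_{σ i}`
  have h1 : WR.Comp.Conn q.D.C z0 z0 (q.D.p (q.za {σ i})) := by
    have h2 := key ht hσ i l hl
    exact Relation.ReflTransGen.trans hl' (hsymm h2)
  ext m
  constructor
  · rintro ⟨n, hn, rfl⟩
    exact Relation.ReflTransGen.trans h1 (key ht hσ i n hn)
  · intro hm
    refine ⟨σ.symm m, ?_, σ.apply_symm_apply m⟩
    have h3 : WR.Comp.Conn q.D.C z0 (q.D.p (q.za {σ i})) (q.D.p (q.za {m})) :=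
      Relation.ReflTransGen.trans (hsymm h1) hm
    have h4 := key (inv_mem ht) (hσ.inv q.M q.A (q.A.TH ht)) (σ i) m h3
    rwa [σ.symm_apply_apply] at h4

theorem false_of (hk : 3 ≤ k) : False := by
  classical
  have hA := q.A
  let i : Fin k := ⟨0, by omega⟩
  have hi : i ∈ q.cmp i := Relation.ReflTransGen.refl
  by_cases hu : q.cmp i = Set.univ
  · -- all in one component
    obtain ⟨B, hB, hiB⟩ := exists_blk S q.M hA (by omega) i
    obtain ⟨h1, h2⟩ := (q.half_data hB i).odd_card i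
    have hall : ∀ l, WR.Comp.Conn q.D.C (q.D.p (q.za {i})) (q.D.p (q.za {i})) (q.D.p (q.za {l})) := by
      intro l
      have : l ∈ q.cmp i := by rw [hu]; exact Set.mem_univ l
      exact this
    rw [Finset.filter_true_of_mem (fun l _ => hall l)] at h1 h2
    -- the two halves have the same size
    obtain ⟨s, hs, hsn⟩ := exists_swap hA hB
    obtain ⟨σ, hσ⟩ := exists_mv (M := q.M) hA hs
    have h3 : σ '' B = Bᶜ := (hB.blk s hs σ hσ).resolve_left fun h => hsn ((mem_So hA hB hs hσ).2 h)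
    have h4 : (Finset.univ \ B.toFinite.toFinset).card = B.toFinite.toFinset.card := by
      have h5 : (Finset.univ \ B.toFinite.toFinset : Finset (Fin k)) = B.toFinite.toFinset.map σ.toEmbedding := by
        apply Finset.coe_injective
        rw [Finset.coe_map, Finset.coe_sdiff, Finset.coe_univ, Set.Finite.coe_toFinset]
        change Set.univ \ B = σ '' B
        rw [h3, Set.compl_eq_univ_sdiff]
      rw [h5, Finset.card_map]
    have h5 : (Finset.univ \ B.toFinite.toFinset : Finset (Fin k)).card + B.toFinite.toFinset.card = k := by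
      rw [Finset.card_sdiff_add_card_eq_card (Finset.subset_univ _), Finset.card_univ, Fintype.card_fin]
    -- `k` is a power of two
    have h6 : k ∣ Nat.card (S : Subgroup G) := ⟨_, IId.card_stab q.M q.cfg.S_le i⟩
    have : Fact (Nat.Prime 2) := ⟨Nat.prime_two⟩
    obtain ⟨n, hn⟩ := IsPGroup.iff_card.1 S.isPGroup'
    rw [hn, Nat.dvd_prime_pow Nat.prime_two] at h6
    obtain ⟨a, -, ha⟩ := h6
    obtain ⟨c, hc⟩ := h1
    rw [h4, hc, ha] at h5
    rcases a with _ | _ | a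
    · omega
    · omega
    · have : 2 ^ (a + 1 + 1) = 4 * 2 ^ a := by ring
      omega
  · obtain ⟨B, hB, hiB⟩ := exists_blk_of q.M hA S.isPGroup' hi hu fun t ht σ hσ hne => q.cmp_block i ht hσ hne
    obtain ⟨-, h2⟩ := (q.half_data hB i).odd_card i
    rw [Finset.filter_false_of_mem] at h2
    · simp at h2
    · intro l hl hc
      have h3 := (@Finset.mem_sdiff (Fin k) (fun a b => Classical.propDecidable (a = b)) _ _ _).1 hl
      exact h3.2 ((Set.Finite.mem_toFinset _).2 (hiB hc))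

end QTwo

/-- **(Q), `q = 2`, `k ≥ 3` is impossible.** -/
theorem main_two (h : Cfg S P) (M : NatK F (S : Subgroup G) P (zl (S : Subgroup G) P) ⊥ k) (hk : 3 ≤ k)
    (hF : Nat.card F = 2)
    (hE : ∀ v ∈ zl (S : Subgroup G) P, v ∈ o2 (CC (S : Subgroup G)) ↔ ∀ i, M.e v i 1 = 0) : False := by
  have h2 : ∀ x : F, x = 0 ∨ x = 1 := by
    have : Finite F := Nat.finite_of_card_ne_zero (by omega)
    have : Fintype F := Fintype.ofFinite F
    classical
    intro x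
    by_contra hcon
    push Not at hcon
    have h3 : ({0, 1, x} : Finset F).card = 3 := by
      rw [Finset.card_eq_three]
      exact ⟨0, 1, x, zero_ne_one, hcon.1.symm, hcon.2.symm, rfl⟩
    have h4 := Finset.card_le_univ ({0, 1, x} : Finset F)
    rw [h3, ← Nat.card_eq_fintype_card, hF] at h4
    omega
  exact (⟨h, M, h2, hE⟩ : QTwo S P F k).false_of hk

end Cfsg.Agent.Omega.NO1.NatWr

end

section


/-!
# The leaf N1: `V_P` the sum of `k ≥ 2` natural modules (THEOREM WR #15037)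

`natMany : NO1.NatMany`, from
* `Many.trich` (helper727): (Q) or `k = 2`, `|F| = 2`; `Many.plus2_of`: the latter is `V = O₄⁺(2)`;
* `NatWr.main_two`: (Q), `|F| = 2`, `k ≥ 3` is impossible; and `k = 2`, `|F| = 2` is the same type;
* `NSix.main` (helper675): (Q), `|F| ≥ 4` is impossible.
-/

set_option autoImplicit false

namespace Cfsg.Agent.Omega.NO1

open Subgroup Cfsg Cfsg.Agent.ZN Cfsg.Agent.Omega.MinPar
open Cfsg.Agent.Omega.FFThm (NatK)
open Cfsg.Agent.Omega.FrameFF (cv)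

universe u

/-- **`V_P` the sum of `k ≥ 2` natural modules**: `V_P = O₄⁺(2)`. -/
theorem natMany : NatMany.{u} := by
  intro G _ _ S P h F _ _ _ k hk M
  rcases Nat.lt_or_ge (Nat.card F) 3 with hF3 | hF3
  · have hF : Nat.card F = 2 := by
      have h1 : 1 < Nat.card F := Finite.one_lt_card
      omega
    rcases Nat.lt_or_ge k 3 with hk3 | hk3
    · obtain rfl : k = 2 := by omega
      exact Many.ty_of_two h hF M
    · have hcv : cv (S : Subgroup G) P = ⊥ := h.one.cen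
      rw [hcv] at M
      rcases Many.trich h M hk with hE | ⟨-, hk2⟩
      · exact (NatWr.main_two h M hk3 hF hE).elim
      · omega
  · have hcv : cv (S : Subgroup G) P = ⊥ := h.one.cen
    have hF4 : 4 ≤ Nat.card F := by
      have : Fintype F := Fintype.ofFinite F
      obtain ⟨n, -, hn⟩ := FiniteField.card F 2
      rw [Nat.card_eq_fintype_card] at hF3 ⊢
      rw [hn] at hF3 ⊢
      rcases Nat.lt_or_ge (n : ℕ) 2 with h2 | h2
      · have h1 : (n : ℕ) = 1 := by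
          have := n.pos
          omega
        rw [h1] at hF3
        omega
      · calc 4 = 2 ^ 2 := by norm_num
          _ ≤ 2 ^ (n : ℕ) := Nat.pow_le_pow_right (by norm_num) h2
    rw [hcv] at M
    rcases Many.trich h M hk with hE | ⟨hF2, -⟩
    · exact (NSix.main h M hk hF4 hE).elim
    · omega

end Cfsg.Agent.Omega.NO1

end

end

private theorem dce_5ad03bd1c8e5 : _root_.True := by
  try have : _root_.True := by simp only [_root_.Cfsg.Agent.Omega.NO1.Many.zz.eq_1]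
  try have : _root_.True := by simp only [_root_.Cfsg.Agent.Omega.NO1.Cfg.congr_simp]
  try have : _root_.True := by simp only [_root_.Cfsg.Agent.Omega.NO1.NSix.CaseQ.sm.eq_1]
  try have : _root_.True := by simp only [_root_.Cfsg.Agent.Omega.NO1.Many.aff.congr_simp]
  try have : _root_.True := by simp only [_root_.Cfsg.Agent.Omega.NO1.Many.av.eq_1]
  exact _root_.True.intro
end

-- part: Mrg/Omega/NO3S/TwoOne/PlaneKA
section
prune_inst 0xc43024044122020000000512b0003c46de000592006f0001d1e00f42078eff204502af60cca03d121802aa040034006003880050420000000a000400011d01a080aa52069348a10426008f813087180c00000000000000000000000000041000000000000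
set_option linter.all false
open scoped Cfsg.Agent.FastGrp

section


/-!
# NO-3S, `q = 2`, `n = 1`: planes on which all `W_q` have the same image (THEOREM P, part 1)

* `Sp p q x` : `x ∈ ⟨p, q⟩ = {1, p, q, pq}`;
* `Pa V U` : `U` is a plane, and for each `t ∈ U#` all `W_q`, `q ∈ U - ⟨t⟩`, have the same image in `C_G(t) / K_t`;
* `Ps V U` : the facts about such a plane which are used below (`Pa.ps`: they hold if `NT V`, i.e. if `A` contains
  no `λ`-transvections).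
-/

set_option autoImplicit false
set_option linter.unusedSectionVars false

namespace Cfsg.Agent.Omega.NO3S.TwoOne

open Subgroup Cfsg Cfsg.Agent.ZN Cfsg.Agent.MinSimple.Geo Cfsg.Agent.Omega.CaseL
open Cfsg.Agent.ZN.Block (conj_mem_of_normalizer conj_mem_of_normalizer' le_normalizer_of_forall
  mem_normalizer_of)
open scoped commutatorElement

universe u

variable {G : Type u} [Group G]

/-- `x ∈ {1, p, q, p q}` -/
def Sp (p q x : G) : Prop := x = 1 ∨ x = p ∨ x = q ∨ x = p * q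

theorem Sp.mul {p q x y : G} (hp : p * p = 1) (hq : q * q = 1) (hpq : p * q = q * p) (hx : Sp p q x)
    (hy : Sp p q y) : Sp p q (x * y) := by
  have h1 : p * (p * q) = q := by rw [← mul_assoc, hp, one_mul]
  have h2 : q * (p * q) = p := by rw [hpq, ← mul_assoc, hq, one_mul]
  have h3 : p * q * p = q := by rw [hpq, mul_assoc, hp, mul_one]
  have h4 : p * q * q = p := by rw [mul_assoc, hq, mul_one]
  have h5 : p * q * (p * q) = 1 := by rw [← mul_assoc, h3, hq]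
  rcases hx with hx | hx | hx | hx <;> rcases hy with hy | hy | hy | hy <;> rw [hx, hy]
  · left; exact one_mul 1
  · right; left; exact one_mul p
  · right; right; left; exact one_mul q
  · right; right; right; exact one_mul _
  · right; left; exact mul_one p
  · left; exact hp
  · right; right; right; rfl
  · right; right; left; exact h1
  · right; right; left; exact mul_one q
  · right; right; right; exact hpq.symm
  · left; exact hq
  · right; left; exact h2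
  · right; right; right; exact mul_one _
  · right; right; left; exact h3
  · right; left; exact h4
  · left; exact h5

/-- a plane on which all `W_q` have the same image -/
structure Pa (V U : Subgroup G) : Prop where
  pl : Pln V U
  pa : ∀ t ∈ U, t ≠ 1 → ∀ q ∈ U, q ≠ 1 → q ≠ t → ∀ q' ∈ U, q' ≠ 1 → q' ≠ t → ∀ a ∈ ws V q,
    ∃ b ∈ ws V q', a * b⁻¹ ∈ kq V t

theorem Pln.conj {V U : Subgroup G} (h : Pln V U) (g : G) : Pln V (cj g U) where
  card := by rw [card_cj, h.card]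
  sq := by
    intro u hu
    have := h.sq _ (mem_of_cj hu)
    calc u * u = g * (g⁻¹ * u * g * (g⁻¹ * u * g)) * g⁻¹ := by group
      _ = 1 := by rw [this]; group
  line := by
    intro p hp q hq hp1 hq1 hpq
    obtain ⟨L, hL, hqL⟩ := h.line _ (mem_of_cj hp) _ (mem_of_cj hq) (conj_ne_one hp1) (conj_ne_one hq1)
      (fun e => hpq (by
        calc p = g * (g⁻¹ * p * g) * g⁻¹ := by group
          _ = g * (g⁻¹ * q * g) * g⁻¹ := by rw [e]
          _ = q := by group))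
    refine ⟨cj g L, ?_, ?_⟩
    · have := mem_lines_cj (g := g) hL
      have e : g * (g⁻¹ * p * g) * g⁻¹ = p := by group
      rwa [e] at this
    · have := conj_mem_cj (g := g) hqL
      have e : g * (g⁻¹ * q * g) * g⁻¹ = q := by group
      rwa [e] at this

theorem Pa.conj {V U : Subgroup G} (h : Pa V U) (g : G) : Pa V (cj g U) where
  pl := h.pl.conj g
  pa := by
    intro t ht ht1 q hq hq1 hqt q' hq' hq1' hqt' a ha
    have hne : ∀ {x y : G}, x ≠ y → g⁻¹ * x * g ≠ g⁻¹ * y * g := fun {x y} hxy e => hxy (by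
      calc x = g * (g⁻¹ * x * g) * g⁻¹ := by group
        _ = g * (g⁻¹ * y * g) * g⁻¹ := by rw [e]
        _ = y := by group)
    have ha' : g⁻¹ * a * g ∈ ws V (g⁻¹ * q * g) := by
      have := conj_mem_ws g⁻¹ ha
      rwa [inv_inv] at this
    obtain ⟨b, hb, hk⟩ := h.pa _ (mem_of_cj ht) (conj_ne_one ht1) _ (mem_of_cj hq) (conj_ne_one hq1)
      (hne hqt) _ (mem_of_cj hq') (conj_ne_one hq1') (hne hqt') _ ha'
    refine ⟨g * b * g⁻¹, ?_, ?_⟩
    · have := conj_mem_ws g hb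
      have e : g * (g⁻¹ * q' * g) * g⁻¹ = q' := by group
      rwa [e] at this
    · have := conj_mem_kq g hk
      have e1 : g * (g⁻¹ * t * g) * g⁻¹ = t := by group
      have e2 : g * (g⁻¹ * a * g * b⁻¹) * g⁻¹ = a * (g * b * g⁻¹)⁻¹ := by group
      rwa [e1, e2] at this

/-- the facts used below -/
structure Ps (V U : Subgroup G) : Prop where
  card : Nat.card U = 8
  sq : ∀ u ∈ U, u * u = 1
  le : ∀ p ∈ U, p ≠ 1 → U ≤ ws V p
  ab : ∀ p ∈ U, p ≠ 1 → ∀ a ∈ ws V p, ∀ b ∈ ws V p, a * b = b * a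
  sw : ∀ p ∈ U, p ≠ 1 → ∀ a ∈ ws V p, a * a = 1
  trv : ∀ p ∈ U, p ≠ 1 → ∀ q ∈ U, q ≠ 1 → q ≠ p → ∀ r ∈ U, r ≠ 1 → r ≠ p → r ≠ q → r ≠ p * q →
    ∃ k ∈ kq V p, k * q * k⁻¹ = p * q ∧ k * r * k⁻¹ = r
  ee : ∀ p ∈ U, p ≠ 1 → ∀ q ∈ U, q ≠ 1 → q ≠ p → ∀ w ∈ ws V p, w ∈ kq V q → w ∈ kq V (p * q)
  dz : ∀ p ∈ U, p ≠ 1 → ∀ q ∈ U, q ≠ 1 → q ≠ p → ∀ w ∈ ws V p, (∀ b ∈ ws V q, ⁅w, b⁆ ∈ zpowers p) →
    ∀ b ∈ ws V q, w * b = b * w
  phi : ∀ p ∈ U, p ≠ 1 → ∀ q ∈ U, q ≠ 1 → q ≠ p → ∃ e ∈ ws V p, e ∈ kq V q ∧ ∃ b ∈ ws V q, e * b ≠ b * e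
  nt : ∀ p ∈ U, p ≠ 1 → ∀ q ∈ U, q ≠ 1 → q ≠ p → ∀ b ∈ ws V q, (∀ a ∈ ws V p, Sp p q ⁅a, b⁆) → b ∈ kq V p
  pa : ∀ t ∈ U, t ≠ 1 → ∀ q ∈ U, q ≠ 1 → q ≠ t → ∀ q' ∈ U, q' ≠ 1 → q' ≠ t → ∀ a ∈ ws V q,
    ∃ b ∈ ws V q', a * b⁻¹ ∈ kq V t

theorem exists_notMem_of_card {U : Subgroup G} (hc : Nat.card U = 8) (S : Set G) (hS : S.ncard < 8) (hf : S.Finite) :
    ∃ r ∈ U, r ∉ S := by
  by_contra hcon
  push Not at hcon
  have h1 : (U : Set G) ⊆ S := fun x hx => hcon x hx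
  have h2 := Set.ncard_le_ncard h1 hf
  have h3 : (U : Set G).ncard = 8 := by
    rw [← hc]; rfl
  omega

theorem exists_ne {U : Subgroup G} (hc : Nat.card U = 8) (p : G) : ∃ q ∈ U, q ≠ 1 ∧ q ≠ p := by
  obtain ⟨r, hr, hrS⟩ := exists_notMem_of_card hc {1, p}
    (lt_of_le_of_lt (Set.ncard_insert_le _ _) (by rw [Set.ncard_singleton]; norm_num)) (Set.toFinite _)
  simp only [Set.mem_insert_iff, Set.mem_singleton_iff, not_or] at hrS
  exact ⟨r, hr, hrS.1, hrS.2⟩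

theorem exists_ne₂ {U : Subgroup G} (hc : Nat.card U = 8) (p q : G) :
    ∃ r ∈ U, r ≠ 1 ∧ r ≠ p ∧ r ≠ q ∧ r ≠ p * q := by
  have h4 : ({1, p, q, p * q} : Set G).ncard ≤ 4 := by
    refine (Set.ncard_insert_le _ _).trans ?_
    have := Set.ncard_insert_le p ({q, p * q} : Set G)
    have := Set.ncard_insert_le q ({p * q} : Set G)
    rw [Set.ncard_singleton] at this
    omega
  obtain ⟨r, hr, hrS⟩ := exists_notMem_of_card hc {1, p, q, p * q} (by omega) (Set.toFinite _)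
  simp only [Set.mem_insert_iff, Set.mem_singleton_iff, not_or] at hrS
  exact ⟨r, hr, hrS.1, hrS.2.1, hrS.2.2.1, hrS.2.2.2⟩

theorem conj_mem_ee' {V : Subgroup G} (g : G) {w p : G} (hw : w ∈ ee V p) :
    g * w * g⁻¹ ∈ ee (cj g V) (g * p * g⁻¹) := by
  refine ⟨by rw [ws_cj]; exact conj_mem_ws g hw.1, fun q hq hq1 => ?_⟩
  rw [kq_cj]
  have h1 := conj_mem_kq g (hw.2 _ (mem_of_cj hq) (conj_ne_one hq1))
  have e : g * (g⁻¹ * q * g) * g⁻¹ = q := by group
  rwa [e] at h1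

/-- `NT` is invariant under conjugation -/
theorem NT.conj {V : Subgroup G} (h : NT V) (g : G) : NT (cj g V) := by
  intro p hp hp1 w hw
  have hw' : g⁻¹ * w * g ∈ n0 V (g⁻¹ * p * g) := by
    obtain ⟨h1, h2, h3⟩ := hw
    rw [ws_cj] at h1
    refine ⟨?_, ?_, fun q hq hq1 b hb => ?_⟩
    · have := conj_mem_ws g⁻¹ h1
      rwa [inv_inv] at this
    · rw [mem_centralizer_iff]
      intro v hv
      have := mem_centralizer_iff.mp h2 _ (conj_mem_cj (g := g) hv)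
      calc v * (g⁻¹ * w * g) = g⁻¹ * (g * v * g⁻¹ * w) * g := by group
        _ = g⁻¹ * (w * (g * v * g⁻¹)) * g := by rw [this]
        _ = g⁻¹ * w * g * v := by group
    · have h4 := h3 _ (conj_mem_cj (g := g) hq) (fun e => hq1 (conj_eq_one_iff.mp e)) (g * b * g⁻¹)
        (by rw [ws_cj]; exact conj_mem_ws g hb)
      have h5 := mem_of_cj h4
      have e : g⁻¹ * ⁅w, g * b * g⁻¹⁆ * g = ⁅g⁻¹ * w * g, b⁆ := by
        simp only [commutatorElement_def]; group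
      rwa [e] at h5
  have h1 := conj_mem_ee' g (h _ (mem_of_cj hp) (conj_ne_one hp1) hw')
  have e1 : g * (g⁻¹ * w * g) * g⁻¹ = w := by group
  have e2 : g * (g⁻¹ * p * g) * g⁻¹ = p := by group
  rwa [e1, e2] at h1

/-- the line through two points of a plane -/
theorem One.exists_one {T V U : Subgroup G} {z : G} (h : One T V z) (hU : Pln V U) {p q : G} (hp : p ∈ U)
    (hp1 : p ≠ 1) (hq : q ∈ U) (hq1 : q ≠ 1) (hqp : q ≠ p) :
    ∃ T' g, One T' (cj g V) p ∧ p ∈ cj g V ∧ q ∈ cj g V := by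
  obtain ⟨L, hL, hqL⟩ := hU.line p hp q hq hp1 hq1 (Ne.symm hqp)
  obtain ⟨g, rfl, T', h'⟩ := h.of_line hL hp1
  exact ⟨T', g, h', hL.2, hqL⟩

theorem Pa.ps [Finite G] {T V U : Subgroup G} {z : G} (h : One T V z) (hN : NT V) (hU : Pa V U) : Ps V U where
  card := hU.pl.card
  sq := hU.pl.sq
  le := by
    intro p hp hp1 x hx
    by_cases hx1 : x = 1
    · rw [hx1]; exact one_mem _
    by_cases hxp : x = p
    · obtain ⟨q, hq, hq1, hqp⟩ := exists_ne hU.pl.card p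
      obtain ⟨L, hL, -⟩ := hU.pl.line p hp q hq hp1 hq1 (Ne.symm hqp)
      rw [hxp]; exact le_ws hL hL.2
    · obtain ⟨L, hL, hxL⟩ := hU.pl.line p hp x hx hp1 hx1 (Ne.symm hxp)
      exact le_ws hL hxL
  ab := by
    intro p hp hp1
    obtain ⟨q, hq, hq1, hqp⟩ := exists_ne hU.pl.card p
    obtain ⟨T', g, h', -, -⟩ := h.exists_one hU.pl hp hp1 hq hq1 hqp
    have := h'.ab
    rwa [ws_cj] at this
  sw := by
    intro p hp hp1
    obtain ⟨q, hq, hq1, hqp⟩ := exists_ne hU.pl.card p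
    obtain ⟨T', g, h', -, -⟩ := h.exists_one hU.pl hp hp1 hq hq1 hqp
    have := h'.sqz
    rwa [ws_cj] at this
  trv := by
    intro p hp hp1 q hq hq1 hqp r hr hr1 hrp hrq hrpq
    exact h.pln_trv hU.pl hp hp1 hq hq1 hqp hr hr1 hrp hrq hrpq
  ee := by
    intro p hp hp1 q hq hq1 hqp w hw hk
    obtain ⟨T', g, h', hpL, hqL⟩ := h.exists_one hU.pl hp hp1 hq hq1 hqp
    have h1 := h'.mem_ee hpL hp1 hqL hq1 hqp (w := w) (by rwa [ws_cj]) (by rwa [kq_cj])
    have h2 := h1.2 _ (mul_mem hpL hqL) (h'.mul_ne_one hqL (Ne.symm hqp))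
    rwa [kq_cj] at h2
  dz := by
    intro p hp hp1 q hq hq1 hqp w hw hc
    obtain ⟨T', g, h', hpL, hqL⟩ := h.exists_one hU.pl hp hp1 hq hq1 hqp
    have h1 := (h'.nt_mem_dd (hN.conj g) hpL hp1 hqL hq1 hqp (w := w)).mpr (by
      rw [ws_cj, ws_cj]; exact ⟨hw, hc⟩)
    have h2 := h1.2 _ hqL hq1
    rwa [ws_cj] at h2
  phi := by
    intro p hp hp1 q hq hq1 hqp
    obtain ⟨T', g, h', hpL, hqL⟩ := h.exists_one hU.pl hp hp1 hq hq1 hqp
    obtain ⟨e, he, b, hb, hc⟩ := h'.exists_ee_comm hpL hp1 (h'.nt_phi (hN.conj g) hpL hp1) hpL hp1 hqL hq1 hqp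
    refine ⟨e, ?_, ?_, b, ?_, fun e' => ?_⟩
    · have := he.1; rwa [ws_cj] at this
    · have := he.2 q hqL hq1; rwa [kq_cj] at this
    · rwa [ws_cj] at hb
    · rw [commutatorElement_eq_one_iff_mul_comm.mpr e'] at hc
      exact hq1 hc.symm
  nt := by
    intro p hp hp1 q hq hq1 hqp b hb hc
    obtain ⟨T', g, h', hpL, hqL⟩ := h.exists_one hU.pl hp hp1 hq hq1 hqp
    have hb' : b ∈ ws (cj g V) q := by rwa [ws_cj]
    have h1 : b ∈ n0 (cj g V) q := by
      refine h'.mem_n0 hqL hq1 hpL hp1 (Ne.symm hqp) hb' fun a ha => ?_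
      rw [h'.comm_swap hpL hp1 hqL hq1 ha hb']
      rw [ws_cj] at ha
      rcases hc a ha with e | e | e | e <;> rw [e]
      · exact one_mem _
      · exact hpL
      · exact hqL
      · exact mul_mem hpL hqL
    have h2 := ((hN.conj g) q hqL hq1 h1).2 p hpL hp1
    rwa [kq_cj] at h2
  pa := hU.pa

end Cfsg.Agent.Omega.NO3S.TwoOne

end

section


/-!
# NO-3S, `q = 2`, `n = 1`: planes on which all `W_q` have the same image (THEOREM P, part 2)

`P : Ps V U`.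

* `Ps.alpha` : `[W_p ∩ K_q, W_s] ≤ ⟨p, q⟩` for all points `s` of `U`;
* `Ps.two` : if `x ∉ ⟨q, r⟩` and `g ∈ W_q ∩ K_r` does not centralise `W_r`, some `ε ∈ W_x ∩ K_q` has `[ε, g] = q`;
* `Ps.jj` : `r^κ = q`, `κ ∈ K_{qr}`, `g ∈ W_r ∩ K_q` : `g g^κ` centralises `W_p` for all `p ∈ U - ⟨q, r⟩`;
* `Ps.three` : every `t ∈ U - ⟨x⟩` is a commutator of elements of `C(W_x) ∩ ⟨W_p | p ∈ U#⟩`.
-/

set_option autoImplicit false
set_option linter.unusedSectionVars false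

namespace Cfsg.Agent.Omega.NO3S.TwoOne

open Subgroup Cfsg Cfsg.Agent.ZN Cfsg.Agent.MinSimple.Geo Cfsg.Agent.Omega.CaseL
open Cfsg.Agent.ZN.Block (conj_mem_of_normalizer conj_mem_of_normalizer' le_normalizer_of_forall
  mem_normalizer_of)
open scoped commutatorElement

universe u

variable {G : Type u} [Group G]

namespace Ps

variable {V U : Subgroup G} {p q r s x t : G}

theorem inv_eq (P : Ps V U) (hp : p ∈ U) : p⁻¹ = p := inv_eq_self (P.sq p hp)

theorem cU (P : Ps V U) (hp : p ∈ U) (hp1 : p ≠ 1) {w u : G} (hw : w ∈ ws V p) (hu : u ∈ U) :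
    w * u = u * w := P.ab p hp hp1 w hw u (P.le p hp hp1 hu)

theorem uc (P : Ps V U) (hp : p ∈ U) (hq : q ∈ U) : p * q = q * p := by
  have h1 := P.sq _ (mul_mem hp hq)
  calc p * q = (p * q)⁻¹ := (inv_eq_self h1).symm
    _ = q⁻¹ * p⁻¹ := by group
    _ = q * p := by rw [P.inv_eq hp, P.inv_eq hq]

theorem kc (P : Ps V U) (hp : p ∈ U) {k w : G} (hk : k ∈ kq V p) (hw : w ∈ ws V p) :
    k * w * k⁻¹ = w ∨ k * w * k⁻¹ = p * w := by
  rcases (mem_zpowers_iff_of_mul_self (P.sq p hp)).mp (kq_comm hk hw) with e | e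
  · left
    calc k * w * k⁻¹ = (k * w * k⁻¹ * w⁻¹) * w := by group
      _ = w := by rw [e, one_mul]
  · right
    calc k * w * k⁻¹ = (k * w * k⁻¹ * w⁻¹) * w := by group
      _ = p * w := by rw [e]

theorem kp {V : Subgroup G} {p k : G} (hk : k ∈ kq V p) : k * p = p * k :=
  mem_centralizer_singleton_iff.mp (kq_le_centralizer V p hk)

theorem wsn {V : Subgroup G} {p g w : G} (hg : g * p = p * g) (hw : w ∈ ws V p) : g * w * g⁻¹ ∈ ws V p :=
  conj_mem_of_normalizer (centralizer_le_normalizer_ws V p) (mem_centralizer_singleton_iff.mpr hg) hw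

theorem kqn {V : Subgroup G} {p g k : G} (hg : g * p = p * g) (hk : k ∈ kq V p) : g * k * g⁻¹ ∈ kq V p :=
  conj_mem_of_normalizer (centralizer_le_normalizer_kq V p) (mem_centralizer_singleton_iff.mpr hg) hk

theorem wk (P : Ps V U) (hp : p ∈ U) (hp1 : p ≠ 1) {w : G} (hw : w ∈ ws V p) : w ∈ kq V p := by
  refine ⟨mem_centralizer_singleton_iff.mpr (P.cU hp hp1 hw hp), fun v hv => ?_, fun v hv => ?_⟩
  · rw [P.ab p hp hp1 w hw v hv]
    simp
  · have := P.ab p hp hp1 v hv w hw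
    have e : w⁻¹ * v * w * v⁻¹ = w⁻¹ * (v * w) * v⁻¹ := by group
    rw [e, this]
    simp

theorem uk (P : Ps V U) (hp : p ∈ U) (hp1 : p ≠ 1) {u : G} (hu : u ∈ U) : u ∈ kq V p :=
  P.wk hp hp1 (P.le p hp hp1 hu)

/-- `[K_q ∩ C(p), W_p] ≤ W_p ∩ K_q` -/
theorem ke (P : Ps V U) (hp : p ∈ U) (hp1 : p ≠ 1) (hq : q ∈ U) {k w : G} (hk : k ∈ kq V q)
    (hkp : k * p = p * k) (hw : w ∈ ws V p) : k * w * k⁻¹ * w⁻¹ ∈ ws V p ∧ k * w * k⁻¹ * w⁻¹ ∈ kq V q := by
  refine ⟨mul_mem (wsn hkp hw) (inv_mem hw), ?_⟩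
  have e : k * w * k⁻¹ * w⁻¹ = k * (w * k⁻¹ * w⁻¹) := by group
  rw [e]
  exact mul_mem hk (kqn (P.cU hp hp1 hw hq) (inv_mem hk))

theorem kw (P : Ps V U) (hq : q ∈ U) {e w : G} (he : e ∈ kq V q) (hw : w ∈ ws V q) :
    ⁅e, w⁆ = 1 ∨ ⁅e, w⁆ = q := by
  rcases P.kc hq he hw with e1 | e1
  · left; rw [commutatorElement_def, e1, mul_inv_cancel]
  · right; rw [commutatorElement_def, e1, mul_inv_cancel_right]

/-- `[w, e] = [e, w]` if one of them is an involution of `U` -/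
theorem swap (P : Ps V U) {a b : G} (h : ⁅a, b⁆ ∈ U) : ⁅b, a⁆ = ⁅a, b⁆ := by
  rw [← commutatorElement_inv, P.inv_eq h]

/-- **(α)** `[W_p ∩ K_q, W_s] ≤ ⟨p, q⟩` -/
theorem alpha (P : Ps V U) (hp : p ∈ U) (hp1 : p ≠ 1) (hq : q ∈ U) (hq1 : q ≠ 1) (hqp : q ≠ p)
    (hs : s ∈ U) (hs1 : s ≠ 1) {e w : G} (he : e ∈ ws V p) (hk : e ∈ kq V q) (hw : w ∈ ws V s) :
    Sp p q ⁅e, w⁆ := by
  by_cases hsp : s = p
  · left
    rw [hsp] at hw
    exact commutatorElement_eq_one_iff_mul_comm.mpr (P.ab p hp hp1 e he w hw)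
  · obtain ⟨v, hv, hκ⟩ := P.pa p hp hp1 s hs hs1 hsp q hq hq1 hqp w hw
    set κ := w * v⁻¹ with hκd
    have hw' : w = κ * v := by rw [hκd]; group
    have e1 : ⁅e, w⁆ = ⁅e, κ⁆ * (κ * ⁅e, v⁆ * κ⁻¹) := by
      rw [hw']; simp only [commutatorElement_def]; group
    have hκq : κ * q * κ⁻¹ = q ∨ κ * q * κ⁻¹ = p * q := P.kc hp hκ (P.le p hp hp1 hq)
    have h1 : Sp p q ⁅e, κ⁆ := by
      have e2 : ⁅e, κ⁆ = e * (κ * e * κ⁻¹)⁻¹ := by rw [commutatorElement_def]; group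
      rcases P.kc hp hκ he with e3 | e3
      · left; rw [e2, e3, mul_inv_cancel]
      · right; left
        rw [e2, e3, mul_inv_rev, mul_inv_cancel_left, P.inv_eq hp]
    have h2 : Sp p q (κ * ⁅e, v⁆ * κ⁻¹) := by
      rcases P.kw hq hk hv with e3 | e3
      · left; rw [e3]; group
      · rw [e3]
        rcases hκq with e4 | e4
        · right; right; left; exact e4
        · right; right; right; exact e4
    rw [e1]
    exact Sp.mul (P.sq p hp) (P.sq q hq) (P.uc hp hq) h1 h2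

theorem sp_mem (_ : Ps V U) (hp : p ∈ U) (hq : q ∈ U) {y : G} (h : Sp p q y) : y ∈ U := by
  rcases h with e | e | e | e <;> rw [e]
  · exact one_mem _
  · exact hp
  · exact hq
  · exact mul_mem hp hq

/-- `p q ≠ 1` -/
theorem mne (P : Ps V U) (hq : q ∈ U) (hpq : p ≠ q) : p * q ≠ 1 := fun e =>
  hpq (by rw [mul_eq_one_iff_eq_inv.mp e, P.inv_eq hq])

/-- `W_p ∩ K_q ∩ K_{q'} ≤ C(W_q)` for independent `p, q, q'` -/
theorem two_lines (P : Ps V U) {q' : G} (hp : p ∈ U) (hp1 : p ≠ 1) (hq : q ∈ U) (hq1 : q ≠ 1) (hqp : q ≠ p)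
    (hq' : q' ∈ U) (hq1' : q' ≠ 1) (hqp' : q' ≠ p) (hqq : q' ≠ q) (hpqq : q' ≠ p * q) {e : G}
    (he : e ∈ ws V p) (hk : e ∈ kq V q) (hk' : e ∈ kq V q') : ∀ w ∈ ws V q, e * w = w * e := by
  intro w hw
  rw [← commutatorElement_eq_one_iff_mul_comm]
  rcases P.kw hq hk hw with e1 | e1
  · exact e1
  · exfalso
    have h1 := P.alpha hp hp1 hq' hq1' hqp' hq hq1 he hk' hw
    rw [e1] at h1
    rcases h1 with e2 | e2 | e2 | e2
    · exact hq1 e2
    · exact hqp e2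
    · exact hqq e2.symm
    · apply hpqq
      rw [e2, ← mul_assoc, P.sq p hp, one_mul]

/-- **(2')** -/
theorem two (P : Ps V U) (hq : q ∈ U) (hq1 : q ≠ 1) (hr : r ∈ U) (hr1 : r ≠ 1) (hrq : r ≠ q)
    (hx : x ∈ U) (hx1 : x ≠ 1) (hxq : x ≠ q) (hxr : x ≠ r) (hxqr : x ≠ q * r) {g : G}
    (hg : g ∈ ws V q) (hgr : g ∈ kq V r) (hgc : ∃ b ∈ ws V r, g * b ≠ b * g) :
    ∃ e ∈ ws V x, e ∈ kq V q ∧ ⁅e, g⁆ = q := by
  have hgx : g ∉ kq V x := by
    intro h1
    obtain ⟨b, hb, hbg⟩ := hgc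
    exact hbg (P.two_lines hq hq1 hr hr1 hrq hx hx1 hxq hxr hxqr hg hgr h1 b hb)
  obtain ⟨w, hw, hwc⟩ : ∃ w ∈ ws V x, ¬ Sp x q ⁅w, g⁆ := by
    by_contra hcon
    push Not at hcon
    exact hgx (P.nt x hx hx1 q hq hq1 (Ne.symm hxq) g hg hcon)
  have h1 := P.alpha hq hq1 hr hr1 hrq hx hx1 hg hgr hw
  have hcU := P.sp_mem hq hr h1
  have hsw := P.swap hcU
  rw [← hsw] at hcU h1
  set c := ⁅w, g⁆ with hc
  obtain ⟨h, hh, hhr, hhx⟩ := P.trv q hq hq1 r hr hr1 hrq x hx hx1 hxq hxr hxqr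
  have hhq : h * q = q * h := kp hh
  have hcr : h * c * h⁻¹ = q * c := by
    rcases h1 with e | e | e | e
    · exact absurd (Or.inl e) hwc
    · exact absurd (Or.inr (Or.inr (Or.inl e))) hwc
    · rw [e]; exact hhr
    · rw [e]
      calc h * (q * r) * h⁻¹ = (h * q) * r * h⁻¹ := by group
        _ = q * (h * r * h⁻¹) := by rw [hhq]; group
        _ = q * (q * r) := by rw [hhr]
  have hhx' : h * x = x * h := comm_of_conj_eq hhx
  obtain ⟨he, hek⟩ := P.ke hx hx1 hq hh hhx' hw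
  refine ⟨_, he, hek, ?_⟩
  -- `[w^h, g] = c^h`
  have hwq : w * q = q * w := P.cU hx hx1 hw hq
  have h2 : ⁅h * w * h⁻¹, g⁆ = h * c * h⁻¹ := by
    have e1 : ⁅h * w * h⁻¹, g⁆ = h * ⁅w, h⁻¹ * g * h⁆ * h⁻¹ := by
      simp only [commutatorElement_def]; group
    rw [e1]
    have hh' : h⁻¹ ∈ kq V q := inv_mem hh
    rcases P.kc hq hh' hg with e2 | e2
    · rw [inv_inv] at e2; rw [e2]
    · rw [inv_inv] at e2
      rw [e2]
      have e3 : ⁅w, q * g⁆ = ⁅w, g⁆ := by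
        have hcq : q * ⁅w, g⁆ = ⁅w, g⁆ * q := P.uc hq hcU
        calc ⁅w, q * g⁆ = (w * q) * g * w⁻¹ * g⁻¹ * q⁻¹ := by simp only [commutatorElement_def]; group
          _ = q * (w * g * w⁻¹ * g⁻¹) * q⁻¹ := by rw [hwq]; group
          _ = (q * ⁅w, g⁆) * q⁻¹ := by rw [commutatorElement_def]
          _ = ⁅w, g⁆ := by rw [hcq, mul_inv_cancel_right]
      rw [e3]
  have h3 : h * w * h⁻¹ ∈ ws V x := wsn hhx' hw
  have hgc' : g * c = c * g := P.cU hq hq1 hg hcU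
  -- `[a w⁻¹, g] = [a, g] [w, g]`
  have hwg : g * w⁻¹ * g⁻¹ = w⁻¹ * c := by rw [hc, commutatorElement_def]; group
  have h4 : ⁅h * w * h⁻¹ * w⁻¹, g⁆ = (h * w * h⁻¹) * (⁅w⁻¹, g⁆) * (h * w * h⁻¹)⁻¹ * ⁅h * w * h⁻¹, g⁆ := by
    simp only [commutatorElement_def]; group
  have h5 : ⁅w⁻¹, g⁆ = c := by
    have hc1 : c⁻¹ = c := P.inv_eq hcU
    have hwc' : w * c = c * w := P.cU hx hx1 hw hcU
    calc ⁅w⁻¹, g⁆ = w⁻¹ * (g * w⁻¹ * g⁻¹)⁻¹ := by rw [commutatorElement_def]; group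
      _ = w⁻¹ * (c⁻¹ * w) := by rw [hwg]; group
      _ = w⁻¹ * (w * c) := by rw [hc1, hwc']
      _ = c := by group
  have h6 : (h * w * h⁻¹) * c = c * (h * w * h⁻¹) := P.cU hx hx1 h3 hcU
  rw [h4, h5, h6, mul_inv_cancel_right, h2, hcr, ← mul_assoc, P.uc hcU hq, mul_assoc, P.sq c hcU, mul_one]

/-- `D_p` is the same for all lines of `U` on `p` -/
theorem dall (P : Ps V U) (hp : p ∈ U) (hp1 : p ≠ 1) (hq : q ∈ U) (hq1 : q ≠ 1) (hqp : q ≠ p)
    (hr : r ∈ U) (hr1 : r ≠ 1) {w : G} (hw : w ∈ ws V p) (hc : ∀ b ∈ ws V q, w * b = b * w) :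
    ∀ b ∈ ws V r, w * b = b * w := by
  by_cases hrp : r = p
  · rw [hrp]
    exact fun b hb => P.ab p hp hp1 w hw b hb
  · refine P.dz p hp hp1 r hr hr1 hrp w hw fun b hb => ?_
    obtain ⟨b', hb', hκ⟩ := P.pa p hp hp1 r hr hr1 hrp q hq hq1 hqp b hb
    set κ := b * b'⁻¹ with hκd
    have e0 : b = κ * b' := by rw [hκd]; group
    have e1 : ⁅w, b⁆ = w * (κ * w * κ⁻¹)⁻¹ := by
      have h1 := hc b' hb'
      rw [e0]
      calc ⁅w, κ * b'⁆ = w * κ * (b' * w⁻¹) * b'⁻¹ * κ⁻¹ := by rw [commutatorElement_def]; group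
        _ = w * κ * (w⁻¹ * b') * b'⁻¹ * κ⁻¹ := by rw [inv_comm_of h1]
        _ = w * (κ * w * κ⁻¹)⁻¹ := by group
    rw [e1]
    rcases P.kc hp hκ hw with e | e
    · rw [e, mul_inv_cancel]; exact one_mem _
    · rw [e, mul_inv_rev, mul_inv_cancel_left]; exact inv_mem (mem_zpowers p)

/-- the elements of `K_x` commute on `W_x` -/
theorem kk (P : Ps V U) (hx : x ∈ U) {k e : G} (hk : k ∈ kq V x) (he : e ∈ kq V x) :
    ∀ w ∈ ws V x, ⁅e, k⁆ * w = w * ⁅e, k⁆ := by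
  intro w hw
  have hke : (k * e)⁻¹ ∈ kq V x := inv_mem (mul_mem hk he)
  have h1 : (k * e)⁻¹ * w * (k * e) ∈ ws V x := by
    have := wsn (kp hke) hw
    rwa [inv_inv] at this
  set v := (k * e)⁻¹ * w * (k * e) with hv
  have hex : ∀ y, e * (x * y) * e⁻¹ = x * (e * y * e⁻¹) := fun y => by
    calc e * (x * y) * e⁻¹ = (e * x) * y * e⁻¹ := by group
      _ = x * (e * y * e⁻¹) := by rw [kp he]; group
  have hkx : ∀ y, k * (x * y) * k⁻¹ = x * (k * y * k⁻¹) := fun y => by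
    calc k * (x * y) * k⁻¹ = (k * x) * y * k⁻¹ := by group
      _ = x * (k * y * k⁻¹) := by rw [kp hk]; group
  have h2 : e * (k * v * k⁻¹) * e⁻¹ = k * (e * v * e⁻¹) * k⁻¹ := by
    rcases P.kc hx hk h1 with f1 | f1 <;> rcases P.kc hx he h1 with f2 | f2 <;>
      simp only [f1, f2, hex, hkx]
  calc ⁅e, k⁆ * w = (e * (k * v * k⁻¹) * e⁻¹) * ⁅e, k⁆ := by
        rw [hv, commutatorElement_def]; group
    _ = (k * (e * v * e⁻¹) * k⁻¹) * ⁅e, k⁆ := by rw [h2]
    _ = w * ⁅e, k⁆ := by rw [hv, commutatorElement_def]; group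

/-- if `U` centralises `w`, then `[w, u g] = [w, g]` modulo conjugation by `u` -/
theorem comm_u (P : Ps V U) {u w g : G} (hu : u ∈ U) (hwu : w * u = u * w) (hc : ⁅w, g⁆ ∈ U) :
    ⁅w, u * g⁆ = ⁅w, g⁆ := by
  calc ⁅w, u * g⁆ = (w * u) * g * w⁻¹ * g⁻¹ * u⁻¹ := by simp only [commutatorElement_def]; group
    _ = (u * ⁅w, g⁆) * u⁻¹ := by rw [hwu, commutatorElement_def]; group
    _ = ⁅w, g⁆ := by rw [P.uc hu hc, mul_inv_cancel_right]

/-- `[g, u w] = [g, w]` if `g` centralises `u` -/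
theorem comm_u' (P : Ps V U) {u w g : G} (hu : u ∈ U) (hgu : g * u = u * g) (hc : ⁅g, w⁆ ∈ U) :
    ⁅g, u * w⁆ = ⁅g, w⁆ := P.comm_u hu hgu hc

/-- Lemma J for a `κ` which fixes `p` -/
theorem jj₀ (P : Ps V U) (hq : q ∈ U) (hq1 : q ≠ 1) (hr : r ∈ U) (hr1 : r ≠ 1) (hrq : r ≠ q)
    (hp : p ∈ U) (hp1 : p ≠ 1) (hpq : p ≠ q) (hpr : p ≠ r) (hpqr : p ≠ q * r) {g κ : G}
    (hg : g ∈ ws V r) (hgq : g ∈ kq V q) (hκ : κ ∈ kq V (q * r)) (hκr : κ * r * κ⁻¹ = q)
    (hκp : κ * p = p * κ) : ∀ w ∈ ws V p, (g * (κ * g * κ⁻¹)) * w = w * (g * (κ * g * κ⁻¹)) := by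
  intro w hw
  have hs : q * r ∈ U := mul_mem hq hr
  have hs1 : q * r ≠ 1 := P.mne hr (Ne.symm hrq)
  have hrr := P.sq r hr
  have hqq := P.sq q hq
  have hκq : κ * q * κ⁻¹ = r := by
    have e1 : κ * (q * r) * κ⁻¹ = q * r := conj_eq_of_comm (kp hκ)
    have e2 : κ * q * κ⁻¹ = (κ * (q * r) * κ⁻¹) * (κ * r * κ⁻¹)⁻¹ := by group
    rw [e2, e1, hκr, P.uc hq hr, mul_inv_cancel_right]
  have hg' : κ * g * κ⁻¹ ∈ ws V q := by
    have := conj_mem_ws κ hg
    rwa [hκr] at this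
  have hg'r : κ * g * κ⁻¹ ∈ kq V r := by
    have := conj_mem_kq κ hgq
    rwa [hκq] at this
  set g' := κ * g * κ⁻¹ with hg'd
  -- `g g' ∈ K_p`
  have hsp : q * r ≠ p := Ne.symm hpqr
  obtain ⟨v, hv, hgv⟩ := P.pa p hp hp1 r hr hr1 (Ne.symm hpr) (q * r) hs hs1 hsp g hg
  have hk1 : g' * g⁻¹ ∈ kq V p := by
    have h1 : κ * (g * v⁻¹) * κ⁻¹ ∈ kq V p := kqn hκp hgv
    have h2 : κ * v * κ⁻¹ * v⁻¹ ∈ kq V p := by
      rcases P.kc hs hκ hv with e | e
      · rw [e, mul_inv_cancel]; exact one_mem _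
      · rw [e, mul_inv_cancel_right]; exact P.uk hp hp1 hs
    have h3 := mul_mem (mul_mem h1 h2) (inv_mem hgv)
    have e : κ * (g * v⁻¹) * κ⁻¹ * (κ * v * κ⁻¹ * v⁻¹) * (g * v⁻¹)⁻¹ = g' * g⁻¹ := by
      rw [hg'd]; group
    rwa [e] at h3
  have hgp : g * p = p * g := P.cU hr hr1 hg hp
  have hk2 : g * g' ∈ kq V p := by
    have h1 : g * (g' * g⁻¹) * g⁻¹ ∈ kq V p := kqn hgp hk1
    have h2 : g⁻¹ = g := inv_eq_self (P.sw r hr hr1 g hg)
    have e : g * (g' * g⁻¹) * g⁻¹ = g * g' := by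
      rw [mul_assoc, mul_assoc, ← mul_inv_rev, P.sw r hr hr1 g hg, inv_one, mul_one]
    rwa [e] at h1
  rw [← commutatorElement_eq_one_iff_mul_comm]
  rcases P.kw hp hk2 hw with e | e
  · exact e
  · exfalso
    -- `[g, w], [g', w] ∈ ⟨q, r⟩`
    have h1 := P.alpha hr hr1 hq hq1 (Ne.symm hrq) hp hp1 hg hgq hw
    have h2 := P.alpha hq hq1 hr hr1 hrq hp hp1 hg' hg'r hw
    have h1' : Sp q r ⁅g, w⁆ := by
      rcases h1 with f | f | f | f
      · exact Or.inl f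
      · exact Or.inr (Or.inr (Or.inl f))
      · exact Or.inr (Or.inl f)
      · exact Or.inr (Or.inr (Or.inr (f.trans (P.uc hr hq))))
    have h3 : ⁅g * g', w⁆ = ⁅g', w⁆ * ⁅g, w⁆ := by
      have hc := P.cU hr hr1 hg (P.sp_mem hq hr h2)
      calc ⁅g * g', w⁆ = (g * ⁅g', w⁆) * g⁻¹ * ⁅g, w⁆ := by simp only [commutatorElement_def]; group
        _ = ⁅g', w⁆ * ⁅g, w⁆ := by rw [hc]; group
    rw [h3] at e
    have h4 := Sp.mul hqq hrr (P.uc hq hr) h2 h1'
    rw [e] at h4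
    rcases h4 with f | f | f | f
    · exact hp1 f
    · exact hpq f
    · exact hpr f
    · exact hpqr f

/-- **Lemma J** -/
theorem jj (P : Ps V U) (hq : q ∈ U) (hq1 : q ≠ 1) (hr : r ∈ U) (hr1 : r ≠ 1) (hrq : r ≠ q)
    (hp : p ∈ U) (hp1 : p ≠ 1) (hpq : p ≠ q) (hpr : p ≠ r) (hpqr : p ≠ q * r) {g κ : G}
    (hg : g ∈ ws V r) (hgq : g ∈ kq V q) (hκ : κ ∈ kq V (q * r)) (hκr : κ * r * κ⁻¹ = q) :
    ∀ w ∈ ws V p, (g * (κ * g * κ⁻¹)) * w = w * (g * (κ * g * κ⁻¹)) := by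
  have hs : q * r ∈ U := mul_mem hq hr
  have hs1 : q * r ≠ 1 := P.mne hr (Ne.symm hrq)
  have hrr := P.sq r hr
  have hqq := P.sq q hq
  have hqr := P.uc hq hr
  have hrs : r ≠ q * r := fun e => hq1 (by simpa using e.symm)
  have hqs : q ≠ q * r := fun e => hr1 (by simpa using e.symm)
  have hsr : q * r * r = q := by rw [mul_assoc, hrr, mul_one]
  have hsq : r * q = q * r := hqr.symm
  obtain ⟨κ', hκ', hκr', hκp'⟩ := P.trv (q * r) hs hs1 r hr hr1 hrs p hp hp1 hpqr hpr (by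
    rw [hsr]; exact hpq)
  rw [hsr] at hκr'
  have hJ := P.jj₀ hq hq1 hr hr1 hrq hp hp1 hpq hpr hpqr hg hgq hκ' hκr' (comm_of_conj_eq hκp')
  -- `v = κ' g κ'⁻¹`
  set v := κ' * g * κ'⁻¹ with hvd
  set c := κ * κ'⁻¹ with hcd
  have hc : c ∈ kq V (q * r) := mul_mem hκ (inv_mem hκ')
  have hcq : c * q = q * c := by
    refine comm_of_conj_eq ?_
    calc c * q * c⁻¹ = κ * (κ'⁻¹ * q * κ') * κ⁻¹ := by rw [hcd]; group
      _ = κ * r * κ⁻¹ := by rw [← hκr']; group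
      _ = q := hκr
  have hgs : g ∈ kq V (q * r) := by
    have := P.ee r hr hr1 q hq hq1 (Ne.symm hrq) g hg hgq
    rwa [hsq] at this
  have hv : v ∈ ws V q := by
    have := conj_mem_ws κ' hg
    rwa [hκr'] at this
  have hvs : v ∈ kq V (q * r) := kqn (kp hκ') hgs
  have h4 : ∀ w ∈ ws V (q * r), (c * v * c⁻¹) * w * (c * v * c⁻¹)⁻¹ = v * w * v⁻¹ := by
    intro w hw
    have hcw : ⁅c * v * c⁻¹, w⁆ = ⁅v, w⁆ := by
      have e1 : ⁅c * v * c⁻¹, w⁆ = c * ⁅v, c⁻¹ * w * c⁆ * c⁻¹ := by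
        simp only [commutatorElement_def]; group
      have h1 : ⁅v, c⁻¹ * w * c⁆ = ⁅v, w⁆ := by
        rcases P.kc hs (inv_mem hc) hw with e | e
        · rw [inv_inv] at e; rw [e]
        · rw [inv_inv] at e; rw [e]
          refine P.comm_u' hs (P.cU hq hq1 hv hs) ?_
          rcases P.kw hs hvs hw with f | f <;> rw [f]
          · exact one_mem _
          · exact hs
      rw [e1, h1]
      rcases P.kw hs hvs hw with f | f <;> rw [f]
      · group
      · exact conj_eq_of_comm (kp hc)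
    have := congrArg (· * w) hcw
    simp only [commutatorElement_def, inv_mul_cancel_right] at this
    exact this
  have hcv : c * v * c⁻¹ ∈ ws V q := wsn hcq hv
  set d := c * v * c⁻¹ * v⁻¹ with hdd
  have hd0 : d ∈ ws V q := mul_mem hcv (inv_mem hv)
  have hd : ∀ w ∈ ws V (q * r), d * w = w * d := by
    intro w hw
    have h3 : v⁻¹ * w * v ∈ ws V (q * r) := by
      have := wsn (kp (inv_mem hvs)) hw
      rwa [inv_inv] at this
    have h5 := h4 _ h3
    have h6 : v * (v⁻¹ * w * v) * v⁻¹ = w := by group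
    rw [h6] at h5
    refine comm_of_conj_eq ?_
    calc d * w * d⁻¹ = (c * v * c⁻¹) * (v⁻¹ * w * v) * (c * v * c⁻¹)⁻¹ := by rw [hdd]; group
      _ = w := h5
  intro w hw
  have hdr := P.dall hq hq1 hs hs1 (Ne.symm hqs) hr hr1 hd0 hd g hg
  have hdp := P.dall hq hq1 hs hs1 (Ne.symm hqs) hp hp1 hd0 hd w hw
  have e1 : κ * g * κ⁻¹ = d * v := by rw [hdd, hcd, hvd]; group
  have e2 : g * (κ * g * κ⁻¹) = d * (g * v) := by
    rw [e1, ← mul_assoc, ← hdr, mul_assoc]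
  rw [e2]
  exact mul_comm_of hdp (hJ w hw)

/-- the group `⟨W_p | p ∈ U#⟩` -/
def _root_.Cfsg.Agent.Omega.NO3S.TwoOne.fpl (V U : Subgroup G) : Subgroup G :=
  _root_.Subgroup.closure {w | ∃ p ∈ U, p ≠ 1 ∧ w ∈ ws V p}

theorem _root_.Cfsg.Agent.Omega.NO3S.TwoOne.ws_le_fpl {V U : Subgroup G} {p : G} (hp : p ∈ U) (hp1 : p ≠ 1) :
    ws V p ≤ fpl V U := fun _ hw => subset_closure ⟨p, hp, hp1, hw⟩

/-- every `t ∈ U - ⟨x⟩` is a commutator of elements of `C(W_x) ∩ ⟨W_p | p ∈ U#⟩` -/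
theorem three (P : Ps V U) (hx : x ∈ U) (hx1 : x ≠ 1) (ht : t ∈ U) (ht1 : t ≠ 1) (htx : t ≠ x) :
    ∃ j ∈ fpl V U, ∃ j' ∈ fpl V U, (∀ w ∈ ws V x, j * w = w * j) ∧ (∀ w ∈ ws V x, j' * w = w * j') ∧
      ⁅j, j'⁆ = t := by
  obtain ⟨r, hr, hr1, hrx, hrt, hrxt⟩ := exists_ne₂ P.card x t
  have hxx := P.sq x hx
  have htt := P.sq t ht
  have hxt := P.uc hx ht
  -- `e ∈ E_t^m`
  obtain ⟨e, he, hex, b, hb, heb⟩ := P.phi t ht ht1 x hx hx1 (Ne.symm htx)
  -- `g ∈ E_r^n`, `[g, e] = t`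
  obtain ⟨g, hg, hgt, hge⟩ := P.two ht ht1 hx hx1 (Ne.symm htx) hr hr1 hrt hrx (by rw [← hxt]; exact hrxt)
    he hex ⟨b, hb, heb⟩
  -- `κ`
  have htr := P.uc ht hr
  have hs : t * r ∈ U := mul_mem ht hr
  have hs1 : t * r ≠ 1 := P.mne hr (Ne.symm hrt)
  have hrs : r ≠ t * r := fun e => ht1 (by simpa using e.symm)
  have hsr : t * r * r = t := by rw [mul_assoc, P.sq r hr, mul_one]
  have hxs : x ≠ t * r := fun e => hrxt (by
    rw [e, mul_assoc, P.uc hr ht, ← mul_assoc, htt, one_mul])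
  obtain ⟨κ, hκ, hκr, -⟩ := P.trv (t * r) hs hs1 r hr hr1 hrs x hx hx1 hxs (Ne.symm hrx)
    (by rw [hsr]; exact Ne.symm htx)
  rw [hsr] at hκr
  -- `k`
  obtain ⟨k, hk, hkt, -⟩ := P.trv x hx hx1 t ht ht1 htx r hr hr1 hrx hrt hrxt
  set g' := κ * g * κ⁻¹ with hg'd
  have hg' : g' ∈ ws V t := by
    have := conj_mem_ws κ hg
    rwa [hκr] at this
  have he' : k * e * k⁻¹ ∈ ws V (x * t) := by
    have := conj_mem_ws k he
    rwa [hkt] at this
  have hxt1 : x * t ≠ 1 := P.mne ht (Ne.symm htx)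
  have hxtU : x * t ∈ U := mul_mem hx ht
  have hee : e⁻¹ = e := inv_eq_self (P.sw t ht ht1 e he)
  have hj : ⁅e, k⁆ = e * (k * e * k⁻¹) := by
    rw [commutatorElement_def]
    calc e * k * e⁻¹ * k⁻¹ = e * (k * e⁻¹ * k⁻¹) := by group
      _ = e * (k * e * k⁻¹) := by rw [hee]
  have hJ := fun p (hp : p ∈ U) (hp1 : p ≠ 1) (hpt : p ≠ t) (hpr : p ≠ r) (hptr : p ≠ t * r) =>
    P.jj ht ht1 hr hr1 hrt hp hp1 hpt hpr hptr hg hgt hκ hκr
  have hJx := hJ x hx hx1 (Ne.symm htx) (Ne.symm hrx) hxs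
  have hJxt := hJ (x * t) hxtU hxt1 (fun e => hx1 (by simpa using e)) (Ne.symm hrxt)
    (fun e => hrx (by
      have := congrArg (t * ·) e
      change t * (x * t) = t * (t * r) at this
      rw [← mul_assoc, ← mul_assoc, htt, one_mul, ← hxt, mul_assoc, htt, mul_one] at this
      exact this.symm))
  refine ⟨⁅e, k⁆, ?_, g * g', ?_, P.kk hx hk hex, hJx, ?_⟩
  · rw [hj]
    exact mul_mem (ws_le_fpl ht ht1 he) (ws_le_fpl hxtU hxt1 he')
  · exact mul_mem (ws_le_fpl hr hr1 hg) (ws_le_fpl ht ht1 hg')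
  · -- `[e e^k, g g'] = [e, g g'] = [e, g] = t`
    have h1 := hJxt _ he'
    have h2 : ⁅e * (k * e * k⁻¹), g * g'⁆ = ⁅e, g * g'⁆ := by
      calc ⁅e * (k * e * k⁻¹), g * g'⁆ =
          e * ((k * e * k⁻¹) * (g * g')) * (k * e * k⁻¹)⁻¹ * e⁻¹ * (g * g')⁻¹ := by
            rw [commutatorElement_def]; group
        _ = e * ((g * g') * (k * e * k⁻¹)) * (k * e * k⁻¹)⁻¹ * e⁻¹ * (g * g')⁻¹ := by rw [h1]
        _ = ⁅e, g * g'⁆ := by rw [commutatorElement_def]; group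
    have h3 : ⁅e, g * g'⁆ = ⁅e, g⁆ := by
      have h4 := P.ab t ht ht1 e he g' hg'
      calc ⁅e, g * g'⁆ = e * g * (g' * e⁻¹) * g'⁻¹ * g⁻¹ := by rw [commutatorElement_def]; group
        _ = e * g * (e⁻¹ * g') * g'⁻¹ * g⁻¹ := by rw [inv_comm_of h4]
        _ = ⁅e, g⁆ := by rw [commutatorElement_def]; group
    rw [hj, h2, h3, ← commutatorElement_inv, hge, P.inv_eq ht]

end Ps

end Cfsg.Agent.Omega.NO3S.TwoOne

end

section


/-!
# NO-3S, `q = 2`, `n = 1`: THEOREM P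

`h : One T V z`, `A` the image of `W_y` in `H = C_G(z) / K_z`, `λ = V / z`.

* `One.false_of_pa` : if `A` contains no `λ`-transvection there is no plane `U ∋ z` such that for each `t ∈ U#` all
  `W_q`, `q ∈ U - ⟨t⟩`, have the same image in `C_G(t) / K_t`;
* `One.norm_of_image` (**THEOREM P**) : `f ∈ C_G(z)`, `A^f ≤ A` imply `f ∈ N_G(V)`, i.e. `N_H(A) = H_λ`;
* `One.norm_of_comm` : `C_H(A) ≤ H_λ`.
-/

set_option autoImplicit false
set_option linter.unusedSectionVars false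

namespace Cfsg.Agent.Omega.NO3S.TwoOne

open Subgroup Cfsg Cfsg.Agent.ZN Cfsg.Agent.MinSimple.Geo Cfsg.Agent.Omega.CaseL
open Cfsg.Agent.ZN.Block (conj_mem_of_normalizer conj_mem_of_normalizer' le_normalizer_of_forall
  mem_normalizer_of)
open scoped commutatorElement

universe u

variable {G : Type u} [Group G]

/-- `⟨D_p | p ∈ U#⟩` -/
def dpl (V U : Subgroup G) : Subgroup G :=
  _root_.Subgroup.closure {w | ∃ p ∈ U, p ≠ 1 ∧ w ∈ ws V p ∧ ∀ q ∈ U, q ≠ 1 → ∀ b ∈ ws V q, w * b = b * w}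

theorem dpl_comm {V U : Subgroup G} {d f : G} (hd : d ∈ dpl V U) (hf : f ∈ fpl V U) : d * f = f * d := by
  have h1 : dpl V U ≤ centralizer (fpl V U : Set G) := by
    unfold dpl
    rw [closure_le]
    rintro w ⟨p, hp, hp1, hw, hc⟩
    change w ∈ centralizer (fpl V U : Set G)
    rw [mem_centralizer_iff]
    have h2 : fpl V U ≤ centralizer ({w} : Set G) := by
      unfold fpl
      rw [closure_le]
      rintro v ⟨q, hq, hq1, hv⟩
      exact mem_centralizer_singleton_iff.mpr (hc q hq hq1 v hv).symm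
    exact fun v hv => mem_centralizer_singleton_iff.mp (h2 hv)
  exact (mem_centralizer_iff.mp (h1 hd) f hf).symm

theorem dpl_le_fpl (V U : Subgroup G) : dpl V U ≤ fpl V U := by
  refine _root_.Subgroup.closure_mono ?_
  rintro w ⟨p, hp, hp1, hw, -⟩
  exact ⟨p, hp, hp1, hw⟩

theorem conj_mem_fpl {V U : Subgroup G} {f : G} (g : G) (hf : f ∈ fpl V U) : g * f * g⁻¹ ∈ fpl V (cj g U) := by
  have h1 : fpl V U ≤ cj g⁻¹ (fpl V (cj g U)) := by
    conv_lhs => unfold fpl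
    rw [closure_le]
    rintro w ⟨p, hp, hp1, hw⟩
    change w ∈ cj g⁻¹ (fpl V (cj g U))
    rw [mem_cj, inv_inv]
    exact ws_le_fpl (conj_mem_cj hp) (fun e => hp1 (conj_eq_one_iff.mp e)) (conj_mem_ws g hw)
  have := h1 hf
  rwa [mem_cj, inv_inv] at this

namespace Ps

variable {V U : Subgroup G} {p q r s x t : G}

theorem fu_comm (P : Ps V U) {f u : G} (hf : f ∈ fpl V U) (hu : u ∈ U) : f * u = u * f := by
  have h2 : fpl V U ≤ centralizer ({u} : Set G) := by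
    unfold fpl
    rw [closure_le]
    rintro v ⟨q, hq, hq1, hv⟩
    exact mem_centralizer_singleton_iff.mpr (P.cU hq hq1 hv hu)
  exact mem_centralizer_singleton_iff.mp (h2 hf)

/-- `[C(W_x), ⟨W_p⟩] ≤ ⟨D_p⟩` -/
theorem four (P : Ps V U) (hx : x ∈ U) (hx1 : x ≠ 1) {b f : G} (hb : ∀ w ∈ ws V x, b * w = w * b)
    (hf : f ∈ fpl V U) : b * f * b⁻¹ * f⁻¹ ∈ dpl V U := by
  refine closure_induction (p := fun f _ => b * f * b⁻¹ * f⁻¹ ∈ dpl V U) ?_ ?_ ?_ ?_ hf
  · rintro w ⟨p, hp, hp1, hw⟩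
    by_cases hpx : p = x
    · rw [hpx] at hw
      rw [hb w hw]
      simp
    · refine subset_closure ⟨p, hp, hp1, ?_⟩
      have hbp : b * p = p * b := hb p (P.le x hx hx1 hp)
      have h1 : b * w * b⁻¹ * w⁻¹ ∈ ws V p := mul_mem (wsn hbp hw) (inv_mem hw)
      refine ⟨h1, fun r hr hr1 => P.dall hp hp1 hx hx1 (Ne.symm hpx) hr hr1 h1 fun v hv => ?_⟩
      have h2 : w⁻¹ * v * w ∈ ws V x := by
        have := wsn (inv_comm_of (P.cU hp hp1 hw hx)) hv
        rwa [inv_inv] at this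
      have h3 := hb _ h2
      have h4 := hb _ hv
      calc b * w * b⁻¹ * w⁻¹ * v = b * w * b⁻¹ * (w⁻¹ * v * w) * w⁻¹ := by group
        _ = b * w * (b⁻¹ * (w⁻¹ * v * w)) * w⁻¹ := by group
        _ = b * w * ((w⁻¹ * v * w) * b⁻¹) * w⁻¹ := by rw [inv_comm_of h3]
        _ = (b * v) * w * b⁻¹ * w⁻¹ := by group
        _ = v * (b * w * b⁻¹ * w⁻¹) := by rw [h4]; group
  · simp
  · intro f g hf hg ihf ihg
    have h1 := dpl_comm ihg hf
    have e : b * (f * g) * b⁻¹ * (f * g)⁻¹ = (b * f * b⁻¹ * f⁻¹) * (f * (b * g * b⁻¹ * g⁻¹)) * f⁻¹ := by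
      group
    rw [e, ← h1, mul_assoc, mul_inv_cancel_right]
    exact mul_mem ihf ihg
  · intro f hf ihf
    have h1 := dpl_comm ihf (inv_mem hf)
    have e : b * f⁻¹ * b⁻¹ * f⁻¹⁻¹ = (f⁻¹ * (b * f * b⁻¹ * f⁻¹) * f)⁻¹ := by group
    rw [e, ← h1, inv_mul_cancel_right]
    exact inv_mem ihf

end Ps

theorem comm_mod {B N : Subgroup G} (hN : ∀ b ∈ B, ∀ n ∈ N, b * n * b⁻¹ ∈ N) {a j a' j' : G} (ha : a ∈ B)
    (ha' : a' ∈ B) (hj'B : j' ∈ B) (hj : ∀ b ∈ B, b * j * b⁻¹ * j⁻¹ ∈ N)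
    (hj' : ∀ b ∈ B, b * j' * b⁻¹ * j'⁻¹ ∈ N) (haa : a * a' = a' * a) : ⁅a * j, a' * j'⁆ ∈ N := by
  have h1 := hj _ (mul_mem ha' hj'B)
  have h2 := hj' _ ha
  have e : ⁅a * j, a' * j'⁆ =
      (a * (a' * j' * j * (a' * j')⁻¹ * j⁻¹)⁻¹ * a⁻¹) * ((a * a') * a⁻¹ * a'⁻¹) *
        (a' * (a * j' * a⁻¹ * j'⁻¹) * a'⁻¹) := by
    rw [commutatorElement_def]
    have : a * a' * a⁻¹ * a'⁻¹ = 1 := by rw [haa]; group
    have h3 : (a * a')⁻¹ = (a' * a)⁻¹ := by rw [haa]
    rw [this, mul_one]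
    calc a * j * (a' * j') * (a * j)⁻¹ * (a' * j')⁻¹ =
        (a * (a' * j' * j * (a' * j')⁻¹ * j⁻¹)⁻¹ * a⁻¹) * (a * a' * j' * a⁻¹ * j'⁻¹ * a'⁻¹) := by group
      _ = (a * (a' * j' * j * (a' * j')⁻¹ * j⁻¹)⁻¹ * a⁻¹) * (a' * a * j' * a⁻¹ * j'⁻¹ * a'⁻¹) := by
        rw [haa]
      _ = _ := by group
  have h3 : (a * a') * a⁻¹ * a'⁻¹ = 1 := by rw [haa]; group
  rw [e, h3, mul_one]
  exact mul_mem (hN _ ha _ (inv_mem h1)) (hN _ ha' _ h2)

namespace One

variable {T V U : Subgroup G} {z : G}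

/-- conjugates of `F_U` by elements of `F_{U^c}` centralise `U` -/
theorem five [Finite G] (h : One T V z) (hN : NT V) (P : Pa V U) (hz : z ∈ U) {c : G} (hc : c * z = z * c)
    {g : G} (hg : g ∈ fpl V (cj c U)) {u : G} (hu : u ∈ U) {f : G} (hf : f ∈ fpl V U) :
    (g * f * g⁻¹) * u = u * (g * f * g⁻¹) := by
  have hz1 := h.ln.z_ne
  have P1 := P.ps h hN
  have P2 := (P.conj c).ps h hN
  have P3 := (P.conj g).ps h hN
  have hz2 : z ∈ cj c U := by
    rw [mem_cj]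
    have : c⁻¹ * z * c = z := by
      calc c⁻¹ * z * c = c⁻¹ * (z * c) := by group
        _ = z := by rw [← hc]; group
    rwa [this]
  have hgz : g * z = z * g := P2.fu_comm hg hz2
  have hz3 : z ∈ cj g U := by
    rw [mem_cj]
    have : g⁻¹ * z * g = z := by
      calc g⁻¹ * z * g = g⁻¹ * (z * g) := by group
        _ = z := by rw [← hgz]; group
    rwa [this]
  have hfg : g * f * g⁻¹ ∈ fpl V (cj g U) := conj_mem_fpl g hf
  by_cases hu1 : u = 1
  · rw [hu1]; simp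
  by_cases huz : u = z
  · rw [huz]; exact P3.fu_comm hfg hz3
  obtain ⟨j, hj, j', hj', hjx, hjx', hjj⟩ := P1.three hz hz1 hu hu1 huz
  let B : Subgroup G := centralizer (ws V z : Set G)
  have hBm : ∀ {b : G}, b ∈ B ↔ ∀ w ∈ ws V z, b * w = w * b := by
    intro b
    rw [mem_centralizer_iff]
    exact ⟨fun h w hw => (h w hw).symm, fun h w hw => (h w hw).symm⟩
  have hws2 : ws V z ≤ fpl V (cj c U) := ws_le_fpl hz2 hz1
  have hws3 : ws V z ≤ fpl V (cj g U) := ws_le_fpl hz3 hz1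
  have key : ∀ j ∈ fpl V U, (∀ w ∈ ws V z, j * w = w * j) → ∃ a ∈ dpl V (cj c U), a ∈ B ∧
      j = a * (g * j * g⁻¹) ∧ g * j * g⁻¹ ∈ B ∧ ∀ b ∈ B, b * (g * j * g⁻¹) * b⁻¹ * (g * j * g⁻¹)⁻¹ ∈
        dpl V (cj g U) := by
    intro j hj hjx
    have h1 := P2.four hz2 hz1 hjx hg
    refine ⟨_, h1, ?_, by group, ?_, ?_⟩
    · rw [hBm]
      exact fun w hw => dpl_comm h1 (hws2 hw)
    · rw [hBm]
      intro w hw
      have h2 : g⁻¹ * w * g ∈ ws V z := by
        have := Ps.wsn (inv_comm_of hgz) hw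
        rwa [inv_inv] at this
      calc g * j * g⁻¹ * w = g * (j * (g⁻¹ * w * g)) * g⁻¹ := by group
        _ = g * ((g⁻¹ * w * g) * j) * g⁻¹ := by rw [hjx _ h2]
        _ = w * (g * j * g⁻¹) := by group
    · intro b hb
      rw [hBm] at hb
      exact P3.four hz3 hz1 hb (conj_mem_fpl g hj)
  obtain ⟨a, ha, haB, hja, hjB, hjc⟩ := key j hj hjx
  obtain ⟨a', ha', haB', hja', hjB', hjc'⟩ := key j' hj' hjx'
  have hNB : ∀ b ∈ B, ∀ n ∈ dpl V (cj g U), b * n * b⁻¹ ∈ dpl V (cj g U) := by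
    intro b hb n hn
    rw [hBm] at hb
    have h1 := P3.four hz3 hz1 hb (dpl_le_fpl _ _ hn)
    have := mul_mem h1 hn
    rwa [inv_mul_cancel_right] at this
  have haa : a * a' = a' * a := dpl_comm ha (dpl_le_fpl _ _ ha')
  have h1 := comm_mod hNB haB haB' hjB' hjc hjc' haa
  rw [← hja, ← hja', hjj] at h1
  exact (dpl_comm h1 hfg).symm

/-- **THEOREM P**, main part: there is no plane on which all `W_q` have the same image. -/
theorem false_of_pa [Finite G] (h : One T V z) (hN : NT V) (P : Pa V U) (hz : z ∈ U) : False := by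
  have hz1 := h.ln.z_ne
  have P1 := P.ps h hN
  obtain ⟨q, hq, hq1, hqz⟩ := exists_ne P1.card z
  obtain ⟨r, hr, hr1, hrz, hrq, hrzq⟩ := exists_ne₂ P1.card z q
  have hzqr : z ≠ q * r := fun e => hrzq (by
    rw [e, P1.uc hq hr, mul_assoc, P1.sq q hq, mul_one])
  obtain ⟨g, hg, hgr, b₀, hb₀, hgb⟩ := P1.phi q hq hq1 r hr hr1 hrq
  have hgz : g ∉ kq V z := fun h1 =>
    hgb (P1.two_lines hq hq1 hr hr1 hrq hz hz1 (Ne.symm hqz) (Ne.symm hrz) hzqr hg hgr h1 b₀ hb₀)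
  have hgU : ∀ w ∈ ws V z, ⁅g, w⁆ ∈ U := fun w hw =>
    P1.sp_mem hq hr (P1.alpha hq hq1 hr hr1 hrq hz hz1 hg hgr hw)
  have hgC : g * z = z * g := P1.cU hq hq1 hg hz
  have hgg : g * g = 1 := P1.sw q hq hq1 g hg
  have hgf : g ∈ fpl V U := ws_le_fpl hq hq1 hg
  -- the group `H`
  let C := centralizer ({z} : Set G)
  have hK := centralizer_le_normalizer_kq V z
  have : ((kq V z).subgroupOf C).Normal := normal_subgroupOf_of_le_normalizer hK
  let H := C ⧸ (kq V z).subgroupOf C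
  let π : C →* H := QuotientGroup.mk' _
  have hπ : ∀ c : C, π c = 1 ↔ (c : G) ∈ kq V z := fun c => by
    rw [show π c = (QuotientGroup.mk c : H) from rfl, QuotientGroup.eq_one_iff, mem_subgroupOf]
  have hgC' : g ∈ C := mem_centralizer_singleton_iff.mpr hgC
  set γ : C := ⟨g, hgC'⟩ with hγ
  have hγγ : γ * γ = 1 := Subtype.ext hgg
  have hπγ : π γ * π γ = 1 := by rw [← map_mul, hγγ, map_one]
  by_cases h2 : IsPGroup 2 (normalClosure {π γ} : Subgroup H)
  · -- `O₂(H) = 1`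
    apply hgz
    let R : Subgroup G := ((normalClosure {π γ} : Subgroup H).comap π).map C.subtype
    have hRC : R ≤ C := map_subtype_le _
    have hgR : g ∈ R := ⟨γ, subset_normalClosure (Set.mem_singleton _), rfl⟩
    refine h.le_kq hRC ?_ ?_ hgR
    · refine le_normalizer_of_forall fun c hc y hy => ?_
      obtain ⟨y', hy', rfl⟩ := hy
      refine ⟨⟨c, hc⟩ * y' * ⟨c, hc⟩⁻¹, ?_, rfl⟩
      change π (⟨c, hc⟩ * y' * ⟨c, hc⟩⁻¹) ∈ normalClosure {π γ}
      rw [map_mul, map_mul, map_inv]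
      exact normalClosure_normal.conj_mem _ hy' _
    · rintro y ⟨y', hy', rfl⟩
      obtain ⟨n, hn⟩ := h2 ⟨π y', hy'⟩
      refine ⟨n, ?_⟩
      have h3 : π (y' ^ 2 ^ n) = 1 := by
        rw [map_pow]
        exact congrArg Subtype.val hn
      rw [hπ] at h3
      exact h3
  · obtain ⟨η, hη1, hodd, hinv⟩ := Cfsg.Agent.Involutions.BaerSuzuki.exists_odd_inverted (π γ) hπγ h2
    obtain ⟨c, rfl⟩ := QuotientGroup.mk'_surjective ((kq V z).subgroupOf C) η
    have hcz : (c : G) * z = z * c := mem_centralizer_singleton_iff.mp c.2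
    set b : G := c * g * (c : G)⁻¹ with hb
    have hbf : b ∈ fpl V (cj (c : G) U) := conj_mem_fpl (c : G) hgf
    have hbb : b * b = 1 := by
      calc b * b = c * (g * g) * (c : G)⁻¹ := by rw [hb]; group
        _ = 1 := by rw [hgg]; group
    have hbi : b⁻¹ = b := inv_eq_self hbb
    have hbC : b * z = z * b := by
      have : b ∈ C := mul_mem (mul_mem c.2 hgC') (inv_mem c.2)
      exact mem_centralizer_singleton_iff.mp this
    set a := b * g * b⁻¹ with ha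
    have haU : ∀ u ∈ U, a * u = u * a := fun u hu => h.five hN P hz hcz hbf hu hgf
    have haC : a * z = z * a := by
      have : a ∈ C := mul_mem (mul_mem (mem_centralizer_singleton_iff.mpr hbC) hgC')
        (inv_mem (mem_centralizer_singleton_iff.mpr hbC))
      exact mem_centralizer_singleton_iff.mp this
    -- `g` and `a` commute on `W_z`
    have hcomm : ∀ w ∈ ws V z, (g * a) * w * (g * a)⁻¹ = (a * g) * w * (a * g)⁻¹ := by
      intro w hw
      have hu := hgU w hw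
      set u := ⁅g, w⁆ with hud
      have e1 : g * w * g⁻¹ = u * w := by rw [hud, commutatorElement_def]; group
      have hw' : b⁻¹ * w * b ∈ ws V z := by
        have := Ps.wsn (inv_comm_of hbC) hw
        rwa [inv_inv] at this
      have hu' := hgU _ hw'
      set u' := ⁅g, b⁻¹ * w * b⁆ with hud'
      set v := b * u' * b⁻¹ with hvd
      have e2 : a * w * a⁻¹ = v * w := by
        rw [hvd, hud', commutatorElement_def, ha]; group
      have hgv : g * v * g⁻¹ = v := by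
        have h3 := haU u' hu'
        have h4 : b⁻¹ * g * b = a := by rw [ha, hbi]
        calc g * v * g⁻¹ = b * ((b⁻¹ * g * b) * u' * (b⁻¹ * g * b)⁻¹) * b⁻¹ := by rw [hvd]; group
          _ = b * (a * u' * a⁻¹) * b⁻¹ := by rw [h4]
          _ = b * u' * b⁻¹ := by rw [conj_eq_of_comm h3]
          _ = v := by rw [hvd]
      have hau : a * u * a⁻¹ = u := conj_eq_of_comm (haU u hu)
      have huw : u ∈ ws V z := P1.le z hz hz1 hu
      have hvw : v ∈ ws V z := by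
        have h5 : v = (a * w * a⁻¹) * w⁻¹ := by rw [e2]; group
        rw [h5]
        exact mul_mem (Ps.wsn haC hw) (inv_mem hw)
      calc (g * a) * w * (g * a)⁻¹ = g * (a * w * a⁻¹) * g⁻¹ := by group
        _ = (g * v * g⁻¹) * (g * w * g⁻¹) := by rw [e2]; group
        _ = v * u * w := by rw [hgv, e1]; group
        _ = u * v * w := by rw [P1.ab z hz hz1 v hvw u huw]
        _ = (a * u * a⁻¹) * (a * w * a⁻¹) := by rw [hau, e2]; group
        _ = a * (g * w * g⁻¹) * a⁻¹ := by rw [e1]; group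
        _ = (a * g) * w * (a * g)⁻¹ := by group
    have haCm : a ∈ C := mem_centralizer_singleton_iff.mpr haC
    have hk : ⁅g, a⁆ ∈ kq V z := by
      have hC : ⁅g, a⁆ ∈ C := by
        rw [commutatorElement_def]
        exact mul_mem (mul_mem (mul_mem hgC' haCm) (inv_mem hgC')) (inv_mem haCm)
      have hfix : ∀ w ∈ ws V z, ⁅g, a⁆ * w * ⁅g, a⁆⁻¹ = w := by
        intro w hw
        have hag : (a * g) * z = z * (a * g) := mul_comm_of haC hgC
        have h3 : (a * g)⁻¹ * w * (a * g) ∈ ws V z := by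
          have := Ps.wsn (inv_comm_of hag) hw
          rwa [inv_inv] at this
        calc ⁅g, a⁆ * w * ⁅g, a⁆⁻¹ = (g * a) * ((a * g)⁻¹ * w * (a * g)) * (g * a)⁻¹ := by
              rw [commutatorElement_def]; group
          _ = (a * g) * ((a * g)⁻¹ * w * (a * g)) * (a * g)⁻¹ := hcomm _ h3
          _ = w := by group
      refine ⟨hC, fun w hw => ?_, fun w hw => ?_⟩
      · rw [hfix w hw, mul_inv_cancel]; exact one_mem _
      · have h3 := hfix w hw
        have h4 : ⁅g, a⁆⁻¹ * w * ⁅g, a⁆ = w := by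
          calc ⁅g, a⁆⁻¹ * w * ⁅g, a⁆ = ⁅g, a⁆⁻¹ * (⁅g, a⁆ * w * ⁅g, a⁆⁻¹) * ⁅g, a⁆ := by rw [h3]
            _ = w := by group
        rw [h4, mul_inv_cancel]; exact one_mem _
    -- in `H`
    have e1 : π ⁅γ, (c * γ * c⁻¹) * γ * (c * γ * c⁻¹)⁻¹⁆ = 1 := by
      rw [hπ]
      have : ((⁅γ, (c * γ * c⁻¹) * γ * (c * γ * c⁻¹)⁻¹⁆ : C) : G) = ⁅g, a⁆ := by
        simp only [ha, hb, hγ, commutatorElement_def, _root_.mul_inv_rev, _root_.inv_inv, _root_.Subgroup.coe_mul, _root_.InvMemClass.coe_inv]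
      rw [this]; exact hk
    set θ := QuotientGroup.mk' ((kq V z).subgroupOf C) c with hθ
    have hθ' : π c = θ := rfl
    have e2 : ⁅π γ, (θ * π γ * θ⁻¹) * π γ * (θ * π γ * θ⁻¹)⁻¹⁆ = 1 := by
      rw [← hθ']
      have := e1
      simpa only [map_mul, map_inv, map_commutatorElement, _root_.mul_inv_rev, _root_.inv_inv] using this
    set g' := π γ with hg'
    have hgi : g'⁻¹ = g' := inv_eq_self hπγ
    have hgt : g' * θ * g' = θ⁻¹ := by rw [← hinv, hgi]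
    -- `θ ^ 8 = 1`
    have hpow : ∀ n : ℕ, g' * θ ^ n * g' = (θ ^ n)⁻¹ := by
      intro n
      have h3 : g' * θ * g'⁻¹ = θ⁻¹ := by rw [hgi]; exact hgt
      calc g' * θ ^ n * g' = g' * θ ^ n * g'⁻¹ := by rw [hgi]
        _ = (g' * θ * g'⁻¹) ^ n := conj_pow.symm
        _ = (θ ^ n)⁻¹ := by rw [h3, inv_pow]
    have s1 : θ * g' * θ⁻¹ = θ ^ 2 * g' := by
      calc θ * g' * θ⁻¹ = θ * g' * (g' * θ * g') := by rw [hgt]
        _ = θ * (g' * g') * θ * g' := by group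
        _ = θ ^ 2 * g' := by rw [hπγ, mul_one, pow_two]
    have s2 : (θ ^ 2 * g') * g' * (θ ^ 2 * g')⁻¹ = θ ^ 4 * g' := by
      calc (θ ^ 2 * g') * g' * (θ ^ 2 * g')⁻¹ = θ ^ 2 * (g' * g') * (g'⁻¹ * (θ ^ 2)⁻¹) := by group
        _ = θ ^ 2 * (g' * (g' * θ ^ 2 * g')) := by rw [hπγ, mul_one, hgi, hpow]
        _ = θ ^ 2 * (g' * g') * θ ^ 2 * g' := by group
        _ = θ ^ 4 * g' := by rw [hπγ, mul_one, ← pow_add]
    have h8 : θ ^ 8 = 1 := by
      rw [s1, s2, commutatorElement_eq_one_iff_mul_comm] at e2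
      have h4 : g' * θ ^ 4 * g' = θ ^ 4 := by
        rw [mul_assoc, e2, mul_assoc, hπγ, mul_one]
      rw [hpow] at h4
      have h5 : θ ^ 4 * θ ^ 4 = 1 := by
        calc θ ^ 4 * θ ^ 4 = θ ^ 4 * (θ ^ 4)⁻¹ := by rw [h4]
          _ = 1 := mul_inv_cancel _
      rwa [← pow_add] at h5
    apply hη1
    have h9 : orderOf θ ∣ 8 := orderOf_dvd_of_pow_eq_one h8
    have h10 : Nat.Coprime (orderOf θ) 8 := by
      have : Nat.Coprime (orderOf θ) (2 ^ 3) := Nat.Coprime.pow_right 3 (Nat.coprime_two_right.mpr hodd)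
      simpa using this
    have h11 := Nat.Coprime.eq_one_of_dvd h10 h9
    exact orderOf_eq_one_iff.mp h11

end One

end Cfsg.Agent.Omega.NO3S.TwoOne

end

section


/-!
# NO-3S, `q = 2`, `n = 1`: THEOREM P, the statement

`h : One T V z`, `y` a point of `V`, `y ≠ z`, `A` the image of `W_y` in `H = C_G(z) / K_z`, `λ = V / z`.

* `One.norm_of_image` (**THEOREM P**) : `f ∈ C_G(z)`, `A^f ≤ A` imply `f ∈ N_G(V)`, i.e. `N_H(A) = H_λ`;
* `One.norm_of_comm` : `C_H(A) ≤ H_λ`;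
* `One.eq_of_image` : if `L` is a line on `z`, `y' ∈ L - ⟨z⟩`, and `W_{y'}`, `W_y` have the same image in `H` then
  `L = V`.
-/

set_option autoImplicit false
set_option linter.unusedSectionVars false

namespace Cfsg.Agent.Omega.NO3S.TwoOne

open Subgroup Cfsg Cfsg.Agent.ZN Cfsg.Agent.MinSimple.Geo Cfsg.Agent.Omega.CaseL
open Cfsg.Agent.ZN.Block (conj_mem_of_normalizer conj_mem_of_normalizer' le_normalizer_of_forall
  mem_normalizer_of)
open scoped commutatorElement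

universe u

variable {G : Type u} [Group G]

/-- the image of `W_q` in `C_G(z) / K_z` is contained in the image of `W_{q'}` -/
def Rl (V : Subgroup G) (z q q' : G) : Prop := ∀ a ∈ ws V q, ∃ b ∈ ws V q', a * b⁻¹ ∈ kq V z

namespace Rl

variable {V : Subgroup G} {z q q' q'' : G}

theorem trans (h1 : Rl V z q q') (h2 : Rl V z q' q'') : Rl V z q q'' := by
  intro a ha
  obtain ⟨b, hb, hab⟩ := h1 a ha
  obtain ⟨c, hc, hbc⟩ := h2 b hb
  refine ⟨c, hc, ?_⟩
  have := mul_mem hab hbc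
  rwa [mul_assoc, inv_mul_cancel_left] at this

theorem conj (h1 : Rl V z q q') {c : G} (hc : c * z = z * c) : Rl V z (c * q * c⁻¹) (c * q' * c⁻¹) := by
  intro a ha
  have ha' : c⁻¹ * a * c ∈ ws V q := by
    have := conj_mem_ws c⁻¹ ha
    have e : c⁻¹ * (c * q * c⁻¹) * c⁻¹⁻¹ = q := by group
    rwa [e, inv_inv] at this
  obtain ⟨b, hb, hab⟩ := h1 _ ha'
  refine ⟨c * b * c⁻¹, conj_mem_ws c hb, ?_⟩
  have := Ps.kqn hc hab
  have e : c * (c⁻¹ * a * c * b⁻¹) * c⁻¹ = a * (c * b * c⁻¹)⁻¹ := by group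
  rwa [e] at this

theorem of_kq {k : G} (hk : k ∈ kq V z) (hq : ws V q ≤ centralizer ({z} : Set G)) :
    Rl V z q (k * q * k⁻¹) := by
  intro a ha
  refine ⟨k * a * k⁻¹, conj_mem_ws k ha, ?_⟩
  have h1 : a * k * a⁻¹ ∈ kq V z := Ps.kqn (mem_centralizer_singleton_iff.mp (hq ha)) hk
  have e : a * (k * a * k⁻¹)⁻¹ = a * k * a⁻¹ * k⁻¹ := by group
  rw [e]
  exact mul_mem h1 (inv_mem hk)

theorem of_kq' {k : G} (hk : k ∈ kq V z) (hq : ws V q ≤ centralizer ({z} : Set G)) :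
    Rl V z (k * q * k⁻¹) q := by
  have h1 : ws V (k * q * k⁻¹) ≤ centralizer ({z} : Set G) := by
    intro a ha
    have ha' : k⁻¹ * a * k ∈ ws V q := by
      have := conj_mem_ws k⁻¹ ha
      have e : k⁻¹ * (k * q * k⁻¹) * k⁻¹⁻¹ = q := by group
      rwa [e, inv_inv] at this
    have h2 := mem_centralizer_singleton_iff.mp (hq ha')
    have h3 := Ps.kp hk
    rw [mem_centralizer_singleton_iff]
    have e : a = k * (k⁻¹ * a * k) * k⁻¹ := by group
    rw [e]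
    exact mul_comm_of (mul_comm_of h3 h2) (inv_comm_of h3)
  have := of_kq (inv_mem hk) h1
  have e : k⁻¹ * (k * q * k⁻¹) * k⁻¹⁻¹ = q := by group
  rwa [e] at this

end Rl

/-- equality of the images -/
def Re (V : Subgroup G) (z q q' : G) : Prop := Rl V z q q' ∧ Rl V z q' q

namespace Re

variable {V : Subgroup G} {z q q' q'' : G}

theorem symm (h : Re V z q q') : Re V z q' q := ⟨h.2, h.1⟩

theorem refl (V : Subgroup G) (z q : G) : Re V z q q := by
  have : Rl V z q q := fun a ha => ⟨a, ha, by rw [mul_inv_cancel]; exact one_mem _⟩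
  exact ⟨this, this⟩

theorem trans (h1 : Re V z q q') (h2 : Re V z q' q'') : Re V z q q'' :=
  ⟨h1.1.trans h2.1, h2.2.trans h1.2⟩

theorem conj (h1 : Re V z q q') {c : G} (hc : c * z = z * c) : Re V z (c * q * c⁻¹) (c * q' * c⁻¹) :=
  ⟨h1.1.conj hc, h1.2.conj hc⟩

theorem of_kq {k : G} (hk : k ∈ kq V z) (hq : ws V q ≤ centralizer ({z} : Set G)) :
    Re V z q (k * q * k⁻¹) := ⟨Rl.of_kq hk hq, Rl.of_kq' hk hq⟩

end Re

namespace One

variable {T V U : Subgroup G} {z : G}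

/-- `U ≤ W_p` -/
theorem pln_le (_ : One T V z) (hU : Pln V U) {p : G} (hp : p ∈ U) (hp1 : p ≠ 1) : U ≤ ws V p := by
  intro x hx
  by_cases hx1 : x = 1
  · rw [hx1]; exact one_mem _
  by_cases hxp : x = p
  · obtain ⟨q, hq, hq1, hqp⟩ := exists_ne hU.card p
    obtain ⟨L, hL, -⟩ := hU.line p hp q hq hp1 hq1 (Ne.symm hqp)
    rw [hxp]; exact le_ws hL hL.2
  · obtain ⟨L, hL, hxL⟩ := hU.line p hp x hx hp1 hx1 (Ne.symm hxp)
    exact le_ws hL hxL

/-- `K_p` normalises a plane `U ∋ p` -/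
theorem pln_conj (h : One T V z) (hU : Pln V U) {p k u : G} (hp : p ∈ U) (hp1 : p ≠ 1) (hk : k ∈ kq V p)
    (hu : u ∈ U) : k * u * k⁻¹ ∈ U := by
  rcases (mem_zpowers_iff_of_mul_self (hU.sq p hp)).mp (kq_comm hk (h.pln_le hU hp hp1 hu)) with e | e
  · have : k * u * k⁻¹ = u := by
      calc k * u * k⁻¹ = (k * u * k⁻¹ * u⁻¹) * u := by group
        _ = u := by rw [e, one_mul]
    rw [this]; exact hu
  · have : k * u * k⁻¹ = p * u := by
      calc k * u * k⁻¹ = (k * u * k⁻¹ * u⁻¹) * u := by group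
        _ = p * u := by rw [e]
    rw [this]; exact mul_mem hp hu

/-- if all `W_q` have the same image in `C_G(z) / K_z` then this holds at all points -/
theorem pa_of (h : One T V z) [Finite G] (hU : Pln V U) (hz : z ∈ U)
    (hR : ∀ q ∈ U, q ≠ 1 → q ≠ z → ∀ q' ∈ U, q' ≠ 1 → q' ≠ z → Rl V z q q') : Pa V U := by
  refine ⟨hU, fun t ht ht1 q hq hq1 hqt q' hq' hq1' hqt' a ha => ?_⟩
  have hz1 := h.ln.z_ne
  have hzz := h.ln.zz
  by_cases htz : t = z
  · subst htz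
    exact hR q hq hq1 hqt q' hq' hq1' hqt' a ha
  · have hs : z * t ∈ U := mul_mem hz ht
    have hs1 : z * t ≠ 1 := fun e => htz (by
      rw [← inv_eq_self (hU.sq t ht)]
      exact (mul_eq_one_iff_inv_eq'.mp e))
    have hzs : z ≠ z * t := fun e => ht1 (by simpa using e.symm)
    obtain ⟨r, hr, hr1, hrs, hrz, hrsz⟩ := exists_ne₂ hU.card (z * t) z
    obtain ⟨k, hk, hkz, -⟩ := h.pln_trv hU hs hs1 hz hz1 hzs hr hr1 hrs hrz hrsz
    have hzt : z * t = t * z := by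
      have h1 := hU.sq _ hs
      have h2 := inv_eq_self h1
      rw [mul_inv_rev, inv_eq_self hzz, inv_eq_self (hU.sq t ht)] at h2
      exact h2.symm
    have hkt : k * z * k⁻¹ = t := by
      rw [hkz, hzt, mul_assoc, hzz, mul_one]
    have hkU : ∀ u ∈ U, k⁻¹ * u * k ∈ U := fun u hu => by
      have := h.pln_conj hU hs hs1 (inv_mem hk) hu
      rwa [inv_inv] at this
    have hne : ∀ {u : G}, u ≠ t → k⁻¹ * u * k ≠ z := fun {u} hut e => hut (by
      calc u = k * (k⁻¹ * u * k) * k⁻¹ := by group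
        _ = t := by rw [e, hkt])
    have ha' : k⁻¹ * a * k ∈ ws V (k⁻¹ * q * k) := by
      have := conj_mem_ws k⁻¹ ha
      rwa [inv_inv] at this
    obtain ⟨b, hb, hab⟩ := hR _ (hkU q hq) (conj_ne_one hq1) (hne hqt) _ (hkU q' hq') (conj_ne_one hq1')
      (hne hqt') _ ha'
    refine ⟨k * b * k⁻¹, ?_, ?_⟩
    · have := conj_mem_ws k hb
      have e : k * (k⁻¹ * q' * k) * k⁻¹ = q' := by group
      rwa [e] at this
    · have := conj_mem_kq k hab
      have e : k * (k⁻¹ * a * k * b⁻¹) * k⁻¹ = a * (k * b * k⁻¹)⁻¹ := by group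
      rwa [hkt, e] at this

/-- the images of the `W_q`, `q ∈ U - ⟨z⟩`, `U = ⟨V, u⟩` a plane, if `W_y`, `W_u` have the same image -/
theorem re_of (h : One T V z) [Finite G] (hU : Pln V U) (hVU : V ≤ U) {u y : G} (hu : u ∈ U) (huV : u ∉ V)
    (hy : y ∈ V) (hy1 : y ≠ 1) (hyz : y ≠ z) (hR : Re V z y u) :
    ∀ q ∈ U, q ≠ 1 → q ≠ z → Re V z y q := by
  have hz := h.ln.z_mem
  have hz1 := h.ln.z_ne
  have hzz := h.ln.zz
  have hzU := hVU hz
  have hyU := hVU hy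
  have hu1 : u ≠ 1 := fun e => huV (by rw [e]; exact one_mem _)
  have huz : u ≠ z := fun e => huV (by rw [e]; exact hz)
  have huy : u ≠ y := fun e => huV (by rw [e]; exact hy)
  have huzy : u ≠ z * y := fun e => huV (by rw [e]; exact mul_mem hz hy)
  have huyz : u ≠ y * z := fun e => huV (by rw [e]; exact mul_mem hy hz)
  -- `W_q ≤ C(z)` for `q ∈ U#`
  have hC : ∀ q ∈ U, q ≠ 1 → ws V q ≤ centralizer ({z} : Set G) := by
    intro q hq hq1 a ha
    rw [mem_centralizer_singleton_iff]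
    obtain ⟨r, hr, hr1, hrq⟩ := exists_ne hU.card q
    obtain ⟨T', g, h', -, -⟩ := h.exists_one hU hq hq1 hr hr1 hrq
    have hab := h'.ab
    rw [ws_cj] at hab
    exact hab a ha z (h.pln_le hU hq hq1 hzU)
  -- `q` and `z q`
  have hzq : ∀ q ∈ U, q ≠ 1 → q ≠ z → Re V z q (z * q) := by
    intro q hq hq1 hqz
    obtain ⟨r, hr, hr1, hrz, hrq, hrzq⟩ := exists_ne₂ hU.card z q
    obtain ⟨k, hk, hkq, -⟩ := h.pln_trv hU hzU hz1 hq hq1 hqz hr hr1 hrz hrq hrzq
    have := Re.of_kq hk (hC q hq hq1)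
    rwa [hkq] at this
  -- the third line
  obtain ⟨k, hk, hku, hkz⟩ := h.pln_trv hU hyU hy1 hu hu1 huy hzU hz1 (Ne.symm hyz) (Ne.symm huz) (by
    intro e
    apply huyz
    rw [e, ← mul_assoc, h.ln.sq y hy, one_mul])
  have hR3 : Re V z y (y * u) := by
    have := hR.conj (comm_of_conj_eq hkz)
    rwa [hku, conj_eq_of_comm (Ps.kp hk)] at this
  have hVu : ∀ x ∈ U, x ∈ V ∨ ∃ v ∈ V, x = v * u := by
    intro x hx
    have h2 : V.relIndex U = 2 := by
      have := Block.card_mul_relIndex' hVU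
      rw [h.ln.card_V, hU.card] at this
      omega
    by_cases hxV : x ∈ V
    · exact Or.inl hxV
    · right
      have h3 : ((V.subgroupOf U).index) = 2 := h2
      have h4 := Subgroup.mul_mem_iff_of_index_two h3 (a := ⟨x, hx⟩) (b := ⟨u, hu⟩)
      rw [mem_subgroupOf, mem_subgroupOf, mem_subgroupOf] at h4
      have h5 : x * u ∈ V := h4.mpr ⟨fun e => absurd e hxV, fun e => absurd e huV⟩
      exact ⟨x * u, h5, by rw [mul_assoc, hU.sq u hu, mul_one]⟩
  intro q hq hq1 hqz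
  rcases hVu q hq with hqV | ⟨v, hv, rfl⟩
  · rcases h.ln.four hz hy hz1 hy1 (Ne.symm hyz) hqV with e | e | e | e
    · exact absurd e hq1
    · exact absurd e hqz
    · rw [e]; exact Re.refl _ _ _
    · rw [e]; exact hzq y hyU hy1 hyz
  · rcases h.ln.four hz hy hz1 hy1 (Ne.symm hyz) hv with e | e | e | e
    · rw [e, one_mul]; exact hR
    · rw [e]
      exact hR.trans (hzq u hu hu1 huz)
    · rw [e]; exact hR3
    · rw [e, mul_assoc]
      refine hR3.trans (hzq _ (mul_mem hyU hu) ?_ ?_)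
      · intro e'
        apply huy
        rw [← inv_eq_self (hU.sq u hu)]
        exact (mul_eq_one_iff_eq_inv.mp e').symm
      · intro e'
        apply huyz
        rw [← e', ← mul_assoc, h.ln.sq y hy, one_mul]

/-- no `λ`-transvection in `A` if all `W_q`, `q ∈ U - ⟨z⟩`, have the same image -/
theorem nt_of_re (h : One T V z) [Finite G] (hU : Pln V U) (hVU : V ≤ U) {u y : G} (hu : u ∈ U) (huV : u ∉ V)
    (hy : y ∈ V) (hy1 : y ≠ 1) (hyz : y ≠ z)
    (hR : ∀ q ∈ U, q ≠ 1 → q ≠ z → Re V z y q) : NT V := by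
  have hz := h.ln.z_mem
  have hz1 := h.ln.z_ne
  have hzz := h.ln.zz
  have hzU := hVU hz
  have hyU := hVU hy
  have hu1 : u ≠ 1 := fun e => huV (by rw [e]; exact one_mem _)
  have huz : u ≠ z := fun e => huV (by rw [e]; exact hz)
  have huy : u ≠ y := fun e => huV (by rw [e]; exact hy)
  have hyuU : y * u ∈ U := mul_mem hyU hu
  have hyu1 : y * u ≠ 1 := fun e => huy (by
    rw [← inv_eq_self (hU.sq u hu)]
    exact (mul_eq_one_iff_eq_inv.mp e).symm)
  have hyuz : y * u ≠ z := fun e => huV (by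
    have : u = y⁻¹ * z := by rw [← e]; group
    rw [this]; exact mul_mem (inv_mem hy) hz)
  have hyyu : y ≠ y * u := fun e => hu1 (by simpa using e.symm)
  have hyu : y * u = u * y := by
    have h1 := hU.sq _ hyuU
    have h2 := inv_eq_self h1
    rw [mul_inv_rev, inv_eq_self (hU.sq u hu), inv_eq_self (h.ln.sq y hy)] at h2
    exact h2.symm
  have hyuy : y * u * y = u := by rw [hyu, mul_assoc, h.ln.sq y hy, mul_one]
  refine h.nt_of hz hz1 hy hy1 hyz fun b hb hV => ?_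
  obtain ⟨k, hk, hky, hkz⟩ := h.pln_trv hU hyuU hyu1 hyU hy1 hyyu hzU hz1 (Ne.symm hyuz) (Ne.symm hyz) (by
    rw [hyuy]; exact Ne.symm huz)
  rw [hyuy] at hky
  have hkz' := comm_of_conj_eq hkz
  have hyuk : y * u ∈ kq V z := h.ws_le_kq hz hz1 (h.pln_le hU hzU hz1 hyuU)
  -- `k b k⁻¹ ≡ b`
  obtain ⟨c, hc, hbc⟩ := (hR _ hyuU hyu1 hyuz).1 b hb
  have h1 : k * (b * c⁻¹) * k⁻¹ ∈ kq V z := Ps.kqn hkz' hbc
  have h2 : k * c * k⁻¹ * c⁻¹ ∈ kq V z := by
    rcases (mem_zpowers_iff_of_mul_self (hU.sq _ hyuU)).mp (kq_comm hk hc) with e | e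
    · rw [e]; exact one_mem _
    · rw [e]; exact hyuk
  set κ := k * b * k⁻¹ * b⁻¹ with hκd
  have hκ : κ ∈ kq V z := by
    have h3 := mul_mem (mul_mem h1 h2) (inv_mem hbc)
    have e : k * (b * c⁻¹) * k⁻¹ * (k * c * k⁻¹ * c⁻¹) * (b * c⁻¹)⁻¹ = κ := by rw [hκd]; group
    rwa [e] at h3
  have hbC := h.cent_le_centralizer hz (h.ws_le_centralizer_V hy hy1 hb)
  refine h.mem_kq hz (mem_centralizer_singleton_iff.mp hbC) fun w hw => ?_
  have hw' : k⁻¹ * w * k ∈ ws V z := by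
    have := Ps.wsn (inv_comm_of hkz') hw
    rwa [inv_inv] at this
  have hv' := hV _ hw'
  have hv := hV _ hw
  set v := ⁅w, b⁆ with hvd
  set v' := ⁅k⁻¹ * w * k, b⁆ with hvd'
  -- `[w, k b k⁻¹] = k v' k⁻¹`
  have e1 : k * v' * k⁻¹ = ⁅w, κ * b⁆ := by
    rw [hvd', hκd]; simp only [commutatorElement_def]; group
  have e2 : ⁅w, κ * b⁆ = ⁅w, κ⁆ * (κ * v * κ⁻¹) := by
    rw [hvd]; simp only [commutatorElement_def]; group
  have e3 : ⁅w, κ⁆ = 1 ∨ ⁅w, κ⁆ = z := by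
    have e4 : ⁅w, κ⁆ = w * (κ * w * κ⁻¹)⁻¹ := by rw [commutatorElement_def]; group
    rcases h.kq_cases hz hκ hw with e | e
    · left; rw [e4, e, mul_inv_cancel]
    · right; rw [e4, e, mul_inv_rev, mul_inv_cancel_left, inv_eq_self hzz]
  have e5 : κ * v * κ⁻¹ = v ∨ κ * v * κ⁻¹ = z * v := h.kq_cases hz hκ (h.V_le hz hz1 hv)
  have e6 : k * v' * k⁻¹ = v ∨ k * v' * k⁻¹ = z * v := by
    rw [e1, e2]
    rcases e3 with e3 | e3 <;> rcases e5 with e5 | e5 <;> rw [e3, e5]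
    · left; exact one_mul _
    · right; exact one_mul _
    · right; rfl
    · left; rw [← mul_assoc, hzz, one_mul]
  have e7 : k * v' * k⁻¹ = 1 ∨ k * v' * k⁻¹ = z ∨ k * v' * k⁻¹ = u ∨ k * v' * k⁻¹ = z * u := by
    rcases h.ln.four hz hy hz1 hy1 (Ne.symm hyz) hv' with e | e | e | e <;> rw [e]
    · left; group
    · right; left; exact hkz
    · right; right; left; exact hky
    · right; right; right
      calc k * (z * y) * k⁻¹ = (k * z * k⁻¹) * (k * y * k⁻¹) := by group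
        _ = z * u := by rw [hkz, hky]
  have e8 : k * v' * k⁻¹ ∈ V := by
    rcases e6 with e | e <;> rw [e]
    · exact hv
    · exact mul_mem hz hv
  have e9 : k * v' * k⁻¹ = 1 ∨ k * v' * k⁻¹ = z := by
    rcases e7 with e | e | e | e
    · exact Or.inl e
    · exact Or.inr e
    · rw [e] at e8; exact absurd e8 huV
    · rw [e] at e8
      exfalso
      have := mul_mem (inv_mem hz) e8
      rw [inv_mul_cancel_left] at this
      exact huV this
  have e10 : v = 1 ∨ v = z := by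
    rcases e6 with e | e <;> rcases e9 with f | f <;> rw [e] at f
    · exact Or.inl f
    · exact Or.inr f
    · right
      rw [← inv_eq_self hzz]
      exact (mul_eq_one_iff_inv_eq.mp f).symm
    · left; simpa using f
  -- `b w b⁻¹ = v⁻¹ w`
  have e11 : b * w * b⁻¹ = v⁻¹ * w := by rw [hvd, commutatorElement_def]; group
  rcases e10 with e | e
  · left; rw [e11, e, inv_one, one_mul]
  · right; rw [e11, e, inv_eq_self hzz]

/-- **THEOREM P**: a line `L` on `z` such that `W_{y'}`, `y' ∈ L - ⟨z⟩`, and `W_y` have the same image in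
`C_G(z) / K_z` is `V`. -/
theorem eq_of_image (h : One T V z) [Finite G] {y y' : G} (hy : y ∈ V) (hy1 : y ≠ 1) (hyz : y ≠ z)
    {L : Subgroup G} (hL : L ∈ lines V z) (hy' : y' ∈ L) (hy1' : y' ≠ 1) (hyz' : y' ≠ z)
    (hR : Re V z y y') : L = V := by
  by_contra hne
  have hz := h.ln.z_mem
  have hz1 := h.ln.z_ne
  have hzz := h.ln.zz
  obtain ⟨g, rfl, T', h'⟩ := h.of_line hL hz1
  obtain ⟨w, hw, b', hb', hwV, hwz⟩ := h'.exists_lambda hL.2 hz1 hy' hy1' hyz'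
  rw [ws_cj] at hw hb'
  obtain ⟨b, hb, hκ⟩ := hR.2 b' hb'
  set κ := b' * b⁻¹ with hκd
  set u := ⁅w, b⁆ with hud
  have hui : u ∈ ii V := h.comm_ii_mem hz hz1 hy hy1 hw hb
  have huw : u ∈ ws V z := ii_le hz hz1 hui
  have e0 : b' = κ * b := by rw [hκd]; group
  have e2 : ⁅w, b'⁆ = ⁅w, κ⁆ * (κ * u * κ⁻¹) := by
    rw [e0, hud]; simp only [commutatorElement_def]; group
  have e3 : ⁅w, κ⁆ = 1 ∨ ⁅w, κ⁆ = z := by
    have e4 : ⁅w, κ⁆ = w * (κ * w * κ⁻¹)⁻¹ := by rw [commutatorElement_def]; group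
    rcases h.kq_cases hz hκ hw with e | e
    · left; rw [e4, e, mul_inv_cancel]
    · right; rw [e4, e, mul_inv_rev, mul_inv_cancel_left, inv_eq_self hzz]
  have e6 : ⁅w, b'⁆ = u ∨ ⁅w, b'⁆ = z * u := by
    rw [e2]
    rcases e3 with e3 | e3 <;> rcases h.kq_cases hz hκ huw with e5 | e5 <;> rw [e3, e5]
    · left; exact one_mul _
    · right; exact one_mul _
    · right; rfl
    · left; rw [← mul_assoc, hzz, one_mul]
  have huL : u ∈ cj g V := by
    rcases e6 with e | e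
    · rw [← e]; exact hwV
    · have : u = z * ⁅w, b'⁆ := by rw [e, ← mul_assoc, hzz, one_mul]
      rw [this]; exact mul_mem hL.2 hwV
  have huz : u ∉ zpowers z := by
    intro hu
    apply hwz
    rcases e6 with e | e <;> rw [e]
    · exact hu
    · exact mul_mem (mem_zpowers z) hu
  have hu1 : u ≠ 1 := fun e => huz (by rw [e]; exact one_mem _)
  have huz' : u ≠ z := fun e => huz (by rw [e]; exact mem_zpowers z)
  have huV : u ∉ V := by
    intro hu
    apply hne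
    have hle : V ≤ cj g V := by
      intro x hx
      rcases h.ln.four hz hu hz1 hu1 (Ne.symm huz') hx with e | e | e | e <;> rw [e]
      · exact one_mem _
      · exact hL.2
      · exact huL
      · exact mul_mem hL.2 huL
    exact (Subgroup.eq_of_le_of_card_ge hle (by rw [card_cj])).symm
  obtain ⟨U, hU, hVU, huU, -⟩ := h.exists_plane hui huV ⟨_, hL, huL⟩
  have hyC : ∀ q ∈ cj g V, q ≠ 1 → q ≠ z → Re V z y' q := by
    intro q hq hq1 hqz
    rcases h'.ln.four hL.2 hy' hz1 hy1' (Ne.symm hyz') hq with e | e | e | e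
    · exact absurd e hq1
    · exact absurd e hqz
    · rw [e]; exact Re.refl _ _ _
    · obtain ⟨k, hk, -, hk2⟩ := h'.exists_move hL.2 hz1 hy' hy1' hyz'
      rw [kq_cj] at hk
      have h1 := Re.of_kq (q := y') hk (by
        have := h'.cent_le_centralizer hL.2
        have h2 := h'.ws_le_centralizer_V hy' hy1'
        rw [ws_cj] at h2
        exact h2.trans this)
      rwa [hk2, ← e] at h1
  have hRu : Re V z y u := hR.trans (hyC u huL hu1 huz')
  have hall := h.re_of hU hVU huU huV hy hy1 hyz hRu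
  have hN := h.nt_of_re hU hVU huU huV hy hy1 hyz hall
  have P := h.pa_of hU (hVU hz) fun q hq hq1 hqz q' hq' hq1' hqz' =>
    (hall q hq hq1 hqz).2.trans (hall q' hq' hq1' hqz').1
  exact h.false_of_pa hN P (hVU hz)

/-- **THEOREM P**: `N_H(A) = H_λ`. -/
theorem norm_of_image (h : One T V z) [Finite G] {y f : G} (hy : y ∈ V) (hy1 : y ≠ 1) (hyz : y ≠ z)
    (hf : f ∈ centralizer ({z} : Set G))
    (hA : ∀ a ∈ ws V y, ∃ b ∈ ws V y, f * a * f⁻¹ * b⁻¹ ∈ kq V z) : f ∈ normalizer (V : Set G) := by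
  have hz := h.ln.z_mem
  have hfz : f * z = z * f := mem_centralizer_singleton_iff.mp hf
  have h1 : Rl V z (f * y * f⁻¹) y := by
    intro a ha
    have ha' : f⁻¹ * a * f ∈ ws V y := by
      have := conj_mem_ws f⁻¹ ha
      have e : f⁻¹ * (f * y * f⁻¹) * f⁻¹⁻¹ = y := by group
      rwa [e, inv_inv] at this
    obtain ⟨b, hb, hab⟩ := hA _ ha'
    refine ⟨b, hb, ?_⟩
    have e : f * (f⁻¹ * a * f) * f⁻¹ = a := by group
    rwa [e] at hab
  -- `f` has finite order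
  have h2 : ∀ n : ℕ, Rl V z (f ^ (n + 1) * y * (f ^ (n + 1))⁻¹) (f * y * f⁻¹) := by
    intro n
    induction n with
    | zero =>
      rw [zero_add, pow_one]
      exact fun a ha => ⟨a, ha, by rw [mul_inv_cancel]; exact one_mem _⟩
    | succ n ih =>
      have h3 := (ih.trans h1).conj hfz
      have e : f * (f ^ (n + 1) * y * (f ^ (n + 1))⁻¹) * f⁻¹ = f ^ (n + 1 + 1) * y * (f ^ (n + 1 + 1))⁻¹ := by
        rw [pow_succ' f (n + 1)]; group
      rwa [e] at h3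
  have h3 : Rl V z y (f * y * f⁻¹) := by
    obtain ⟨n, hn, hfn⟩ : ∃ n, 0 < n ∧ f ^ n = 1 := ⟨orderOf f, orderOf_pos f, pow_orderOf_eq_one f⟩
    obtain ⟨m, rfl⟩ := Nat.exists_eq_succ_of_ne_zero hn.ne'
    have h4 := h2 m
    rw [show m + 1 = m.succ from rfl, hfn] at h4
    have e : (1 : G) * y * 1⁻¹ = y := by group
    rwa [e] at h4
  have hL : cj f V ∈ lines V z := by
    have := mem_lines_cj (g := f) h.ln.V_mem_lines
    rwa [conj_eq_of_comm hfz] at this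
  have h4 := h.eq_of_image hy hy1 hyz hL (conj_mem_cj hy) (fun e => hy1 (conj_eq_one_iff.mp e))
    (fun e => hyz (by
      calc y = f⁻¹ * (f * y * f⁻¹) * f := by group
        _ = f⁻¹ * (z * f) := by rw [e]; group
        _ = z := by rw [← hfz]; group)) ⟨h3, h1⟩
  exact mem_normalizer_iff_cj.mpr h4

/-- **THEOREM P**: `C_H(A) ≤ H_λ`. -/
theorem norm_of_comm (h : One T V z) [Finite G] {y f : G} (hy : y ∈ V) (hy1 : y ≠ 1) (hyz : y ≠ z)
    (hf : f ∈ centralizer ({z} : Set G)) (hA : ∀ a ∈ ws V y, f * a * f⁻¹ * a⁻¹ ∈ kq V z) :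
    f ∈ normalizer (V : Set G) :=
  h.norm_of_image hy hy1 hyz hf fun a ha => ⟨a, ha, hA a ha⟩

end One

end Cfsg.Agent.Omega.NO3S.TwoOne

end

section


/-!
# NO-3S, `q = 2`, `n = 1`: consequences of THEOREM P

* `One.le_kq_of_norm` : a normal subgroup of `C_G(z)` contained in `N_G(V)` is in `K_z`;
* `One.le_kq_of_comm` (C1) : no normal subgroup `≠ 1` of `H` is centralised by `A`;
* `One.ee_of_comm`, `One.ii_of_comm` (VIII) : `C_H(A)` is trivial on `M / Ē` and on `[M, A] / λ`.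
-/

set_option autoImplicit false
set_option linter.unusedSectionVars false

namespace Cfsg.Agent.Omega.NO3S.TwoOne

open Subgroup Cfsg Cfsg.Agent.ZN Cfsg.Agent.MinSimple.Geo Cfsg.Agent.Omega.CaseL
open Cfsg.Agent.ZN.Block (conj_mem_of_normalizer conj_mem_of_normalizer' le_normalizer_of_forall
  mem_normalizer_of)
open scoped commutatorElement

universe u

variable {G : Type u} [Group G]

namespace One

variable {T V : Subgroup G} {z : G}

/-- a normal subgroup of `C_G(z)` contained in `N_G(V)` is in `K_z` -/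
theorem le_kq_of_norm [Finite G] (h : One T V z) {R : Subgroup G} (hR : R ≤ centralizer ({z} : Set G))
    (hn : centralizer ({z} : Set G) ≤ normalizer (R : Set G)) (h6 : R ≤ normalizer (V : Set G)) :
    R ≤ kq V z := by
  have hz := h.ln.z_mem
  have hz1 := h.ln.z_ne
  have h8 : ∀ r ∈ R, ∀ w ∈ ws V z, r * w * r⁻¹ * w⁻¹ ∈ zpowers z := by
    intro r hr
    let A : Subgroup G :=
      { carrier := {w | ∀ r ∈ R, r * w * r⁻¹ * w⁻¹ ∈ zpowers z ∧ w * z = z * w}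
        mul_mem' := by
          intro a b ha hb r hr
          have haz := (ha r hr).2
          have hbz := (hb r hr).2
          refine ⟨?_, mul_comm_of haz hbz⟩
          have e : r * (a * b) * r⁻¹ * (a * b)⁻¹ =
              (r * a * r⁻¹ * a⁻¹) * (a * (r * b * r⁻¹ * b⁻¹) * a⁻¹) := by group
          rw [e, conj_zpowers (mem_centralizer_singleton_iff.mpr haz) (hb r hr).1]
          exact mul_mem (ha r hr).1 (hb r hr).1
        one_mem' := fun r hr => ⟨by simp, by simp⟩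
        inv_mem' := by
          intro a ha r hr
          have haz := (ha r hr).2
          refine ⟨?_, inv_comm_of haz⟩
          have e : r * a⁻¹ * r⁻¹ * a⁻¹⁻¹ = a⁻¹ * (r * a * r⁻¹ * a⁻¹)⁻¹ * a⁻¹⁻¹ := by group
          rw [e, conj_zpowers (inv_mem (mem_centralizer_singleton_iff.mpr haz)) (inv_mem (ha r hr).1)]
          exact inv_mem (ha r hr).1 }
    have hA : ws V z ≤ A := by
      refine ws_le fun L hL => ?_
      obtain ⟨c, hc, rfl⟩ := h.ln.exists_of_mem_lines hL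
      intro x hx r hr
      have hx' := mem_of_cj hx
      have hr' := conj_mem_of_normalizer' hn hc hr
      refine ⟨?_, mem_centralizer_singleton_iff.mp (h.ws_le_cent (le_ws hL hx))⟩
      have h9 : c⁻¹ * r * c * (c⁻¹ * x * c) * (c⁻¹ * r * c)⁻¹ * (c⁻¹ * x * c)⁻¹ ∈ zpowers z := by
        rcases h.ln.conj_cases hz hx' hz1 (mem_centralizer_singleton_iff.mp (hR hr')) (h6 hr') with e | e
        · rw [e, mul_inv_cancel]; exact one_mem _
        · rw [e, mul_inv_cancel_right]; exact mem_zpowers z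
      have e : r * x * r⁻¹ * x⁻¹ =
          c * (c⁻¹ * r * c * (c⁻¹ * x * c) * (c⁻¹ * r * c)⁻¹ * (c⁻¹ * x * c)⁻¹) * c⁻¹ := by group
      rw [e, conj_zpowers hc h9]
      exact h9
    exact fun w hw => (hA hw r hr).1
  intro r hr
  refine ⟨hR hr, h8 r hr, fun w hw => ?_⟩
  have := h8 r⁻¹ (inv_mem hr) w hw
  rwa [inv_inv] at this

/-- **(C1)** no normal subgroup `≠ 1` of `H = C_G(z) / K_z` is centralised by `A` -/
theorem le_kq_of_comm [Finite G] (h : One T V z) {y : G} (hy : y ∈ V) (hy1 : y ≠ 1) (hyz : y ≠ z)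
    {R : Subgroup G} (hR : R ≤ centralizer ({z} : Set G))
    (hn : centralizer ({z} : Set G) ≤ normalizer (R : Set G))
    (hc : ∀ r ∈ R, ∀ a ∈ ws V y, r * a * r⁻¹ * a⁻¹ ∈ kq V z) : R ≤ kq V z :=
  h.le_kq_of_norm hR hn fun r hr => h.norm_of_comm hy hy1 hyz (hR hr) (hc r hr)

end One

end Cfsg.Agent.Omega.NO3S.TwoOne

end
end
end
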